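import Mathlib
import Cfsg.Agent.Lib.Helper84.FTr.Core

set_option autoImplicit false

/-!
# FTR-[INV] (helper14, for helper84): invariance is carried along an isomorphism of pairs
-/

namespace Cfsg.Agent.Lib.Helper14.FTr

open Cfsg Cfsg.FusionSystem Cfsg.Agent.Lib.Helper84.FTr

variable {Ω : Type*} [Group Ω] {Ω' : Type*} [Group Ω'] {S : Subgroup Ω} {S' : Subgroup Ω'}

/-- value of `autCongr e _ α` at an element presented as `e x`. -/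
theorem autCongr_coe_of_eq (e : S ≃* S') {T : Subgroup Ω} (hTS : T ≤ S) (α : MulAut T)
    (w : im e T) (x : Ω) (hxT : x ∈ T) (hw : (w : Ω') = (e ⟨x, hTS hxT⟩ : Ω')) :
    ((autCongr e hTS α w : im e T) : Ω') = (e ⟨α ⟨x, hxT⟩, hTS (α ⟨x, hxT⟩).2⟩ : Ω') := by
  have h1 : w = ⟨e ⟨x, hTS hxT⟩, hw ▸ w.2⟩ := Subtype.ext hw
  rw [h1]
  exact autCongr_apply_coe e hTS α ⟨x, hxT⟩ _

/-- value of `trMap e _ φ _` at an element presented as `e x`. -/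
theorem trMap_of_eq (e : S ≃* S') {P : Subgroup Ω} (hP : P ≤ S) (φ : P →* Ω) (hφ : ∀ x, φ x ∈ S)
    (w : im e P) (x : P) (hw : (w : Ω') = (e ⟨x, hP x.2⟩ : Ω')) :
    trMap e hP φ hφ w = (e ⟨φ x, hφ x⟩ : Ω') := by
  have h1 : w = ⟨e ⟨x, hP x.2⟩, hw ▸ w.2⟩ := Subtype.ext hw
  rw [h1]
  exact trMap_apply e hP φ hφ x _

/-- value of an induced map at an element presented as `e x`. -/
theorem induced_of_eq (e : S ≃* S') {P : Subgroup Ω} {φ : P →* Ω} {P' : Subgroup Ω'}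
    {φ' : P' →* Ω'} (hi : InducedAlong (pairHom e) φ φ') (hP : P ≤ S) (hφ : ∀ x, φ x ∈ S)
    (w : P') (x : P) (hw : (w : Ω') = (e ⟨x, hP x.2⟩ : Ω')) :
    φ' w = (e ⟨φ x, hφ x⟩ : Ω') := by
  obtain ⟨hP0, hφ0, hP'0, hc⟩ := hi
  have h1 : w = ⟨pairHom e ⟨x, hP0 x.2⟩, hP'0 x⟩ := Subtype.ext hw
  rw [h1]
  exact hc x

/-- strong closure is carried along. -/
theorem corr_stronglyClosed {e : S ≃* S'} {U : Subgroup Ω} {D : FusionSystem U} {U' : Subgroup Ω'}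
    {D' : FusionSystem U'} (hD : Corr e D D') {R : Subgroup Ω} (h : D.StronglyClosed R) :
    D'.StronglyClosed (im e R) := by
  refine ⟨?_, ?_⟩
  · rw [hD.eq_im]; exact im_mono e h.1
  · intro Q' hQ'R φ' hφ' y
    obtain ⟨Q, φ, hφ, rfl, hi⟩ := hD.exists_of_mem hφ'
    have hQS : Q ≤ S := (D.le_of_mem hφ).1.trans hD.le
    have hφS : ∀ x, φ x ∈ S := fun x => hD.le ((D.le_of_mem hφ).2 x)
    have hQR : Q ≤ R := (im_le_im_iff e hQS).1 hQ'R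
    obtain ⟨x, hxS, hxQ, hxy⟩ := (mem_im_iff e Q y).1 y.2
    rw [induced_of_eq e hi hQS hφS y ⟨x, hxQ⟩ hxy.symm]
    exact apply_mem_im e _ (h.2 Q hQR φ hφ ⟨x, hxQ⟩)


/-- **FTR-[INV]**: invariance of a subsystem is carried along an isomorphism of pairs. -/
theorem corr_isInvariantIn {e : S ≃* S'} {T U : Subgroup Ω} {E : FusionSystem T} {D : FusionSystem U}
    {T' U' : Subgroup Ω'} {E' : FusionSystem T'} {D' : FusionSystem U'}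
    (hE : Corr e E E') (hD : Corr e D D') (h : E.IsInvariantIn D) : E'.IsInvariantIn D' := by
  obtain ⟨hsub, hsc, hinv, hfrat⟩ := h
  have hTU : T ≤ U := hsc.1
  have hUS : U ≤ S := hD.le
  have hTS : T ≤ S := hE.le
  have hT' : T' = im e T := hE.eq_im
  subst hT'
  refine ⟨?_, corr_stronglyClosed hD hsc, ?_, ?_⟩
  · -- subsystem
    intro P' φ' hφ'
    obtain ⟨P, φ, hφ, hPP', hi⟩ := hE.exists_of_mem hφ'
    exact hD.mem_of_mem (hsub P hφ) hPP' hi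
  · -- invariance
    intro P' hP'T' φ' hφ' α' hα'
    obtain ⟨P, φ, hφ, rfl, hi⟩ := hE.exists_of_mem hφ'
    have hPT : P ≤ T := (E.le_of_mem hφ).1
    have hPS : P ≤ S := hPT.trans hTS
    have hφT : ∀ x, φ x ∈ T := (E.le_of_mem hφ).2
    have hφS : ∀ x, φ x ∈ S := fun x => hTS (hφT x)
    obtain ⟨α, hα, rfl⟩ := hD.exists_autCongr_eq hTU hα'
    obtain ⟨χ, hχ, hχeq⟩ := hinv P hPT φ hφ α hα
    have hPαT : (P.subgroupOf T).map (T.subtype.comp α.toMonoidHom) ≤ T := (E.le_of_mem hχ).1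
    have hPαS : (P.subgroupOf T).map (T.subtype.comp α.toMonoidHom) ≤ S := hPαT.trans hTS
    have hχS : ∀ x, χ x ∈ S := fun x => hTS ((E.le_of_mem hχ).2 x)
    have hmemPα : ∀ (x : Ω) (hxP : x ∈ P),
        ((α ⟨x, hPT hxP⟩ : T) : Ω) ∈ (P.subgroupOf T).map (T.subtype.comp α.toMonoidHom) := by
      intro x hxP
      exact Subgroup.mem_map.2 ⟨⟨x, hPT hxP⟩, Subgroup.mem_subgroupOf.2 hxP, rfl⟩
    have hle : ((im e P).subgroupOf (im e T)).map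
        ((im e T).subtype.comp (autCongr e (hTU.trans hD.le) α).toMonoidHom) ≤
        im e ((P.subgroupOf T).map (T.subtype.comp α.toMonoidHom)) := by
      intro y hy
      obtain ⟨w, hw, rfl⟩ := Subgroup.mem_map.1 hy
      have hw' : (w : Ω') ∈ im e P := Subgroup.mem_subgroupOf.1 hw
      obtain ⟨x, hxS, hxP, hxw⟩ := (mem_im_iff e P _).1 hw'
      have h1 := autCongr_coe_of_eq e (hTU.trans hD.le) α w x (hPT hxP) hxw.symm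
      show ((autCongr e (hTU.trans hD.le) α w : im e T) : Ω') ∈ _
      rw [h1]
      exact apply_mem_im e _ (hmemPα x hxP)
    refine ⟨(trMap e hPαS χ hχS).comp (Subgroup.inclusion hle),
      Cfsg.Agent.Lib.Helper87.restrict_mem E' (hE.trMap_mem hχ) hle, ?_⟩
    rintro ⟨y, hy⟩ hφx hαx
    obtain ⟨x, hxS, hxP, rfl⟩ := (mem_im_iff e P y).1 hy
    -- the left side
    have h1 : ((autCongr e (hTU.trans hD.le) α ⟨(e ⟨x, hxS⟩ : Ω'), hP'T' hy⟩ : im e T) : Ω') =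
        (e ⟨α ⟨x, hPT hxP⟩, hTS (α ⟨x, hPT hxP⟩).2⟩ : Ω') :=
      autCongr_coe_of_eq e (hTU.trans hD.le) α _ x (hPT hxP) rfl
    have h2 : φ' ⟨(e ⟨x, hxS⟩ : Ω'), hy⟩ = (e ⟨φ ⟨x, hxP⟩, hφS _⟩ : Ω') :=
      induced_of_eq e hi hPS hφS _ ⟨x, hxP⟩ rfl
    have h3 : ((autCongr e (hTU.trans hD.le) α ⟨φ' ⟨(e ⟨x, hxS⟩ : Ω'), hy⟩, hφx⟩ : im e T) : Ω') =
        (e ⟨α ⟨φ ⟨x, hxP⟩, hφT _⟩, hTS (α ⟨φ ⟨x, hxP⟩, hφT _⟩).2⟩ : Ω') :=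
      autCongr_coe_of_eq e (hTU.trans hD.le) α _ (φ ⟨x, hxP⟩) (hφT _) h2
    have h4 := hχeq ⟨x, hxP⟩ (hφT _) (hmemPα x hxP)
    have h5 : trMap e hPαS χ hχS (Subgroup.inclusion hle
        ⟨((autCongr e (hTU.trans hD.le) α ⟨(e ⟨x, hxS⟩ : Ω'), hP'T' hy⟩ : im e T) : Ω'), hαx⟩) =
        (e ⟨χ ⟨((α ⟨x, hPT hxP⟩ : T) : Ω), hmemPα x hxP⟩, hχS _⟩ : Ω') :=
      trMap_of_eq e hPαS χ hχS _ ⟨((α ⟨x, hPT hxP⟩ : T) : Ω), hmemPα x hxP⟩ h1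
    show trMap e hPαS χ hχS (Subgroup.inclusion hle _) = _
    rw [h5, h3]
    congr 2
    exact Subtype.ext h4
  · -- Frattini
    intro P' hP'T' φ' hφ'
    obtain ⟨P, φ, hφ, rfl, hi⟩ := hD.exists_of_mem hφ'
    have hPU : P ≤ U := (D.le_of_mem hφ).1
    have hPS : P ≤ S := hPU.trans hUS
    have hφS : ∀ x, φ x ∈ S := fun x => hUS ((D.le_of_mem hφ).2 x)
    have hPT : P ≤ T := (im_le_im_iff e hPS).1 hP'T'
    obtain ⟨α, hα, φ₀, hφ₀, heq⟩ := hfrat P hPT φ hφ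
    have hφ₀T : ∀ x, φ₀ x ∈ T := (E.le_of_mem hφ₀).2
    have hφ₀S : ∀ x, φ₀ x ∈ S := fun x => hTS (hφ₀T x)
    refine ⟨autCongr e (hTU.trans hD.le) α, (hD.autCongr_mem_autGroup_iff hTU α).2 hα,
      trMap e hPS φ₀ hφ₀S, hE.trMap_mem hφ₀, ?_⟩
    rintro ⟨y, hy⟩ hx
    obtain ⟨x, hxS, hxP, rfl⟩ := (mem_im_iff e P y).1 hy
    have h2 : φ' ⟨(e ⟨x, hxS⟩ : Ω'), hy⟩ = (e ⟨φ ⟨x, hxP⟩, hφS _⟩ : Ω') :=
      induced_of_eq e hi hPS hφS _ ⟨x, hxP⟩ rfl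
    have h3 : trMap e hPS φ₀ hφ₀S ⟨(e ⟨x, hxS⟩ : Ω'), hy⟩ = (e ⟨φ₀ ⟨x, hxP⟩, hφ₀S _⟩ : Ω') :=
      trMap_of_eq e hPS φ₀ hφ₀S _ ⟨x, hxP⟩ rfl
    have h4 : ((autCongr e (hTU.trans hD.le) α
        ⟨trMap e hPS φ₀ hφ₀S ⟨(e ⟨x, hxS⟩ : Ω'), hy⟩, hx⟩ : im e T) : Ω') =
        (e ⟨α ⟨φ₀ ⟨x, hxP⟩, hφ₀T _⟩, hTS (α ⟨φ₀ ⟨x, hxP⟩, hφ₀T _⟩).2⟩ : Ω') :=
      autCongr_coe_of_eq e (hTU.trans hD.le) α _ (φ₀ ⟨x, hxP⟩) (hφ₀T _) h3
    rw [h2, h4]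
    have h5 := heq ⟨x, hxP⟩ (hφ₀T _)
    congr 2
    exact Subtype.ext h5

end Cfsg.Agent.Lib.Helper14.FTr
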