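/-
helper14, project S2283 (owner helper13): module [INST-5] `good_five` (the pair for `q = 5`).
All declarations live in `Cfsg.Agent.Lib.Helper14.SU3G`.
-/
import Mathlib
import Cfsg.Prelude.Def_Classical
import Cfsg.Agent.Lib.Helper13.SU3GDefs
import Cfsg.Agent.Lib.Helper23.SU3GFG

set_option autoImplicit false
set_option linter.unusedVariables false
set_option linter.unusedSimpArgs false

namespace Cfsg.Agent.Lib.Helper14.SU3G

open Matrix Cfsg.Agent.Lib.Helper13.SU3G

variable {F : Type*} [Field F]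

local notation "SL3" => Matrix.SpecialLinearGroup (Fin 3) F

/-- the first column of `v v u v`, `u = uS a b`, `v = lS 1 d`. -/
theorem col_vvuv (σ : F →+* F) (a b d : F) :
    ((lS σ 1 d * lS σ 1 d * uS σ a b * lS σ 1 d : SL3) : Matrix (Fin 3) (Fin 3) F) 0 0 =
      1 + a + b * d ∧
    ((lS σ 1 d * lS σ 1 d * uS σ a b * lS σ 1 d : SL3) : Matrix (Fin 3) (Fin 3) F) 1 0 =
      3 + 2 * a + 2 * b * d - σ a * d ∧
    ((lS σ 1 d * lS σ 1 d * uS σ a b * lS σ 1 d : SL3) : Matrix (Fin 3) (Fin 3) F) 2 0 =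
      d * (1 + a + b * d) - (2 + a + b * d - σ a * d) +
        (d * (1 + a + b * d) - 1 + σ a * d + d) := by
  refine ⟨?_, ?_, ?_⟩
  · show (lM σ 1 d * lM σ 1 d * uM σ a b * lM σ 1 d) 0 0 = _
    simp [lM, uM, Matrix.mul_apply, Fin.sum_univ_three]
  · show (lM σ 1 d * lM σ 1 d * uM σ a b * lM σ 1 d) 1 0 = _
    simp [lM, uM, Matrix.mul_apply, Fin.sum_univ_three]
    ring
  · show (lM σ 1 d * lM σ 1 d * uM σ a b * lM σ 1 d) 2 0 = _
    simp [lM, uM, Matrix.mul_apply, Fin.sum_univ_three]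
    ring

/-- a primitive cube root of unity in the field with `25` elements. -/
theorem exists_omega_25 [Fintype F] (hF : Fintype.card F = 5 ^ 2) :
    ∃ w : F, w ^ 2 + w + 1 = 0 := by
  classical
  obtain ⟨g, hg⟩ := IsCyclic.exists_generator (α := Fˣ)
  have hord : orderOf g = 24 := by
    rw [orderOf_eq_card_of_forall_mem_zpowers hg, Nat.card_eq_fintype_card, Fintype.card_units, hF]
    norm_num
  have h3 : ((g ^ 8 : Fˣ) : F) ^ 3 = 1 := by
    rw [← Units.val_pow_eq_pow_val, ← pow_mul, show 8 * 3 = 24 from rfl, ← hord,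
      pow_orderOf_eq_one, Units.val_one]
  have h1 : ((g ^ 8 : Fˣ) : F) ≠ 1 := by
    intro h
    have h8 : g ^ 8 = 1 := Units.ext h
    have := orderOf_dvd_of_pow_eq_one h8
    rw [hord] at this
    omega
  refine ⟨((g ^ 8 : Fˣ) : F), ?_⟩
  have hne : ((g ^ 8 : Fˣ) : F) - 1 ≠ 0 := sub_ne_zero.mpr h1
  apply mul_left_cancel₀ hne
  rw [mul_zero]
  linear_combination h3

theorem five_eq_zero_25 [Fintype F] (hF : Fintype.card F = 5 ^ 2) : (5 : F) = 0 := by
  have h := Nat.cast_card_eq_zero F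
  rw [hF] at h
  have h25 : (5 : F) * 5 = 0 := by
    have : ((5 ^ 2 : ℕ) : F) = 5 * 5 := by push_cast; ring
    rw [← this]; exact h
  exact mul_self_eq_zero.mp h25

theorem good_five [Fintype F] (hF : Fintype.card F = 5 ^ 2) (σ : F →+* F)
    (hσq : ∀ x, σ x = x ^ 5) (hσ2 : ∀ x, σ (σ x) = x) : Good σ := by
  classical
  have h5 : (5 : F) = 0 := five_eq_zero_25 hF
  obtain ⟨w, hw⟩ := exists_omega_25 hF
  have hσw : σ w = w ^ 2 := by
    rw [hσq]; linear_combination (w ^ 2 * (w - 1)) * hw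
  have hw0 : w ≠ 0 := by
    intro h0; rw [h0] at hw; simp at hw
  have hlam : (2 + 4 * w : F) ≠ 0 := by
    intro h
    have : (2 + 4 * w) * (4 + 3 * w) = 1 := by
      linear_combination (12) * hw + (-1 + 2 * w) * h5
    rw [h, zero_mul] at this; exact zero_ne_one this
  have hσlam : σ (2 + 4 * w) ≠ 0 := by
    intro h
    have : σ (2 + 4 * w) * (1 + 2 * w) = 1 := by
      simp only [map_add, map_mul, map_ofNat, hσw]
      linear_combination (-4 + 8 * w) * hw + (1) * h5
    rw [h, zero_mul] at this; exact zero_ne_one this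
  obtain ⟨c00, c10, c20⟩ := col_vvuv σ (3 + w) (2 + w) (w ^ 2)
  have hs00 : ((lS σ 1 (w ^ 2) * lS σ 1 (w ^ 2) * uS σ (3 + w) (2 + w) * lS σ 1 (w ^ 2) : SL3) :
      Matrix (Fin 3) (Fin 3) F) 0 0 = 3 + 4 * w := by
    rw [c00]
    linear_combination (1 + w) * hw + (-w) * h5
  refine ⟨3 + w, 2 + w, 1, w ^ 2, 2 + 4 * w,
    lS σ 1 (w ^ 2) * lS σ 1 (w ^ 2) * uS σ (3 + w) (2 + w) * lS σ 1 (w ^ 2),
    hlam, one_ne_zero, ?_, ?_, ?_, pow_ne_zero 2 hw0, ?_, ?_, ?_, ?_⟩
  · rw [mul_one, eq_div_iff hσlam]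
    simp only [map_add, map_mul, map_ofNat, hσw]
    linear_combination (-8 + 4 * w) * hw + (2 - 2 * w) * h5
  · simp only [map_add, map_mul, map_ofNat, hσw]
    linear_combination (3 + w) * hw + (2) * h5
  · simp only [map_pow, map_one, hσw]
    linear_combination (1 - w + w ^ 2) * hw
  · have hu : uS σ (3 + w) (2 + w) ∈ Subgroup.closure
        ({uS σ (3 + w) (2 + w), lS σ 1 (w ^ 2)} : Set SL3) :=
      Subgroup.subset_closure (by simp)
    have hv : lS σ 1 (w ^ 2) ∈ Subgroup.closure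
        ({uS σ (3 + w) (2 + w), lS σ 1 (w ^ 2)} : Set SL3) :=
      Subgroup.subset_closure (by simp)
    exact Subgroup.mul_mem _ (Subgroup.mul_mem _ (Subgroup.mul_mem _ hv hv) hu) hv
  · rw [c10]
    simp only [map_add, map_mul, map_ofNat, hσw]
    linear_combination (-1 + 3 * w - w ^ 2) * hw + (2) * h5
  · rw [c20]
    simp only [map_add, map_mul, map_ofNat, hσw]
    linear_combination (14 - 5 * w + 4 * w ^ 2 + 2 * w ^ 3) * hw + (-4 - 2 * w) * h5
  · rw [hs00]
    have hσμ : σ (3 + 4 * w) ≠ 0 := by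
      intro h
      have : σ (3 + 4 * w) * (1 + 3 * w) = 1 := by
        simp only [map_add, map_mul, map_ofNat, hσw]
        linear_combination (-8 + 12 * w) * hw + (2 + w) * h5
      rw [h, zero_mul] at this; exact zero_ne_one this
    have hκ : (3 + 4 * w) ^ 2 / σ (3 + 4 * w) = 4 + 3 * w := by
      rw [div_eq_iff hσμ]
      simp only [map_add, map_mul, map_ofNat, hσw]
      linear_combination (12 - 12 * w) * hw + (-3 + 3 * w) * h5
    rw [hκ]
    apply Cfsg.Agent.Lib.Helper23.SU3G.closure_eq_top_of_pow_ne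
    intro c m hc hm hcm
    rw [hF] at hcm
    -- `c = 5`
    have hm5 : m < 5 := by
      by_contra hcon
      have h1 : 2 ^ 5 ≤ c ^ m :=
        (Nat.pow_le_pow_left hc 5).trans (Nat.pow_le_pow_right (by omega) (not_lt.mp hcon))
      omega
    have hc5 : c ≤ 5 := by
      by_contra hcon
      have h1 : 6 ^ 2 ≤ c ^ m :=
        (Nat.pow_le_pow_left (by omega : 6 ≤ c) 2).trans (Nat.pow_le_pow_right (by omega) hm)
      omega
    have hc5' : c = 5 := by
      interval_cases m <;> interval_cases c <;> simp_all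
    subst hc5'
    rw [← hσq]
    simp only [map_add, map_mul, map_ofNat, hσw]
    intro h
    -- `4 + 3 w² = 4 + 3 w`
    have hw2 : w = 2 := by linear_combination 3 * hw - h - (w + 1) * h5
    rw [hw2] at hw
    have : (1 : F) = 0 := by linear_combination 3 * h5 - 2 * hw
    exact one_ne_zero this

end Cfsg.Agent.Lib.Helper14.SU3G
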