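/-
helper14, project S2283 (owner helper13): module [UFULL] `all_uS_mem`.
Self-contained: local copies (suffix `_aux`) of the few lemmas of [MUL], [MEM], [BOREL], [HILB]
that are used.  All declarations live in `Cfsg.Agent.Lib.Helper14.SU3G`.
-/
import Mathlib
import Cfsg.Prelude.Def_Classical
import Cfsg.Agent.Lib.Helper39.FieldGen
import Cfsg.Agent.Lib.Helper13.SU3GDefs

set_option autoImplicit false
set_option linter.unusedVariables false

namespace Cfsg.Agent.Lib.Helper14.SU3G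

open Matrix Cfsg.Agent.Lib.Helper13.SU3G

variable {F : Type*} [Field F]

local notation "SL3" => Matrix.SpecialLinearGroup (Fin 3) F

theorem uM_mul_aux (σ : F →+* F) (a b a' b' : F) :
    uM σ a b * uM σ a' b' = uM σ (a + a') (b + b' - a * σ a') := by
  unfold uM
  rw [Matrix.mul_fin_three]
  ext i j
  fin_cases i <;> fin_cases j <;> simp <;> ring

theorem uS_mul_aux (σ : F →+* F) (a b a' b' : F) :
    uS σ a b * uS σ a' b' = uS σ (a + a') (b + b' - a * σ a') :=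
  Subtype.ext (uM_mul_aux σ a b a' b')

theorem uM_zero_aux (σ : F →+* F) : uM σ 0 0 = 1 := by
  unfold uM
  ext i j
  fin_cases i <;> fin_cases j <;> simp

theorem uS_zero_aux (σ : F →+* F) : uS σ 0 0 = 1 :=
  Subtype.ext (uM_zero_aux σ)

theorem uS_inv_aux (σ : F →+* F) (a b : F) : (uS σ a b)⁻¹ = uS σ (-a) (-b - a * σ a) := by
  apply inv_eq_of_mul_eq_one_right
  rw [uS_mul_aux, ← uS_zero_aux σ]
  congr 1
  · ring
  · rw [map_neg]; ring

theorem uS_cond_aux (σ : F →+* F) (hσ2 : ∀ x, σ (σ x) = x) {a b : F} (h : uS σ a b ∈ GJ σ) :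
    b + σ b + a * σ a = 0 := by
  rw [mem_GJ_iff] at h
  have := h ![0, 0, 1] ![0, 0, 1]
  rw [coe_uS] at this
  simp [hJ, uM, Matrix.mulVec, dotProduct, Fin.sum_univ_three, hσ2] at this
  linear_combination this

theorem exists_sub_eq_aux (σ : F →+* F) (hσ : σ ≠ RingHom.id F) (hσ2 : ∀ x, σ (σ x) = x)
    (t : F) (ht : t + σ t = 0) : ∃ x : F, x - σ x = t := by
  -- some `y1` has non-zero trace
  have hex : ∃ y1 : F, y1 + σ y1 ≠ 0 := by
    by_contra hcon
    simp only [not_exists, not_not] at hcon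
    apply hσ
    have h1 : (1 : F) + 1 = 0 := by
      have := hcon 1
      rwa [map_one] at this
    ext y
    have h2 := hcon y
    have h3 : σ y = -y := by linear_combination h2
    have h4 : -y = y := by linear_combination (-y) * h1
    rw [RingHom.id_apply, h3, h4]
  obtain ⟨y1, hy1⟩ := hex
  have hτ : σ (y1 + σ y1) = y1 + σ y1 := by
    rw [map_add, hσ2]; ring
  refine ⟨t * y1 / (y1 + σ y1), ?_⟩
  have hσt : σ t = -t := by linear_combination ht
  rw [map_div₀, map_mul, hτ, hσt]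
  field_simp
  ring

theorem borel_conj_aux (σ : F →+* F) (hσ2 : ∀ x, σ (σ x) = x) {s : SL3} (hs : s ∈ GJ σ)
    (h10 : (s : Matrix (Fin 3) (Fin 3) F) 1 0 = 0) (h20 : (s : Matrix (Fin 3) (Fin 3) F) 2 0 = 0)
    (a b : F) :
    ∃ b' : F, s * uS σ a b * s⁻¹ =
      uS σ ((s : Matrix (Fin 3) (Fin 3) F) 0 0 ^ 2 / σ ((s : Matrix (Fin 3) (Fin 3) F) 0 0) * a) b' := by
  set M : Matrix (Fin 3) (Fin 3) F := (s : Matrix (Fin 3) (Fin 3) F) with hM
  have hmem := (mem_GJ_iff σ s).mp hs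
  -- `μ σ(s22) = 1`
  have e02 : M 0 0 * σ (M 2 2) = 1 := by
    have := hmem ![1, 0, 0] ![0, 0, 1]
    simp [hJ, Matrix.mulVec, dotProduct, Fin.sum_univ_three] at this
    rw [← hM] at this
    simpa [h10, h20] using this
  have e01 : M 0 0 * σ (M 2 1) = 0 := by
    have := hmem ![1, 0, 0] ![0, 1, 0]
    simp [hJ, Matrix.mulVec, dotProduct, Fin.sum_univ_three] at this
    rw [← hM] at this
    simpa [h10, h20] using this
  have hμ : M 0 0 ≠ 0 := by
    intro h0; rw [h0, zero_mul] at e02; exact zero_ne_one e02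
  have h21 : M 2 1 = 0 := by
    have h1 : σ (M 2 1) = 0 := by
      rcases mul_eq_zero.mp e01 with h | h
      · exact absurd h hμ
      · exact h
    have := congrArg σ h1
    rwa [hσ2, map_zero] at this
  have hdet : M 0 0 * M 1 1 * M 2 2 = 1 := by
    have := s.2
    rw [Matrix.det_fin_three] at this
    rw [← hM, h10, h20, h21] at this
    linear_combination this
  have e02' : σ (M 0 0) * M 2 2 = 1 := by
    have := congrArg σ e02
    rwa [map_mul, hσ2, map_one] at this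
  have hσμ : σ (M 0 0) ≠ 0 := by
    intro h0; rw [h0, zero_mul] at e02'; exact zero_ne_one e02'
  have h22 : M 2 2 ≠ 0 := by
    intro h0; rw [h0, mul_zero] at e02'; exact zero_ne_one e02'
  have h11 : M 1 1 = σ (M 0 0) / M 0 0 := by
    field_simp
    linear_combination (σ (M 0 0)) * hdet - (M 0 0 * M 1 1) * e02'
  have h22' : M 2 2 = (σ (M 0 0))⁻¹ := eq_inv_of_mul_eq_one_right e02'
  refine ⟨(M 0 0 * b - M 0 1 * σ a - M 0 0 ^ 2 / σ (M 0 0) * a * M 1 2) / M 2 2, ?_⟩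
  rw [mul_inv_eq_iff_eq_mul]
  apply Subtype.ext
  show M * uM σ a b = uM σ _ _ * M
  have hMeta : M = !![M 0 0, M 0 1, M 0 2; 0, M 1 1, M 1 2; 0, 0, M 2 2] := by
    conv_lhs => rw [Matrix.eta_fin_three M, h10, h20, h21]
  rw [hMeta]
  unfold uM
  rw [Matrix.mul_fin_three, Matrix.mul_fin_three]
  simp only [map_mul, map_div₀, map_pow, hσ2]
  ext i j
  fin_cases i <;> fin_cases j <;> simp
  · rw [h11]; field_simp; ring
  · field_simp; ring
  · rw [h11, h22']; field_simp; ring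

theorem all_uS_mem [Fintype F] (σ : F →+* F) (hσ : σ ≠ RingHom.id F) (hσ2 : ∀ x, σ (σ x) = x)
    (H : Subgroup SL3) (hH : H ≤ GJ σ) (a b : F) (ha : a ≠ 0) (hu : uS σ a b ∈ H)
    (s : SL3) (hs : s ∈ H) (h10 : (s : Matrix (Fin 3) (Fin 3) F) 1 0 = 0)
    (h20 : (s : Matrix (Fin 3) (Fin 3) F) 2 0 = 0)
    (hκ : Subfield.closure ({(s : Matrix (Fin 3) (Fin 3) F) 0 0 ^ 2 /
      σ ((s : Matrix (Fin 3) (Fin 3) F) 0 0)} : Set F) = ⊤)
    (a' b' : F) (h' : b' + σ b' + a' * σ a' = 0) : uS σ a' b' ∈ H := by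
  classical
  -- the additive group of first parameters
  let A : AddSubgroup F :=
    { carrier := {x | ∃ y, uS σ x y ∈ H}
      zero_mem' := ⟨0, by rw [uS_zero_aux]; exact H.one_mem⟩
      add_mem' := by
        rintro x x' ⟨y, hy⟩ ⟨y', hy'⟩
        exact ⟨y + y' - x * σ x', by rw [← uS_mul_aux]; exact H.mul_mem hy hy'⟩
      neg_mem' := by
        rintro x ⟨y, hy⟩
        exact ⟨-y - x * σ x, by rw [← uS_inv_aux]; exact H.inv_mem hy⟩ }
  have hA : ∀ x, x ∈ A ↔ ∃ y, uS σ x y ∈ H := fun _ => Iff.rfl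
  set κ : F := (s : Matrix (Fin 3) (Fin 3) F) 0 0 ^ 2 / σ ((s : Matrix (Fin 3) (Fin 3) F) 0 0)
    with hκdef
  have hκA : κ ∈ Cfsg.Agent.Lib.Helper39.FieldGen.stabSubfield A := by
    rw [Cfsg.Agent.Lib.Helper39.FieldGen.mem_stabSubfield]
    rintro x ⟨y, hy⟩
    obtain ⟨b'', hb''⟩ := borel_conj_aux σ hσ2 (hH hs) h10 h20 x y
    refine ⟨b'', ?_⟩
    rw [← hb'']
    exact H.mul_mem (H.mul_mem hs hy) (H.inv_mem hs)
  have htop : Cfsg.Agent.Lib.Helper39.FieldGen.stabSubfield A = ⊤ := by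
    apply top_unique
    rw [← hκ]
    exact Subfield.closure_le.mpr (Set.singleton_subset_iff.mpr hκA)
  have hAtop : ∀ x : F, x ∈ A := by
    intro x
    have h1 : x / a ∈ Cfsg.Agent.Lib.Helper39.FieldGen.stabSubfield A := by
      rw [htop]; exact Subfield.mem_top _
    have h2 := (Cfsg.Agent.Lib.Helper39.FieldGen.mem_stabSubfield.mp h1) a ⟨b, hu⟩
    rwa [div_mul_cancel₀ x ha] at h2
  -- the centre
  have hcentre : ∀ t : F, t + σ t = 0 → uS σ 0 t ∈ H := by
    intro t ht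
    obtain ⟨x, hx⟩ := exists_sub_eq_aux σ hσ hσ2 t ht
    obtain ⟨b1, hb1⟩ := hAtop x
    obtain ⟨b2, hb2⟩ := hAtop 1
    have g1 : uS σ 1 b2 * uS σ x b1 ∈ H := H.mul_mem hb2 hb1
    have g2 : uS σ x b1 * uS σ 1 b2 ∈ H := H.mul_mem hb1 hb2
    have e : uS σ 0 t * (uS σ x b1 * uS σ 1 b2) = uS σ 1 b2 * uS σ x b1 := by
      rw [uS_mul_aux, uS_mul_aux, uS_mul_aux]
      congr 1
      · ring
      · rw [map_one, ← hx]; ring
    have e' : uS σ 0 t = (uS σ 1 b2 * uS σ x b1) * (uS σ x b1 * uS σ 1 b2)⁻¹ := by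
      rw [← e, mul_inv_cancel_right]
    rw [e']
    exact H.mul_mem g1 (H.inv_mem g2)
  -- conclusion
  obtain ⟨b1, hb1⟩ := hAtop a'
  have hc1 := uS_cond_aux σ hσ2 (hH hb1)
  have ht : (b' - b1) + σ (b' - b1) = 0 := by
    rw [map_sub]; linear_combination h' - hc1
  have e : uS σ a' b' = uS σ a' b1 * uS σ 0 (b' - b1) := by
    rw [uS_mul_aux]
    congr 1
    · ring
    · rw [map_zero]; ring
  rw [e]
  exact H.mul_mem hb1 (hcentre _ ht)

end Cfsg.Agent.Lib.Helper14.SU3G
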