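import Mathlib
import Cfsg.Agent.S3377

set_option autoImplicit false

/-!
# A `(3,5,2)`-pair generates a copy of `A₅` (helper14)

Sharper form of helper41's `exists_a5_of_pres`: the subgroup generated by `a, b` with
`a³ = b⁵ = (ab)² = 1`, `a ≠ 1` is isomorphic to `A₅`; in particular it has order `60`.
-/

namespace Cfsg.Agent.Lib.Helper14

theorem closure_pair_equiv_alt5 {G : Type*} [Group G] (a b : G) (ha : a ^ 3 = 1) (hb : b ^ 5 = 1)
    (hab : (a * b) ^ 2 = 1) (ha1 : a ≠ 1) :
    Nonempty (Subgroup.closure ({a, b} : Set G) ≃* alternatingGroup (Fin 5)) := by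
  obtain ⟨e⟩ := Cfsg.Agent.S3377.result
  let f : Fin 2 → G := ![a, b]
  have hrel : ∀ r ∈ ({FreeGroup.of (0 : Fin 2) ^ 3, FreeGroup.of (1 : Fin 2) ^ 5,
      (FreeGroup.of (0 : Fin 2) * FreeGroup.of 1) ^ 2} : Set (FreeGroup (Fin 2))),
      FreeGroup.lift f r = 1 := by
    intro r hr
    simp only [Set.mem_insert_iff, Set.mem_singleton_iff] at hr
    rcases hr with rfl | rfl | rfl
    · simp [f, ha]
    · simp [f, hb]
    · simp [f, hab]
  let θ := PresentedGroup.toGroup hrel
  let ψ : alternatingGroup (Fin 5) →* G := θ.comp e.symm.toMonoidHom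
  have : IsSimpleGroup (alternatingGroup (Fin 5)) := alternatingGroup.isSimpleGroup (by simp)
  have hθ0 : θ (PresentedGroup.of 0) = a := by
    show PresentedGroup.toGroup hrel (PresentedGroup.of 0) = a
    rw [PresentedGroup.toGroup.of]
    rfl
  have hθ1 : θ (PresentedGroup.of 1) = b := by
    show PresentedGroup.toGroup hrel (PresentedGroup.of 1) = b
    rw [PresentedGroup.toGroup.of]
    rfl
  have hinj : Function.Injective ψ := by
    rw [← MonoidHom.ker_eq_bot_iff]
    rcases (ψ.normal_ker).eq_bot_or_eq_top with h | h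
    · exact h
    · exfalso
      apply ha1
      have h1 : e (PresentedGroup.of 0) ∈ ψ.ker := by rw [h]; trivial
      rw [MonoidHom.mem_ker] at h1
      have h2 : ψ (e (PresentedGroup.of 0)) = a := by
        show θ (e.symm (e (PresentedGroup.of 0))) = a
        rw [MulEquiv.symm_apply_apply]
        exact hθ0
      rw [← h2, h1]
  have hrange : ψ.range = Subgroup.closure ({a, b} : Set G) := by
    have h1 : ψ.range = θ.range := by
      apply le_antisymm
      · rintro _ ⟨x, rfl⟩
        exact ⟨e.symm x, rfl⟩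
      · rintro _ ⟨x, rfl⟩
        exact ⟨e x, by show θ (e.symm (e x)) = θ x; rw [MulEquiv.symm_apply_apply]⟩
    rw [h1, MonoidHom.range_eq_map, ← PresentedGroup.closure_range_of, MonoidHom.map_closure]
    congr 1
    ext x
    constructor
    · rintro ⟨_, ⟨i, rfl⟩, rfl⟩
      fin_cases i
      · left; exact hθ0
      · right; exact hθ1
    · rintro (rfl | rfl)
      · exact ⟨_, ⟨0, rfl⟩, hθ0⟩
      · exact ⟨_, ⟨1, rfl⟩, hθ1⟩
  rw [← hrange]
  exact ⟨(MonoidHom.ofInjective hinj).symm⟩

theorem card_closure_pair_of_a5_pres {G : Type*} [Group G] (a b : G) (ha : a ^ 3 = 1)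
    (hb : b ^ 5 = 1) (hab : (a * b) ^ 2 = 1) (ha1 : a ≠ 1) :
    Nat.card (Subgroup.closure ({a, b} : Set G)) = 60 := by
  obtain ⟨f⟩ := closure_pair_equiv_alt5 a b ha hb hab ha1
  rw [Nat.card_congr f.toEquiv, Nat.card_eq_fintype_card]
  have := two_mul_card_alternatingGroup (α := Fin 5)
  rw [Fintype.card_perm, Fintype.card_fin] at this
  have h4 : Nat.factorial 5 = 120 := by decide
  omega

end Cfsg.Agent.Lib.Helper14
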