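/-
helper14 (for helper5, project ASCHO second sheet): module [ROW9] = S5835 in `_of` form: the row assembly for `Ω₉(q)` from
S5673 (`aschbacher_quadFormOdd`) and the statements of the properness / containment modules of the sheet, taken as hypotheses.
-/
import Mathlib
import Cfsg.Prelude.Def_GeometricClasses
import Cfsg.Agent.Lib.Helper5.AschOMaxKit

set_option autoImplicit false
set_option linter.style.haveILetI false

namespace Cfsg.Agent.Lib.Helper14.AschO2Row9

open Cfsg Cfsg.Geo Cfsg.Agent.Lib.Helper5.AschO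
open scoped MatrixGroups Matrix

section general

variable {ι : Type} [Fintype ι] {F : Type*} [Field F]

/-- the members of an `m`-decomposition into `t` subspaces: `t * m = |ι|` -/
theorem mul_eq_card_of_isMDecomposition {t m : ℕ} (D : Fin t → Submodule F (ι → F))
    (hD : IsMDecomposition m D) : t * m = Fintype.card ι := by
  classical
  have hint : DirectSum.IsInternal D :=
    DirectSum.isInternal_submodule_of_iSupIndep_of_iSup_eq_top hD.indep hD.iSup_eq_top
  have h1 : Module.finrank F (ι → F) = ∑ i, Module.finrank F (D i) := by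
    have e := LinearEquiv.ofBijective (DirectSum.coeLinearMap D) hint
    rw [← e.finrank_eq, Module.finrank_directSum]
  simp only [hD.finrank_eq, Finset.sum_const, Finset.card_univ, Fintype.card_fin, smul_eq_mul,
    Module.finrank_fintype_fun_eq_card] at h1
  exact h1.symm

/-- the degree of a field subalgebra of `M_ι(F)` divides `|ι|` -/
theorem dvd_card_of_isFieldSubalgebra [DecidableEq ι] [Nonempty ι] (r : ℕ) (K : Subalgebra F (Matrix ι ι F))
    (hK : IsFieldSubalgebra r K) : r ∣ Fintype.card ι := by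
  classical
  haveI : Nontrivial (Matrix ι ι F) := inferInstance
  have hfield : IsField ↥K :=
    { exists_pair_ne := ⟨0, 1, fun h => zero_ne_one (congrArg Subtype.val h)⟩
      mul_comm := fun a b => Subtype.ext (hK.comm a.1 a.2 b.1 b.2)
      mul_inv_cancel := fun {a} ha => by
        obtain ⟨y, hyK, hy⟩ := hK.inv a.1 a.2 (fun h => ha (Subtype.ext h))
        exact ⟨⟨y, hyK⟩, Subtype.ext hy⟩ }
  let φ : ↥K →+* Module.End F (ι → F) :=
    (Matrix.toLinAlgEquiv' : Matrix ι ι F ≃ₐ[F] Module.End F (ι → F)).toAlgHom.toRingHom.comp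
      K.val.toRingHom
  letI instMod : Module ↥K (ι → F) := Module.compHom (ι → F) φ
  haveI hTower : IsScalarTower F ↥K (ι → F) := ⟨fun c k v => by
    show φ (c • k) v = c • φ k v
    simp [φ]⟩
  haveI hSRC : StrongRankCondition ↥K := by
    letI instFld : Field ↥K := hfield.toField
    exact (inferInstance : StrongRankCondition ↥K)
  haveI hfree : Module.Free ↥K (ι → F) := by
    letI instFld : Field ↥K := hfield.toField
    exact @Module.Free.of_divisionRing ↥K (ι → F) _ _ instMod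
  have key := @Module.finrank_mul_finrank F ↥K (ι → F) _ _ _ _ instMod _ hTower _ hSRC _ hfree
  rw [Module.finrank_fintype_fun_eq_card] at key
  rw [← hK.finrank_eq]
  exact Dvd.intro _ key

end general

theorem eq_three_of_mul_eq_nine {t k : ℕ} (h : t * k = 9) (ht : 2 ≤ t) (hk : 1 < k) : t = 3 ∧ k = 3 := by
  have ht9 : t ≤ 9 := by nlinarith
  have hk9 : k ≤ 9 := by nlinarith
  interval_cases t <;> interval_cases k <;> omega

theorem eq_three_two_of_pow_eq_nine {k t : ℕ} (h : k ^ t = 9) (hk : 3 ≤ k) (ht : 2 ≤ t) : k = 3 ∧ t = 2 := by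
  have h1 : k ^ 2 ≤ k ^ t := Nat.pow_le_pow_right (by omega) ht
  have hk3 : k = 3 := by nlinarith
  subst hk3
  have ht2 : t = 2 := by
    by_contra hne
    have h3t : 3 ≤ t := by omega
    have : 3 ^ 3 ≤ 3 ^ t := Nat.pow_le_pow_right (by norm_num) h3t
    omega
  exact ⟨rfl, ht2⟩

/-- the index type of the row -/
abbrev I9 : Type := Unit ⊕ (Fin 4 ⊕ Fin 4)

variable {F : Type*} [Field F] [Fintype F]

/-- ASCHO2-[ROW9] = S5835 from S5673 and the statements of the modules of the second sheet -/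
theorem row9_of (hodd : Odd (Fintype.card F)) (H : Subgroup (GL I9 F))
    (hH : IsMaximalIn (omegaGL (quadFormOdd 4 F)) H)
    (hasch : (∃ M : Subgroup (GL I9 F), InOrthogonalOddClass 4 F M ∧ H ≤ M) ∨ InOrthogonalResidualClass H)
    (hP1A : ∀ W : Submodule F (I9 → F), W ≠ ⊥ → IsTotallySingularQuad (quadFormOdd 4 F) W →
      ¬ omegaGL (quadFormOdd 4 F) ≤ subspaceStabilizer W)
    (hP1B : ∀ W : Submodule F (I9 → F), W ≠ ⊥ → W ≠ ⊤ →
      IsNondegenerateOn (QuadraticMap.polar (quadFormOdd 4 F)) W →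
      ¬ omegaGL (quadFormOdd 4 F) ≤ subspaceStabilizer W)
    (hP2 : ∀ {t : ℕ} (k : ℕ) (D : Fin t → Submodule F (I9 → F)),
      IsOrthogonalMDecomposition (quadFormOdd 4 F) k D →
      ¬ omegaGL (quadFormOdd 4 F) ≤ decompositionStabilizer D)
    (hP3 : ∀ r : ℕ, r.Prime → r ≠ 2 → ∀ K : Subalgebra F (Matrix I9 I9 F), IsFieldSubalgebra r K →
      ¬ omegaGL (quadFormOdd 4 F) ≤ subalgebraNormalizer K)
    (hP5 : ∀ F₀ : Subfield F, F₀ ≠ ⊤ → ∀ P : GL I9 F,
      ¬ omegaGL (quadFormOdd 4 F) ≤ subfieldSubgroup F₀ P)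
    (hP7 : ∀ k : ℕ, 3 ≤ k → ∀ (e : I9 ≃ (Fin 2 → Fin k)) (P : GL I9 F),
      ¬ omegaGL (quadFormOdd 4 F) ≤ tensorWreathSubgroup k 2 e P)
    (hR1B : ∀ W : Submodule F (I9 → F), W ≠ ⊥ → W ≠ ⊤ →
      IsNondegenerateOn (QuadraticMap.polar (quadFormOdd 4 F)) W →
      ∃ W' : Submodule F (I9 → F), W' ≠ ⊥ ∧ W' ≠ ⊤ ∧ Even (Module.finrank F W') ∧
        IsNondegenerateOn (QuadraticMap.polar (quadFormOdd 4 F)) W' ∧
        subspaceStabilizer W' ⊓ isometryGroup F (quadFormOdd 4 F) =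
          subspaceStabilizer W ⊓ isometryGroup F (quadFormOdd 4 F))
    (hRP3 : Fintype.card F = 3 → ∀ W : Submodule F (I9 → F), Module.finrank F W = 2 →
      IsNondegenerateOn (QuadraticMap.polar (quadFormOdd 4 F)) W → IsPlusTypeOn (quadFormOdd 4 F) W →
      ∃ U : Submodule F (I9 → F), U ≠ ⊥ ∧ U ≠ ⊤ ∧ Even (Module.finrank F U) ∧ Module.finrank F U ≠ 2 ∧
        IsNondegenerateOn (QuadraticMap.polar (quadFormOdd 4 F)) U ∧
        subspaceStabilizer W ⊓ isometryGroup F (quadFormOdd 4 F) ≤ subspaceStabilizer U)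
    (hR2A3 : Fintype.card F = 3 → ∀ {t : ℕ} (D : Fin t → Submodule F (I9 → F)),
      IsOrthogonalMDecomposition (quadFormOdd 4 F) 3 D →
      ∃ D' : Fin (3 * t) → Submodule F (I9 → F), IsOrthogonalMDecomposition (quadFormOdd 4 F) 1 D' ∧
        decompositionStabilizer D ⊓ isometryGroup F (quadFormOdd 4 F) ≤ decompositionStabilizer D') :
    (∃ W : Submodule F (I9 → F), W ≠ ⊥ ∧ IsTotallySingularQuad (quadFormOdd 4 F) W ∧
      H = subspaceStabilizer W ⊓ omegaGL (quadFormOdd 4 F)) ∨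
    (∃ W : Submodule F (I9 → F), W ≠ ⊥ ∧ Even (Module.finrank F W) ∧
      IsNondegenerateOn (QuadraticMap.polar (quadFormOdd 4 F)) W ∧
      ¬ (Fintype.card F = 3 ∧ Module.finrank F W = 2 ∧ IsPlusTypeOn (quadFormOdd 4 F) W) ∧
      H = subspaceStabilizer W ⊓ omegaGL (quadFormOdd 4 F)) ∨
    ((Fintype.card F).Prime ∧ ∃ D : Fin 9 → Submodule F (I9 → F),
      IsOrthogonalMDecomposition (quadFormOdd 4 F) 1 D ∧
      H = decompositionStabilizer D ⊓ omegaGL (quadFormOdd 4 F)) ∨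
    (5 ≤ Fintype.card F ∧ ∃ D : Fin 3 → Submodule F (I9 → F),
      IsOrthogonalMDecomposition (quadFormOdd 4 F) 3 D ∧
      H = decompositionStabilizer D ⊓ omegaGL (quadFormOdd 4 F)) ∨
    (∃ K : Subalgebra F (Matrix I9 I9 F), IsFieldSubalgebra 3 K ∧
      IsSelfAdjointFor (QuadraticMap.polar (quadFormOdd 4 F)) K ∧
      H = subalgebraNormalizer K ⊓ omegaGL (quadFormOdd 4 F)) ∨
    (∃ (F₀ : Subfield F) (r : ℕ) (P : GL I9 F), r.Prime ∧ Fintype.card F = Nat.card F₀ ^ r ∧
      IsQuadFormRationalStructure (quadFormOdd 4 F) F₀ P ∧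
      H = subfieldSubgroup F₀ P ⊓ omegaGL (quadFormOdd 4 F)) ∨
    (5 ≤ Fintype.card F ∧ ∃ (e : I9 ≃ (Fin 2 → Fin 3)) (P : GL I9 F) (f₁ : (Fin 3 → F) → (Fin 3 → F) → F),
      IsSymmetricForm f₁ ∧ IsTensorPowerFormStructure id (QuadraticMap.polar (quadFormOdd 4 F)) f₁ e P ∧
      H = tensorWreathSubgroup 3 2 e P ⊓ omegaGL (quadFormOdd 4 F)) ∨
    InOrthogonalResidualClass H := by
  classical
  rcases hasch with ⟨M, hM, hle⟩ | hres
  swap
  · exact Or.inr (Or.inr (Or.inr (Or.inr (Or.inr (Or.inr (Or.inr hres))))))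
  have hHI : H ≤ isometryGroup F (quadFormOdd 4 F) := hH.1.le.trans (omegaGL_le_isometryGroup _)
  have hq2 : 2 ≤ Fintype.card F := Fintype.one_lt_card
  have hq5 : Fintype.card F ≠ 3 → 5 ≤ Fintype.card F := by
    intro h3
    obtain ⟨j, hj⟩ := hodd
    omega
  have hcard : Fintype.card I9 = 9 := by
    simp [I9]
  dsimp only [InOrthogonalOddClass] at hM
  rcases hM with ⟨W, hW0, hWs, rfl⟩ | ⟨W, hW0, hW1, hWn, rfl⟩ | ⟨t, k, D, hk, hD, rfl⟩ |
    ⟨t, D, hp, hD, rfl⟩ | ⟨r, K, hr, hrn, hK, hsa, rfl⟩ |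
    ⟨n₁, n₂, e, P, f₁, f₂, h3, hlt, hf₁, hf₂, hT, rfl⟩ | ⟨F₀, r, P, hr, hc, hrat, rfl⟩ |
    ⟨k, t, e, P, f₁, hk, ht, hex, hf₁, hT, rfl⟩
  · -- (1a)
    exact Or.inl ⟨W, hW0, hWs, eq_inf_omegaGL_of_isMaximalIn hH hle (hP1A W hW0 hWs)⟩
  · -- (1b)
    right; left
    obtain ⟨W', hW'0, hW'1, hW'e, hW'n, hW'eq⟩ := hR1B W hW0 hW1 hWn
    have hle' : H ≤ subspaceStabilizer W' ⊓ isometryGroup F (quadFormOdd 4 F) := by
      rw [hW'eq]; exact hle
    by_cases hex : Fintype.card F = 3 ∧ Module.finrank F W' = 2 ∧ IsPlusTypeOn (quadFormOdd 4 F) W'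
    · obtain ⟨hF3, hd2, hpl⟩ := hex
      obtain ⟨U, hU0, hU1, hUe, hU2, hUn, hUle⟩ := hRP3 hF3 W' hd2 hW'n hpl
      have hleU : H ≤ subspaceStabilizer U ⊓ isometryGroup F (quadFormOdd 4 F) :=
        le_inf (hle'.trans hUle) hHI
      exact ⟨U, hU0, hUe, hUn, fun h => hU2 h.2.1,
        eq_inf_omegaGL_of_isMaximalIn hH hleU (hP1B U hU0 hU1 hUn)⟩
    · exact ⟨W', hW'0, hW'e, hW'n, hex,
        eq_inf_omegaGL_of_isMaximalIn hH hle' (hP1B W' hW'0 hW'1 hW'n)⟩
  · -- (2a)
    have htk : t * k = 9 := by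
      rw [← hcard]; exact mul_eq_card_of_isMDecomposition D hD.decomp.decomp
    have ht2 := hD.decomp.decomp.two_le
    have htk3 : t = 3 ∧ k = 3 := eq_three_of_mul_eq_nine htk ht2 hk
    obtain ⟨rfl, rfl⟩ := htk3
    by_cases hF3 : Fintype.card F = 3
    · obtain ⟨D', hD', hDle⟩ := hR2A3 hF3 D hD
      have hleD' : H ≤ decompositionStabilizer D' ⊓ isometryGroup F (quadFormOdd 4 F) :=
        le_inf (hle.trans hDle) hHI
      right; right; left
      exact ⟨by rw [hF3]; norm_num, D', hD',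
        eq_inf_omegaGL_of_isMaximalIn hH hleD' (hP2 1 D' hD')⟩
    · right; right; right; left
      exact ⟨hq5 hF3, D, hD, eq_inf_omegaGL_of_isMaximalIn hH hle (hP2 3 D hD)⟩
  · -- (2b)
    have htk : t * 1 = 9 := by
      rw [← hcard]; exact mul_eq_card_of_isMDecomposition D hD.decomp.decomp
    have ht9 : t = 9 := by omega
    subst ht9
    right; right; left
    exact ⟨hp, D, hD, eq_inf_omegaGL_of_isMaximalIn hH hle (hP2 1 D hD)⟩
  · -- (3)
    have hdvd : r ∣ 9 := by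
      rw [← hcard]; exact dvd_card_of_isFieldSubalgebra r K hK
    have hr3 : r = 3 := by
      have h9 : r ∣ 3 ^ 2 := by norm_num; exact hdvd
      exact (Nat.prime_dvd_prime_iff_eq hr Nat.prime_three).mp (hr.dvd_of_dvd_pow h9)
    subst hr3
    right; right; right; right; left
    exact ⟨K, hK, hsa, eq_inf_omegaGL_of_isMaximalIn hH hle (hP3 3 hr (by norm_num) K hK)⟩
  · -- (4)
    exfalso
    have := Fintype.card_congr e
    rw [hcard, Fintype.card_prod, Fintype.card_fin, Fintype.card_fin] at this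
    nlinarith
  · -- (5)
    have hF₀ : F₀ ≠ ⊤ := by
      rintro rfl
      have h1 : Nat.card (⊤ : Subfield F) = Fintype.card F := by
        rw [← Nat.card_eq_fintype_card]
        exact Nat.card_congr Subfield.topEquiv.toEquiv
      rw [h1] at hc
      have h2 : Fintype.card F ^ 1 < Fintype.card F ^ r := Nat.pow_lt_pow_right hq2 hr.one_lt
      rw [pow_one] at h2
      omega
    right; right; right; right; right; left
    exact ⟨F₀, r, P, hr, hc, hrat, eq_inf_omegaGL_of_isMaximalIn hH hle (hP5 F₀ hF₀ P)⟩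
  · -- (7)
    have hkt : k ^ t = 9 := by
      have := Fintype.card_congr e
      rw [hcard, Fintype.card_fun, Fintype.card_fin, Fintype.card_fin] at this
      exact this.symm
    have hkt3 : k = 3 ∧ t = 2 := eq_three_two_of_pow_eq_nine hkt hk ht
    obtain ⟨rfl, rfl⟩ := hkt3
    have hF3 : Fintype.card F ≠ 3 := fun h => hex ⟨h, rfl⟩
    right; right; right; right; right; right; left
    exact ⟨hq5 hF3, e, P, f₁, hf₁, hT, eq_inf_omegaGL_of_isMaximalIn hH hle (hP7 3 le_rfl e P)⟩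

end Cfsg.Agent.Lib.Helper14.AschO2Row9
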