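import Mathlib
import Cfsg.Prelude.Def_GeometricClasses
import Cfsg.Agent.Lib.Helper99.AschDefs
import Cfsg.Agent.Lib.Helper23.AschSpDefs

/-!
# Project ASCHSP (helper23, S5662): modules [TR-3] [TR-4] [TR-5] (helper14)

Transport of the class predicates `SpC3s`, `SpC3u`, `SpC4`, `SpC5` along `glReindex e`.
Self-contained: the few [TR-KIT] facts needed are proved here in the namespace
`Cfsg.Agent.Lib.Helper14.AschSpTr`.
-/

set_option autoImplicit false

namespace Cfsg.Agent.Lib.Helper14.AschSpTr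

open Cfsg Cfsg.Geo Cfsg.Agent.Lib.Helper99.Asch Cfsg.Agent.Lib.Helper23.AschSp
open scoped MatrixGroups Matrix Kronecker

variable {F : Type*} [Field F]
variable {ι κ : Type} [Fintype ι] [DecidableEq ι] [Fintype κ] [DecidableEq κ] (e : ι ≃ κ)

theorem reindex_mulVec_comp (k : Matrix ι ι F) (w : κ → F) :
    ((Matrix.reindex e e k) *ᵥ w) ∘ e = k *ᵥ (w ∘ e) := by
  rw [Matrix.reindex_apply, Matrix.submatrix_mulVec_equiv]
  funext i
  simp

theorem glReindex_mulVec_comp (g : GL ι F) (w : κ → F) :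
    (((glReindex e g : GL κ F) : Matrix κ κ F) *ᵥ w) ∘ e = (g : Matrix ι ι F) *ᵥ (w ∘ e) :=
  reindex_mulVec_comp e _ w

theorem coe_glReindex_symm (h : GL κ F) :
    (((glReindex e).symm h : GL ι F) : Matrix ι ι F) = Matrix.reindex e.symm e.symm (h : Matrix κ κ F) := rfl

theorem glReindex_symm_mulVec_comp (h : GL κ F) (w : ι → F) :
    ((((glReindex e).symm h : GL ι F) : Matrix ι ι F) *ᵥ w) ∘ e.symm =
      (h : Matrix κ κ F) *ᵥ (w ∘ e.symm) := by
  rw [coe_glReindex_symm]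
  exact reindex_mulVec_comp e.symm _ w

theorem comp_symm_comp (w : ι → F) : (w ∘ e.symm) ∘ e = w := by
  funext i; simp

theorem comp_comp_symm (w : κ → F) : (w ∘ e) ∘ e.symm = w := by
  funext i; simp

/-- [TR-KIT] `map_isoGL` -/
theorem map_isoGL (f : (ι → F) → (ι → F) → F) :
    (isoGL f).map (glReindex e).toMonoidHom = isoGL (formReindex e f) := by
  ext h
  rw [show (glReindex e (F := F)).toMonoidHom = ((glReindex e (F := F) : GL ι F ≃* GL κ F) : GL ι F →* GL κ F) from rfl,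
    Subgroup.map_equiv_eq_comap_symm, Subgroup.mem_comap, mem_isoGL, mem_isoGL]
  constructor
  · intro hh u v
    show f (((h : Matrix κ κ F) *ᵥ u) ∘ e) (((h : Matrix κ κ F) *ᵥ v) ∘ e) = f (u ∘ e) (v ∘ e)
    have h1 := hh (u ∘ e) (v ∘ e)
    have h2 : ∀ w : κ → F, ((h : Matrix κ κ F) *ᵥ w) ∘ e =
        (((glReindex e).symm h : GL ι F) : Matrix ι ι F) *ᵥ (w ∘ e) := by
      intro w
      have h3 := glReindex_symm_mulVec_comp e h (w ∘ e)
      rw [comp_comp_symm] at h3
      rw [← h3, comp_symm_comp]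
    rw [h2 u, h2 v]
    exact h1
  · intro hh u v
    have h1 := hh (u ∘ e.symm) (v ∘ e.symm)
    have h1' : f (((h : Matrix κ κ F) *ᵥ (u ∘ e.symm)) ∘ e) (((h : Matrix κ κ F) *ᵥ (v ∘ e.symm)) ∘ e) =
        f ((u ∘ e.symm) ∘ e) ((v ∘ e.symm) ∘ e) := h1
    rw [comp_symm_comp, comp_symm_comp] at h1'
    rw [← glReindex_symm_mulVec_comp e h u, ← glReindex_symm_mulVec_comp e h v, comp_symm_comp,
      comp_symm_comp] at h1'
    exact h1'


theorem mem_subalgebraNormalizer {K : Subalgebra F (Matrix ι ι F)} {g : GL ι F} :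
    g ∈ subalgebraNormalizer K ↔
      ∀ k : Matrix ι ι F, k ∈ K ↔ (g : Matrix ι ι F) * k * ((g⁻¹ : GL ι F) : Matrix ι ι F) ∈ K :=
  Iff.rfl

theorem reindex_mem_map_iff (K : Subalgebra F (Matrix ι ι F)) (x : Matrix ι ι F) :
    Matrix.reindexAlgEquiv F F e x ∈ K.map (Matrix.reindexAlgEquiv F F e).toAlgHom ↔ x ∈ K := by
  rw [Subalgebra.mem_map]
  constructor
  · rintro ⟨y, hy, hxy⟩
    have h1 : y = x := (Matrix.reindexAlgEquiv F F e).injective hxy
    rw [← h1]; exact hy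
  · intro hx
    exact ⟨x, hx, rfl⟩

theorem coe_glReindex' (g : GL ι F) :
    ((glReindex e g : GL κ F) : Matrix κ κ F) = Matrix.reindexAlgEquiv F F e (g : Matrix ι ι F) := rfl

/-- [TR-KIT] `map_subalgebraNormalizer` -/
theorem map_subalgebraNormalizer (K : Subalgebra F (Matrix ι ι F)) :
    (subalgebraNormalizer K).map (glReindex e).toMonoidHom =
      subalgebraNormalizer (K.map (Matrix.reindexAlgEquiv F F e).toAlgHom) := by
  ext h
  constructor
  · rintro ⟨g, hg0, rfl⟩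
    have hg : g ∈ subalgebraNormalizer K := hg0
    rw [mem_subalgebraNormalizer] at hg
    show glReindex e g ∈ _
    rw [mem_subalgebraNormalizer]
    intro k'
    obtain ⟨k, rfl⟩ := (Matrix.reindexAlgEquiv F F e).surjective k'
    rw [reindex_mem_map_iff, hg k, ← map_inv, coe_glReindex', coe_glReindex', ← map_mul, ← map_mul,
      reindex_mem_map_iff]
  · intro hh
    rw [mem_subalgebraNormalizer] at hh
    refine ⟨(glReindex e).symm h, (show (glReindex e).symm h ∈ subalgebraNormalizer K from ?_), by simp⟩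
    rw [mem_subalgebraNormalizer]
    intro k
    have h1 := hh (Matrix.reindexAlgEquiv F F e k)
    have h2 : glReindex e ((glReindex e).symm h) = h := by simp
    rw [reindex_mem_map_iff] at h1
    rw [h1]
    have h3 : (h : Matrix κ κ F) = Matrix.reindexAlgEquiv F F e
        (((glReindex e).symm h : GL ι F) : Matrix ι ι F) := by
      rw [← coe_glReindex', h2]
    have h4 : ((h⁻¹ : GL κ F) : Matrix κ κ F) = Matrix.reindexAlgEquiv F F e
        ((((glReindex e).symm h)⁻¹ : GL ι F) : Matrix ι ι F) := by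
      rw [← coe_glReindex', map_inv, h2]
    rw [h3, h4, ← map_mul, ← map_mul, reindex_mem_map_iff]

theorem glReindex_glReindex {n₁ n₂ : ℕ} (idx : ι ≃ Fin n₁ × Fin n₂) (g : GL (Fin n₁ × Fin n₂) F) :
    glReindex e (glReindex idx.symm g) = glReindex (e.symm.trans idx).symm g := by
  apply Units.ext
  ext a b
  rfl

theorem map_conj_glReindex (P : GL ι F) (S : Subgroup (GL ι F)) :
    (S.map (MulAut.conj P).toMonoidHom).map (glReindex e).toMonoidHom =
      (S.map (glReindex e).toMonoidHom).map (MulAut.conj (glReindex e P)).toMonoidHom := by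
  have hcomp : (glReindex e (F := F)).toMonoidHom.comp (MulAut.conj P).toMonoidHom =
      (MulAut.conj (glReindex e P)).toMonoidHom.comp (glReindex e (F := F)).toMonoidHom := by
    apply MonoidHom.ext
    intro g
    show glReindex e (P * g * P⁻¹) = glReindex e P * glReindex e g * (glReindex e P)⁻¹
    rw [map_mul, map_mul, map_inv]
  rw [Subgroup.map_map, Subgroup.map_map, hcomp]

/-- [TR-KIT] `map_tensorProductSubgroup` -/
theorem map_tensorProductSubgroup (n₁ n₂ : ℕ) (idx : ι ≃ Fin n₁ × Fin n₂) (P : GL ι F) :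
    (tensorProductSubgroup n₁ n₂ idx P).map (glReindex e).toMonoidHom =
      tensorProductSubgroup n₁ n₂ (e.symm.trans idx) (glReindex e P) := by
  unfold tensorProductSubgroup
  have hcomp : (glReindex e (F := F)).toMonoidHom.comp (glReindex idx.symm (F := F)).toMonoidHom =
      (glReindex (e.symm.trans idx).symm (F := F)).toMonoidHom := by
    apply MonoidHom.ext
    intro g
    exact glReindex_glReindex e idx g
  rw [map_conj_glReindex, Subgroup.map_map (kroneckerSubgroup n₁ n₂ F) (glReindex e (F := F)).toMonoidHom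
    (glReindex idx.symm (F := F)).toMonoidHom, hcomp]

/-- [TR-KIT] `map_scalars` -/
theorem map_scalars : (scalars ι F).map (glReindex e).toMonoidHom = scalars κ F := by
  ext h
  constructor
  · rintro ⟨g, hg, rfl⟩
    rw [SetLike.mem_coe, mem_scalars_iff] at hg
    obtain ⟨c, hc⟩ := hg
    rw [mem_scalars_iff]
    refine ⟨c, ?_⟩
    show ((glReindex e g : GL κ F) : Matrix κ κ F) = _
    rw [coe_glReindex', hc, map_smul, map_one]
  · intro hh
    rw [mem_scalars_iff] at hh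
    obtain ⟨c, hc⟩ := hh
    refine ⟨(glReindex e).symm h, ?_, by simp⟩
    rw [SetLike.mem_coe, mem_scalars_iff]
    refine ⟨c, ?_⟩
    have h2 : glReindex e ((glReindex e).symm h) = h := by simp
    apply (Matrix.reindexAlgEquiv F F e).injective
    rw [← coe_glReindex', h2, hc, map_smul, map_one]

theorem glReindex_map_subtype (F₀ : Subfield F) (a : GL ι F₀) :
    glReindex e (Matrix.GeneralLinearGroup.map (F₀.subtype : F₀ →+* F) a) =
      Matrix.GeneralLinearGroup.map (F₀.subtype : F₀ →+* F) (glReindex e a) := by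
  apply Units.ext
  ext i j
  rfl

theorem map_range_subtype (F₀ : Subfield F) :
    ((Matrix.GeneralLinearGroup.map (F₀.subtype : F₀ →+* F)).range : Subgroup (GL ι F)).map
        (glReindex e).toMonoidHom =
      ((Matrix.GeneralLinearGroup.map (F₀.subtype : F₀ →+* F)).range : Subgroup (GL κ F)) := by
  ext h
  constructor
  · rintro ⟨g, ⟨a, rfl⟩, rfl⟩
    exact ⟨glReindex e a, (glReindex_map_subtype e F₀ a).symm⟩
  · rintro ⟨b, rfl⟩
    refine ⟨Matrix.GeneralLinearGroup.map (F₀.subtype : F₀ →+* F) ((glReindex e).symm b), ⟨_, rfl⟩, ?_⟩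
    show glReindex e (Matrix.GeneralLinearGroup.map (F₀.subtype : F₀ →+* F) ((glReindex e).symm b)) = _
    rw [glReindex_map_subtype]
    simp

/-- [TR-KIT] `map_subfieldSubgroup` -/
theorem map_subfieldSubgroup (F₀ : Subfield F) (P : GL ι F) :
    (subfieldSubgroup F₀ P).map (glReindex e).toMonoidHom = subfieldSubgroup F₀ (glReindex e P) := by
  unfold subfieldSubgroup
  rw [map_conj_glReindex, Subgroup.map_sup, map_scalars, map_range_subtype]

theorem glReindex_injective :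
    Function.Injective ((glReindex e (F := F)).toMonoidHom : GL ι F →* GL κ F) :=
  (glReindex e (F := F)).injective


theorem isFieldSubalgebra_map {r : ℕ} {K : Subalgebra F (Matrix ι ι F)} (hK : IsFieldSubalgebra r K) :
    IsFieldSubalgebra r (K.map (Matrix.reindexAlgEquiv F F e).toAlgHom) := by
  refine ⟨?_, ?_, ?_⟩
  · rintro x ⟨x₀, hx₀, rfl⟩ y ⟨y₀, hy₀, rfl⟩
    show Matrix.reindexAlgEquiv F F e x₀ * Matrix.reindexAlgEquiv F F e y₀ =
      Matrix.reindexAlgEquiv F F e y₀ * Matrix.reindexAlgEquiv F F e x₀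
    rw [← map_mul, ← map_mul, hK.comm x₀ hx₀ y₀ hy₀]
  · rintro x ⟨x₀, hx₀, rfl⟩ hx
    have hx₀' : x₀ ≠ 0 := by
      rintro rfl
      exact hx (map_zero _)
    obtain ⟨y₀, hy₀, hxy⟩ := hK.inv x₀ hx₀ hx₀'
    refine ⟨Matrix.reindexAlgEquiv F F e y₀, ⟨y₀, hy₀, rfl⟩, ?_⟩
    show Matrix.reindexAlgEquiv F F e x₀ * Matrix.reindexAlgEquiv F F e y₀ = 1
    rw [← map_mul, hxy, map_one]
  · rw [← hK.finrank_eq]
    exact (LinearEquiv.finrank_eq
      ((Matrix.reindexAlgEquiv F F e).subalgebraMap K).toLinearEquiv).symm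

theorem reindexAlgEquiv_mulVec_comp (k : Matrix ι ι F) (w : κ → F) :
    (Matrix.reindexAlgEquiv F F e k *ᵥ w) ∘ e = k *ᵥ (w ∘ e) :=
  reindex_mulVec_comp e k w

theorem isSelfAdjointFor_map_iff (f : (ι → F) → (ι → F) → F) (K : Subalgebra F (Matrix ι ι F)) :
    IsSelfAdjointFor (formReindex e f) (K.map (Matrix.reindexAlgEquiv F F e).toAlgHom) ↔
      IsSelfAdjointFor f K := by
  constructor
  · intro h k hk u v
    have h1 := h (Matrix.reindexAlgEquiv F F e k) ⟨k, hk, rfl⟩ (u ∘ e.symm) (v ∘ e.symm)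
    have h2 : f ((Matrix.reindexAlgEquiv F F e k *ᵥ (u ∘ e.symm)) ∘ e) ((v ∘ e.symm) ∘ e) =
        f ((u ∘ e.symm) ∘ e) ((Matrix.reindexAlgEquiv F F e k *ᵥ (v ∘ e.symm)) ∘ e) := h1
    rw [reindexAlgEquiv_mulVec_comp, reindexAlgEquiv_mulVec_comp, comp_symm_comp, comp_symm_comp] at h2
    exact h2
  · rintro h k' ⟨k, hk, rfl⟩ u v
    show f ((Matrix.reindexAlgEquiv F F e k *ᵥ u) ∘ e) (v ∘ e) =
      f (u ∘ e) ((Matrix.reindexAlgEquiv F F e k *ᵥ v) ∘ e)
    rw [reindexAlgEquiv_mulVec_comp, reindexAlgEquiv_mulVec_comp]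
    exact h k hk _ _

theorem isAdjointClosedFor_map (f : (ι → F) → (ι → F) → F) (K : Subalgebra F (Matrix ι ι F))
    (h : IsAdjointClosedFor f K) :
    IsAdjointClosedFor (formReindex e f) (K.map (Matrix.reindexAlgEquiv F F e).toAlgHom) := by
  rintro k' ⟨k, hk, rfl⟩
  obtain ⟨k₁, hk₁, hadj⟩ := h k hk
  refine ⟨Matrix.reindexAlgEquiv F F e k₁, ⟨k₁, hk₁, rfl⟩, ?_⟩
  intro u v
  show f ((Matrix.reindexAlgEquiv F F e k *ᵥ u) ∘ e) (v ∘ e) =
    f (u ∘ e) ((Matrix.reindexAlgEquiv F F e k₁ *ᵥ v) ∘ e)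
  rw [reindexAlgEquiv_mulVec_comp, reindexAlgEquiv_mulVec_comp]
  exact hadj _ _

end Cfsg.Agent.Lib.Helper14.AschSpTr

namespace Cfsg.Agent.Lib.Helper23.AschSp

open Cfsg Cfsg.Geo Cfsg.Agent.Lib.Helper99.Asch
open scoped MatrixGroups Matrix Kronecker

variable {n m : ℕ} {F : Type*} [Field F] [Fintype F] {f : (Fin n → F) → (Fin n → F) → F}

section transport

variable {ι κ : Type} [Fintype ι] [DecidableEq ι] [Fintype κ] [DecidableEq κ] (e : ι ≃ κ)

open Cfsg.Agent.Lib.Helper14.AschSpTr in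
/-- ASCHSP-[TR-3] -/
theorem spC3s_reindex (f : (ι → F) → (ι → F) → F) (M : Subgroup (GL ι F)) (h : SpC3s f M) :
    SpC3s (formReindex e f) (M.map (glReindex e).toMonoidHom) := by
  obtain ⟨r, K, hr, hK, hsa, halt, hM⟩ := h
  refine ⟨r, K.map (Matrix.reindexAlgEquiv F F e).toAlgHom, hr, isFieldSubalgebra_map e hK,
    (isSelfAdjointFor_map_iff e f K).mpr hsa, ?_, ?_⟩
  · rintro k' ⟨k, hk, rfl⟩ v
    show f ((Matrix.reindexAlgEquiv F F e k *ᵥ v) ∘ e) (v ∘ e) = 0
    rw [reindexAlgEquiv_mulVec_comp]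
    exact halt k hk _
  · rw [hM, Subgroup.map_inf _ _ _ (glReindex_injective e),
      Cfsg.Agent.Lib.Helper14.AschSpTr.map_subalgebraNormalizer,
      Cfsg.Agent.Lib.Helper14.AschSpTr.map_isoGL]

open Cfsg.Agent.Lib.Helper14.AschSpTr in
/-- ASCHSP-[TR-3] -/
theorem spC3u_reindex (f : (ι → F) → (ι → F) → F) (M : Subgroup (GL ι F)) (h : SpC3u f M) :
    SpC3u (formReindex e f) (M.map (glReindex e).toMonoidHom) := by
  obtain ⟨K, hodd, hK, hac, hnsa, hM⟩ := h
  refine ⟨K.map (Matrix.reindexAlgEquiv F F e).toAlgHom, hodd, isFieldSubalgebra_map e hK,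
    isAdjointClosedFor_map e f K hac, fun hsa => hnsa ((isSelfAdjointFor_map_iff e f K).mp hsa), ?_⟩
  rw [hM, Subgroup.map_inf _ _ _ (glReindex_injective e),
    Cfsg.Agent.Lib.Helper14.AschSpTr.map_subalgebraNormalizer,
    Cfsg.Agent.Lib.Helper14.AschSpTr.map_isoGL]

open Cfsg.Agent.Lib.Helper14.AschSpTr in
/-- ASCHSP-[TR-4] -/
theorem spC4_reindex (f : (ι → F) → (ι → F) → F) (M : Subgroup (GL ι F)) (h : SpC4 f M) :
    SpC4 (formReindex e f) (M.map (glReindex e).toMonoidHom) := by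
  obtain ⟨n₁, n₂, idx, P, f₁, f₂, hodd, hn₂, hf₁, hf₂, ⟨c, hc, hten⟩, hM⟩ := h
  refine ⟨n₁, n₂, e.symm.trans idx, glReindex e P, f₁, f₂, hodd, hn₂, hf₁, hf₂, ⟨c, hc, ?_⟩, ?_⟩
  · intro x y
    show f ((((glReindex e P : GL κ F) : Matrix κ κ F) *ᵥ (x ∘ (e.symm.trans idx))) ∘ e)
      ((((glReindex e P : GL κ F) : Matrix κ κ F) *ᵥ (y ∘ (e.symm.trans idx))) ∘ e) = _
    rw [glReindex_mulVec_comp, glReindex_mulVec_comp]
    have h1 : ∀ z : Fin n₁ × Fin n₂ → F, (z ∘ (e.symm.trans idx)) ∘ e = z ∘ idx := by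
      intro z
      funext i
      simp
    rw [h1, h1]
    exact hten x y
  · rw [hM, Subgroup.map_inf _ _ _ (glReindex_injective e),
      Cfsg.Agent.Lib.Helper14.AschSpTr.map_tensorProductSubgroup,
      Cfsg.Agent.Lib.Helper14.AschSpTr.map_isoGL]

open Cfsg.Agent.Lib.Helper14.AschSpTr in
/-- ASCHSP-[TR-5] -/
theorem spC5_reindex (f : (ι → F) → (ι → F) → F) (M : Subgroup (GL ι F)) (h : SpC5 f M) :
    SpC5 (formReindex e f) (M.map (glReindex e).toMonoidHom) := by
  obtain ⟨F₀, r, P, ζ, hr, hcard, hζ, hrat, hM⟩ := h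
  refine ⟨F₀, r, glReindex e P, ζ, hr, hcard, hζ, ?_, ?_⟩
  · intro u v hu hv
    show ζ * f ((((glReindex e P : GL κ F) : Matrix κ κ F) *ᵥ u) ∘ e)
      ((((glReindex e P : GL κ F) : Matrix κ κ F) *ᵥ v) ∘ e) ∈ F₀
    rw [glReindex_mulVec_comp, glReindex_mulVec_comp]
    exact hrat (u ∘ e) (v ∘ e) (fun i => hu (e i)) (fun i => hv (e i))
  · rw [hM, Subgroup.map_inf _ _ _ (glReindex_injective e),
      Cfsg.Agent.Lib.Helper14.AschSpTr.map_subfieldSubgroup,
      Cfsg.Agent.Lib.Helper14.AschSpTr.map_isoGL]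

end transport

end Cfsg.Agent.Lib.Helper23.AschSp
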