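import Mathlib
import Cfsg.Agent.Lib.Helper70.AschU.Defs
import Cfsg.Agent.Lib.Helper5.UnitarySU2b

/-!
# Project ASCHU (helper70, S5663): modules [HERMFIX], [SUBF-ODD], [SUBF-TWO] (helper14)
-/

set_option autoImplicit false

namespace Cfsg.Agent.Lib.Helper70.AschU

open Cfsg Cfsg.Geo Cfsg.Agent.Lib.Helper99.Asch
open scoped MatrixGroups Matrix Kronecker

variable {n : ℕ} {F : Type*} [Field F] [Fintype F] {q : ℕ} {σ : F ≃+* F}

/-- ASCHU-[HERMFIX] -/
theorem exists_fixed_smul_rational {ι : Type} [Fintype ι] [DecidableEq ι] (hinv : ∀ a, σ (σ a) = a) (F₁ : Subfield F)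
    (hσF₁ : ∀ a ∈ F₁, σ a ∈ F₁) (hnt : ∃ a ∈ F₁, σ a ≠ a) (J : Matrix ι ι F)
    (hherm : (J.map σ)ᵀ = J) (β : F) (hβ : β ≠ 0) (hrat : ∀ i j, β * J i j ∈ F₁) :
    ∃ β' : F, β' ≠ 0 ∧ σ β' = β' ∧ ∀ i j, β' * J i j ∈ F₁ := by
  have hJ : ∀ i j, σ (J j i) = J i j := by
    intro i j
    have h1 := congrFun (congrFun hherm i) j
    simpa [Matrix.transpose_apply, Matrix.map_apply] using h1
  have key : ∀ a ∈ F₁, σ (a * β + σ (a * β)) = a * β + σ (a * β) ∧
      ∀ i j, (a * β + σ (a * β)) * J i j ∈ F₁ := by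
    intro a ha
    refine ⟨by rw [map_add, hinv, add_comm], fun i j => ?_⟩
    have h1 : (a * β + σ (a * β)) * J i j = a * (β * J i j) + σ (a * (β * J j i)) := by
      rw [map_mul σ a (β * J j i), map_mul σ β, hJ i j, map_mul σ a β]
      ring
    rw [h1]
    exact F₁.add_mem (F₁.mul_mem ha (hrat i j)) (hσF₁ _ (F₁.mul_mem ha (hrat j i)))
  by_cases h0 : β + σ β = 0
  · obtain ⟨a, ha, hne⟩ := hnt
    refine ⟨a * β + σ (a * β), ?_, (key a ha).1, (key a ha).2⟩
    have hσβ : σ β = -β := by linear_combination h0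
    rw [map_mul, hσβ]
    have h2 : a * β + σ a * -β = (a - σ a) * β := by ring
    rw [h2]
    exact mul_ne_zero (sub_ne_zero.mpr (Ne.symm hne)) hβ
  · refine ⟨1 * β + σ (1 * β), ?_, (key 1 F₁.one_mem).1, (key 1 F₁.one_mem).2⟩
    rwa [one_mul]

namespace SubfAux

/-- elements of a subfield are killed by `X ^ |F₁| - X` -/
theorem pow_natCard_eq (F₁ : Subfield F) (a : F) (ha : a ∈ F₁) : a ^ Nat.card F₁ = a := by
  classical
  have h1 : (⟨a, ha⟩ : F₁) ^ Fintype.card F₁ = ⟨a, ha⟩ := FiniteField.pow_card _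
  rw [Nat.card_eq_fintype_card]
  exact congrArg Subtype.val h1

theorem one_lt_natCard (F₁ : Subfield F) : 1 < Nat.card F₁ := by
  classical
  rw [Nat.card_eq_fintype_card]
  exact Fintype.one_lt_card

end SubfAux

/-- ASCHU-[SUBF-TWO] -/
theorem subfield_two_eq_fixed (hσ : UCtx σ q) (F₁ : Subfield F)
    (hcard : Fintype.card F = Nat.card F₁ ^ 2) : ∀ a : F, a ∈ F₁ ↔ σ a = a := by
  classical
  have hq : Nat.card F₁ = q := by
    have h1 : Nat.card F₁ ^ 2 = q ^ 2 := by rw [← hcard, hσ.card]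
    exact Nat.pow_left_injective (by norm_num : 2 ≠ 0) h1
  have hsub : (F₁ : Set F) ⊆ {x : F | x ^ q = x} := by
    intro a ha
    have h2 := SubfAux.pow_natCard_eq F₁ a ha
    rw [hq] at h2
    exact h2
  have hcardS : Nat.card {x : F // x ^ q = x} = q := Cfsg.Agent.Lib.Helper5.card_fixed hσ.card
  have heq : (F₁ : Set F) = {x : F | x ^ q = x} := by
    apply Set.eq_of_subset_of_ncard_le hsub _ (Set.toFinite _)
    rw [← Nat.card_coe_set_eq, ← Nat.card_coe_set_eq]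
    show Nat.card {x : F // x ^ q = x} ≤ Nat.card F₁
    rw [hcardS, hq]
  intro a
  rw [hσ.frob]
  constructor
  · intro ha
    exact hsub ha
  · intro ha
    have h3 : a ∈ {x : F | x ^ q = x} := ha
    rw [← heq] at h3
    exact h3

/-- ASCHU-[SUBF-ODD] -/
theorem subfield_odd_stable (hσ : UCtx σ q) (F₁ : Subfield F) (r : ℕ) (hodd : Odd r)
    (hcard : Fintype.card F = Nat.card F₁ ^ r) :
    (∀ a ∈ F₁, σ a ∈ F₁) ∧ ∃ a ∈ F₁, σ a ≠ a := by
  classical
  refine ⟨fun a ha => by rw [hσ.frob]; exact F₁.pow_mem ha q, ?_⟩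
  by_contra hcon
  have hall : ∀ a ∈ F₁, σ a = a := by
    intro a ha
    by_contra hne
    exact hcon ⟨a, ha, hne⟩
  have hle : F₁ ≤ fixedSubfield σ := fun a ha => mem_fixedSubfield.mpr (hall a ha)
  -- the fixed field has `q` elements
  have hKq : Nat.card (fixedSubfield σ) = q := by
    have h1 : Nat.card {x : F // x ^ q = x} = q := Cfsg.Agent.Lib.Helper5.card_fixed hσ.card
    rw [← h1]
    apply Nat.card_congr
    refine Equiv.subtypeEquivRight ?_
    intro x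
    rw [mem_fixedSubfield, hσ.frob]
  -- the fixed field is a vector space over `F₁`
  let _ : Algebra ↥F₁ ↥(fixedSubfield σ) := (Subfield.inclusion hle).toAlgebra
  have h2 : Fintype.card ↥(fixedSubfield σ) =
      Fintype.card ↥F₁ ^ Module.finrank ↥F₁ ↥(fixedSubfield σ) := Module.card_eq_pow_finrank
  rw [← Nat.card_eq_fintype_card, ← Nat.card_eq_fintype_card, hKq] at h2
  -- `|F₁|^(2m) = |F₁|^r`
  have h3 : Nat.card F₁ ^ (2 * Module.finrank ↥F₁ ↥(fixedSubfield σ)) = Nat.card F₁ ^ r := by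
    rw [← hcard, hσ.card, h2, ← pow_mul, mul_comm]
  have h4 : 2 * Module.finrank ↥F₁ ↥(fixedSubfield σ) = r :=
    Nat.pow_right_injective (SubfAux.one_lt_natCard F₁) h3
  obtain ⟨k, hk⟩ := hodd
  omega

end Cfsg.Agent.Lib.Helper70.AschU
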