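import Mathlib
import Cfsg.Agent.Lib.Helper17.BT.Defs
import Cfsg.Agent.Lib.Helper16.BlockBasic
import Cfsg.Agent.Lib.Helper16.Induced
import Cfsg.Agent.Lib.Helper76.PRegular

/-!
# S0998 module [BT-YBLOCK] (helper14, for helper17)

In the Brauer–Tuan configuration, if `|G| = p y (q k)` (`y` the common degree of the characters of `Y`),
then all characters of `Y` lie in the same `q`-block.
-/

set_option autoImplicit false

namespace Cfsg.Agent.Lib.Helper14.BTY

open Cfsg
open scoped ComplexConjugate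
open Cfsg.Agent.Lib.Helper17.BT Cfsg.Agent.Lib.Helper16

variable {G : Type*} [Group G] [Finite G] {p : ℕ} [Fact p.Prime] {M : Ideal Cfsg.AlgInt}
  {P : Sylow p G} {e t : ℕ} {ε : ℤ} {a : IrrCharacter G → ℤ} {X Y : Finset (IrrCharacter G)}

/-- an element whose order is divisible by `p` is conjugate to a non-trivial element of `P` -/
theorem exists_conj_mem (D : BTData p M P e t ε a X Y) (g : G) (hg : p ∣ orderOf g) :
    ∃ c : G, c * g * c⁻¹ ∈ (P : Subgroup G) ∧ c * g * c⁻¹ ≠ 1 := by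
  have hp : p.Prime := Fact.out
  have hn0 : orderOf g ≠ 0 := (orderOf_pos g).ne'
  set x : G := g ^ (orderOf g / p) with hx
  have hxo : orderOf x = p := orderOf_pow_orderOf_div hn0 hg
  have hx1 : x ≠ 1 := by
    intro h
    rw [h, orderOf_one] at hxo
    exact hp.one_lt.ne hxo
  have hpg : IsPGroup p (Subgroup.zpowers x) := by
    apply IsPGroup.of_card (n := 1)
    rw [Nat.card_zpowers, hxo, pow_one]
  obtain ⟨Q, hQ⟩ := hpg.exists_le_sylow
  obtain ⟨c, hc⟩ := MulAction.exists_smul_eq G Q P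
  have hxQ : x ∈ (Q : Subgroup G) := hQ (Subgroup.mem_zpowers x)
  have hcx : c * x * c⁻¹ ∈ (P : Subgroup G) := by
    rw [← hc, Sylow.coe_subgroup_smul, Subgroup.mem_pointwise_smul_iff_inv_smul_mem]
    simp only [MulAut.smul_def, MulAut.conj_inv_apply]
    simpa [mul_assoc] using hxQ
  have hcx1 : c * x * c⁻¹ ≠ 1 := by
    intro h
    apply hx1
    have : x = c⁻¹ * (c * x * c⁻¹) * c := by group
    rw [this, h]; group
  have hcent := D.hcent _ hcx hcx1
  have hpow : c * x * c⁻¹ = (c * g * c⁻¹) ^ (orderOf g / p) := by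
    rw [hx, conj_pow]
  have hmem : c * g * c⁻¹ ∈ Subgroup.centralizer ({c * x * c⁻¹} : Set G) := by
    rw [Subgroup.mem_centralizer_singleton_iff, hpow]
    exact ((Commute.refl (c * g * c⁻¹)).pow_right _).eq
  rw [hcent] at hmem
  refine ⟨c, hmem, ?_⟩
  intro h
  have hg1 : g = 1 := by
    have : g = c⁻¹ * (c * g * c⁻¹) * c := by group
    rw [this, h]; group
  rw [hg1, orderOf_one] at hg
  exact hp.one_lt.ne' (Nat.dvd_one.mp hg)

/-- two characters of `Y` are in the same `q`-block -/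
theorem sameBlock_Y (D : BTData p M P e t ε a X Y) (q : ℕ) [Fact q.Prime]
    (Mq : Ideal Cfsg.AlgInt) (hMq : IsPModular q Mq) (k : ℕ)
    (hk : Nat.card G = p * (if ε = 1 then e else p - e) * (q * k))
    (θ : IrrCharacter G) (hθ : θ ∈ Y) (θ' : IrrCharacter G) (hθ' : θ' ∈ Y) :
    SameBlock Mq (θ : G → ℂ) (θ' : G → ℂ) := by
  have hp : p.Prime := Fact.out
  have hprime : Mq.IsPrime := isPModular_isPrime hMq
  have hne : Mq ≠ ⊤ := (isPModular_isMaximal hMq).ne_top
  set yN : ℕ := if ε = 1 then e else p - e with hyN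
  have hy0 : yN ≠ 0 := by
    rw [hyN]
    split_ifs
    · have := D.he; omega
    · have h1 := D.hpet
      have h2 := D.he
      have h3 := D.ht
      have : e * 2 ≤ e * t := Nat.mul_le_mul_left e h3
      omega
  have hdeg : ∀ ζ ∈ Y, (ζ : G → ℂ) 1 = (yN : ℂ) := by
    intro ζ hζ
    rw [D.hdegY ζ hζ, hyN]
    split_ifs <;> rfl
  intro g
  by_cases hg : p ∣ orderOf g
  · obtain ⟨c, hcP, hc1⟩ := exists_conj_mem D g hg
    rw [← centralChar_conj θ g c, ← centralChar_conj θ' g c]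
    set g' : G := c * g * c⁻¹ with hg'
    have hcent := D.hcent g' hcP hc1
    have hidx : (Subgroup.centralizer ({g'} : Set G)).index = yN * (q * k) := by
      rw [hcent]
      have h1 := Subgroup.card_mul_index (P : Subgroup G)
      rw [D.hPcard, hk, mul_assoc] at h1
      exact Nat.eq_of_mul_eq_mul_left hp.pos h1
    have hyC : (yN : ℂ) ≠ 0 := by exact_mod_cast hy0
    have heq : centralChar (θ : G → ℂ) g' - centralChar (θ' : G → ℂ) g' =
        (q : ℂ) * ((k : ℂ) * ((θ : G → ℂ) g' - (θ' : G → ℂ) g')) := by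
      unfold centralChar
      rw [hidx, hdeg θ hθ, hdeg θ' hθ']
      push_cast
      field_simp
    rw [heq]
    refine memLocalIdeal_mul_right (memLocalIdeal_p hMq) ?_
    refine memLocalRing_mul (memLocalRing_natCast hne k) ?_
    exact memLocalRing_of_isIntegral hne
      ((Cfsg.Agent.Lib.Helper76.irr_isIntegral θ g').sub
        (Cfsg.Agent.Lib.Helper76.irr_isIntegral θ' g'))
  · have hval : (θ : G → ℂ) g = (θ' : G → ℂ) g := D.hYreg g hg θ hθ θ' hθ'
    have : centralChar (θ : G → ℂ) g - centralChar (θ' : G → ℂ) g = 0 := by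
      unfold centralChar
      rw [hval, hdeg θ hθ, hdeg θ' hθ', sub_self]
    rw [this]
    exact memLocalIdeal_zero hne

/-! ### MODULE [BT-YBLOCK] -/

theorem bt_Y_sameBlock (D : BTData p M P e t ε a X Y) (q : ℕ) [Fact q.Prime]
    (Mq : Ideal Cfsg.AlgInt) (hMq : IsPModular q Mq) (k : ℕ)
    (hk : Nat.card G = p * (if ε = 1 then e else p - e) * (q * k))
    (Bq : Set (IrrCharacter G)) (hBq : IsPBlock Mq Bq) :
    (∀ θ ∈ Y, θ ∈ Bq) ∨ (∀ θ ∈ Y, θ ∉ Bq) := by
  have hprime : Mq.IsPrime := isPModular_isPrime hMq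
  by_cases h : ∃ θ ∈ Y, θ ∈ Bq
  · left
    obtain ⟨θ, hθY, hθB⟩ := h
    intro θ' hθ'
    rw [IsPBlock_eq_blockOf hBq hθB]
    exact sameBlock_Y D q Mq hMq k hk θ hθY θ' hθ'
  · right
    intro θ hθ hθB
    exact h ⟨θ, hθ, hθB⟩

end Cfsg.Agent.Lib.Helper14.BTY
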