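import Mathlib
import Cfsg.Agent.Lib.Helper64.BrauerNNV
import Cfsg.Agent.Lib.Helper79.BrauerN.Defs2

/-!
# S0996 module [NV96] of helper79's SPINE96.md (helper14)

In the pre-rigid configuration `PreRigidData p P q t n c ε a X Y`:
the irreducible characters outside `X ∪ Y` vanish on `P ∖ 1`; `∑_{x ∈ P} θ(x) = 0` (`ε = 1`) or
`c p` (`ε = -1`) for `θ ∈ Y`; and for `ε = 1`, `∑_{x ∈ P} |θ(x)|² = p q`.

Generalizes helper64's [NV] (`Lib/Helper64/BrauerNNV.lean`), whose abelian-group lemmas are reused.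
-/

set_option autoImplicit false
set_option linter.unusedSectionVars false
open Cfsg
open scoped ComplexConjugate

namespace Cfsg.Agent.Lib.Helper14.Brauer96

open Cfsg.Agent.Lib.Helper79.BrauerN
open Cfsg.Agent.Lib
open Cfsg.Agent.Lib.Helper64.BrauerN (nsP nsP_nonneg exists_mult_of_comm finsum_mem_subgroup
  ne_one_of_mem_erase lowB)

/-! ### integers -/

theorem int_le_sq (d : ℤ) : d ≤ d ^ 2 := by
  rcases le_or_gt d 0 with h | h
  · nlinarith
  · nlinarith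

theorem int_eq_sq {d : ℤ} (h : d = d ^ 2) : d = 0 ∨ d = 1 := by
  have : d * (d - 1) = 0 := by linarith [h, sq d]
  rcases mul_eq_zero.1 this with h1 | h1
  · exact Or.inl h1
  · exact Or.inr (by linarith)

/-- the integrality trick: for naturals `m ψ`, an integer `c'` and a sign `ε`,
`ε (∑ m - N c') ≤ ∑ m² - 2 c' ∑ m + N c'²`, with equality only if every `ε (m ψ - c') ∈ {0, 1}`. -/
theorem mult_bound {ι : Type*} [Fintype ι] (m : ι → ℕ) (c' ε : ℤ) (hε : ε = 1 ∨ ε = -1) :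
    ε * ((∑ ψ, (m ψ : ℤ)) - (Fintype.card ι : ℤ) * c') ≤
        (∑ ψ, (m ψ : ℤ) ^ 2) - 2 * c' * (∑ ψ, (m ψ : ℤ)) + (Fintype.card ι : ℤ) * c' ^ 2 ∧
    (ε * ((∑ ψ, (m ψ : ℤ)) - (Fintype.card ι : ℤ) * c') =
        (∑ ψ, (m ψ : ℤ) ^ 2) - 2 * c' * (∑ ψ, (m ψ : ℤ)) + (Fintype.card ι : ℤ) * c' ^ 2 →
      ∀ ψ, ε * ((m ψ : ℤ) - c') = 0 ∨ ε * ((m ψ : ℤ) - c') = 1) := by
  have hε2 : ε ^ 2 = 1 := by rcases hε with h | h <;> rw [h] <;> norm_num
  have h1 : ∑ ψ, ε * ((m ψ : ℤ) - c') =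
      ε * ((∑ ψ, (m ψ : ℤ)) - (Fintype.card ι : ℤ) * c') := by
    rw [← Finset.mul_sum, Finset.sum_sub_distrib, Finset.sum_const, Finset.card_univ,
      nsmul_eq_mul]
  have h2 : ∑ ψ, (ε * ((m ψ : ℤ) - c')) ^ 2 =
      (∑ ψ, (m ψ : ℤ) ^ 2) - 2 * c' * (∑ ψ, (m ψ : ℤ)) + (Fintype.card ι : ℤ) * c' ^ 2 := by
    have : ∀ ψ, (ε * ((m ψ : ℤ) - c')) ^ 2 = (m ψ : ℤ) ^ 2 - 2 * c' * (m ψ : ℤ) + c' ^ 2 := by
      intro ψ
      rw [mul_pow, hε2]; ring
    rw [Finset.sum_congr rfl (fun ψ _ => this ψ), Finset.sum_add_distrib, Finset.sum_sub_distrib,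
      ← Finset.mul_sum, Finset.sum_const, Finset.card_univ, nsmul_eq_mul]
  rw [← h1, ← h2]
  refine ⟨Finset.sum_le_sum (fun ψ _ => int_le_sq _), fun heq ψ => ?_⟩
  have h3 := (Finset.sum_eq_sum_iff_of_le (s := Finset.univ)
    (f := fun ψ => ε * ((m ψ : ℤ) - c')) (g := fun ψ => (ε * ((m ψ : ℤ) - c')) ^ 2)
    (fun ψ _ => int_le_sq _)).1 heq ψ (Finset.mem_univ _)
  exact int_eq_sq h3


section Abelian

variable {A : Type*} [Group A] [Fintype A] [IsMulCommutative A]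

/-- a finite abelian group has `|A|` irreducible characters. -/
theorem card_irr_of_comm : Fintype.card (IrrCharacter A) = Nat.card A := by
  have h := Helper78.sum_irr_charDegree_sq (G := A)
  have h2 : ∀ l : IrrCharacter A, charDegree (l : A → ℂ) = 1 := by
    intro l
    have h3 := Helper78.IsCharacter.apply_one_eq_charDegree
      (Helper78.IsIrrCharacter.isCharacter l.2)
    rw [Helper78.IsIrrCharacter.map_one_of_comm l.2] at h3
    exact_mod_cast h3.symm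
  simp only [h2, one_pow, Finset.sum_const, Finset.card_univ, smul_eq_mul, mul_one] at h
  exact h

end Abelian

section PreRigid

variable {G : Type*} [Group G] [Finite G] {p : ℕ} [Fact p.Prime] {P : Sylow p G}
  {q t n c : ℕ} {ε : ℤ} {a : IrrCharacter G → ℤ} {X Y : Finset (IrrCharacter G)}

theorem card_erase_one [DecidableEq G] (D : PreRigidData p P q t n c ε a X Y)
    [Fintype (P : Subgroup G)] :
    ((Finset.univ : Finset (P : Subgroup G)).erase 1).card = p - 1 := by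
  rw [Finset.card_erase_of_mem (Finset.mem_univ _), Finset.card_univ, ← Nat.card_eq_fintype_card,
    D.hPcard]

/-- total: `∑_ζ nsP ζ = (p - 1) p`. -/
theorem sum_nsP [DecidableEq G] (D : PreRigidData p P q t n c ε a X Y) [Fintype G]
    [Fintype (P : Subgroup G)] :
    ∑ ζ : IrrCharacter G, nsP P (ζ : G → ℂ) = ((p : ℝ) - 1) * p := by
  unfold nsP
  rw [Finset.sum_comm]
  have h1 : ∀ x ∈ (Finset.univ : Finset (P : Subgroup G)).erase 1,
      ∑ ζ : IrrCharacter G, Complex.normSq ((ζ : G → ℂ) x) = (p : ℝ) := by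
    intro x hx
    have hx1 : (x : G) ≠ 1 := ne_one_of_mem_erase hx
    have h2 := Helper78.second_orthogonality_of_isConj (G := G) (IsConj.refl (x : G))
    rw [D.hcent x x.2 hx1, D.hPcard] at h2
    have h3 : ((∑ ζ : IrrCharacter G, Complex.normSq ((ζ : G → ℂ) x) : ℝ) : ℂ) = (p : ℂ) := by
      rw [← h2]
      push_cast
      apply Finset.sum_congr rfl
      intro ζ _
      rw [Complex.mul_conj]
    exact_mod_cast h3
  rw [Finset.sum_congr rfl h1, Finset.sum_const, card_erase_one D, nsmul_eq_mul]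
  have hp : 1 ≤ p := (Fact.out : p.Prime).one_lt.le
  push_cast [hp]
  ring

theorem nsP_X [DecidableEq G] (D : PreRigidData p P q t n c ε a X Y) [Fintype (P : Subgroup G)]
    {χ : IrrCharacter G} (hχ : χ ∈ X) : nsP P (χ : G → ℂ) = (p : ℝ) - 1 := by
  unfold nsP
  have h1 : ∀ x ∈ (Finset.univ : Finset (P : Subgroup G)).erase 1,
      Complex.normSq ((χ : G → ℂ) x) = 1 := by
    intro x hx
    rw [D.hXval χ hχ x x.2 (ne_one_of_mem_erase hx)]
    rcases D.haX χ hχ with h | h <;> rw [h] <;> simp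
  rw [Finset.sum_congr rfl h1, Finset.sum_const, card_erase_one D, nsmul_eq_mul, mul_one]
  have hp : 1 ≤ p := (Fact.out : p.Prime).one_lt.le
  push_cast [hp]
  ring

theorem isMulCommutative_P (D : PreRigidData p P q t n c ε a X Y) :
    IsMulCommutative (P : Subgroup G) := by
  have : Fact (Nat.card (P : Subgroup G)).Prime := ⟨by rw [D.hPcard]; exact Fact.out⟩
  have hc : IsCyclic (P : Subgroup G) := isCyclic_of_prime_card rfl
  exact IsCyclic.isMulCommutative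

/-- restriction of a character of `G` to `P`: multiplicities, with the integrality bound relative to
an integer `c'` and a sign `ε'`. -/
theorem exists_mult [DecidableEq G] (D : PreRigidData p P q t n c ε a X Y)
    [Fintype (P : Subgroup G)] {φ : G → ℂ} (hφ : IsCharacter G φ) (c' ε' : ℤ)
    (hε' : ε' = 1 ∨ ε' = -1) :
    ∃ (n₁ n₂ m₁ : ℕ), φ 1 = (n₁ : ℂ) ∧
      nsP P φ = (p : ℝ) * n₂ - (n₁ : ℝ) ^ 2 ∧
      ∑ x : (P : Subgroup G), φ x = (p : ℂ) * (m₁ : ℂ) ∧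
      ∑ x : (P : Subgroup G), φ x * conj (φ x) = (p : ℂ) * (n₂ : ℂ) ∧
      ε' * ((n₁ : ℤ) - (p : ℤ) * c') ≤ (n₂ : ℤ) - 2 * c' * (n₁ : ℤ) + (p : ℤ) * c' ^ 2 ∧
      (ε' * ((n₁ : ℤ) - (p : ℤ) * c') = (n₂ : ℤ) - 2 * c' * (n₁ : ℤ) + (p : ℤ) * c' ^ 2 →
        ε' * ((m₁ : ℤ) - c') = 0 ∨ ε' * ((m₁ : ℤ) - c') = 1) := by
  have := isMulCommutative_P D
  obtain ⟨m, h1, h2, h3⟩ := exists_mult_of_comm (A := (P : Subgroup G))
    (Helper80.isCharacter_restrict (P : Subgroup G) hφ)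
  rw [D.hPcard] at h2 h3
  have hcard : Fintype.card (IrrCharacter (P : Subgroup G)) = p := by
    rw [card_irr_of_comm, D.hPcard]
  obtain ⟨hb1, hb2⟩ := mult_bound m c' ε' hε'
  rw [hcard] at hb1 hb2
  refine ⟨∑ ψ, m ψ, ∑ ψ, (m ψ) ^ 2, m ⟨fun _ => 1, Helper78.isIrrCharacter_one⟩, h1, ?_, h3, h2,
    ?_, ?_⟩
  · unfold nsP
    rw [Finset.sum_erase_eq_sub (Finset.mem_univ _)]
    have h6 : ((∑ x : (P : Subgroup G), Complex.normSq (φ x) : ℝ) : ℂ) =
        (p : ℂ) * ((∑ ψ, (m ψ) ^ 2 : ℕ) : ℂ) := by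
      rw [← h2]
      push_cast
      apply Finset.sum_congr rfl
      intro x _
      rw [Complex.mul_conj]
    have h7 : (∑ x : (P : Subgroup G), Complex.normSq (φ x) : ℝ) =
        (p : ℝ) * ((∑ ψ, (m ψ) ^ 2 : ℕ) : ℝ) := by exact_mod_cast h6
    rw [h7]
    have h8 : φ ((1 : (P : Subgroup G)) : G) = ((∑ ψ, m ψ : ℕ) : ℂ) := h1
    rw [h8, Complex.normSq_natCast]
    ring
  · push_cast
    exact hb1
  · intro heq
    push_cast at heq
    exact hb2 heq _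


/-- the degree of the characters of `Y`, as a natural number. -/
def degY (p q c : ℕ) (ε : ℤ) : ℕ := if ε = 1 then q else c * p - q

/-- the comparison multiplicity `c'`: `0` for `ε = 1`, `c` for `ε = -1`. -/
def cc (c : ℕ) (ε : ℤ) : ℤ := if ε = 1 then 0 else (c : ℤ)

theorem apply_one_Y (D : PreRigidData p P q t n c ε a X Y) {θ : IrrCharacter G} (hθ : θ ∈ Y) :
    (θ : G → ℂ) 1 = (degY p q c ε : ℂ) := by
  rcases D.hε with h | h
  · rw [D.hdegYp h θ hθ]; unfold degY; rw [if_pos h]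
  · rw [(D.hdegYm h).2.2 θ hθ]; unfold degY; rw [if_neg (by rw [h]; norm_num)]

theorem q_le_p (D : PreRigidData p P q t n c ε a X Y) : q ≤ p := by
  have h1 := D.hpqt
  have h2 := D.ht
  nlinarith

theorem degY_eq (D : PreRigidData p P q t n c ε a X Y) :
    (degY p q c ε : ℤ) = (p : ℤ) * cc c ε + ε * (q : ℤ) := by
  rcases D.hε with h | h
  · subst h; simp [degY, cc]
  · have hc := (D.hdegYm h).1
    have hqp := q_le_p D
    have hle : q ≤ c * p := by nlinarith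
    subst h
    have h1 : ¬ ((-1 : ℤ) = 1) := by norm_num
    unfold degY cc
    rw [if_neg h1, if_neg h1]
    push_cast [hle]
    ring

theorem eps_sq (D : PreRigidData p P q t n c ε a X Y) : ε * ε = 1 := by
  rcases D.hε with h | h <;> rw [h] <;> norm_num

theorem lowB_le [DecidableEq G] (D : PreRigidData p P q t n c ε a X Y) [Fintype (P : Subgroup G)]
    (ζ : IrrCharacter G) : lowB p q X Y ζ ≤ nsP P (ζ : G → ℂ) := by
  classical
  unfold lowB
  by_cases hX : ζ ∈ X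
  · have hY : ζ ∉ Y := fun h => (Finset.disjoint_left.1 D.hdisj) hX h
    rw [if_pos hX, if_neg hY, nsP_X D hX, add_zero]
  · by_cases hY : ζ ∈ Y
    · rw [if_neg hX, if_pos hY, zero_add]
      obtain ⟨n₁, n₂, m₁, h1, h2, -, -, hb1, -⟩ := exists_mult D
        (Helper78.IsIrrCharacter.isCharacter ζ.2) (cc c ε) ε D.hε
      rw [apply_one_Y D hY] at h1
      have h5 : degY p q c ε = n₁ := by exact_mod_cast h1
      have h6 := degY_eq D
      rw [h5] at h6
      have hε2 := eps_sq D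
      have h7 : ε * ((n₁ : ℤ) - (p : ℤ) * cc c ε) = q := by
        rw [h6]
        linear_combination (q : ℤ) * hε2
      rw [h7] at hb1
      have h8 : ((n₁ : ℤ) - (p : ℤ) * cc c ε) ^ 2 = (q : ℤ) ^ 2 := by
        rw [h6]
        linear_combination ((q : ℤ) ^ 2) * hε2
      have hp0 : (0 : ℤ) ≤ p := Int.natCast_nonneg _
      have h9 : 0 ≤ (p : ℤ) * ((n₂ : ℤ) - 2 * cc c ε * (n₁ : ℤ) + (p : ℤ) * cc c ε ^ 2 - q) :=
        mul_nonneg hp0 (by linarith)
      have key : (q : ℤ) * ((p : ℤ) - q) ≤ (p : ℤ) * n₂ - (n₁ : ℤ) ^ 2 := by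
        nlinarith [h8, h9]
      rw [h2]
      exact_mod_cast key
    · rw [if_neg hX, if_neg hY, zero_add]
      exact nsP_nonneg P _

theorem sum_lowB (D : PreRigidData p P q t n c ε a X Y) :
    ∑ ζ : IrrCharacter G, lowB p q X Y ζ = ((p : ℝ) - 1) * p := by
  classical
  unfold lowB
  rw [Finset.sum_add_distrib, Finset.sum_ite_mem, Finset.sum_ite_mem, Finset.univ_inter,
    Finset.univ_inter, Finset.sum_const, Finset.sum_const, D.hXcard, D.hYcard, nsmul_eq_mul,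
    nsmul_eq_mul]
  have h1 : (p : ℝ) = q * t + 1 := by exact_mod_cast D.hpqt
  rw [h1]
  ring

theorem nsP_eq_lowB [DecidableEq G] (D : PreRigidData p P q t n c ε a X Y) [Fintype G]
    [Fintype (P : Subgroup G)] (ζ : IrrCharacter G) :
    nsP P (ζ : G → ℂ) = lowB p q X Y ζ := by
  have h1 := (Finset.sum_eq_sum_iff_of_le (s := Finset.univ) (f := fun ζ => lowB p q X Y ζ)
    (g := fun ζ : IrrCharacter G => nsP P (ζ : G → ℂ)) (fun ζ _ => lowB_le D ζ)).1
    (by rw [sum_lowB D, sum_nsP D])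
  exact (h1 ζ (Finset.mem_univ _)).symm

/-- **[NV96] (1)**: the irreducible characters outside `X ∪ Y` vanish on `P ∖ 1`. -/
theorem prerigid_apply_eq_zero_of_not_mem (D : PreRigidData p P q t n c ε a X Y)
    {ζ : IrrCharacter G} (hX : ζ ∉ X) (hY : ζ ∉ Y) {x : G} (hx : x ∈ (P : Subgroup G))
    (hx1 : x ≠ 1) : (ζ : G → ℂ) x = 0 := by
  classical
  have : Fintype G := Fintype.ofFinite G
  have : Fintype (P : Subgroup G) := Fintype.ofFinite _
  have h1 := nsP_eq_lowB D ζ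
  unfold lowB at h1
  rw [if_neg hX, if_neg hY, add_zero] at h1
  unfold nsP at h1
  have h2 := (Finset.sum_eq_zero_iff_of_nonneg (fun _ _ => Complex.normSq_nonneg _)).1 h1
    ⟨x, hx⟩ (Finset.mem_erase.2 ⟨fun h => hx1 (congrArg Subtype.val h), Finset.mem_univ _⟩)
  exact Complex.normSq_eq_zero.1 h2

theorem nsP_Y [DecidableEq G] (D : PreRigidData p P q t n c ε a X Y) [Fintype G]
    [Fintype (P : Subgroup G)] {θ : IrrCharacter G} (hθ : θ ∈ Y) :
    nsP P (θ : G → ℂ) = (q : ℝ) * ((p : ℝ) - q) := by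
  classical
  have hX : θ ∉ X := fun h => (Finset.disjoint_left.1 D.hdisj) h hθ
  rw [nsP_eq_lowB D θ]
  unfold lowB
  rw [if_neg hX, if_pos hθ, zero_add]

/-- for `θ ∈ Y`: the multiplicity `m₁` of the trivial character of `P` in `θ|_P` satisfies
`ε (m₁ - c') ∈ {0, 1}`, and the squared norm on `P` is `p n₂` with
`n₂ = q + 2 c' θ(1) - p c'²`. -/
theorem exists_m1 [DecidableEq G] (D : PreRigidData p P q t n c ε a X Y) [Fintype G]
    [Fintype (P : Subgroup G)] {θ : IrrCharacter G} (hθ : θ ∈ Y) :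
    ∃ m₁ n₂ : ℕ, (ε * ((m₁ : ℤ) - cc c ε) = 0 ∨ ε * ((m₁ : ℤ) - cc c ε) = 1) ∧
      ∑ x : (P : Subgroup G), (θ : G → ℂ) x = (p : ℂ) * (m₁ : ℂ) ∧
      ∑ x : (P : Subgroup G), (θ : G → ℂ) x * conj ((θ : G → ℂ) x) = (p : ℂ) * (n₂ : ℂ) ∧
      (n₂ : ℤ) = q + 2 * cc c ε * (degY p q c ε : ℤ) - (p : ℤ) * cc c ε ^ 2 := by
  obtain ⟨n₁, n₂, m₁, h1, h2, h3, h4, hb1, hb2⟩ := exists_mult D
    (Helper78.IsIrrCharacter.isCharacter θ.2) (cc c ε) ε D.hε
  rw [apply_one_Y D hθ] at h1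
  have h5 : degY p q c ε = n₁ := by exact_mod_cast h1
  have h6 := degY_eq D
  rw [h5] at h6
  have hε2 := eps_sq D
  have h7 : ε * ((n₁ : ℤ) - (p : ℤ) * cc c ε) = q := by
    rw [h6]
    linear_combination (q : ℤ) * hε2
  have h8 : ((n₁ : ℤ) - (p : ℤ) * cc c ε) ^ 2 = (q : ℤ) ^ 2 := by
    rw [h6]
    linear_combination ((q : ℤ) ^ 2) * hε2
  rw [nsP_Y D hθ] at h2
  have h9 : (q : ℤ) * ((p : ℤ) - q) = (p : ℤ) * n₂ - (n₁ : ℤ) ^ 2 := by exact_mod_cast h2
  have hp0 : (p : ℤ) ≠ 0 := by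
    have := (Fact.out : p.Prime).pos
    exact_mod_cast this.ne'
  have h10 : (p : ℤ) * ((n₂ : ℤ) - 2 * cc c ε * (n₁ : ℤ) + (p : ℤ) * cc c ε ^ 2 - q) = 0 := by
    linear_combination h8 - h9
  have h11 : (n₂ : ℤ) - 2 * cc c ε * (n₁ : ℤ) + (p : ℤ) * cc c ε ^ 2 - q = 0 := by
    rcases mul_eq_zero.1 h10 with h | h
    · exact absurd h hp0
    · exact h
  refine ⟨m₁, n₂, hb2 ?_, h3, h4, ?_⟩
  · rw [h7]; linarith
  · rw [h5]; linarith

/-- the sum over `Y` and `P`. -/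
theorem sum_Y_P [DecidableEq G] (D : PreRigidData p P q t n c ε a X Y)
    [Fintype (P : Subgroup G)] :
    ∑ θ ∈ Y, ∑ x : (P : Subgroup G), (θ : G → ℂ) x =
      (t : ℂ) * (degY p q c ε : ℂ) - ((p : ℂ) - 1) * (ε : ℂ) := by
  rw [Finset.sum_comm, ← Finset.add_sum_erase _ _ (Finset.mem_univ (1 : (P : Subgroup G)))]
  have h1 : ∑ θ ∈ Y, (θ : G → ℂ) ((1 : (P : Subgroup G)) : G) =
      (t : ℂ) * (degY p q c ε : ℂ) := by
    have h0 : ∀ θ ∈ Y, (θ : G → ℂ) ((1 : (P : Subgroup G)) : G) = (degY p q c ε : ℂ) :=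
      fun θ hθ => apply_one_Y D hθ
    rw [Finset.sum_congr rfl h0, Finset.sum_const, D.hYcard, nsmul_eq_mul]
  have h2 : ∀ x ∈ (Finset.univ : Finset (P : Subgroup G)).erase 1,
      ∑ θ ∈ Y, (θ : G → ℂ) x = -(ε : ℂ) := by
    intro x hx
    exact D.hYsum x x.2 (ne_one_of_mem_erase hx)
  rw [h1, Finset.sum_congr rfl h2, Finset.sum_const, card_erase_one D, nsmul_eq_mul]
  have hp : 1 ≤ p := (Fact.out : p.Prime).one_lt.le
  push_cast [hp]
  ring


/-- **[NV96] (2)**. -/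
theorem prerigid_finsum_Y (D : PreRigidData p P q t n c ε a X Y) {θ : IrrCharacter G}
    (hθ : θ ∈ Y) :
    ∑ᶠ x ∈ ((P : Subgroup G) : Set G), (θ : G → ℂ) x =
      if ε = 1 then 0 else ((c * p : ℕ) : ℂ) := by
  classical
  have : Fintype G := Fintype.ofFinite G
  have : Fintype (P : Subgroup G) := Fintype.ofFinite _
  rw [finsum_mem_subgroup]
  have hex : ∀ θ : IrrCharacter G, ∃ m₁ : ℕ, θ ∈ Y →
      ((ε * ((m₁ : ℤ) - cc c ε) = 0 ∨ ε * ((m₁ : ℤ) - cc c ε) = 1) ∧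
        ∑ x : (P : Subgroup G), (θ : G → ℂ) x = (p : ℂ) * (m₁ : ℂ)) := by
    intro θ
    by_cases h : θ ∈ Y
    · obtain ⟨m₁, n₂, hm, hs, -, -⟩ := exists_m1 D h
      exact ⟨m₁, fun _ => ⟨hm, hs⟩⟩
    · exact ⟨0, fun h' => absurd h' h⟩
  choose m hm using hex
  have h1 := sum_Y_P (P := P) D
  rw [Finset.sum_congr rfl (fun θ hθ => (hm θ hθ).2), ← Finset.mul_sum] at h1
  have hp0 : (p : ℂ) ≠ 0 := by
    have := (Fact.out : p.Prime).pos
    exact_mod_cast this.ne'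
  have hpq : p = q * t + 1 := D.hpqt
  have hqp := q_le_p D
  rw [(hm θ hθ).2]
  by_cases hε : ε = 1
  · rw [if_pos hε]
    unfold degY at h1
    rw [if_pos hε, hε] at h1
    have h2 : (p : ℂ) * ∑ θ ∈ Y, (m θ : ℂ) = 0 := by
      rw [h1, hpq]
      push_cast
      ring
    have h3 : ∑ θ ∈ Y, (m θ : ℂ) = 0 := by
      rcases mul_eq_zero.1 h2 with h | h
      · exact absurd h hp0
      · exact h
    have h4 : ∑ θ ∈ Y, m θ = 0 := by exact_mod_cast h3
    have h5 := (Finset.sum_eq_zero_iff.1 h4) θ hθ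
    rw [h5]
    simp
  · rw [if_neg hε]
    have hε' : ε = -1 := by
      rcases D.hε with h | h
      · exact absurd h hε
      · exact h
    obtain ⟨hc1, hntc, -⟩ := D.hdegYm hε'
    have hle : q ≤ c * p := by nlinarith
    unfold degY at h1
    rw [if_neg hε, hε'] at h1
    have h2 : (p : ℂ) * ∑ θ ∈ Y, (m θ : ℂ) = (p : ℂ) * ((t * c : ℕ) : ℂ) := by
      rw [h1]
      push_cast [hle]
      rw [hpq]
      push_cast
      ring
    have h3 : ∑ θ ∈ Y, (m θ : ℂ) = ((t * c : ℕ) : ℂ) := mul_left_cancel₀ hp0 h2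
    have hmle : ∀ θ ∈ Y, m θ ≤ c := by
      intro θ hθ
      have h := (hm θ hθ).1
      unfold cc at h
      rw [if_neg hε, hε'] at h
      rcases h with h | h <;> omega
    have h4 : ∑ θ ∈ Y, m θ = ∑ θ ∈ Y, c := by
      rw [Finset.sum_const, D.hYcard, smul_eq_mul]
      exact_mod_cast h3
    have h5 := (Finset.sum_eq_sum_iff_of_le hmle).1 h4 θ hθ
    rw [h5]
    push_cast
    ring

/-- **[NV96] (3)**. -/
theorem prerigid_finsum_normSq_Y (D : PreRigidData p P q t n c ε a X Y) (hε : ε = 1)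
    {θ : IrrCharacter G} (hθ : θ ∈ Y) :
    ∑ᶠ x ∈ ((P : Subgroup G) : Set G), (θ : G → ℂ) x * conj ((θ : G → ℂ) x) =
      ((p * q : ℕ) : ℂ) := by
  classical
  have : Fintype G := Fintype.ofFinite G
  have : Fintype (P : Subgroup G) := Fintype.ofFinite _
  rw [finsum_mem_subgroup]
  obtain ⟨m₁, n₂, -, -, h3, h4⟩ := exists_m1 D hθ
  unfold cc at h4
  rw [if_pos hε] at h4
  have h5 : n₂ = q := by
    have : (n₂ : ℤ) = q := by rw [h4]; ring
    exact_mod_cast this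
  rw [h3, h5]
  push_cast
  ring

end PreRigid

section Main

variable {G : Type*} [Group G] [Fintype G] {p : ℕ} [Fact p.Prime] {P : Sylow p G} {q t n c : ℕ}
  {ε : ℤ} {a : IrrCharacter G → ℤ} {X Y : Finset (IrrCharacter G)}

/-- **[NV96]** of helper79's SPINE96.md. -/
theorem prerigid_nv (D : PreRigidData p P q t n c ε a X Y) :
    (∀ ζ : IrrCharacter G, ζ ∉ X → ζ ∉ Y → ∀ x : G, x ∈ (P : Subgroup G) → x ≠ 1 →
      (ζ : G → ℂ) x = 0) ∧
    (∀ θ ∈ Y, ∑ᶠ x ∈ ((P : Subgroup G) : Set G), (θ : G → ℂ) x =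
      if ε = 1 then 0 else ((c * p : ℕ) : ℂ)) ∧
    (ε = 1 → ∀ θ ∈ Y, ∑ᶠ x ∈ ((P : Subgroup G) : Set G),
      (θ : G → ℂ) x * conj ((θ : G → ℂ) x) = ((p * q : ℕ) : ℂ)) :=
  ⟨fun _ hX hY _ hx hx1 => prerigid_apply_eq_zero_of_not_mem D hX hY hx hx1,
    fun _ hθ => prerigid_finsum_Y D hθ,
    fun hε _ hθ => prerigid_finsum_normSq_Y D hε hθ⟩

end Main

end Cfsg.Agent.Lib.Helper14.Brauer96
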