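import Mathlib
import Cfsg.Agent.Lib.Helper17.CosetAction
import Cfsg.Agent.Lib.Helper17.Misc
import Cfsg.Agent.Lib.Helper17.SylowCard
import Cfsg.Agent.Lib.Helper17.SimpleTools
import Cfsg.Agent.Lib.Helper17.PrimeSylow

set_option autoImplicit false
set_option linter.unusedSectionVars false

/-!
# Self-centralizing Sylow subgroups of prime order, part A: the `p`-singular elements

`G` finite, `|P| = p` for the Sylow `p`-subgroups and `C_G(P) = P`.  Then the `p`-singular elements
are exactly the non-identity elements of the Sylow `p`-subgroups, each lies in exactly one Sylow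
`p`-subgroup, and a class function vanishing on the `p`-regular elements sums to
`n_p * Σ_{x ∈ P, x ≠ 1} F x`.
-/

namespace Cfsg.Agent.Lib.Helper14.BrauerSC

open Subgroup Cfsg.Agent.Lib.Helper17

section grp

variable {G : Type*} [Group G] [Finite G] {p : ℕ} [hp : Fact p.Prime]

/-- All Sylow `p`-subgroups have the same order. -/
theorem card_sylow_sub_eq (P Q : Sylow p G) : Nat.card (Q : Subgroup G) = Nat.card (P : Subgroup G) := by
  rw [Sylow.card_eq_multiplicity, Sylow.card_eq_multiplicity]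

theorem orderOf_eq_of_mem_sylow (Q : Sylow p G) (hQ : Nat.card (Q : Subgroup G) = p) {g : G}
    (hg : g ∈ (Q : Subgroup G)) (h1 : g ≠ 1) : orderOf g = p := by
  have h := Subgroup.orderOf_dvd_natCard (Q : Subgroup G) hg
  rw [hQ] at h
  rcases (Nat.dvd_prime hp.out).1 h with h | h
  · exact absurd (orderOf_eq_one_iff.1 h) h1
  · exact h

/-- If the centralizer of a Sylow subgroup `Q` of prime order is `Q` itself, every element commuting
with a non-identity element of `Q` lies in `Q`. -/
theorem mem_sylow_of_commute (Q : Sylow p G) (hQ : Nat.card (Q : Subgroup G) = p)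
    (hC : Nat.card (centralizer ((Q : Subgroup G) : Set G)) = p) {z g : G}
    (hz : z ∈ (Q : Subgroup G)) (hz1 : z ≠ 1) (hgz : g * z = z * g) : g ∈ (Q : Subgroup G) := by
  have h1 : g ∈ centralizer ((Q : Subgroup G) : Set G) :=
    mem_centralizer_of_commute_of_card_prime (Q : Subgroup G) hp.out hQ hz hz1 hgz
  have hc : IsCyclic (Q : Subgroup G) := isCyclic_of_prime_card hQ
  have hcomm : IsMulCommutative (Q : Subgroup G) := ⟨⟨IsCyclic.commGroup.mul_comm⟩⟩
  have hle : (Q : Subgroup G) ≤ centralizer ((Q : Subgroup G) : Set G) := Subgroup.le_centralizer _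
  have heq : (Q : Subgroup G) = centralizer ((Q : Subgroup G) : Set G) :=
    Subgroup.eq_of_le_of_card_ge hle (by rw [hQ, hC])
  rw [heq]
  exact h1

variable (hQ : ∀ Q : Sylow p G, Nat.card (Q : Subgroup G) = p)
  (hC : ∀ Q : Sylow p G, Nat.card (centralizer ((Q : Subgroup G) : Set G)) = p)

include hQ in
/-- Two Sylow subgroups of prime order sharing a non-identity element are equal. -/
theorem sylow_eq_of_mem_of_mem (Q Q' : Sylow p G) {g : G} (hg : g ∈ (Q : Subgroup G))
    (hg' : g ∈ (Q' : Subgroup G)) (h1 : g ≠ 1) : Q = Q' := by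
  apply Sylow.ext
  rw [eq_zpowers_of_card_prime (Q : Subgroup G) hp.out (hQ Q) hg h1,
    eq_zpowers_of_card_prime (Q' : Subgroup G) hp.out (hQ Q') hg' h1]

include hQ hC in
/-- A `p`-singular element lies in a Sylow `p`-subgroup. -/
theorem exists_sylow_mem_of_dvd_orderOf {g : G} (hg : p ∣ orderOf g) :
    ∃ Q : Sylow p G, g ∈ (Q : Subgroup G) := by
  obtain ⟨k, hk⟩ := hg
  have hpos : 0 < orderOf g := orderOf_pos g
  have hkpos : 0 < k := by
    rcases Nat.eq_zero_or_pos k with h | h
    · rw [h, mul_zero] at hk; omega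
    · exact h
  have hz : orderOf (g ^ k) = p := by
    rw [orderOf_pow' g hkpos.ne', hk, Nat.gcd_eq_right (Dvd.intro_left p rfl),
      Nat.mul_div_cancel _ hkpos]
  obtain ⟨Q, hzQ⟩ := exists_sylow_mem_of_orderOf_eq (g ^ k) hz
  refine ⟨Q, mem_sylow_of_commute Q (hQ Q) (hC Q) hzQ ?_ ?_⟩
  · intro h
    rw [h, orderOf_one] at hz
    exact hp.out.one_lt.ne hz
  · exact ((Commute.refl g).pow_right k).eq

include hQ in
theorem dvd_orderOf_of_mem_sylow (Q : Sylow p G) {g : G} (hg : g ∈ (Q : Subgroup G)) (h1 : g ≠ 1) :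
    p ∣ orderOf g := by
  rw [orderOf_eq_of_mem_sylow Q (hQ Q) hg h1]

include hQ hC in
/-- The number of Sylow `p`-subgroups containing a given `p`-singular element is `1`. -/
theorem card_sylow_mem_of_dvd_orderOf {g : G} (hg : p ∣ orderOf g) :
    Nat.card {Q : Sylow p G // g ∈ (Q : Subgroup G) ∧ g ≠ 1} = 1 := by
  obtain ⟨Q, hgQ⟩ := exists_sylow_mem_of_dvd_orderOf hQ hC hg
  have h1 : g ≠ 1 := by
    intro h
    rw [h, orderOf_one] at hg
    exact hp.out.one_lt.ne' (Nat.dvd_one.1 hg)
  rw [Nat.card_eq_one_iff_unique]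
  refine ⟨⟨fun a b => ?_⟩, ⟨⟨Q, hgQ, h1⟩⟩⟩
  apply Subtype.ext
  exact sylow_eq_of_mem_of_mem hQ a.1 b.1 a.2.1 b.2.1 h1

include hQ in
theorem card_sylow_mem_of_not_dvd_orderOf {g : G} (hg : ¬ p ∣ orderOf g) :
    Nat.card {Q : Sylow p G // g ∈ (Q : Subgroup G) ∧ g ≠ 1} = 0 := by
  have : IsEmpty {Q : Sylow p G // g ∈ (Q : Subgroup G) ∧ g ≠ 1} := by
    constructor
    rintro ⟨Q, h, h1⟩
    exact hg (dvd_orderOf_of_mem_sylow hQ Q h h1)
  exact Nat.card_of_isEmpty

end grp

section sums

variable {G : Type*} [Group G] [Fintype G] {p : ℕ} [hp : Fact p.Prime]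
  (hQ : ∀ Q : Sylow p G, Nat.card (Q : Subgroup G) = p)
  (hC : ∀ Q : Sylow p G, Nat.card (centralizer ((Q : Subgroup G) : Set G)) = p)

open Classical in
/-- The sum of `F` over the non-identity elements of a subgroup, as a sum over `G`. -/
noncomputable def sumSharp (H : Subgroup G) (F : G → ℂ) : ℂ :=
  ∑ g : G, if g ∈ H ∧ g ≠ 1 then F g else 0

open Classical in
theorem sumSharp_conj (H : Subgroup G) (F : G → ℂ) (hF : ∀ g h : G, F (h * g * h⁻¹) = F g)
    (a : G) : sumSharp (H.map (MulAut.conj a).toMonoidHom) F = sumSharp H F := by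
  unfold sumSharp
  rw [← Equiv.sum_comp (MulAut.conj a).toEquiv]
  apply Finset.sum_congr rfl
  intro g _
  have h1 : ((MulAut.conj a).toEquiv g ∈ H.map (MulAut.conj a).toMonoidHom ∧
      (MulAut.conj a).toEquiv g ≠ 1) ↔ (g ∈ H ∧ g ≠ 1) := by
    constructor
    · rintro ⟨⟨x, hx, hxe⟩, h2⟩
      have : x = g := (MulAut.conj a).injective hxe
      refine ⟨this ▸ hx, ?_⟩
      intro h
      apply h2
      rw [h]
      exact map_one (MulAut.conj a)
    · rintro ⟨h1, h2⟩
      refine ⟨⟨g, h1, rfl⟩, ?_⟩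
      intro h
      apply h2
      have : (MulAut.conj a) g = (MulAut.conj a) 1 := by rw [map_one]; exact h
      exact (MulAut.conj a).injective this
  by_cases hg : g ∈ H ∧ g ≠ 1
  · rw [if_pos hg, if_pos (h1.2 hg)]
    show F (a * g * a⁻¹) = F g
    exact hF g a
  · rw [if_neg hg, if_neg (fun h => hg (h1.1 h))]

include hQ hC in
open Classical in
/-- A class function vanishing on the `p`-regular elements sums to `n_p` times its sum over the
non-identity elements of one Sylow `p`-subgroup. -/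
theorem sum_eq_card_sylow_mul_sumSharp (P : Sylow p G) (F : G → ℂ)
    (hF : ∀ g h : G, F (h * g * h⁻¹) = F g) (hreg : ∀ g : G, ¬ p ∣ orderOf g → F g = 0) :
    ∑ g : G, F g = (Nat.card (Sylow p G) : ℂ) * sumSharp (P : Subgroup G) F := by
  have : Fintype (Sylow p G) := Fintype.ofFinite _
  have h1 : ∑ Q : Sylow p G, sumSharp (Q : Subgroup G) F =
      (Nat.card (Sylow p G) : ℂ) * sumSharp (P : Subgroup G) F := by
    have : ∀ Q : Sylow p G, sumSharp (Q : Subgroup G) F = sumSharp (P : Subgroup G) F := by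
      intro Q
      obtain ⟨a, ha⟩ := MulAction.exists_smul_eq G P Q
      have hQa : (Q : Subgroup G) = (P : Subgroup G).map (MulAut.conj a).toMonoidHom := by
        rw [← ha, Sylow.coe_subgroup_smul]
        ext x
        simp [Subgroup.mem_pointwise_smul_iff_inv_smul_mem, Subgroup.mem_map]
        constructor
        · intro h
          exact ⟨a⁻¹ * x * a, by simpa [MulAut.smul_def, mul_assoc] using h, by group⟩
        · rintro ⟨y, hy, rfl⟩
          simpa [MulAut.smul_def, mul_assoc] using hy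
      rw [hQa]
      exact sumSharp_conj _ F hF a
    rw [Finset.sum_congr rfl (fun Q _ => this Q), Finset.sum_const, Finset.card_univ,
      nsmul_eq_mul, Nat.card_eq_fintype_card]
  rw [← h1]
  unfold sumSharp
  rw [Finset.sum_comm]
  apply Finset.sum_congr rfl
  intro g _
  rw [← Finset.sum_filter, Finset.sum_const, nsmul_eq_mul]
  have hcard : (Finset.univ.filter (fun Q : Sylow p G => g ∈ (Q : Subgroup G) ∧ g ≠ 1)).card =
      Nat.card {Q : Sylow p G // g ∈ (Q : Subgroup G) ∧ g ≠ 1} := by
    rw [Nat.card_eq_fintype_card, Fintype.card_subtype]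
  rw [hcard]
  by_cases hg : p ∣ orderOf g
  · rw [card_sylow_mem_of_dvd_orderOf hQ hC hg]; simp
  · rw [card_sylow_mem_of_not_dvd_orderOf hQ hg, hreg g hg]; simp

end sums

end Cfsg.Agent.Lib.Helper14.BrauerSC
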