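import Mathlib
import Cfsg.Agent.Lib.Helper78.CharMore
import Cfsg.Agent.Lib.Helper14.BrauerSCA

set_option autoImplicit false
set_option linter.unusedSectionVars false

/-!
# Self-centralizing Sylow subgroups of prime order, part B: the orthogonality computation

Abstract form of Brauer's situation `|P| = p`, `C_G(P) = P`: given finsets `X` (`e` characters, each
constant `= s χ = ±1` on `P#`) and `Y` of irreducible characters and a sign `ε` with
`ε θ = Σ_{χ ∈ X} s χ χ` on the `p`-regular elements for every `θ ∈ Y`, and `|Y| * e = p - 1`,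
every irreducible character outside `X ∪ Y` vanishes on `P#`.
-/

namespace Cfsg.Agent.Lib.Helper14.BrauerSC

open Cfsg Subgroup Cfsg.Agent.Lib.Helper17 Cfsg.Agent.Lib.Helper78
open scoped ComplexConjugate

universe u

section basic

variable {G : Type u} [Group G] [Fintype G]

theorem sum_mul_conj_irr (χ ψ : IrrCharacter G) :
    ∑ g : G, χ.1 g * conj (ψ.1 g) = if χ = ψ then (Nat.card G : ℂ) else 0 := by
  have h := classInner_irr χ.2 ψ.2
  unfold classInner at h
  have hc : (Nat.card G : ℂ) ≠ 0 := by exact_mod_cast Nat.card_pos.ne'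
  by_cases hχψ : χ = ψ
  · rw [if_pos hχψ]
    rw [if_pos (congrArg Subtype.val hχψ)] at h
    field_simp at h
    rw [h]
  · rw [if_neg hχψ]
    rw [if_neg (fun h' => hχψ (Subtype.ext h'))] at h
    rcases mul_eq_zero.1 h with h | h
    · exact absurd (inv_eq_zero.1 h) hc
    · exact h

open Classical in
theorem sumSharp_add (H : Subgroup G) (F F' : G → ℂ) :
    sumSharp H (fun g => F g + F' g) = sumSharp H F + sumSharp H F' := by
  unfold sumSharp
  rw [← Finset.sum_add_distrib]
  apply Finset.sum_congr rfl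
  intro g _
  split_ifs <;> simp

open Classical in
theorem sumSharp_sub (H : Subgroup G) (F F' : G → ℂ) :
    sumSharp H (fun g => F g - F' g) = sumSharp H F - sumSharp H F' := by
  unfold sumSharp
  rw [← Finset.sum_sub_distrib]
  apply Finset.sum_congr rfl
  intro g _
  split_ifs <;> simp

open Classical in
theorem sumSharp_const_mul (H : Subgroup G) (c : ℂ) (F : G → ℂ) :
    sumSharp H (fun g => c * F g) = c * sumSharp H F := by
  unfold sumSharp
  rw [Finset.mul_sum]
  apply Finset.sum_congr rfl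
  intro g _
  split_ifs <;> simp

open Classical in
theorem sumSharp_conj_fun (H : Subgroup G) (F : G → ℂ) :
    sumSharp H (fun g => conj (F g)) = conj (sumSharp H F) := by
  unfold sumSharp
  rw [map_sum]
  apply Finset.sum_congr rfl
  intro g _
  split_ifs <;> simp

open Classical in
theorem sumSharp_congr (H : Subgroup G) (F F' : G → ℂ)
    (h : ∀ g ∈ H, g ≠ 1 → F g = F' g) : sumSharp H F = sumSharp H F' := by
  unfold sumSharp
  apply Finset.sum_congr rfl
  intro g _
  by_cases hg : g ∈ H ∧ g ≠ 1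
  · rw [if_pos hg, if_pos hg, h g hg.1 hg.2]
  · rw [if_neg hg, if_neg hg]

open Classical in
theorem sumSharp_const (H : Subgroup G) (c : ℂ) :
    sumSharp H (fun _ => c) = ((Nat.card H : ℂ) - 1) * c := by
  unfold sumSharp
  rw [← Finset.sum_filter, Finset.sum_const, nsmul_eq_mul]
  have hcard : (Finset.univ.filter (fun g : G => g ∈ H ∧ g ≠ 1)).card + 1 = Nat.card H := by
    have h1 : Finset.univ.filter (fun g : G => g ∈ H) =
        insert 1 (Finset.univ.filter (fun g : G => g ∈ H ∧ g ≠ 1)) := by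
      ext g
      simp only [Finset.mem_filter, Finset.mem_univ, true_and, Finset.mem_insert]
      constructor
      · intro h
        by_cases h1 : g = 1
        · exact Or.inl h1
        · exact Or.inr ⟨h, h1⟩
      · rintro (h | h)
        · rw [h]; exact H.one_mem
        · exact h.1
    have h2 : (Finset.univ.filter (fun g : G => g ∈ H)).card = Nat.card H := by
      rw [Nat.card_eq_fintype_card, Fintype.card_subtype]
    rw [← h2, h1, Finset.card_insert_of_notMem]
    simp
  have : ((Finset.univ.filter (fun g : G => g ∈ H ∧ g ≠ 1)).card : ℂ) = (Nat.card H : ℂ) - 1 := by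
    rw [← hcard]; push_cast; ring
  rw [this]

open Classical in
theorem sumSharp_sum {ι : Type*} (H : Subgroup G) (S : Finset ι) (F : ι → G → ℂ) :
    sumSharp H (fun g => ∑ i ∈ S, F i g) = ∑ i ∈ S, sumSharp H (F i) := by
  unfold sumSharp
  rw [Finset.sum_comm]
  apply Finset.sum_congr rfl
  intro g _
  split_ifs
  · rfl
  · simp

end basic

section main

variable {G : Type u} [Group G] [Fintype G] {p : ℕ} [hp : Fact p.Prime]
  (hQ : ∀ Q : Sylow p G, Nat.card (Q : Subgroup G) = p)
  (hC : ∀ Q : Sylow p G, Nat.card (centralizer ((Q : Subgroup G) : Set G)) = p)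

include hQ hC in
theorem card_centralizer_singleton (Q : Sylow p G) {g : G} (hg : g ∈ (Q : Subgroup G))
    (h1 : g ≠ 1) : Nat.card (centralizer ({g} : Set G)) = p := by
  have : centralizer ({g} : Set G) = centralizer ((Q : Subgroup G) : Set G) := by
    apply le_antisymm
    · intro x hx
      exact mem_centralizer_of_commute_of_card_prime (Q : Subgroup G) hp.out (hQ Q) hg h1
        (Subgroup.mem_centralizer_singleton_iff.1 hx)
    · apply Subgroup.centralizer_le
      intro y hy
      rw [Set.mem_singleton_iff] at hy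
      rw [hy]; exact hg
  rw [this]
  exact hC Q

/-- The real-valued version of `Σ_{x ∈ P#} |χ x|²`. -/
noncomputable def normSharp (H : Subgroup G) (χ : G → ℂ) : ℝ := by
  classical
  exact ∑ g : G, if g ∈ H ∧ g ≠ 1 then Complex.normSq (χ g) else 0

open Classical in
theorem normSharp_cast (H : Subgroup G) (χ : G → ℂ) :
    ((normSharp H χ : ℝ) : ℂ) = sumSharp H (fun g => χ g * conj (χ g)) := by
  unfold normSharp sumSharp
  push_cast
  apply Finset.sum_congr rfl
  intro g _
  split_ifs
  · rw [Complex.mul_conj]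
  · rfl

theorem normSharp_nonneg (H : Subgroup G) (χ : G → ℂ) : 0 ≤ normSharp H χ := by
  classical
  unfold normSharp
  apply Finset.sum_nonneg
  intro g _
  split_ifs
  · exact Complex.normSq_nonneg _
  · exact le_refl _

open Classical in
theorem eq_zero_of_normSharp_eq_zero (H : Subgroup G) (χ : G → ℂ) (h : normSharp H χ = 0)
    {g : G} (hg : g ∈ H) (h1 : g ≠ 1) : χ g = 0 := by
  unfold normSharp at h
  have h2 := (Finset.sum_eq_zero_iff_of_nonneg (fun g _ => by
    split_ifs
    · exact Complex.normSq_nonneg _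
    · exact le_refl _)).1 h g (Finset.mem_univ g)
  rw [if_pos ⟨hg, h1⟩] at h2
  exact Complex.normSq_eq_zero.1 h2

include hQ hC in
open Classical in
/-- Second orthogonality summed over `P#`. -/
theorem sum_normSharp (P : Sylow p G) :
    ∑ χ : IrrCharacter G, normSharp (P : Subgroup G) χ.1 = ((p : ℝ) - 1) * p := by
  have h1 : ((∑ χ : IrrCharacter G, normSharp (P : Subgroup G) χ.1 : ℝ) : ℂ) =
      (((p : ℝ) - 1) * p : ℝ) := by
    push_cast
    rw [Finset.sum_congr rfl (fun χ _ => normSharp_cast (P : Subgroup G) χ.1)]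
    rw [← sumSharp_sum]
    have h2 : sumSharp (P : Subgroup G)
        (fun g => ∑ χ : IrrCharacter G, χ.1 g * conj (χ.1 g)) =
        sumSharp (P : Subgroup G) (fun _ => (p : ℂ)) := by
      apply sumSharp_congr
      intro g hg hg1
      rw [second_orthogonality_of_isConj (IsConj.refl g),
        card_centralizer_singleton hQ hC P hg hg1]
    rw [h2, sumSharp_const, hQ P]
  exact_mod_cast h1

include hQ hC in
/-- The abstract Brauer computation: characters outside `X ∪ Y` vanish on `P#`. -/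
theorem vanish_of_brauer_data (P : Sylow p G) (e t : ℕ)
    (hcard : Nat.card (Sylow p G) * (p * e) = Nat.card G) (hte : t * e = p - 1)
    (X Y : Finset (IrrCharacter G)) (hXY : Disjoint X Y) (hXc : X.card = e) (hYc : Y.card = t)
    (s : IrrCharacter G → ℤ) (hs : ∀ χ ∈ X, s χ = 1 ∨ s χ = -1)
    (hX : ∀ χ ∈ X, ∀ x : G, x ∈ (P : Subgroup G) → x ≠ 1 → χ.1 x = (s χ : ℂ))
    (ε : ℤ) (hε : ε = 1 ∨ ε = -1)
    (hrel : ∀ θ ∈ Y, ∀ g : G, ¬ p ∣ orderOf g →
      (ε : ℂ) * θ.1 g = ∑ χ ∈ X, (s χ : ℂ) * χ.1 g)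
    (χ : IrrCharacter G) (hχX : χ ∉ X) (hχY : χ ∉ Y) (x : G) (hx : x ∈ (P : Subgroup G))
    (hx1 : x ≠ 1) : χ.1 x = 0 := by
  classical
  have hp1 : 1 ≤ p := hp.out.one_lt.le
  have he0 : 0 < e := by
    rcases Nat.eq_zero_or_pos e with h | h
    · rw [h, mul_zero] at hte
      have := hp.out.two_le
      omega
    · exact h
  have hεsq : (ε : ℂ) * ε = 1 := by
    rcases hε with h | h <;> rw [h] <;> norm_num
  have hssq : ∀ χ ∈ X, (s χ : ℂ) * s χ = 1 := by
    intro χ hχ
    rcases hs χ hχ with h | h <;> rw [h] <;> norm_num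
  have hsconj : ∀ χ ∈ X, conj ((s χ : ℂ)) = s χ := by
    intro χ _
    exact map_intCast (starRingEnd ℂ) (s χ)
  have hnC : (Nat.card (Sylow p G) : ℂ) ≠ 0 := by
    exact_mod_cast Nat.card_pos.ne'
  have hcardC : (Nat.card G : ℂ) = (Nat.card (Sylow p G) : ℂ) * ((p : ℂ) * e) := by
    rw [← hcard]; push_cast; ring
  -- the key identity
  have key : ∀ θ ∈ Y, ∀ ψ : IrrCharacter G,
      sumSharp (P : Subgroup G) (fun g => ((e : ℂ) - ε * θ.1 g) * conj (ψ.1 g)) =
        (p : ℂ) * e * ((∑ χ ∈ X, if χ = ψ then (s χ : ℂ) else 0) - if θ = ψ then (ε : ℂ) else 0) := by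
    intro θ hθ ψ
    set F : G → ℂ := fun g => ((∑ χ ∈ X, (s χ : ℂ) * χ.1 g) - ε * θ.1 g) * conj (ψ.1 g) with hFdef
    have hF : ∀ g h : G, F (h * g * h⁻¹) = F g := by
      intro g h
      simp only [hFdef]
      rw [isClassFunction_irr θ g h, isClassFunction_irr ψ g h]
      congr 2
      apply Finset.sum_congr rfl
      intro χ _
      rw [isClassFunction_irr χ g h]
    have hreg : ∀ g : G, ¬ p ∣ orderOf g → F g = 0 := by
      intro g hg
      simp only [hFdef]
      rw [hrel θ hθ g hg, sub_self, zero_mul]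
    have h1 := sum_eq_card_sylow_mul_sumSharp hQ hC P F hF hreg
    have h2 : ∑ g : G, F g = (Nat.card G : ℂ) *
        ((∑ χ ∈ X, if χ = ψ then (s χ : ℂ) else 0) - if θ = ψ then (ε : ℂ) else 0) := by
      simp only [hFdef, sub_mul, Finset.sum_mul]
      rw [Finset.sum_sub_distrib, Finset.sum_comm]
      have h3 : ∀ χ ∈ X, ∑ g : G, (s χ : ℂ) * χ.1 g * conj (ψ.1 g) =
          (Nat.card G : ℂ) * if χ = ψ then (s χ : ℂ) else 0 := by
        intro χ _
        have := sum_mul_conj_irr χ ψ
        simp only [mul_assoc]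
        rw [← Finset.mul_sum, this]
        split_ifs <;> ring
      rw [Finset.sum_congr rfl h3, ← Finset.mul_sum]
      have h4 : ∑ g : G, (ε : ℂ) * θ.1 g * conj (ψ.1 g) =
          (Nat.card G : ℂ) * if θ = ψ then (ε : ℂ) else 0 := by
        have := sum_mul_conj_irr θ ψ
        simp only [mul_assoc]
        rw [← Finset.mul_sum, this]
        split_ifs <;> ring
      rw [h4]; ring
    have h5 : sumSharp (P : Subgroup G) F =
        sumSharp (P : Subgroup G) (fun g => ((e : ℂ) - ε * θ.1 g) * conj (ψ.1 g)) := by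
      apply sumSharp_congr
      intro g hg hg1
      simp only [hFdef]
      congr 2
      have : ∀ χ ∈ X, (s χ : ℂ) * χ.1 g = 1 := by
        intro χ hχ
        rw [hX χ hχ g hg hg1, hssq χ hχ]
      rw [Finset.sum_congr rfl this, Finset.sum_const, hXc]
      simp
    rw [h2, h5, hcardC] at h1
    have h6 := mul_left_cancel₀ hnC (by rw [← h1]; ring :
      (Nat.card (Sylow p G) : ℂ) * sumSharp (P : Subgroup G)
        (fun g => ((e : ℂ) - ε * θ.1 g) * conj (ψ.1 g)) =
      (Nat.card (Sylow p G) : ℂ) * ((p : ℂ) * e *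
        ((∑ χ ∈ X, if χ = ψ then (s χ : ℂ) else 0) - if θ = ψ then (ε : ℂ) else 0)))
    exact h6
  -- a member of X
  obtain ⟨χ0, hχ0⟩ : X.Nonempty := by
    rw [← Finset.card_pos, hXc]; exact he0
  -- sum of θ over P#
  have hsumθ : ∀ θ ∈ Y, sumSharp (P : Subgroup G) θ.1 = -(ε : ℂ) * e := by
    intro θ hθ
    have h1 := key θ hθ χ0
    have hne : θ ≠ χ0 := by
      intro h
      exact (Finset.disjoint_left.1 hXY) hχ0 (h ▸ hθ)
    rw [if_neg hne, Finset.sum_ite_eq' X χ0, if_pos hχ0, sub_zero] at h1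
    have h2 : sumSharp (P : Subgroup G) (fun g => ((e : ℂ) - ε * θ.1 g) * conj (χ0.1 g)) =
        (s χ0 : ℂ) * (((p : ℂ) - 1) * e - ε * sumSharp (P : Subgroup G) θ.1) := by
      have : sumSharp (P : Subgroup G) (fun g => ((e : ℂ) - ε * θ.1 g) * conj (χ0.1 g)) =
          sumSharp (P : Subgroup G) (fun g => (s χ0 : ℂ) * ((e : ℂ) - ε * θ.1 g)) := by
        apply sumSharp_congr
        intro g hg hg1
        rw [hX χ0 hχ0 g hg hg1, hsconj χ0 hχ0]; ring
      rw [this, sumSharp_const_mul, sumSharp_sub, sumSharp_const, sumSharp_const_mul, hQ P]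
    rw [h2] at h1
    have hs0 : (s χ0 : ℂ) ≠ 0 := by
      intro h
      have := hssq χ0 hχ0
      rw [h] at this
      simp at this
    have h3 : ((p : ℂ) - 1) * e - ε * sumSharp (P : Subgroup G) θ.1 = (p : ℂ) * e := by
      apply mul_left_cancel₀ hs0
      rw [h1]; ring
    have h4 : (ε : ℂ) * sumSharp (P : Subgroup G) θ.1 = -(e : ℂ) := by
      linear_combination -h3
    calc sumSharp (P : Subgroup G) θ.1 = ((ε : ℂ) * ε) * sumSharp (P : Subgroup G) θ.1 := by
          rw [hεsq, one_mul]
      _ = (ε : ℂ) * ((ε : ℂ) * sumSharp (P : Subgroup G) θ.1) := by ring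
      _ = -(ε : ℂ) * e := by rw [h4]; ring
  -- norm of θ on P#
  have hnormθ : ∀ θ ∈ Y, normSharp (P : Subgroup G) θ.1 = (p : ℝ) * e - (e : ℝ) * e := by
    intro θ hθ
    have h1 := key θ hθ θ
    have hθX : θ ∉ X := fun h => (Finset.disjoint_left.1 hXY) h hθ
    have h0 : (∑ χ ∈ X, if χ = θ then (s χ : ℂ) else 0) = 0 := by
      apply Finset.sum_eq_zero
      intro χ hχ
      rw [if_neg]
      intro h
      exact hθX (h ▸ hχ)
    rw [if_pos rfl, h0, zero_sub] at h1
    have h2 : sumSharp (P : Subgroup G) (fun g => ((e : ℂ) - ε * θ.1 g) * conj (θ.1 g)) =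
        (e : ℂ) * conj (sumSharp (P : Subgroup G) θ.1) -
          ε * ((normSharp (P : Subgroup G) θ.1 : ℝ) : ℂ) := by
      rw [normSharp_cast, ← sumSharp_conj_fun, ← sumSharp_const_mul, ← sumSharp_const_mul,
        ← sumSharp_sub]
      apply sumSharp_congr
      intro g _ _
      ring
    rw [h2, hsumθ θ hθ] at h1
    have hconj : conj (-(ε : ℂ) * e) = -(ε : ℂ) * e := by
      rw [map_mul, map_neg, map_intCast, map_natCast]
    rw [hconj] at h1
    have h3 : (ε : ℂ) * ((normSharp (P : Subgroup G) θ.1 : ℝ) : ℂ) =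
        (ε : ℂ) * ((p : ℂ) * e - (e : ℂ) * e) := by
      linear_combination -h1
    have hε0 : (ε : ℂ) ≠ 0 := by
      intro h
      rw [h] at hεsq
      simp at hεsq
    have h4 := mul_left_cancel₀ hε0 h3
    have h5 : ((normSharp (P : Subgroup G) θ.1 : ℝ) : ℂ) = (((p : ℝ) * e - (e : ℝ) * e : ℝ) : ℂ) := by
      rw [h4]; push_cast; ring
    exact_mod_cast h5
  -- norm of χ ∈ X on P#
  have hnormX : ∀ χ ∈ X, normSharp (P : Subgroup G) χ.1 = (p : ℝ) - 1 := by
    intro χ hχ
    have h1 : ((normSharp (P : Subgroup G) χ.1 : ℝ) : ℂ) = (((p : ℝ) - 1 : ℝ) : ℂ) := by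
      rw [normSharp_cast]
      have : sumSharp (P : Subgroup G) (fun g => χ.1 g * conj (χ.1 g)) =
          sumSharp (P : Subgroup G) (fun _ => (1 : ℂ)) := by
        apply sumSharp_congr
        intro g hg hg1
        rw [hX χ hχ g hg hg1, hsconj χ hχ, hssq χ hχ]
      rw [this, sumSharp_const, hQ P]
      push_cast; ring
    exact_mod_cast h1
  -- total
  have htot := sum_normSharp hQ hC P
  have hsplit : ∑ ψ : IrrCharacter G, normSharp (P : Subgroup G) ψ.1 =
      ∑ ψ ∈ X, normSharp (P : Subgroup G) ψ.1 + ∑ ψ ∈ Y, normSharp (P : Subgroup G) ψ.1 +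
        ∑ ψ ∈ (Finset.univ \ (X ∪ Y)), normSharp (P : Subgroup G) ψ.1 := by
    rw [← Finset.sum_union hXY, add_comm]
    exact (Finset.sum_sdiff (Finset.subset_univ (X ∪ Y))).symm
  rw [hsplit, Finset.sum_congr rfl hnormX, Finset.sum_congr rfl hnormθ, Finset.sum_const,
    Finset.sum_const, hXc, hYc] at htot
  have hteR : (t : ℝ) * e = (p : ℝ) - 1 := by
    have : ((t * e : ℕ) : ℝ) = ((p - 1 : ℕ) : ℝ) := by rw [hte]
    rw [Nat.cast_sub hp1] at this
    push_cast at this
    exact this
  have hrest : ∑ ψ ∈ (Finset.univ \ (X ∪ Y)), normSharp (P : Subgroup G) ψ.1 = 0 := by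
    simp only [nsmul_eq_mul] at htot
    have h1 : (t : ℝ) * ((p : ℝ) * e - (e : ℝ) * e) = ((p : ℝ) - 1) * ((p : ℝ) - e) := by
      rw [← hteR]; ring
    rw [h1] at htot
    linarith
  have hmem : χ ∈ Finset.univ \ (X ∪ Y) := by
    simp only [Finset.mem_sdiff, Finset.mem_univ, Finset.mem_union, true_and]
    tauto
  have hzero := (Finset.sum_eq_zero_iff_of_nonneg
    (fun ψ _ => normSharp_nonneg (P : Subgroup G) ψ.1)).1 hrest χ hmem
  exact eq_zero_of_normSharp_eq_zero (P : Subgroup G) χ.1 hzero hx hx1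

end main

end Cfsg.Agent.Lib.Helper14.BrauerSC
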