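import Mathlib
import Cfsg.Agent.S4441
import Cfsg.Agent.Lib.Helper76.BlockSq
import Cfsg.Agent.Lib.Helper79.Integrality
import Cfsg.Agent.Lib.Helper75.PQRDegree
import Cfsg.Agent.Lib.Helper14.BrauerSCB

set_option autoImplicit false
set_option linter.unusedSectionVars false

/-!
# Self-centralizing Sylow subgroups of prime order, part C: the packaged Brauer data

For an odd prime `p`, `|P| = p`, `C_G(P) = P`, `e = |N_G(P) : C_G(P)|`: the irreducible characters of
degree prime to `p` are exactly `e + (p-1)/e` characters `X ∪ Y` (the principal block), with signs,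
congruences and the degree equation `ε θ(1) = Σ_{χ ∈ X} s χ χ(1)`.
-/

namespace Cfsg.Agent.Lib.Helper14.BrauerSC

open Cfsg Subgroup Cfsg.Agent.Lib.Helper17 Cfsg.Agent.Lib.Helper78
open scoped ComplexConjugate

universe u

variable {G : Type u} [Group G] [Fintype G] {p : ℕ} [hp : Fact p.Prime]

/-- A character vanishing on the non-identity elements of the Sylow `p`-subgroups (of order `p`,
self-centralizing) has degree divisible by `p`. -/
theorem dvd_charDegree_of_vanish (hQ : ∀ Q : Sylow p G, Nat.card (Q : Subgroup G) = p)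
    (hC : ∀ Q : Sylow p G, Nat.card (centralizer ((Q : Subgroup G) : Set G)) = p)
    (χ : IrrCharacter G)
    (hv : ∀ Q : Sylow p G, ∀ x : G, x ∈ (Q : Subgroup G) → x ≠ 1 → χ.1 x = 0) :
    p ∣ charDegree χ.1 := by
  classical
  obtain ⟨n, hn⟩ := Cfsg.Agent.Lib.Helper76.int_comb_degree_dvd_of_vanish p
    (fun ψ : IrrCharacter G => if ψ = χ then (1 : ℤ) else 0) (by
      intro y hy
      obtain ⟨Q, hyQ⟩ := exists_sylow_mem_of_dvd_orderOf hQ hC hy
      have hy1 : y ≠ 1 := by
        intro h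
        rw [h, orderOf_one] at hy
        exact hp.out.one_lt.ne' (Nat.dvd_one.1 hy)
      rw [Finset.sum_eq_single χ]
      · rw [if_pos rfl, hv Q y hyQ hy1]; simp
      · intro ψ _ hψ
        rw [if_neg hψ]; simp
      · intro h; exact absurd (Finset.mem_univ χ) h)
  rw [Finset.sum_eq_single χ (by intro ψ _ hψ; rw [if_neg hψ, zero_mul])
    (by intro h; exact absurd (Finset.mem_univ χ) h), if_pos rfl, one_mul] at hn
  have hfac : (Nat.card G).factorization p = 1 := by
    have h1 := Sylow.card_eq_multiplicity (default : Sylow p G)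
    rw [hQ] at h1
    have : p ^ 1 = p ^ (Nat.card G).factorization p := by rw [pow_one]; exact h1
    exact (Nat.pow_right_injective hp.out.two_le this).symm
  rw [hfac, pow_one] at hn
  have : (p : ℤ) ∣ (charDegree χ.1 : ℤ) := ⟨n, by rw [hn]; ring⟩
  exact_mod_cast this

/-- **Brauer's theorem for a self-centralizing Sylow subgroup of prime order**, packaged with
finsets and degrees. -/
theorem brauer_package (hodd : p ≠ 2) (P : Sylow p G) (hP : Nat.card (P : Subgroup G) = p)
    (hC : ∀ Q : Sylow p G, Nat.card (centralizer ((Q : Subgroup G) : Set G)) = p) (e : ℕ)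
    (he : (centralizer ((P : Subgroup G) : Set G)).relIndex
      (normalizer ((P : Subgroup G) : Set G)) = e) :
    ∃ (X Y : Finset (IrrCharacter G)) (s : IrrCharacter G → ℤ) (ε : ℤ),
      Disjoint X Y ∧ X.card = e ∧ Y.card = (p - 1) / e ∧ e ∣ p - 1 ∧
      (∀ χ : IrrCharacter G, ¬ p ∣ charDegree χ.1 ↔ χ ∈ X ∨ χ ∈ Y) ∧
      (∀ χ ∈ X, (s χ = 1 ∨ s χ = -1) ∧ (charDegree χ.1 : ℤ) ≡ s χ [ZMOD p]) ∧
      (∀ χ ∈ X, χ.1 = (fun _ => (1 : ℂ)) → s χ = 1) ∧
      (ε = 1 ∨ ε = -1) ∧ (∀ θ ∈ Y, (charDegree θ.1 : ℤ) ≡ ε * (e : ℤ) [ZMOD p]) ∧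
      (∀ θ ∈ Y, ∀ θ' ∈ Y, charDegree θ.1 = charDegree θ'.1) ∧
      (∀ θ ∈ Y, ε * (charDegree θ.1 : ℤ) = ∑ χ ∈ X, s χ * (charDegree χ.1 : ℤ)) := by
  classical
  have hQ : ∀ Q : Sylow p G, Nat.card (Q : Subgroup G) = p := by
    intro Q; rw [card_sylow_sub_eq P Q, hP]
  obtain ⟨M, hM⟩ := Cfsg.Agent.Lib.Helper75.exists_isPModular p hp.out
  obtain ⟨X, Y, hB, hdisj, hXc, hYc, εX, ε, hXprop, hε, hYdeg, hYeq, hrel⟩ :=
    Cfsg.Agent.S4441.result p M hM hodd P hP e he
  have hedvd : e ∣ p - 1 := by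
    rw [← he]; exact relIndex_cent_norm_dvd_pred_of_card_prime P hP
  have hp2 : 2 ≤ p := hp.out.two_le
  have he0 : 0 < e := by
    rcases Nat.eq_zero_or_pos e with h | h
    · rw [h] at hedvd
      have := Nat.eq_zero_of_zero_dvd hedvd
      omega
    · exact h
  have hele : e ≤ p - 1 := Nat.le_of_dvd (by omega) hedvd
  have hte : (p - 1) / e * e = p - 1 := Nat.div_mul_cancel hedvd
  have hcard : Nat.card (Sylow p G) * (p * e) = Nat.card G := by
    have h1 := card_sylow_mul_card_normalizer P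
    have h2 := card_mul_relIndex_of_le
      (Subgroup.centralizer_le_normalizer (s := ((P : Subgroup G) : Set G)))
    rw [hC P, he] at h2
    rw [h2]; exact h1
  have hXF : X.toFinset.card = e := by
    rw [Set.toFinset_card, ← Nat.card_eq_fintype_card, hXc]
  have hYF : Y.toFinset.card = (p - 1) / e := by
    rw [Set.toFinset_card, ← Nat.card_eq_fintype_card, hYc]
  have hdisjF : Disjoint X.toFinset Y.toFinset := Set.disjoint_toFinset.2 hdisj
  have hXval : ∀ χ ∈ X.toFinset, ∀ x : G, x ∈ (P : Subgroup G) → x ≠ 1 →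
      χ.1 x = (εX χ : ℂ) := by
    intro χ hχ x hx hx1
    have := (hXprop χ (Set.mem_toFinset.1 hχ)).2.2 x hx hx1 1 (Subgroup.one_mem _)
      (by rw [orderOf_one]; intro h; exact hp.out.one_lt.ne' (Nat.dvd_one.1 h))
    rwa [mul_one] at this
  have hrelF : ∀ θ ∈ Y.toFinset, ∀ g : G, ¬ p ∣ orderOf g →
      (ε : ℂ) * θ.1 g = ∑ χ ∈ X.toFinset, (εX χ : ℂ) * χ.1 g := by
    intro θ hθ g hg
    rw [hrel θ (Set.mem_toFinset.1 hθ) g hg, finsum_mem_eq_toFinset_sum]
  have hvan := vanish_of_brauer_data hQ hC P e ((p - 1) / e) hcard hte X.toFinset Y.toFinset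
    hdisjF hXF hYF εX (fun χ hχ => (hXprop χ (Set.mem_toFinset.1 hχ)).1) hXval ε hε hrelF
  have hone : ¬ p ∣ orderOf (1 : G) := by
    rw [orderOf_one]; intro h; exact hp.out.one_lt.ne' (Nat.dvd_one.1 h)
  refine ⟨X.toFinset, Y.toFinset, εX, ε, hdisjF, hXF, hYF, hedvd, ?_, ?_, ?_, hε, ?_, ?_, ?_⟩
  · intro χ
    constructor
    · intro hnd
      by_contra hcon
      push Not at hcon
      apply hnd
      apply dvd_charDegree_of_vanish hQ hC χ
      intro Q x hxQ hx1
      obtain ⟨a, ha⟩ := MulAction.exists_smul_eq G Q P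
      have hmem : a * x * a⁻¹ ∈ (P : Subgroup G) := by
        rw [← ha, Sylow.coe_subgroup_smul, Subgroup.mem_pointwise_smul_iff_inv_smul_mem]
        simpa [MulAut.smul_def, mul_assoc] using hxQ
      have hne : a * x * a⁻¹ ≠ 1 := by
        intro h
        apply hx1
        have : x = a⁻¹ * (a * x * a⁻¹) * a := by group
        rw [this, h]; group
      have := hvan χ hcon.1 hcon.2 (a * x * a⁻¹) hmem hne
      rwa [isClassFunction_irr χ x a] at this
    · rintro (hχ | hχ) hdvd
      · obtain ⟨hs, hmod⟩ := (hXprop χ (Set.mem_toFinset.1 hχ)).1,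
          (hXprop χ (Set.mem_toFinset.1 hχ)).2.1
        have h0 : (charDegree χ.1 : ℤ) ≡ 0 [ZMOD p] := by
          have : (p : ℤ) ∣ (charDegree χ.1 : ℤ) := by exact_mod_cast hdvd
          exact (Int.modEq_zero_iff_dvd).2 this
        have h1 : (εX χ : ℤ) ≡ 0 [ZMOD p] := hmod.symm.trans h0
        have h2 : (p : ℤ) ∣ εX χ := (Int.modEq_zero_iff_dvd).1 h1
        rcases hs with h | h <;> rw [h] at h2
        · have := Int.le_of_dvd (by norm_num) h2
          have : (2 : ℤ) ≤ p := by exact_mod_cast hp2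
          omega
        · have h3 : (p : ℤ) ∣ 1 := by
            have := (dvd_neg (a := (p : ℤ)) (b := (1 : ℤ))).1 h2
            exact this
          have := Int.le_of_dvd (by norm_num) h3
          have : (2 : ℤ) ≤ p := by exact_mod_cast hp2
          omega
      · have hmod := hYdeg χ (Set.mem_toFinset.1 hχ)
        have h0 : (charDegree χ.1 : ℤ) ≡ 0 [ZMOD p] := by
          have : (p : ℤ) ∣ (charDegree χ.1 : ℤ) := by exact_mod_cast hdvd
          exact (Int.modEq_zero_iff_dvd).2 this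
        have h1 : ε * (e : ℤ) ≡ 0 [ZMOD p] := hmod.symm.trans h0
        have h2 : (p : ℤ) ∣ ε * (e : ℤ) := (Int.modEq_zero_iff_dvd).1 h1
        have h3 : (p : ℤ) ∣ (e : ℤ) := by
          rcases hε with h | h <;> rw [h] at h2
          · simpa using h2
          · have : (p : ℤ) ∣ -(e : ℤ) := by simpa using h2
            exact (dvd_neg (a := (p : ℤ)) (b := (e : ℤ))).1 this
        have h4 : p ∣ e := by exact_mod_cast h3
        have := Nat.le_of_dvd he0 h4
        omega
  · intro χ hχ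
    exact ⟨(hXprop χ (Set.mem_toFinset.1 hχ)).1, (hXprop χ (Set.mem_toFinset.1 hχ)).2.1⟩
  · intro χ hχ htriv
    -- a non-identity element of `P`
    have hPnt : ∃ x : G, x ∈ (P : Subgroup G) ∧ x ≠ 1 := by
      by_contra hcon
      push Not at hcon
      have hbot : (P : Subgroup G) = ⊥ := by
        rw [Subgroup.eq_bot_iff_forall]
        exact hcon
      rw [hbot, Subgroup.card_bot] at hP
      omega
    obtain ⟨x, hx, hx1⟩ := hPnt
    have h1 := hXval χ hχ x hx hx1
    rw [htriv] at h1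
    have : ((εX χ : ℤ) : ℂ) = ((1 : ℤ) : ℂ) := by rw [← h1]; simp
    exact_mod_cast this
  · intro θ hθ
    exact hYdeg θ (Set.mem_toFinset.1 hθ)
  · intro θ hθ θ' hθ'
    have := hYeq θ (Set.mem_toFinset.1 hθ) θ' (Set.mem_toFinset.1 hθ') 1 hone
    unfold charDegree
    rw [this]
  · intro θ hθ
    have h1 := hrelF θ hθ 1 hone
    rw [Cfsg.Agent.Lib.Helper79.irr_apply_one_eq_charDegree θ] at h1
    have h2 : ∑ χ ∈ X.toFinset, (εX χ : ℂ) * χ.1 1 =
        ((∑ χ ∈ X.toFinset, εX χ * (charDegree χ.1 : ℤ) : ℤ) : ℂ) := by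
      push_cast
      apply Finset.sum_congr rfl
      intro χ _
      rw [Cfsg.Agent.Lib.Helper79.irr_apply_one_eq_charDegree χ]
    rw [h2] at h1
    exact_mod_cast h1

end Cfsg.Agent.Lib.Helper14.BrauerSC
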