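import Mathlib
import Cfsg.Agent.Lib.Helper14.BrauerSCC
import Cfsg.Agent.Lib.Helper77.Linear
import Cfsg.Agent.Lib.Helper78.CharMore
import Cfsg.Agent.Lib.Helper17.PrimeSylow
import Cfsg.Agent.Lib.Helper17.SylowCard

set_option autoImplicit false
set_option linter.unusedSectionVars false

/-!
# Killing simple groups of a given order with Brauer's theorem on blocks of prime defect

`G` simple, `|G| = p * m`, `p ∤ m`, `p` odd, `C_G(P) = P`, `e = |N_G(P) : P|`, `2 e ≤ p - 1`.
Then the principal `p`-block gives: a list of `e - 1` signed degrees `(s, d)` (`d ∣ m`, `d ≠ 1`,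
`d ≡ s (mod p)`), a sign `ε` and an exceptional degree `t` (`t ∣ m`, `t ≡ ε e (mod p)`) with
`ε t = 1 + Σ s d` and `1 + Σ d² + ((p-1)/e) t² ≤ |G|`.
-/

namespace Cfsg.Agent.Lib.Helper14.BrauerKill

open Cfsg Subgroup Cfsg.Agent.Lib.Helper17 Cfsg.Agent.Lib.Helper78
  Cfsg.Agent.Lib.Helper14.BrauerSC

universe u

variable {G : Type u} [Group G] [Finite G] [IsSimpleGroup G]

theorem commutator_eq_top (hG : ¬ IsMulCommutative G) : _root_.commutator G = ⊤ := by
  rw [_root_.commutator_def]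
  rcases (Subgroup.commutator_normal (⊤ : Subgroup G) ⊤).eq_bot_or_eq_top with h | h
  · exfalso
    apply hG
    refine ⟨⟨fun a b => ?_⟩⟩
    have hab : a * b * a⁻¹ * b⁻¹ ∈ ⁅(⊤ : Subgroup G), ⊤⁆ :=
      Subgroup.commutator_mem_commutator (Subgroup.mem_top a) (Subgroup.mem_top b)
    rw [h, Subgroup.mem_bot] at hab
    calc a * b = (a * b * a⁻¹ * b⁻¹) * (b * a) := by group
      _ = b * a := by rw [hab, one_mul]
  · exact h

/-- The trivial character. -/
noncomputable def triv : IrrCharacter G := ⟨fun _ => (1 : ℂ), isIrrCharacter_one⟩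

theorem charDegree_triv : charDegree ((triv : IrrCharacter G) : G → ℂ) = 1 := by
  simp [charDegree, triv]

/-- In a non-commutative simple group the only character of degree one is the trivial one. -/
theorem eq_triv_of_charDegree_eq_one (hG : ¬ IsMulCommutative G) (χ : IrrCharacter G)
    (h : charDegree χ.1 = 1) : χ = triv := by
  have h1 := Cfsg.Agent.Lib.Helper77.card_linear_characters (G := G)
  rw [commutator_eq_top hG, Subgroup.index_top] at h1
  have hsub : Subsingleton {χ : IrrCharacter G // (χ : G → ℂ) 1 = 1} :=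
    (Nat.card_eq_one_iff_unique.1 h1).1
  have hχ : (χ : G → ℂ) 1 = 1 := by
    rw [Cfsg.Agent.Lib.Helper79.irr_apply_one_eq_charDegree χ, h]; simp
  have ht : ((triv : IrrCharacter G) : G → ℂ) 1 = 1 := rfl
  have := Subsingleton.elim (⟨χ, hχ⟩ : {χ : IrrCharacter G // (χ : G → ℂ) 1 = 1}) ⟨triv, ht⟩
  exact congrArg Subtype.val this

theorem not_comm_of_card {p m : ℕ} [hp : Fact p.Prime] (hG : Nat.card G = p * m) (hm1 : m ≠ 1) :
    ¬ IsMulCommutative G := by
  apply not_comm_of_simple_of_not_prime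
  rw [hG]
  intro h
  rcases (Nat.dvd_prime h).1 (Dvd.intro _ rfl) with h1 | h1
  · exact hp.out.one_lt.ne' h1
  · have hpos : 0 < p := hp.out.pos
    have : p * 1 = p * m := by rw [mul_one]; exact h1
    exact hm1 (Nat.eq_of_mul_eq_mul_left hpos this).symm

/-- Numerical set-up: if `|G| = p m`, the only possible number `≠ 1` of Sylow `p`-subgroups is
`m / e` with `e` prime, then `|P| = p`, `C_G(P) = P` and `|N_G(P) : C_G(P)| = e`. -/
theorem selfcent_data {p : ℕ} [hp : Fact p.Prime] {m e : ℕ} (hG : Nat.card G = p * m)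
    (hm : ¬ p ∣ m) (hm1 : m ≠ 1) (he : e.Prime)
    (hnp : ∀ n, n ∣ m → n % p = 1 → n ≠ 1 → n * e = m) (Q : Sylow p G) :
    Nat.card (Q : Subgroup G) = p ∧ Nat.card (centralizer ((Q : Subgroup G) : Set G)) = p ∧
      (centralizer ((Q : Subgroup G) : Set G)).relIndex
        (normalizer ((Q : Subgroup G) : Set G)) = e := by
  have hG' : Nat.card G = p ^ 1 * m := by rw [pow_one]; exact hG
  have hnc := not_comm_of_card hG hm1
  have hQ : Nat.card (Q : Subgroup G) = p := by
    have := sylow_card_of_card_eq Q hG' hm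
    rwa [pow_one] at this
  have h1 : Nat.card (Sylow p G) ∣ m := card_sylow_dvd_of_card_eq hG' hm
  have h2 : Nat.card (Sylow p G) ≡ 1 [MOD p] := card_sylow_modEq_one p G
  have h3 : Nat.card (Sylow p G) ≠ 1 :=
    card_sylow_ne_one_of_simple hG' hm Nat.one_pos hm1
  have h2' : Nat.card (Sylow p G) % p = 1 := by
    have := h2
    unfold Nat.ModEq at this
    rw [this, Nat.mod_eq_of_lt hp.out.one_lt]
  have h4 := hnp _ h1 h2' h3
  have hpos : 0 < Nat.card (Sylow p G) := Nat.card_pos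
  have hN : Nat.card (normalizer ((Q : Subgroup G) : Set G)) = p * e := by
    have h5 := card_sylow_mul_card_normalizer Q
    rw [hG, ← h4] at h5
    have : Nat.card (Sylow p G) * Nat.card (normalizer ((Q : Subgroup G) : Set G)) =
        Nat.card (Sylow p G) * (p * e) := by rw [h5]; ring
    exact Nat.eq_of_mul_eq_mul_left hpos this
  have hr2 := mul_relIndex_cent_norm_dvd_of_card_prime Q hQ
  have hr0 := relIndex_cent_norm_ne_one_of_simple hnc Q (by rw [hG]; exact Dvd.intro _ rfl)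
  have hr3 := card_mul_relIndex_of_le
    (Subgroup.centralizer_le_normalizer (s := ((Q : Subgroup G) : Set G)))
  rw [hN] at hr2 hr3
  have hr4 : (centralizer ((Q : Subgroup G) : Set G)).relIndex
      (normalizer ((Q : Subgroup G) : Set G)) ∣ e :=
    Nat.dvd_of_mul_dvd_mul_left hp.out.pos hr2
  rcases (Nat.dvd_prime he).1 hr4 with h | h
  · exact absurd h hr0
  · refine ⟨hQ, ?_, h⟩
    rw [h] at hr3
    exact Nat.eq_of_mul_eq_mul_right he.pos hr3

/-- **The degree list.** -/
theorem exists_degree_list {p : ℕ} [hp : Fact p.Prime] (hodd : p ≠ 2) {m e : ℕ}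
    (hG : Nat.card G = p * m) (hm : ¬ p ∣ m) (hm1 : m ≠ 1)
    (hC : ∀ Q : Sylow p G, Nat.card (centralizer ((Q : Subgroup G) : Set G)) = p)
    (P : Sylow p G)
    (he : (centralizer ((P : Subgroup G) : Set G)).relIndex
      (normalizer ((P : Subgroup G) : Set G)) = e) (h2e : 2 * e ≤ p - 1) :
    ∃ (l : List (ℤ × ℕ)) (ε : ℤ) (t : ℕ), l.length + 1 = e ∧
      (∀ x ∈ l, (x.1 = 1 ∨ x.1 = -1) ∧ x.2 ∣ m ∧ x.2 ≠ 1 ∧ (x.2 : ℤ) ≡ x.1 [ZMOD p]) ∧
      (ε = 1 ∨ ε = -1) ∧ t ∣ m ∧ (t : ℤ) ≡ ε * (e : ℤ) [ZMOD p] ∧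
      ε * (t : ℤ) = 1 + (l.map (fun x => x.1 * (x.2 : ℤ))).sum ∧
      1 + (l.map (fun x => x.2 ^ 2)).sum + (p - 1) / e * t ^ 2 ≤ p * m := by
  classical
  have : Fintype G := Fintype.ofFinite G
  have hnc := not_comm_of_card hG hm1
  have hG' : Nat.card G = p ^ 1 * m := by rw [pow_one]; exact hG
  have hP : Nat.card (P : Subgroup G) = p := by
    have := sylow_card_of_card_eq P hG' hm
    rwa [pow_one] at this
  obtain ⟨X, Y, s, ε, hXY, hXc, hYc, hedvd, hmem, hXprop, hXtriv, hε, hYdeg, hYeq, hdeg⟩ :=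
    brauer_package (G := G) (p := p) hodd P hP hC e he
  have he0 : 0 < e := by
    rcases Nat.eq_zero_or_pos e with h | h
    · rw [h] at hedvd
      have := Nat.eq_zero_of_zero_dvd hedvd
      have := hp.out.two_le
      omega
    · exact h
  have hY2 : 2 ≤ Y.card := by
    rw [hYc]
    exact (Nat.le_div_iff_mul_le he0).2 h2e
  -- degrees prime to p divide m
  have hdvdm : ∀ χ : IrrCharacter G, ¬ p ∣ charDegree χ.1 → charDegree χ.1 ∣ m := by
    intro χ hχ
    have h1 : charDegree χ.1 ∣ p * m := by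
      rw [← hG]; exact Cfsg.Agent.Lib.Helper79.irr_charDegree_dvd_card χ
    exact (Nat.Coprime.dvd_mul_left
      ((Nat.Prime.coprime_iff_not_dvd hp.out).2 hχ).symm).1 h1
  -- the trivial character is in X
  have htX : (triv : IrrCharacter G) ∈ X := by
    have h1 : ¬ p ∣ charDegree ((triv : IrrCharacter G) : G → ℂ) := by
      rw [charDegree_triv]; intro h; exact hp.out.one_lt.ne' (Nat.dvd_one.1 h)
    rcases (hmem triv).1 h1 with h | h
    · exact h
    · exfalso
      have hall : ∀ θ ∈ Y, θ = triv := by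
        intro θ hθ
        apply eq_triv_of_charDegree_eq_one hnc
        rw [hYeq θ hθ triv h, charDegree_triv]
      have : Y.card ≤ 1 := Finset.card_le_one.2 (fun a ha b hb => by rw [hall a ha, hall b hb])
      omega
  have hst : s triv = 1 := hXtriv triv htX rfl
  obtain ⟨θ, hθ⟩ : Y.Nonempty := by rw [← Finset.card_pos]; omega
  refine ⟨(X.erase triv).toList.map (fun χ => (s χ, charDegree χ.1)), ε, charDegree θ.1, ?_, ?_, hε, ?_,
    hYdeg θ hθ, ?_, ?_⟩
  · rw [List.length_map, Finset.length_toList, Finset.card_erase_of_mem htX, hXc]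
    omega
  · intro x hx
    rw [List.mem_map] at hx
    obtain ⟨χ, hχ, rfl⟩ := hx
    rw [Finset.mem_toList, Finset.mem_erase] at hχ
    obtain ⟨hs, hmod⟩ := hXprop χ hχ.2
    refine ⟨hs, ?_, ?_, hmod⟩
    · exact hdvdm χ ((hmem χ).2 (Or.inl hχ.2))
    · intro h1
      exact hχ.1 (eq_triv_of_charDegree_eq_one hnc χ h1)
  · exact hdvdm θ ((hmem θ).2 (Or.inr hθ))
  · rw [hdeg θ hθ, List.map_map, ← Finset.add_sum_erase X _ htX, hst, charDegree_triv]
    have : ((X.erase triv).toList.map ((fun x : ℤ × ℕ => x.1 * (x.2 : ℤ)) ∘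
        fun χ : IrrCharacter G => (s χ, charDegree χ.1))).sum =
        ∑ χ ∈ (X.erase triv), s χ * (charDegree χ.1 : ℤ) := by
      rw [Finset.sum_map_toList]; rfl
    rw [this]; simp
  · have hsq : ∑ χ : IrrCharacter G, charDegree χ.1 ^ 2 = p * m := by
      rw [← hG]; exact Cfsg.Agent.Lib.Helper78.sum_irr_charDegree_sq
    rw [← hsq, List.map_map]
    have h1 : ((X.erase triv).toList.map ((fun x : ℤ × ℕ => x.2 ^ 2) ∘
        fun χ : IrrCharacter G => (s χ, charDegree χ.1))).sum =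
        ∑ χ ∈ (X.erase triv), charDegree χ.1 ^ 2 := by
      rw [Finset.sum_map_toList]; rfl
    rw [h1]
    have h2 : ∑ χ ∈ X, charDegree χ.1 ^ 2 = 1 + ∑ χ ∈ (X.erase triv), charDegree χ.1 ^ 2 := by
      rw [← Finset.add_sum_erase X _ htX, charDegree_triv]; simp
    have h3 : ∑ χ ∈ Y, charDegree χ.1 ^ 2 = (p - 1) / e * charDegree θ.1 ^ 2 := by
      rw [Finset.sum_congr rfl (fun χ hχ => by rw [hYeq χ hχ θ hθ]), Finset.sum_const, hYc,
        smul_eq_mul]
    rw [← h2, ← h3, ← Finset.sum_union hXY]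
    exact Finset.sum_le_sum_of_subset (Finset.subset_univ _)

end Cfsg.Agent.Lib.Helper14.BrauerKill
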