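/-
helper14: project CLBN (helper42), module [SYL]: the structure of the Borel subgroup of `GL_n`.
Exact stub statements, in namespace `Cfsg.Agent.Lib.Helper42.ClBN`; auxiliary lemmas in
`Cfsg.Agent.Lib.Helper14.ClBN`.
-/
import Mathlib
import Cfsg.Agent.Lib.Helper42.ClBN.Defs

set_option autoImplicit false

namespace Cfsg.Agent.Lib.Helper14.ClBN

open Matrix Cfsg.Agent.Lib.Helper42.ClBN
open scoped MatrixGroups

universe u

variable {n : ℕ} {F : Type u} [Field F]

/-- `M i j = 0` unless `i + k ≤ j`. -/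
def Shift (k : ℕ) (M : Matrix (Fin n) (Fin n) F) : Prop := ∀ i j : Fin n, j.val < i.val + k → M i j = 0

theorem Shift.mul {a b : ℕ} {M N : Matrix (Fin n) (Fin n) F} (hM : Shift a M) (hN : Shift b N) :
    Shift (a + b) (M * N) := by
  intro i j hij
  rw [Matrix.mul_apply]
  apply Finset.sum_eq_zero
  intro l _
  by_cases h1 : l.val < i.val + a
  · rw [hM i l h1, zero_mul]
  · rw [hN l j (by omega), mul_zero]

theorem shift_one : Shift 0 (1 : Matrix (Fin n) (Fin n) F) := by
  intro i j hij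
  rw [Matrix.one_apply_ne]
  intro h
  rw [h] at hij
  omega

theorem Shift.pow {M : Matrix (Fin n) (Fin n) F} (hM : Shift 1 M) (k : ℕ) : Shift k (M ^ k) := by
  induction k with
  | zero => rw [pow_zero]; exact shift_one
  | succ k ih => rw [pow_succ]; exact ih.mul hM

theorem Shift.eq_zero {M : Matrix (Fin n) (Fin n) F} (hM : Shift n M) : M = 0 := by
  ext i j
  exact hM i j (by have := j.isLt; omega)

theorem shift_sub_one {u : GL (Fin n) F} (hu : u ∈ Uni n F) :
    Shift 1 ((u : Matrix (Fin n) (Fin n) F) - 1) := by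
  intro i j hij
  rw [Matrix.sub_apply]
  rcases Nat.lt_or_ge j.val i.val with h | h
  · rw [(mem_Uni.mp hu).1 i j (Fin.lt_def.mpr h), Matrix.one_apply_ne (by intro e; rw [e] at h; omega), sub_zero]
  · have hji : i = j := Fin.ext (by omega)
    rw [hji, (mem_Uni.mp hu).2 j, Matrix.one_apply_eq, sub_self]

/-- diagonal entries of powers of an upper triangular matrix. -/
theorem diag_pow_upper {a : Matrix (Fin n) (Fin n) F} (ha : a.BlockTriangular id) (k : ℕ) (i : Fin n) :
    (a ^ k) i i = (a i i) ^ k := by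
  induction k with
  | zero => simp
  | succ k ih =>
    have hk : (a ^ k).BlockTriangular id := by
      clear ih
      induction k with
      | zero => rw [pow_zero]; exact Matrix.blockTriangular_one
      | succ k ih => rw [pow_succ]; exact ih.mul ha
    rw [pow_succ, diag_mul_upper hk ha, ih, pow_succ]

theorem eq_one_of_diag {g : GL (Fin n) F} (h1 : ∀ i j : Fin n, i ≠ j → (g : Matrix (Fin n) (Fin n) F) i j = 0)
    (h2 : ∀ i, (g : Matrix (Fin n) (Fin n) F) i i = 1) : g = 1 := by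
  apply Units.ext
  ext i j
  by_cases hij : i = j
  · rw [hij, h2, Units.val_one, Matrix.one_apply_eq]
  · rw [h1 i j hij, Units.val_one, Matrix.one_apply_ne hij]

theorem diag_ne_zero {b : GL (Fin n) F} (hb : b ∈ Bor n F) (i : Fin n) :
    (b : Matrix (Fin n) (Fin n) F) i i ≠ 0 := by
  intro h0
  have h1 : ((b * b⁻¹ : GL (Fin n) F) : Matrix (Fin n) (Fin n) F) i i = 1 := by simp
  rw [Units.val_mul, diag_mul_upper hb ((Bor n F).inv_mem hb), h0, zero_mul] at h1
  exact zero_ne_one h1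

end Cfsg.Agent.Lib.Helper14.ClBN

namespace Cfsg.Agent.Lib.Helper42.ClBN

open Matrix Cfsg.Agent.Lib.Helper14.ClBN
open scoped MatrixGroups

universe u

variable {n : ℕ} {F : Type u} [Field F]

theorem isPGroup_Uni [Fintype F] (p : ℕ) [Fact p.Prime] [CharP F p] : IsPGroup p (Uni n F) := by
  rintro ⟨u, hu⟩
  refine ⟨n, ?_⟩
  apply Subtype.ext
  apply Units.ext
  show ((u ^ p ^ n : GL (Fin n) F) : Matrix (Fin n) (Fin n) F) = 1
  rw [Units.val_pow_eq_pow_val]
  have hM := shift_sub_one hu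
  set M : Matrix (Fin n) (Fin n) F := (u : Matrix (Fin n) (Fin n) F) - 1 with hMdef
  have hu' : (u : Matrix (Fin n) (Fin n) F) = M + 1 := by rw [hMdef]; abel
  rw [hu']
  by_cases hn : n = 0
  · subst hn
    ext i j
    exact i.elim0
  have : Nonempty (Fin n) := ⟨⟨0, Nat.pos_of_ne_zero hn⟩⟩
  have : CharP (Matrix (Fin n) (Fin n) F) p := inferInstance
  rw [add_pow_char_pow_of_commute p n (Commute.one_right M), one_pow]
  have hle : n ≤ p ^ n := (Nat.lt_pow_self (Fact.out : p.Prime).one_lt).le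
  have h0 : M ^ p ^ n = 0 := by
    have h1 : M ^ n = 0 := (hM.pow n).eq_zero
    obtain ⟨d, hd⟩ := Nat.exists_eq_add_of_le hle
    rw [hd, pow_add, h1, zero_mul]
  rw [h0, zero_add]

theorem not_dvd_card_Tor [Fintype F] (p : ℕ) [Fact p.Prime] [CharP F p] (H : Subgroup (GL (Fin n) F))
    (hH : H ≤ Tor n F) : ¬ p ∣ Nat.card H := by
  intro hdvd
  have : Finite (GL (Fin n) F) := inferInstance
  obtain ⟨⟨h, hhH⟩, hord⟩ := exists_prime_orderOf_dvd_card' p hdvd
  have hT := hH hhH
  have hpow : h ^ p = 1 := by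
    have := pow_orderOf_eq_one (⟨h, hhH⟩ : H)
    rw [hord] at this
    exact congrArg Subtype.val this
  have h1 : h = 1 := by
    apply eq_one_of_diag (mem_Tor.mp hT)
    intro i
    have h2 : ((h ^ p : GL (Fin n) F) : Matrix (Fin n) (Fin n) F) i i = 1 := by rw [hpow]; simp
    rw [Units.val_pow_eq_pow_val, diag_pow_upper (Tor_le_Bor hT)] at h2
    have h3 : ((h : Matrix (Fin n) (Fin n) F) i i - 1) ^ p = 0 := by
      rw [sub_pow_char, h2, one_pow, sub_self]
    exact sub_eq_zero.mp (pow_eq_zero_iff (Fact.out : p.Prime).ne_zero |>.mp h3)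
  have : orderOf (⟨h, hhH⟩ : H) = 1 := by
    rw [orderOf_eq_one_iff]
    exact Subtype.ext h1
  rw [hord] at this
  exact (Fact.out : p.Prime).one_lt.ne' this

theorem Uni_normal_Bor {b u : GL (Fin n) F} (hb : b ∈ Bor n F) (hu : u ∈ Uni n F) : b * u * b⁻¹ ∈ Uni n F := by
  have hbi : b⁻¹ ∈ Bor n F := (Bor n F).inv_mem hb
  have hbu : b * u ∈ Bor n F := (Bor n F).mul_mem hb hu.1
  refine ⟨(Bor n F).mul_mem hbu hbi, fun i => ?_⟩
  rw [Units.val_mul, diag_mul_upper hbu hbi, Units.val_mul, diag_mul_upper hb hu.1, hu.2, mul_one]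
  have h1 : ((b * b⁻¹ : GL (Fin n) F) : Matrix (Fin n) (Fin n) F) i i = 1 := by simp
  rw [Units.val_mul, diag_mul_upper hb hbi] at h1
  exact h1

theorem Uni_inf_Tor : Uni n F ⊓ Tor n F = ⊥ := by
  rw [eq_bot_iff]
  rintro g ⟨hu, ht⟩
  rw [Subgroup.mem_bot]
  exact eq_one_of_diag (mem_Tor.mp ht) hu.2

theorem Bor_eq_Uni_mul_Tor {b : GL (Fin n) F} (hb : b ∈ Bor n F) : ∃ u ∈ Uni n F, ∃ t ∈ Tor n F, b = u * t := by
  classical
  let d : Fin n → F := fun i => (b : Matrix (Fin n) (Fin n) F) i i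
  have hd : (Matrix.diagonal d).det ≠ 0 := by
    rw [Matrix.det_diagonal, Finset.prod_ne_zero_iff]
    intro i _
    exact diag_ne_zero hb i
  let t : GL (Fin n) F := Matrix.GeneralLinearGroup.mkOfDetNeZero (Matrix.diagonal d) hd
  have htv : (t : Matrix (Fin n) (Fin n) F) = Matrix.diagonal d := rfl
  have ht : t ∈ Tor n F := by
    rw [mem_Tor]
    intro i j hij
    rw [htv, Matrix.diagonal_apply_ne _ hij]
  have hti : t⁻¹ ∈ Bor n F := (Bor n F).inv_mem (Tor_le_Bor ht)
  refine ⟨b * t⁻¹, ⟨(Bor n F).mul_mem hb hti, fun i => ?_⟩, t, ht, by group⟩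
  rw [Units.val_mul, diag_mul_upper hb hti]
  have h1 : ((t * t⁻¹ : GL (Fin n) F) : Matrix (Fin n) (Fin n) F) i i = 1 := by simp
  rw [Units.val_mul, diag_mul_upper (Tor_le_Bor ht) hti, htv, Matrix.diagonal_apply_eq] at h1
  exact h1

end Cfsg.Agent.Lib.Helper42.ClBN
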