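/-
helper14: project CLBN (helper42), module [WEYL]: the centraliser of the order reversal in
`Perm (Fin n)` is generated by `revGens n`; words for the generators.
Exact stub statements in namespace `Cfsg.Agent.Lib.Helper42.ClBN`; auxiliary lemmas in
`Cfsg.Agent.Lib.Helper14.ClBN.Weyl`.
-/
import Mathlib
import Cfsg.Agent.Lib.Helper42.ClBN.Defs

set_option autoImplicit false

namespace Cfsg.Agent.Lib.Helper14.ClBN.Weyl

open Cfsg.Agent.Lib.Helper42.ClBN Equiv

variable {n : ℕ}

/-- the centraliser of the order reversal. -/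
def revC (n : ℕ) : Subgroup (Perm (Fin n)) where
  carrier := {w | RevComm w}
  one_mem' := fun _ => rfl
  mul_mem' := by
    intro a b ha hb i
    show a (b (Fin.rev i)) = Fin.rev (a (b i))
    rw [hb i, ha]
  inv_mem' := by
    intro a ha i
    apply a.injective
    rw [ha]
    simp

theorem mem_revC {w : Perm (Fin n)} : w ∈ revC n ↔ RevComm w := Iff.rfl

theorem swap_comm_of_ne {a b c d : Fin n} (h1 : a ≠ c) (h2 : a ≠ d) (h3 : b ≠ c) (h4 : b ≠ d) :
    swap a b * swap c d = swap c d * swap a b := by
  ext t
  simp only [Perm.coe_mul, Function.comp_apply, swap_apply_def]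
  split_ifs <;> simp_all

/-- `RevComm` from invariance under conjugation by the reversal. -/
theorem revComm_of_conj {w : Perm (Fin n)} (h : ∀ i, Fin.rev (w (Fin.rev i)) = w i) : RevComm w := by
  intro i
  rw [← h i, Fin.rev_rev]

theorem revComm_swap_rev (x : Fin n) : RevComm (swap x (Fin.rev x)) := by
  intro i
  by_cases h1 : i = x
  · subst h1
    rw [swap_apply_right, swap_apply_left, Fin.rev_rev]
  · by_cases h2 : i = Fin.rev x
    · subst h2
      rw [Fin.rev_rev, swap_apply_left, swap_apply_right]
    · have h3 : Fin.rev i ≠ x := fun h => h2 (by rw [← h, Fin.rev_rev])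
      have h4 : Fin.rev i ≠ Fin.rev x := fun h => h1 (Fin.rev_injective h)
      rw [swap_apply_of_ne_of_ne h3 h4, swap_apply_of_ne_of_ne h1 h2]

/-- the double swap. -/
def dd (x y : Fin n) : Perm (Fin n) := swap x y * swap (Fin.rev x) (Fin.rev y)

/-- the sign change. -/
def tt (x : Fin n) : Perm (Fin n) := swap x (Fin.rev x)

theorem conj_dd {σ : Perm (Fin n)} (hσ : RevComm σ) (x y : Fin n) :
    σ * dd x y * σ⁻¹ = dd (σ x) (σ y) := by
  unfold dd
  rw [← hσ x, ← hσ y, swap_apply_apply, swap_apply_apply]
  group

theorem conj_tt {σ : Perm (Fin n)} (hσ : RevComm σ) (x : Fin n) :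
    σ * tt x * σ⁻¹ = tt (σ x) := by
  unfold tt
  rw [← hσ x, swap_apply_apply]

theorem revComm_of_conj_eq {w : Perm (Fin n)} (h : Fin.revPerm * w * Fin.revPerm⁻¹ = w) : RevComm w := by
  intro i
  have h1 := congrFun (congrArg (fun f : Perm (Fin n) => (f : Fin n → Fin n)) h) (Fin.rev i)
  simp only [Perm.coe_mul, Function.comp_apply] at h1
  have h2 : (Fin.revPerm⁻¹ : Perm (Fin n)) (Fin.rev i) = i := by
    rw [Perm.inv_def, Equiv.symm_apply_eq]
    rfl
  rw [h2] at h1
  exact h1.symm

theorem conj_rev_swap (a b : Fin n) :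
    Fin.revPerm * swap a b * Fin.revPerm⁻¹ = swap (Fin.rev a) (Fin.rev b) := by
  rw [← swap_apply_apply]
  rfl

theorem val_rev_eq (x : Fin n) : (Fin.rev x).val = n - 1 - x.val := by
  rw [Fin.val_rev]; omega

theorem ne_of_val_ne {x y : Fin n} (h : x.val ≠ y.val) : x ≠ y := fun e => h (by rw [e])

/-- the first family of generators is `RevComm`. -/
theorem revComm_dd_adj {i j : Fin n} (hij : j.val = i.val + 1) (hi : 2 * i.val + 3 < n) :
    RevComm (swap i j * swap (Fin.rev j) (Fin.rev i)) := by
  apply revComm_of_conj_eq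
  have hc : swap i j * swap (Fin.rev j) (Fin.rev i) = swap (Fin.rev j) (Fin.rev i) * swap i j := by
    have hi' := i.isLt
    have hj' := j.isLt
    apply swap_comm_of_ne <;> apply ne_of_val_ne <;> rw [val_rev_eq] <;> omega
  calc Fin.revPerm * (swap i j * swap (Fin.rev j) (Fin.rev i)) * Fin.revPerm⁻¹
      = (Fin.revPerm * swap i j * Fin.revPerm⁻¹) *
          (Fin.revPerm * swap (Fin.rev j) (Fin.rev i) * Fin.revPerm⁻¹) := by group
    _ = swap (Fin.rev i) (Fin.rev j) * swap j i := by
        rw [conj_rev_swap, conj_rev_swap, Fin.rev_rev, Fin.rev_rev]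
    _ = swap i j * swap (Fin.rev j) (Fin.rev i) := by
        rw [hc, swap_comm (Fin.rev i) (Fin.rev j), swap_comm j i]

theorem revGens_revComm' {w : Perm (Fin n)} (hw : w ∈ revGens n) : RevComm w := by
  rcases hw with (⟨i, j, hij, hi, rfl⟩ | ⟨i, j, hij, hi, rfl⟩) | ⟨i, j, hij, hi, rfl⟩
  · exact revComm_dd_adj hij hi
  · have : j = Fin.rev i := by
      apply Fin.ext; rw [val_rev_eq]; omega
    rw [this]
    exact revComm_swap_rev i
  · have : j = Fin.rev i := by
      apply Fin.ext; rw [val_rev_eq]; omega
    rw [this]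
    exact revComm_swap_rev i

theorem revGens_sq' {w : Perm (Fin n)} (hw : w ∈ revGens n) : w * w = 1 := by
  rcases hw with (⟨i, j, hij, hi, rfl⟩ | ⟨i, j, hij, hi, rfl⟩) | ⟨i, j, hij, hi, rfl⟩
  · have hc : swap (Fin.rev j) (Fin.rev i) * swap i j = swap i j * swap (Fin.rev j) (Fin.rev i) := by
      have hi' := i.isLt
      have hj' := j.isLt
      apply swap_comm_of_ne <;> apply ne_of_val_ne <;> rw [val_rev_eq] <;> omega
    calc swap i j * swap (Fin.rev j) (Fin.rev i) * (swap i j * swap (Fin.rev j) (Fin.rev i))
        = swap i j * (swap (Fin.rev j) (Fin.rev i) * swap i j) * swap (Fin.rev j) (Fin.rev i) := by group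
      _ = 1 := by
        rw [hc, ← mul_assoc, swap_mul_self, one_mul, swap_mul_self]
  · exact swap_mul_self i j
  · exact swap_mul_self i j

theorem closure_le_revC : Subgroup.closure (revGens n) ≤ revC n :=
  (Subgroup.closure_le _).mpr (fun _ hw => revGens_revComm' hw)

/-- conjugation inside the closure. -/
theorem conj_mem {g h : Perm (Fin n)} (hg : g ∈ Subgroup.closure (revGens n))
    (hh : h ∈ Subgroup.closure (revGens n)) : g * h * g⁻¹ ∈ Subgroup.closure (revGens n) :=
  Subgroup.mul_mem _ (Subgroup.mul_mem _ hg hh) (Subgroup.inv_mem _ hg)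

theorem dd_apply_of_ne {x y t : Fin n} (h1 : t ≠ x) (h2 : t ≠ y) (h3 : t ≠ Fin.rev x)
    (h4 : t ≠ Fin.rev y) : dd x y t = t := by
  unfold dd
  rw [Perm.coe_mul, Function.comp_apply, swap_apply_of_ne_of_ne h3 h4, swap_apply_of_ne_of_ne h1 h2]

theorem dd_apply_left {x y : Fin n} (h3 : x ≠ Fin.rev x) (h4 : x ≠ Fin.rev y) : dd x y x = y := by
  unfold dd
  rw [Perm.coe_mul, Function.comp_apply, swap_apply_of_ne_of_ne h3 h4, swap_apply_left]

theorem dd_apply_right {x y : Fin n} (h3 : y ≠ Fin.rev x) (h4 : y ≠ Fin.rev y) : dd x y y = x := by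
  unfold dd
  rw [Perm.coe_mul, Function.comp_apply, swap_apply_of_ne_of_ne h3 h4, swap_apply_right]

/-- double swaps of two first-half indices lie in the closure. -/
theorem dd_mem : ∀ (d : ℕ) (x y : Fin n), y.val = x.val + d + 1 → 2 * y.val + 1 < n →
    dd x y ∈ Subgroup.closure (revGens n) := by
  intro d
  induction d with
  | zero =>
    intro x y hxy hy
    apply Subgroup.subset_closure
    left; left
    refine ⟨x, y, by omega, by omega, ?_⟩
    unfold dd
    rw [swap_comm (Fin.rev y) (Fin.rev x)]
  | succ d ih =>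
    intro x y hxy hy
    -- `b = y - 1`
    have hy' := y.isLt
    let b : Fin n := ⟨y.val - 1, by omega⟩
    have hb : b.val = y.val - 1 := rfl
    have h1 : dd x b ∈ Subgroup.closure (revGens n) := ih x b (by omega) (by omega)
    have h2 : dd b y ∈ Subgroup.closure (revGens n) := by
      apply Subgroup.subset_closure
      left; left
      refine ⟨b, y, by omega, by omega, ?_⟩
      unfold dd
      rw [swap_comm (Fin.rev y) (Fin.rev b)]
    have h3 := conj_mem h2 h1
    rw [conj_dd (closure_le_revC h2)] at h3
    have hx' := x.isLt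
    have e1 : dd b y x = x := by
      apply dd_apply_of_ne <;> apply ne_of_val_ne <;> (try rw [val_rev_eq]) <;> omega
    have e2 : dd b y b = y := by
      apply dd_apply_left <;> apply ne_of_val_ne <;> rw [val_rev_eq] <;> omega
    rw [e1, e2] at h3
    exact h3

/-- sign changes of first-half indices lie in the closure. -/
theorem tt_mem (x : Fin n) (hx : 2 * x.val + 1 < n) : tt x ∈ Subgroup.closure (revGens n) := by
  have hx' := x.isLt
  -- the innermost first-half index
  let c : Fin n := ⟨(n - 2) / 2, by omega⟩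
  have hc : c.val = (n - 2) / 2 := rfl
  have hcmem : tt c ∈ Subgroup.closure (revGens n) := by
    apply Subgroup.subset_closure
    rcases Nat.even_or_odd n with he | ho
    · left; right
      obtain ⟨k, hk⟩ := he
      refine ⟨c, Fin.rev c, ?_, ?_, rfl⟩
      · rw [val_rev_eq]; omega
      · omega
    · right
      obtain ⟨k, hk⟩ := ho
      refine ⟨c, Fin.rev c, ?_, ?_, rfl⟩
      · rw [val_rev_eq]; omega
      · omega
  by_cases hxc : x = c
  · rw [hxc]; exact hcmem
  · have hlt : x.val < c.val := by
      have : x.val ≠ c.val := fun h => hxc (Fin.ext h)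
      omega
    have h1 : dd x c ∈ Subgroup.closure (revGens n) :=
      dd_mem (c.val - x.val - 1) x c (by omega) (by omega)
    have h3 := conj_mem h1 hcmem
    rw [conj_tt (closure_le_revC h1)] at h3
    have e1 : dd x c c = x := by
      apply dd_apply_right <;> apply ne_of_val_ne <;> rw [val_rev_eq] <;> omega
    rw [e1] at h3
    exact h3

theorem dd_apply_rev_right {x y : Fin n} (h : Fin.rev x ≠ x) (h' : Fin.rev x ≠ y) :
    dd x y (Fin.rev y) = Fin.rev x := by
  unfold dd
  rw [Perm.coe_mul, Function.comp_apply, swap_apply_right, swap_apply_of_ne_of_ne h h']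

theorem tt_apply_of_ne {x t : Fin n} (h1 : t ≠ x) (h2 : t ≠ Fin.rev x) : tt x t = t := by
  unfold tt
  rw [swap_apply_of_ne_of_ne h1 h2]

theorem tt_apply_rev (x : Fin n) : tt x (Fin.rev x) = x := by
  unfold tt
  rw [swap_apply_right]

theorem fix_rev_of_fix {w : Perm (Fin n)} (hw : RevComm w) {k : ℕ}
    (hfix : ∀ t : Fin n, t.val < k → w t = t) : ∀ t : Fin n, (Fin.rev t).val < k → w t = t := by
  intro t ht
  have h1 := hfix (Fin.rev t) ht
  have h2 := hw (Fin.rev t)
  rw [Fin.rev_rev, h1, Fin.rev_rev] at h2
  exact h2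

theorem eq_one_of_fix {w : Perm (Fin n)} (hw : RevComm w) (k : ℕ) (hk : n ≤ 2 * k + 1)
    (hfix : ∀ t : Fin n, t.val < k → w t = t) : w = 1 := by
  have hfix2 := fix_rev_of_fix hw hfix
  apply Equiv.ext
  intro t
  rw [Perm.one_apply]
  by_cases h1 : t.val < k
  · exact hfix t h1
  by_cases h2 : (Fin.rev t).val < k
  · exact hfix2 t h2
  by_contra hne
  have hs : w (w t) = w t := by
    by_cases h3 : (w t).val < k
    · exact hfix _ h3
    by_cases h4 : (Fin.rev (w t)).val < k
    · exact hfix2 _ h4
    exfalso
    apply hne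
    apply Fin.ext
    have e1 := val_rev_eq t
    have e2 := val_rev_eq (w t)
    have e3 := t.isLt
    have e4 := (w t).isLt
    omega
  exact hne (w.injective hs)

theorem exists_fixer {w : Perm (Fin n)} (hw : RevComm w) {k : ℕ} (hk : 2 * k + 1 < n)
    (hfix : ∀ t : Fin n, t.val < k → w t = t) (a : Fin n) (ha : a.val = k) :
    ∃ g ∈ Subgroup.closure (revGens n), (∀ t : Fin n, t.val < k → g t = t) ∧ g (w a) = a := by
  have hfix2 := fix_rev_of_fix hw hfix
  have hra : (Fin.rev a).val = n - 1 - k := by rw [val_rev_eq, ha]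
  set c := w a with hcdef
  have hc1 : k ≤ c.val := by
    by_contra hcon
    push Not at hcon
    have h1 : w c = c := hfix c hcon
    have h2 : c = a := w.injective h1
    rw [h2] at hcon
    omega
  have hc2 : k ≤ (Fin.rev c).val := by
    by_contra hcon
    push Not at hcon
    have h1 : w (Fin.rev c) = Fin.rev c := hfix _ hcon
    have h2 : w (Fin.rev a) = Fin.rev c := hw a
    have h3 : Fin.rev c = Fin.rev a := w.injective (h1.trans h2.symm)
    rw [h3] at hcon
    omega
  have hrc := val_rev_eq c
  have hclt := c.isLt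
  by_cases hca : c = a
  · refine ⟨1, Subgroup.one_mem _, fun _ _ => rfl, ?_⟩
    rw [Perm.one_apply]; exact hca
  by_cases hcra : c = Fin.rev a
  · refine ⟨tt a, tt_mem a (by omega), ?_, ?_⟩
    · intro t ht
      apply tt_apply_of_ne <;> apply ne_of_val_ne <;> omega
    · rw [hcra]; exact tt_apply_rev a
  have hcak : c.val ≠ k := fun h => hca (Fin.ext (by rw [h, ha]))
  by_cases hfst : 2 * c.val + 1 < n
  · refine ⟨dd a c, dd_mem (c.val - k - 1) a c (by omega) hfst, ?_, ?_⟩
    · intro t ht
      apply dd_apply_of_ne <;> apply ne_of_val_ne <;> omega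
    · apply dd_apply_right
      · exact hcra
      · apply ne_of_val_ne; omega
  · push Not at hfst
    -- `c` is not the middle point
    have hmid : c ≠ Fin.rev c := by
      intro h
      have h2 : w (Fin.rev a) = Fin.rev c := hw a
      rw [← h] at h2
      have h3 : Fin.rev a = a := w.injective h2
      have := congrArg Fin.val h3
      omega
    have hmid' : c.val ≠ (Fin.rev c).val := fun h => hmid (Fin.ext h)
    have hc'a : Fin.rev c ≠ a := by
      intro h
      apply hcra
      rw [← h, Fin.rev_rev]
    have hc'ak : (Fin.rev c).val ≠ k := fun h => hc'a (Fin.ext (by rw [h, ha]))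
    have hrrc : Fin.rev (Fin.rev c) = c := Fin.rev_rev c
    refine ⟨tt a * dd a (Fin.rev c),
      Subgroup.mul_mem _ (tt_mem a (by omega))
        (dd_mem ((Fin.rev c).val - k - 1) a (Fin.rev c) (by omega) (by omega)), ?_, ?_⟩
    · intro t ht
      rw [Perm.coe_mul, Function.comp_apply, dd_apply_of_ne, tt_apply_of_ne]
      all_goals apply ne_of_val_ne
      all_goals (try rw [hrrc])
      all_goals omega
    · rw [Perm.coe_mul, Function.comp_apply]
      have h1 : dd a (Fin.rev c) c = Fin.rev a := by
        have := dd_apply_rev_right (x := a) (y := Fin.rev c)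
          (by apply ne_of_val_ne; omega) (by
            intro h
            exact hca (Fin.rev_injective h).symm)
        rw [hrrc] at this
        exact this
      rw [h1, tt_apply_rev]

theorem mem_closure_of_fix : ∀ (j k : ℕ) (w : Perm (Fin n)), n ≤ k + j → RevComm w →
    (∀ t : Fin n, t.val < k → w t = t) → w ∈ Subgroup.closure (revGens n) := by
  intro j
  induction j with
  | zero =>
    intro k w hk hw hfix
    rw [eq_one_of_fix hw k (by omega) hfix]
    exact Subgroup.one_mem _
  | succ j ih =>
    intro k w hk hw hfix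
    by_cases hmid : n ≤ 2 * k + 1
    · rw [eq_one_of_fix hw k hmid hfix]
      exact Subgroup.one_mem _
    · push Not at hmid
      let a : Fin n := ⟨k, by omega⟩
      obtain ⟨g, hgH, hgfix, hga⟩ := exists_fixer hw hmid hfix a rfl
      have hgw : g * w ∈ Subgroup.closure (revGens n) := by
        apply ih (k + 1) (g * w) (by omega) ((revC n).mul_mem (closure_le_revC hgH) hw)
        intro t ht
        rcases Nat.lt_or_ge t.val k with h | h
        · show g (w t) = t
          rw [hfix t h, hgfix t h]
        · have hta : t = a := Fin.ext (by show t.val = k; omega)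
          rw [hta]
          exact hga
      have e : w = g⁻¹ * (g * w) := by group
      rw [e]
      exact Subgroup.mul_mem _ (Subgroup.inv_mem _ hgH) hgw

end Cfsg.Agent.Lib.Helper14.ClBN.Weyl

namespace Cfsg.Agent.Lib.Helper14.ClBN.Weyl

open Cfsg.Agent.Lib.Helper42.ClBN Equiv Cfsg.Agent.Lib.Helper5.GLU Cfsg.Agent.Lib.Helper6
open scoped MatrixGroups

universe u

variable {n : ℕ}

theorem sublist_pair {α : Type*} {a b : α} {l : List α} (h : l.Sublist [a, b]) :
    l = [] ∨ l = [a] ∨ l = [b] ∨ l = [a, b] := by
  have := List.mem_sublists.mpr h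
  simp [List.sublists_cons] at this
  tauto

theorem sublist_triple {α : Type*} {a b c : α} {l : List α} (h : l.Sublist [a, b, c]) :
    l = [] ∨ l = [a] ∨ l = [b] ∨ l = [c] ∨ l = [a, b] ∨ l = [a, c] ∨ l = [b, c] ∨ l = [a, b, c] := by
  have := List.mem_sublists.mpr h
  simp [List.sublists_cons] at this
  tauto

theorem eq_of_isMono_permGL {F : Type u} [Field F] {π w' : Perm (Fin n)}
    (h : IsMono (permGL (F := F) π) w') : w' = π :=
  (IsMono.unique h (isMono_permGL π))

theorem word_pair (F : Type u) [Field F] {i j : Fin n} (hij : j.val = i.val + 1) (hi : 2 * i.val + 3 < n) :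
    ∃ l : List (GL (Fin n) F), IsWord (simples n F) l ∧
      IsMono l.prod (swap i j * swap (Fin.rev j) (Fin.rev i)) ∧
      ∀ l' : List (GL (Fin n) F), l'.Sublist l → ∀ w' : Perm (Fin n), IsMono l'.prod w' →
        RevComm w' → w' = 1 ∨ w' = swap i j * swap (Fin.rev j) (Fin.rev i) := by
  have hi' := i.isLt
  have hj' := j.isLt
  have hri := val_rev_eq i
  have hrj := val_rev_eq j
  refine ⟨[permGL (swap i j), permGL (swap (Fin.rev j) (Fin.rev i))], ?_, ?_, ?_⟩
  · intro s hs
    simp only [List.mem_cons, List.not_mem_nil, or_false] at hs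
    rcases hs with rfl | rfl
    · exact ⟨i, j, hij, rfl⟩
    · exact ⟨Fin.rev j, Fin.rev i, by omega, rfl⟩
  · have : [permGL (F := F) (swap i j), permGL (swap (Fin.rev j) (Fin.rev i))].prod =
        permGL (swap i j * swap (Fin.rev j) (Fin.rev i)) := by
      rw [List.prod_cons, List.prod_singleton, map_mul]
    rw [this]
    exact isMono_permGL _
  · intro l' hl' w' hw' hrc
    rcases sublist_pair hl' with rfl | rfl | rfl | rfl
    · left
      rw [List.prod_nil] at hw'
      exact IsMono.unique hw' IsMono.one
    · exfalso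
      rw [List.prod_singleton] at hw'
      rw [eq_of_isMono_permGL hw'] at hrc
      have h1 := hrc i
      rw [swap_apply_left, swap_apply_of_ne_of_ne (by apply ne_of_val_ne; omega)
        (by apply ne_of_val_ne; omega)] at h1
      have := congrArg Fin.val h1
      omega
    · exfalso
      rw [List.prod_singleton] at hw'
      rw [eq_of_isMono_permGL hw'] at hrc
      have h1 := hrc i
      rw [swap_apply_right, swap_apply_of_ne_of_ne (by apply ne_of_val_ne; omega)
        (by apply ne_of_val_ne; omega)] at h1
      have := congrArg Fin.val h1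
      omega
    · right
      rw [List.prod_cons, List.prod_singleton, ← map_mul] at hw'
      exact eq_of_isMono_permGL hw'

theorem word_single (F : Type u) [Field F] {i j : Fin n} (hij : j.val = i.val + 1) :
    ∃ l : List (GL (Fin n) F), IsWord (simples n F) l ∧ IsMono l.prod (swap i j) ∧
      ∀ l' : List (GL (Fin n) F), l'.Sublist l → ∀ w' : Perm (Fin n), IsMono l'.prod w' →
        RevComm w' → w' = 1 ∨ w' = swap i j := by
  refine ⟨[permGL (swap i j)], ?_, ?_, ?_⟩
  · intro s hs
    simp only [List.mem_cons, List.not_mem_nil, or_false] at hs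
    rw [hs]
    exact ⟨i, j, hij, rfl⟩
  · rw [List.prod_singleton]
    exact isMono_permGL _
  · intro l' hl' w' hw' _
    rcases List.sublist_singleton.mp hl' with rfl | rfl
    · left
      rw [List.prod_nil] at hw'
      exact IsMono.unique hw' IsMono.one
    · right
      rw [List.prod_singleton] at hw'
      exact eq_of_isMono_permGL hw'

theorem word_triple (F : Type u) [Field F] {i j : Fin n} (hij : j.val = i.val + 2) (hi : 2 * i.val + 3 = n) :
    ∃ l : List (GL (Fin n) F), IsWord (simples n F) l ∧ IsMono l.prod (swap i j) ∧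
      ∀ l' : List (GL (Fin n) F), l'.Sublist l → ∀ w' : Perm (Fin n), IsMono l'.prod w' →
        RevComm w' → w' = 1 ∨ w' = swap i j := by
  have hi' := i.isLt
  have hj' := j.isLt
  let k : Fin n := ⟨i.val + 1, by omega⟩
  have hk : k.val = i.val + 1 := rfl
  have hri : Fin.rev i = j := by apply Fin.ext; rw [val_rev_eq]; omega
  have hrj : Fin.rev j = i := by apply Fin.ext; rw [val_rev_eq]; omega
  have hrk : Fin.rev k = k := by apply Fin.ext; rw [val_rev_eq]; omega
  have hik : i ≠ k := by apply ne_of_val_ne; omega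
  have hjk : j ≠ k := by apply ne_of_val_ne; omega
  have hij' : i ≠ j := by apply ne_of_val_ne; omega
  have hprod : swap i k * swap k j * swap i k = swap i j := by
    have := swap_apply_apply (swap i k) k j
    rw [swap_apply_right, swap_apply_of_ne_of_ne hij'.symm hjk, swap_inv] at this
    exact this.symm
  refine ⟨[permGL (swap i k), permGL (swap k j), permGL (swap i k)], ?_, ?_, ?_⟩
  · intro s hs
    simp only [List.mem_cons, List.not_mem_nil, or_false] at hs
    rcases hs with rfl | rfl | rfl
    · exact ⟨i, k, hk, rfl⟩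
    · exact ⟨k, j, by omega, rfl⟩
    · exact ⟨i, k, hk, rfl⟩
  · have : [permGL (F := F) (swap i k), permGL (swap k j), permGL (swap i k)].prod =
        permGL (swap i j) := by
      rw [List.prod_cons, List.prod_cons, List.prod_singleton, ← map_mul, ← map_mul, ← mul_assoc, hprod]
    rw [this]
    exact isMono_permGL _
  · intro l' hl' w' hw' hrc
    rcases sublist_triple hl' with rfl | rfl | rfl | rfl | rfl | rfl | rfl | rfl
    · left
      rw [List.prod_nil] at hw'
      exact IsMono.unique hw' IsMono.one
    · -- `swap i k`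
      exfalso
      rw [List.prod_singleton] at hw'
      rw [eq_of_isMono_permGL hw'] at hrc
      have h1 := hrc i
      rw [hri, swap_apply_left, hrk, swap_apply_of_ne_of_ne hij'.symm hjk] at h1
      exact hjk h1
    · -- `swap k j`
      exfalso
      rw [List.prod_singleton] at hw'
      rw [eq_of_isMono_permGL hw'] at hrc
      have h1 := hrc j
      rw [hrj, swap_apply_right, hrk, swap_apply_of_ne_of_ne hik hij'] at h1
      exact hik h1
    · -- `swap i k` (the last letter)
      exfalso
      rw [List.prod_singleton] at hw'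
      rw [eq_of_isMono_permGL hw'] at hrc
      have h1 := hrc i
      rw [hri, swap_apply_left, hrk, swap_apply_of_ne_of_ne hij'.symm hjk] at h1
      exact hjk h1
    · -- `swap i k * swap k j`
      exfalso
      rw [List.prod_cons, List.prod_singleton, ← map_mul] at hw'
      rw [eq_of_isMono_permGL hw'] at hrc
      have h1 := hrc i
      rw [hri, Perm.coe_mul, Function.comp_apply, Function.comp_apply, swap_apply_right, swap_apply_right,
        swap_apply_of_ne_of_ne hik hij', swap_apply_left, hrk] at h1
      exact hik h1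
    · -- `swap i k * swap i k = 1`
      left
      rw [List.prod_cons, List.prod_singleton, ← map_mul, swap_mul_self, map_one] at hw'
      exact IsMono.unique hw' IsMono.one
    · -- `swap k j * swap i k`
      exfalso
      rw [List.prod_cons, List.prod_singleton, ← map_mul] at hw'
      rw [eq_of_isMono_permGL hw'] at hrc
      have h1 := hrc j
      rw [hrj, Perm.coe_mul, Function.comp_apply, Function.comp_apply, swap_apply_left, swap_apply_left,
        swap_apply_of_ne_of_ne hij'.symm hjk, swap_apply_right, hrk] at h1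
      exact hjk h1
    · right
      rw [List.prod_cons, List.prod_cons, List.prod_singleton, ← map_mul, ← map_mul, ← mul_assoc, hprod] at hw'
      exact eq_of_isMono_permGL hw'

end Cfsg.Agent.Lib.Helper14.ClBN.Weyl

namespace Cfsg.Agent.Lib.Helper42.ClBN

open Cfsg.Agent.Lib.Helper14.ClBN.Weyl Cfsg.Agent.Lib.Helper6
open scoped MatrixGroups

universe u

variable {n : ℕ}

theorem revComm_mem_closure {w : Equiv.Perm (Fin n)} (hw : RevComm w) :
    w ∈ Subgroup.closure (revGens n) :=
  mem_closure_of_fix n 0 w (by omega) hw (fun _ ht => absurd ht (Nat.not_lt_zero _))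

theorem revGens_revComm {w : Equiv.Perm (Fin n)} (hw : w ∈ revGens n) : RevComm w := revGens_revComm' hw

theorem revGens_sq {w : Equiv.Perm (Fin n)} (hw : w ∈ revGens n) : w * w = 1 := revGens_sq' hw

theorem revGens_word (F : Type u) [Field F] {w : Equiv.Perm (Fin n)} (hw : w ∈ revGens n) :
    ∃ l : List (GL (Fin n) F), IsWord (simples n F) l ∧ IsMono l.prod w ∧
      ∀ l' : List (GL (Fin n) F), l'.Sublist l → ∀ w' : Equiv.Perm (Fin n), IsMono l'.prod w' →
        RevComm w' → w' = 1 ∨ w' = w := by
  rcases hw with (⟨i, j, hij, hi, rfl⟩ | ⟨i, j, hij, hi, rfl⟩) | ⟨i, j, hij, hi, rfl⟩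
  · exact word_pair F hij hi
  · exact word_single F hij
  · exact word_triple F hij hi

end Cfsg.Agent.Lib.Helper42.ClBN
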