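import Mathlib

set_option autoImplicit false

/-!
# Counting indices by a natural-number valued "degree" function

`cnt d n` is the number of indices of degree `n`; weighted sums over all indices are sums over a
list of possible degrees.
-/

namespace Cfsg.Agent.Lib.Helper14.DegCount

variable {ι : Type*} [Fintype ι]

open Classical in
/-- The number of indices `i` with `d i = n`. -/
noncomputable def cnt (d : ι → ℕ) (n : ℕ) : ℕ := (Finset.univ.filter (fun i => d i = n)).card

open Classical in
theorem sum_weight_int (d : ι → ℕ) (L : List ℕ) (hL : L.Nodup) (hd : ∀ i, d i ∈ L) (w : ℕ → ℤ) :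
    ∑ i, w (d i) = (L.map (fun n => (cnt d n : ℤ) * w n)).sum := by
  rw [← List.sum_toFinset _ hL]
  rw [← Finset.sum_fiberwise_of_maps_to (s := Finset.univ) (t := L.toFinset) (g := d)
    (fun i _ => List.mem_toFinset.2 (hd i))]
  apply Finset.sum_congr rfl
  intro n _
  rw [Finset.sum_congr rfl (fun i hi => by rw [(Finset.mem_filter.1 hi).2]), Finset.sum_const,
    nsmul_eq_mul]
  rfl

open Classical in
theorem sum_weight_nat (d : ι → ℕ) (L : List ℕ) (hL : L.Nodup) (hd : ∀ i, d i ∈ L) (w : ℕ → ℕ) :
    ∑ i, w (d i) = (L.map (fun n => cnt d n * w n)).sum := by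
  rw [← List.sum_toFinset _ hL]
  rw [← Finset.sum_fiberwise_of_maps_to (s := Finset.univ) (t := L.toFinset) (g := d)
    (fun i _ => List.mem_toFinset.2 (hd i))]
  apply Finset.sum_congr rfl
  intro n _
  rw [Finset.sum_congr rfl (fun i hi => by rw [(Finset.mem_filter.1 hi).2]), Finset.sum_const,
    smul_eq_mul]
  rfl

open Classical in
/-- The number of indices whose degree satisfies `q`. -/
theorem card_filter_eq (d : ι → ℕ) (L : List ℕ) (hL : L.Nodup) (hd : ∀ i, d i ∈ L)
    (q : ℕ → Prop) [DecidablePred q] :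
    (Finset.univ.filter (fun i => q (d i))).card =
      (L.map (fun n => cnt d n * if q n then 1 else 0)).sum := by
  rw [← sum_weight_nat d L hL hd (fun n => if q n then 1 else 0), Finset.card_filter]

open Classical in
theorem cnt_eq_zero_of_notMem (d : ι → ℕ) (L : List ℕ) (hd : ∀ i, d i ∈ L) {n : ℕ}
    (hn : n ∉ L) : cnt d n = 0 := by
  unfold cnt
  rw [Finset.card_eq_zero, Finset.filter_eq_empty_iff]
  intro i _ h
  exact hn (h ▸ hd i)

open Classical in
theorem natCard_subtype_eq_cnt (d : ι → ℕ) (n : ℕ) : Nat.card {i : ι // d i = n} = cnt d n := by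
  rw [Nat.card_eq_fintype_card, Fintype.card_subtype]
  rfl

/-- The divisors of `7920` whose square is at most `7920`. -/
def Dl : List ℕ := [1, 2, 3, 4, 5, 6, 8, 9, 10, 11, 12, 15, 16, 18, 20, 22, 24, 30, 33, 36, 40, 44,
  45, 48, 55, 60, 66, 72, 80, 88]

theorem Dl_nodup : Dl.Nodup := by decide

theorem mem_Dl {n : ℕ} (h1 : n ∣ 7920) (h2 : n * n ≤ 7920) : n ∈ Dl := by
  have h3 : n ≤ 88 := by nlinarith
  have h0 : 0 < n := Nat.pos_of_dvd_of_pos h1 (by norm_num)
  interval_cases n <;> first | (simp [Dl]; done) | (exfalso; revert h1; decide)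

end Cfsg.Agent.Lib.Helper14.DegCount
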