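import Mathlib
import Cfsg.Agent.Lib.Helper41.DicksonGeneric

set_option autoImplicit false

/-!
# The normal form in the generic case of Dickson's theorem, as a statement (helper14)

This is the first half of helper41's `psl_or_pgl_of_not_le_borel`, stated on its own: a subgroup
`H ≤ SL₂(F)` containing the centre, with `|H ∩ U| ≥ 4` and an element `h ∈ H` with `h₁₀ ≠ 0`, becomes,
after conjugation by `g = u(-h₀₀/h₁₀)` and a diagonal automorphism `diagAut c`, a group `H₂` with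
`H₂ ∩ U = u(K)` for a subfield `K`, containing `antiD a` with `a² ∈ K`, and such that
`l₀₀ / l₁₀ ∈ K` for all `l ∈ H₂` with `l₁₀ ≠ 0`.
-/

namespace Cfsg.Agent.Lib.Helper14

open Cfsg.Agent.Lib.Helper41 Cfsg.Agent.Lib.Helper11

variable {F : Type*} [Field F]

local notation "SL2" => Matrix.SpecialLinearGroup (Fin 2) F

/-- the conjugate-and-twist of `H` used in the normal form -/
def normalize (H : Subgroup SL2) (g : SL2) (c : Fˣ) : Subgroup SL2 :=
  (H.map (MulAut.conj g).toMonoidHom).map (diagAut c).toMonoidHom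

theorem mem_map_conj_iff (H : Subgroup SL2) (g x : SL2) :
    x ∈ H.map (MulAut.conj g).toMonoidHom ↔ g⁻¹ * x * g ∈ H := by
  constructor
  · rintro ⟨y, hy, rfl⟩
    have : g⁻¹ * ((MulAut.conj g).toMonoidHom y) * g = y := by
      show g⁻¹ * (g * y * g⁻¹) * g = y
      group
    rw [this]; exact hy
  · intro hx
    refine ⟨g⁻¹ * x * g, hx, ?_⟩
    show g * (g⁻¹ * x * g) * g⁻¹ = x
    group

theorem mem_map_diagAut_iff (H : Subgroup SL2) (c : Fˣ) (x : SL2) :
    x ∈ H.map (diagAut c).toMonoidHom ↔ diagAut c⁻¹ x ∈ H := by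
  constructor
  · rintro ⟨y, hy, rfl⟩
    have : diagAut c⁻¹ ((diagAut c).toMonoidHom y) = y := by
      show diagAut c⁻¹ (diagAut c y) = y
      rw [← MulAut.mul_apply, ← diagAut_mul, inv_mul_cancel, diagAut_one]; rfl
    rw [this]; exact hy
  · intro hx
    refine ⟨diagAut c⁻¹ x, hx, ?_⟩
    show diagAut c (diagAut c⁻¹ x) = x
    rw [← MulAut.mul_apply, ← diagAut_mul, mul_inv_cancel, diagAut_one]; rfl

theorem mem_normalize_of_mem (H : Subgroup SL2) (g : SL2) (c : Fˣ) {x : SL2} (hx : x ∈ H) :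
    diagAut c (g * x * g⁻¹) ∈ normalize H g c :=
  ⟨g * x * g⁻¹, ⟨x, hx, rfl⟩, rfl⟩

theorem normalize_eq_top_iff (H : Subgroup SL2) (g : SL2) (c : Fˣ) :
    normalize H g c = ⊤ ↔ H = ⊤ := by
  unfold normalize
  constructor
  · intro h
    rw [eq_top_iff]
    intro x _
    have h1 : diagAut c (g * x * g⁻¹) ∈
        (H.map (MulAut.conj g).toMonoidHom).map (diagAut c).toMonoidHom := by
      rw [h]; trivial
    obtain ⟨y, ⟨z, hz, rfl⟩, hy⟩ := h1
    have h2 : (MulAut.conj g).toMonoidHom z = g * x * g⁻¹ := (diagAut c).injective hy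
    have h3 : z = x := by
      have : g * z * g⁻¹ = g * x * g⁻¹ := h2
      calc z = g⁻¹ * (g * z * g⁻¹) * g := by group
        _ = g⁻¹ * (g * x * g⁻¹) * g := by rw [this]
        _ = x := by group
    rw [← h3]; exact hz
  · rintro rfl
    rw [eq_top_iff]
    intro x _
    refine ⟨diagAut c⁻¹ x, ⟨g⁻¹ * diagAut c⁻¹ x * g, trivial, ?_⟩, ?_⟩
    · show g * (g⁻¹ * diagAut c⁻¹ x * g) * g⁻¹ = diagAut c⁻¹ x
      group
    · show diagAut c (diagAut c⁻¹ x) = x
      rw [← MulAut.mul_apply, ← diagAut_mul, mul_inv_cancel, diagAut_one]; rfl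

/-- **Normal form in the generic case of Dickson's theorem.** -/
theorem generic_normal_form [Finite F] (p : ℕ) [Fact p.Prime] [CharP F p]
    (H : Subgroup SL2) (hZH : Subgroup.center SL2 ≤ H)
    (hq : 4 ≤ Nat.card (uSet H)) {h : SL2} (hhH : h ∈ H)
    (hc : (h : Matrix (Fin 2) (Fin 2) F) 1 0 ≠ 0) :
    ∃ (K : Subfield F) (c a : Fˣ),
      antiD a ∈ normalize H
        (upperU (-((h : Matrix (Fin 2) (Fin 2) F) 0 0 / (h : Matrix (Fin 2) (Fin 2) F) 1 0))) c ∧
      (a : F) ^ 2 ∈ K ∧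
      (∀ t, upperU t ∈ normalize H
        (upperU (-((h : Matrix (Fin 2) (Fin 2) F) 0 0 / (h : Matrix (Fin 2) (Fin 2) F) 1 0))) c ↔
          t ∈ K) ∧
      (∀ l ∈ normalize H
        (upperU (-((h : Matrix (Fin 2) (Fin 2) F) 0 0 / (h : Matrix (Fin 2) (Fin 2) F) 1 0))) c,
        (l : Matrix (Fin 2) (Fin 2) F) 1 0 ≠ 0 →
        ∃ k ∈ K, (l : Matrix (Fin 2) (Fin 2) F) 0 0 = k * (l : Matrix (Fin 2) (Fin 2) F) 1 0) := by
  classical
  have hfinSL : Finite SL2 := by
    have : Finite (Matrix (Fin 2) (Fin 2) F) := inferInstance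
    exact Finite.of_injective (fun g : SL2 => (g : Matrix (Fin 2) (Fin 2) F)) Subtype.val_injective
  -- a nontrivial element of `H ∩ U`
  obtain ⟨t₀, ht₀0, ht₀⟩ : ∃ t : F, t ≠ 0 ∧ upperU t ∈ H := by
    by_contra hno
    push Not at hno
    have : ∀ t : uSet H, t = 0 := by
      intro t
      by_contra ht
      exact hno t (fun h => ht (Subtype.ext h)) t.2
    have hsub : Subsingleton (uSet H) := ⟨fun a b => by rw [this a, this b]⟩
    have : Nat.card (uSet H) ≤ 1 := Finite.card_le_one_iff_subsingleton.mpr hsub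
    omega
  set g : SL2 := upperU (-((h : Matrix (Fin 2) (Fin 2) F) 0 0 / (h : Matrix (Fin 2) (Fin 2) F) 1 0))
    with hg
  set H₁ : Subgroup SL2 := H.map (MulAut.conj g).toMonoidHom with hH₁
  have hmem₁ : ∀ x : SL2, x ∈ H₁ ↔ g⁻¹ * x * g ∈ H := mem_map_conj_iff H g
  have hZH₁ : Subgroup.center SL2 ≤ H₁ := by
    intro z hz
    rw [hmem₁]
    have hzc := Subgroup.mem_center_iff.mp hz g
    have : g⁻¹ * z * g = z := by
      rw [mul_assoc, ← hzc, ← mul_assoc, inv_mul_cancel, one_mul]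
    rw [this]; exact hZH hz
  have hU₁ : ∀ t : F, upperU t ∈ H₁ ↔ upperU t ∈ H := by
    intro t
    rw [hmem₁]
    have : g⁻¹ * upperU t * g = upperU t := by
      rw [hg, ← Helper41.upperU_neg, ← Helper41.upperU_add, ← Helper41.upperU_add]
      congr 1
      ring
    rw [this]
  have huSet : uSet H₁ = uSet H := by
    ext t
    exact hU₁ t
  have hfin₁ : Finite H₁ := Subtype.finite
  set h₁ : SL2 := g * h * g⁻¹ with hh₁
  have hh₁H : h₁ ∈ H₁ := by
    rw [hmem₁, hh₁]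
    have : g⁻¹ * (g * h * g⁻¹) * g = h := by group
    rw [this]; exact hhH
  have hh₁00 : (h₁ : Matrix (Fin 2) (Fin 2) F) 0 0 = 0 := by
    rw [hh₁, mul_apply_00, mul_apply_00, mul_apply_01, inv_apply_00, inv_apply_10, hg, coe_upperU]
    simp only [Matrix.of_apply, Matrix.cons_val', Matrix.cons_val_zero, Matrix.cons_val_one,
      Matrix.cons_val_fin_one]
    field_simp
    ring
  have hh₁10 : (h₁ : Matrix (Fin 2) (Fin 2) F) 1 0 ≠ 0 := apply_10_ne_zero_of_apply_00 hh₁00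
  have hx₀1 : upperU t₀ ≠ 1 := by
    intro h1
    rw [← Helper41.upperU_zero] at h1
    exact ht₀0 (upperU_injective h1)
  have hx₀U : upperU t₀ ∈ uniSub F := by
    refine ⟨?_, ?_⟩ <;> simp [coe_upperU]
  have hB : BruhatProp H₁ h₁ :=
    bruhatProp_of_card p H₁ hZH₁ (upperU t₀) ((hU₁ t₀).mpr ht₀) hx₀U hx₀1
      (by rw [huSet]; exact hq) hh₁H hh₁10
  obtain ⟨K, c, a, hw, haK, hUK, hlK⟩ :=
    exists_subfield_of_bruhat' H₁ hh₁H hh₁00 hB ⟨t₀, ht₀0, (hU₁ t₀).mpr ht₀⟩
  exact ⟨K, c, a, hw, haK, hUK, hlK⟩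

end Cfsg.Agent.Lib.Helper14
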