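import Mathlib
import Cfsg.Agent.Lib.Helper41.PSL2AutSylow
import Cfsg.Agent.Lib.Helper41.SL2Borel
import Cfsg.Agent.Lib.Helper11.DicksonMat

set_option autoImplicit false

/-!
# The Borel subgroup of `PSL₂(F)` and normalizers of Sylow `p`-subgroups (helper14)

`borelBar F` is the image of the upper triangular subgroup; it is the normalizer of the unipotent
Sylow subgroup `upperBar F` (helper41), and `|borelBar F| * |Z(SL₂)| = (q - 1) q`.
Hence every Sylow `p`-normalizer of `PSL₂(F)` has that order.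
-/

namespace Cfsg.Agent.Lib.Helper14

open Cfsg.Agent.Lib.Helper41 Cfsg.Agent.Lib.Helper11

/-- general: order of the image of a subgroup containing the kernel -/
theorem card_map_mk_mul {S : Type*} [Group S] [Finite S] (Z : Subgroup S) [Z.Normal]
    (B : Subgroup S) (hZB : Z ≤ B) :
    Nat.card (B.map (QuotientGroup.mk' Z)) * Nat.card Z = Nat.card B := by
  have h1 := Subgroup.index_map B (QuotientGroup.mk' Z)
  rw [QuotientGroup.ker_mk', sup_of_le_left hZB,
    MonoidHom.range_eq_top.mpr (QuotientGroup.mk'_surjective Z), Subgroup.index_top, mul_one] at h1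
  have h2 := (B.map (QuotientGroup.mk' Z)).card_mul_index
  have h3 := B.card_mul_index
  have h4 := Subgroup.card_eq_card_quotient_mul_card_subgroup Z
  rw [h1] at h2
  have hidx : 0 < B.index := Nat.pos_of_ne_zero Subgroup.index_ne_zero_of_finite
  apply Nat.eq_of_mul_eq_mul_right hidx
  calc Nat.card (B.map (QuotientGroup.mk' Z)) * Nat.card Z * B.index
      = (Nat.card (B.map (QuotientGroup.mk' Z)) * B.index) * Nat.card Z := by ring
    _ = Nat.card (S ⧸ Z) * Nat.card Z := by rw [h2]
    _ = Nat.card S := h4.symm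
    _ = Nat.card B * B.index := h3.symm

variable {F : Type*} [Field F]

/-- the image of the upper triangular subgroup in `PSL₂(F)` -/
def borelBar (F : Type*) [Field F] : Subgroup (Matrix.ProjectiveSpecialLinearGroup (Fin 2) F) :=
  (borelSub F).map (QuotientGroup.mk' (Subgroup.center (Matrix.SpecialLinearGroup (Fin 2) F)))

theorem mk_mem_borelBar_iff (g : Matrix.SpecialLinearGroup (Fin 2) F) :
    (QuotientGroup.mk g : Matrix.ProjectiveSpecialLinearGroup (Fin 2) F) ∈ borelBar F ↔
      g ∈ borelSub F := by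
  constructor
  · rintro ⟨b, hb, hbg⟩
    have hb' : (b : Matrix (Fin 2) (Fin 2) F) 1 0 = 0 := hb
    have h := mk_eq_mk_entries (A := b) (B := g) hbg 1 0 1 0
    rw [hb', zero_mul] at h
    show (g : Matrix (Fin 2) (Fin 2) F) 1 0 = 0
    exact mul_self_eq_zero.mp h.symm
  · intro hg
    exact ⟨g, hg, rfl⟩

theorem center_le_borelSub :
    Subgroup.center (Matrix.SpecialLinearGroup (Fin 2) F) ≤ borelSub F := by
  intro z hz
  rw [mem_center_iff_pm] at hz
  show (z : Matrix (Fin 2) (Fin 2) F) 1 0 = 0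
  rcases hz with h | h <;> rw [h] <;> simp

theorem card_borelBar_mul [Fintype F] :
    Nat.card (borelBar F) * Nat.card (Subgroup.center (Matrix.SpecialLinearGroup (Fin 2) F))
      = (Fintype.card F - 1) * Fintype.card F := by
  rw [← card_borelSub]
  exact card_map_mk_mul _ _ center_le_borelSub

theorem mem_uniSub_iff_eq_upperU (g : Matrix.SpecialLinearGroup (Fin 2) F) :
    g ∈ uniSub F ↔ ∃ x : F, g = upperU x := by
  constructor
  · intro hg
    refine ⟨(g : Matrix (Fin 2) (Fin 2) F) 0 1, ?_⟩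
    apply sl2_ext
    · rw [hg.2]; simp [coe_upperU]
    · simp [coe_upperU]
    · rw [hg.1]; simp [coe_upperU]
    · rw [uniSub_apply_11 hg]; simp [coe_upperU]
  · rintro ⟨x, rfl⟩
    refine ⟨?_, ?_⟩ <;> simp [coe_upperU]

theorem upperU_one_ne_one : (upperU (1 : F)) ≠ 1 := by
  intro h
  have := congrArg (fun A : Matrix.SpecialLinearGroup (Fin 2) F =>
    (A : Matrix (Fin 2) (Fin 2) F) 0 1) h
  simp [coe_upperU] at this

theorem conj_mem_upperBar_of_borel {b : Matrix.SpecialLinearGroup (Fin 2) F}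
    (hb : b ∈ borelSub F) {y : Matrix.ProjectiveSpecialLinearGroup (Fin 2) F}
    (hy : y ∈ upperBar F) :
    (QuotientGroup.mk b : Matrix.ProjectiveSpecialLinearGroup (Fin 2) F) * y *
      (QuotientGroup.mk b)⁻¹ ∈ upperBar F := by
  obtain ⟨x, rfl⟩ := hy
  have h1 : b * upperU x * b⁻¹ ∈ uniSub F :=
    borel_conj_uniSub hb ((mem_uniSub_iff_eq_upperU _).mpr ⟨x, rfl⟩)
  obtain ⟨x', hx'⟩ := (mem_uniSub_iff_eq_upperU _).mp h1
  refine ⟨x', ?_⟩
  rw [← hx']
  rfl

/-- the normalizer of the unipotent Sylow subgroup is the Borel subgroup -/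
theorem normalizer_upperBar :
    Subgroup.normalizer ((upperBar F : Subgroup (Matrix.ProjectiveSpecialLinearGroup (Fin 2) F)) :
      Set (Matrix.ProjectiveSpecialLinearGroup (Fin 2) F)) = borelBar F := by
  ext y
  obtain ⟨g, rfl⟩ := QuotientGroup.mk_surjective y
  rw [mk_mem_borelBar_iff, Subgroup.mem_normalizer_iff]
  constructor
  · intro h
    have h1 := (h (QuotientGroup.mk (upperU 1))).mp ⟨1, rfl⟩
    obtain ⟨x', hx'⟩ := h1
    have hx'' : (QuotientGroup.mk (g * upperU 1 * g⁻¹) :
        Matrix.ProjectiveSpecialLinearGroup (Fin 2) F) = QuotientGroup.mk (upperU x') := hx'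
    have h2 := mk_eq_mk_entries hx'' 1 0 1 0
    simp only [coe_upperU] at h2
    have h3 : ((g * upperU 1 * g⁻¹ : Matrix.SpecialLinearGroup (Fin 2) F) :
        Matrix (Fin 2) (Fin 2) F) 1 0 = 0 := by
      have : ((g * upperU 1 * g⁻¹ : Matrix.SpecialLinearGroup (Fin 2) F) :
        Matrix (Fin 2) (Fin 2) F) 1 0 * ((g * upperU 1 * g⁻¹ : Matrix.SpecialLinearGroup (Fin 2) F) :
        Matrix (Fin 2) (Fin 2) F) 1 0 = 0 := by
        rw [h2]; simp
      exact mul_self_eq_zero.mp this
    exact mem_borelSub_of_conj (upperU 1) g ((mem_uniSub_iff_eq_upperU _).mpr ⟨1, rfl⟩)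
      upperU_one_ne_one h3
  · intro hg y
    constructor
    · intro hy
      exact conj_mem_upperBar_of_borel hg hy
    · intro hy
      have h1 := conj_mem_upperBar_of_borel ((borelSub F).inv_mem hg) hy
      have h2 : (QuotientGroup.mk g⁻¹ : Matrix.ProjectiveSpecialLinearGroup (Fin 2) F) *
          (QuotientGroup.mk g * y * (QuotientGroup.mk g)⁻¹) * (QuotientGroup.mk g⁻¹)⁻¹ = y := by
        rw [QuotientGroup.mk_inv]; group
      rwa [h2] at h1

/-- every Sylow `p`-normalizer of `PSL₂(F)` has order `q (q - 1) / d` -/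
theorem card_normalizer_sylow_mul [Fintype F] (p : ℕ) [Fact p.Prime] [CharP F p]
    (P : Sylow p (Matrix.ProjectiveSpecialLinearGroup (Fin 2) F)) :
    Nat.card (Subgroup.normalizer
        ((P : Subgroup (Matrix.ProjectiveSpecialLinearGroup (Fin 2) F)) :
          Set (Matrix.ProjectiveSpecialLinearGroup (Fin 2) F))) *
      Nat.card (Subgroup.center (Matrix.SpecialLinearGroup (Fin 2) F))
      = (Fintype.card F - 1) * Fintype.card F := by
  have hP : IsPGroup p (upperBar F) := isPGroup_upperBar p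
  have hidx := not_dvd_index_upperBar (F := F) p
  set P0 : Sylow p (Matrix.ProjectiveSpecialLinearGroup (Fin 2) F) := hP.toSylow hidx with hP0
  have hP0coe : (P0 : Subgroup (Matrix.ProjectiveSpecialLinearGroup (Fin 2) F)) = upperBar F :=
    IsPGroup.toSylow_coe _ _
  have h1 := Sylow.card_eq_index_normalizer P
  have h2 := Sylow.card_eq_index_normalizer P0
  have h3 : (Subgroup.normalizer ((P : Subgroup (Matrix.ProjectiveSpecialLinearGroup (Fin 2) F)) :
      Set (Matrix.ProjectiveSpecialLinearGroup (Fin 2) F))).index =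
      (Subgroup.normalizer ((P0 : Subgroup (Matrix.ProjectiveSpecialLinearGroup (Fin 2) F)) :
      Set (Matrix.ProjectiveSpecialLinearGroup (Fin 2) F))).index := h1.symm.trans h2
  have h4 := (Subgroup.normalizer ((P : Subgroup (Matrix.ProjectiveSpecialLinearGroup (Fin 2) F)) :
      Set (Matrix.ProjectiveSpecialLinearGroup (Fin 2) F))).card_mul_index
  have h5 := (Subgroup.normalizer ((P0 : Subgroup (Matrix.ProjectiveSpecialLinearGroup (Fin 2) F)) :
      Set (Matrix.ProjectiveSpecialLinearGroup (Fin 2) F))).card_mul_index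
  have hpos : 0 < (Subgroup.normalizer
      ((P0 : Subgroup (Matrix.ProjectiveSpecialLinearGroup (Fin 2) F)) :
      Set (Matrix.ProjectiveSpecialLinearGroup (Fin 2) F))).index :=
    Nat.pos_of_ne_zero Subgroup.index_ne_zero_of_finite
  have h6 : Nat.card (Subgroup.normalizer
      ((P : Subgroup (Matrix.ProjectiveSpecialLinearGroup (Fin 2) F)) :
      Set (Matrix.ProjectiveSpecialLinearGroup (Fin 2) F))) =
      Nat.card (Subgroup.normalizer
      ((P0 : Subgroup (Matrix.ProjectiveSpecialLinearGroup (Fin 2) F)) :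
      Set (Matrix.ProjectiveSpecialLinearGroup (Fin 2) F))) := by
    apply Nat.eq_of_mul_eq_mul_right hpos
    rw [h5, ← h3, h4]
  rw [h6, hP0coe, normalizer_upperBar]
  exact card_borelBar_mul

end Cfsg.Agent.Lib.Helper14
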