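import Mathlib
import Cfsg.Agent.Lib.Helper14.PSL2Borel

set_option autoImplicit false

/-!
# Two pieces for Dickson's theorem (helper14, requested by helper41)

* `clause_b_of_le_borel`: a subgroup of `SL₂(F)` inside the upper triangular subgroup has image in
  `PSL₂(F)` inside the normalizer of a Sylow `p`-subgroup.
* `exists_type_zero_field`: a `Type 0` model of a subfield of a finite field.
-/

namespace Cfsg.Agent.Lib.Helper14

open Cfsg.Agent.Lib.Helper41 Cfsg.Agent.Lib.Helper11

theorem clause_b_of_le_borel {F : Type*} [Field F] [Fintype F] (p : ℕ) [Fact p.Prime] [CharP F p]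
    (Ht : Subgroup (Matrix.SpecialLinearGroup (Fin 2) F))
    (h : Ht ≤ Cfsg.Agent.Lib.Helper41.borelSub F) :
    ∃ (P : Sylow p (Matrix.ProjectiveSpecialLinearGroup (Fin 2) F))
      (K : Subgroup (Matrix.ProjectiveSpecialLinearGroup (Fin 2) F)),
      K ≤ Subgroup.normalizer
        ((P : Subgroup (Matrix.ProjectiveSpecialLinearGroup (Fin 2) F)) :
          Set (Matrix.ProjectiveSpecialLinearGroup (Fin 2) F)) ∧
      Nonempty (Ht.map (QuotientGroup.mk'
        (Subgroup.center (Matrix.SpecialLinearGroup (Fin 2) F))) ≃* K) := by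
  have hP : IsPGroup p (upperBar F) := isPGroup_upperBar p
  have hidx := not_dvd_index_upperBar (F := F) p
  refine ⟨hP.toSylow hidx, Ht.map (QuotientGroup.mk'
        (Subgroup.center (Matrix.SpecialLinearGroup (Fin 2) F))), ?_, ⟨MulEquiv.refl _⟩⟩
  have hP0coe : ((hP.toSylow hidx : Sylow p (Matrix.ProjectiveSpecialLinearGroup (Fin 2) F)) :
      Subgroup (Matrix.ProjectiveSpecialLinearGroup (Fin 2) F)) = upperBar F :=
    IsPGroup.toSylow_coe _ _
  rw [hP0coe, normalizer_upperBar]
  exact Subgroup.map_mono h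

theorem exists_type_zero_field {F : Type*} [Field F] [Fintype F] (K : Subfield F) :
    ∃ (K' : Type) (_ : Field K') (_ : Fintype K') (m : ℕ) (φ : K' →+* F),
      Fintype.card K' ^ m = Fintype.card F ∧ ∀ t : F, t ∈ K ↔ ∃ k : K', φ k = t := by
  classical
  obtain ⟨p, hp⟩ := CharP.exists K
  letI : Fintype K := Fintype.ofFinite K
  obtain ⟨n, hpp, hn⟩ := FiniteField.card K p
  have : Fact p.Prime := ⟨hpp⟩
  have hn0 : (n : ℕ) ≠ 0 := n.ne_zero
  letI : Fintype (GaloisField p n) := Fintype.ofFinite _
  have hcard : Fintype.card (GaloisField p n) = Fintype.card K := by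
    rw [hn, ← Nat.card_eq_fintype_card, GaloisField.card p n hn0]
  let e : GaloisField p n ≃+* K := FiniteField.ringEquivOfCardEq hcard
  refine ⟨GaloisField p n, inferInstance, inferInstance, Module.finrank K F,
    K.subtype.comp (e : GaloisField p n →+* K), ?_, ?_⟩
  · rw [hcard]
    exact (Module.card_eq_pow_finrank (K := K) (V := F)).symm
  · intro t
    constructor
    · intro ht
      refine ⟨e.symm ⟨t, ht⟩, ?_⟩
      simp
    · rintro ⟨k, rfl⟩
      simp

end Cfsg.Agent.Lib.Helper14
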