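/-
helper14: S4481 (helper81's project DIH): elementary facts on dihedral Sylow 2-subgroups, shared by the modules
[GT-A], [GT-B], [GT-C].
-/
import Mathlib
import Cfsg.Prelude.Def_Solvable
import Cfsg.Agent.Lib.Helper76.PCore

set_option autoImplicit false
set_option linter.unusedSectionVars false

namespace Cfsg.Agent.Lib.Helper14.Dih

open Cfsg DihedralGroup

/-! ### the abstract dihedral group -/

section abstract
variable {m : ℕ}

theorem eq_r_of_four_le_orderOf (x : DihedralGroup m) (h : 4 ≤ orderOf x) : ∃ i, x = r i := by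
  cases x with
  | r i => exact ⟨i, rfl⟩
  | sr i => rw [orderOf_sr] at h; omega

theorem add_self_ne_zero_of_four_le (i : ZMod m) (h : 4 ≤ orderOf (r i : DihedralGroup m)) :
    i + i ≠ 0 := by
  intro h0
  have h1 : (r i : DihedralGroup m) ^ 2 = 1 := by
    rw [pow_two, r_mul_r, h0, r_zero]
  have h2 := orderOf_dvd_of_pow_eq_one h1
  have h3 := Nat.le_of_dvd (by norm_num) h2
  omega

theorem eq_r_of_commute (x : DihedralGroup m) (i : ZMod m) (hi : i + i ≠ 0)
    (hc : x * r i = r i * x) : ∃ j, x = r j := by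
  cases x with
  | r j => exact ⟨j, rfl⟩
  | sr j =>
    exfalso
    rw [sr_mul_r, r_mul_sr] at hc
    have h1 : j + i = j - i := by simpa using hc
    apply hi
    have h2 : i + i = (j + i) - (j - i) := by ring
    rw [h2, h1, sub_self]

theorem conj_r (x : DihedralGroup m) (i : ZMod m) :
    x * r i * x⁻¹ = r i ∨ x * r i * x⁻¹ = (r i)⁻¹ := by
  cases x with
  | r j =>
    left
    rw [inv_r, r_mul_r, r_mul_r]
    congr 1; ring
  | sr j =>
    right
    rw [inv_sr, sr_mul_r, sr_mul_sr, inv_r]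
    congr 1; ring

theorem r_eq_pow [NeZero m] (j : ZMod m) : (r j : DihedralGroup m) = (r 1) ^ j.val := by
  rw [r_one_pow, ZMod.natCast_zmod_val]

end abstract

/-! ### a subgroup isomorphic to a dihedral group -/

section transport
variable {G : Type*} [Group G] {m : ℕ} [NeZero m] {P : Subgroup G} (φ : P ≃* DihedralGroup m)

/-- the generator of the rotation subgroup -/
noncomputable def rho : G := ((φ.symm (r 1) : P) : G)

theorem rho_mem : rho φ ∈ P := (φ.symm (r 1)).2

theorem orderOf_rho : orderOf (rho φ) = m := by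
  unfold rho
  rw [Subgroup.orderOf_coe, MulEquiv.orderOf_eq, orderOf_r_one]

theorem mem_zpowers_rho_of_apply_eq {x : G} (hx : x ∈ P) {j : ZMod m} (h : φ ⟨x, hx⟩ = r j) :
    x ∈ Subgroup.zpowers (rho φ) := by
  have h1 : (⟨x, hx⟩ : P) = (φ.symm (r 1)) ^ j.val := by
    apply φ.injective
    rw [map_pow, MulEquiv.apply_symm_apply, h, r_eq_pow]
  have h2 : x = (rho φ) ^ j.val := by
    have := congrArg Subtype.val h1
    simpa [rho] using this
  rw [h2]
  exact Subgroup.pow_mem _ (Subgroup.mem_zpowers _) _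

theorem orderOf_apply {x : G} (hx : x ∈ P) : orderOf (φ ⟨x, hx⟩) = orderOf x := by
  rw [MulEquiv.orderOf_eq, Subgroup.orderOf_mk]

/-- an element of order at least 4 is a rotation -/
theorem mem_zpowers_rho_of_four_le {u : G} (hu : u ∈ P) (huo : 4 ≤ orderOf u) :
    u ∈ Subgroup.zpowers (rho φ) := by
  obtain ⟨i, hi⟩ := eq_r_of_four_le_orderOf (φ ⟨u, hu⟩) (by rw [orderOf_apply]; exact huo)
  exact mem_zpowers_rho_of_apply_eq φ hu hi

/-- an element of `P` commuting with an element of order at least 4 is a rotation -/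
theorem mem_zpowers_rho_of_commute {u x : G} (hu : u ∈ P) (huo : 4 ≤ orderOf u) (hx : x ∈ P)
    (hc : x * u = u * x) : x ∈ Subgroup.zpowers (rho φ) := by
  obtain ⟨i, hi⟩ := eq_r_of_four_le_orderOf (φ ⟨u, hu⟩) (by rw [orderOf_apply]; exact huo)
  have hii : i + i ≠ 0 := by
    apply add_self_ne_zero_of_four_le
    rw [← hi, orderOf_apply]; exact huo
  have hc' : φ ⟨x, hx⟩ * r i = r i * φ ⟨x, hx⟩ := by
    rw [← hi, ← map_mul, ← map_mul]
    congr 1
    exact Subtype.ext hc
  obtain ⟨j, hj⟩ := eq_r_of_commute _ i hii hc'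
  exact mem_zpowers_rho_of_apply_eq φ hx hj

include φ in
/-- elements of `P` conjugate an element of order at least 4 to itself or to its inverse -/
theorem conj_eq_or_inv {u x : G} (hu : u ∈ P) (huo : 4 ≤ orderOf u) (hx : x ∈ P) :
    x * u * x⁻¹ = u ∨ x * u * x⁻¹ = u⁻¹ := by
  obtain ⟨i, hi⟩ := eq_r_of_four_le_orderOf (φ ⟨u, hu⟩) (by rw [orderOf_apply]; exact huo)
  rcases conj_r (φ ⟨x, hx⟩) i with h | h
  · left
    have h1 : φ (⟨x, hx⟩ * ⟨u, hu⟩ * ⟨x, hx⟩⁻¹) = φ ⟨u, hu⟩ := by
      rw [map_mul, map_mul, map_inv, hi, h]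
    exact congrArg Subtype.val (φ.injective h1)
  · right
    have h1 : φ (⟨x, hx⟩ * ⟨u, hu⟩ * ⟨x, hx⟩⁻¹) = φ (⟨u, hu⟩⁻¹) := by
      rw [map_mul, map_mul, map_inv, map_inv, hi, h]
    exact congrArg Subtype.val (φ.injective h1)

end transport

/-! ### the `p'`-core of a group with a normal `p`-complement -/

theorem pPrimeCore_index_of_normal {C : Type*} [Group C] [Finite C] (p : ℕ) [Fact p.Prime]
    (K : Subgroup C) (hK : K.Normal) (hKc : (Nat.card K).Coprime p) (a : ℕ) (hidx : K.index = p ^ a) :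
    (pPrimeCore p C).index = p ^ a := by
  have h1 : K ≤ pPrimeCore p C := Cfsg.Agent.Lib.Helper76.le_pPrimeCore p K hK hKc
  have h2 : (Nat.card (pPrimeCore p C)).Coprime p := Cfsg.Agent.Lib.Helper76.pPrimeCore_coprime p
  have h3 : Nat.card (pPrimeCore p C) ∣ Nat.card C := Subgroup.card_subgroup_dvd_card _
  have h4 : Nat.card K * K.index = Nat.card C := Subgroup.card_mul_index K
  rw [hidx] at h4
  have h5 : Nat.card (pPrimeCore p C) ∣ Nat.card K := by
    rw [← h4] at h3
    exact (Nat.Coprime.pow_right a h2).dvd_of_dvd_mul_right h3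
  have h6 : Nat.card (pPrimeCore p C) ≤ Nat.card K := Nat.le_of_dvd Nat.card_pos h5
  have h7 : K = pPrimeCore p C := Subgroup.eq_of_le_of_card_ge h1 h6
  rw [← h7, hidx]

end Cfsg.Agent.Lib.Helper14.Dih
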