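/-
helper14: S4481 module [GT-A] (helper81's project DIH): the centralizer of an element of order at least 4 of a dihedral
Sylow 2-subgroup is 2-nilpotent with cyclic Sylow 2-subgroups of order `2^(n-1)`.
-/
import Mathlib
import Cfsg.Prelude.Def_Blocks
import Cfsg.Prelude.Def_Solvable
import Cfsg.Agent.Lib.Helper14.DihBase

set_option autoImplicit false

namespace Cfsg.Agent.Lib.Helper14.Dih

open Cfsg

/-- [GT-A] centralizer of an element of order ≥ 4 of a dihedral Sylow 2-subgroup. -/
theorem centralizer_index_of_four_le {G : Type*} [Group G] [Finite G] (n : ℕ) (hn : 3 ≤ n)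
    (P : Sylow 2 G) (hP : Nonempty ((P : Subgroup G) ≃* DihedralGroup (2 ^ (n - 1))))
    (u : G) (hu : u ∈ (P : Subgroup G)) (huo : 4 ≤ orderOf u) :
    (Cfsg.pPrimeCore 2 ↥(Subgroup.centralizer ({u} : Set G))).index = 2 ^ (n - 1) := by
  classical
  obtain ⟨φ⟩ := hP
  have : NeZero (2 ^ (n - 1)) := ⟨by positivity⟩
  have : Fact (Nat.Prime 2) := ⟨Nat.prime_two⟩
  set C := Subgroup.centralizer ({u} : Set G) with hC
  have hρo : orderOf (rho φ) = 2 ^ (n - 1) := orderOf_rho φ
  have huR : u ∈ Subgroup.zpowers (rho φ) := mem_zpowers_rho_of_four_le φ hu huo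
  have hRC : Subgroup.zpowers (rho φ) ≤ C := by
    intro x hx
    rw [hC, Subgroup.mem_centralizer_iff]
    intro y hy
    rw [Set.mem_singleton_iff] at hy
    subst hy
    obtain ⟨a, rfl⟩ := Subgroup.mem_zpowers_iff.1 hx
    obtain ⟨b, hb⟩ := Subgroup.mem_zpowers_iff.1 huR
    rw [← hb]
    exact (Commute.zpow_zpow_self (rho φ) b a).eq
  have hRcard : Nat.card (Subgroup.zpowers (rho φ)) = 2 ^ (n - 1) := by
    rw [Nat.card_zpowers, hρo]
  have hR2 : IsPGroup 2 (Subgroup.zpowers (rho φ)) := IsPGroup.of_card hRcard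
  have hR'2 : IsPGroup 2 ((Subgroup.zpowers (rho φ)).subgroupOf C) := hR2.comap_subtype
  obtain ⟨T, hRT⟩ := hR'2.exists_le_sylow
  set TG : Subgroup G := (T : Subgroup C).map C.subtype with hTG
  have hTG2 : IsPGroup 2 TG := T.2.map _
  obtain ⟨Q, hTQ⟩ := hTG2.exists_le_sylow
  obtain ⟨g, hg⟩ := MulAction.exists_smul_eq G P Q
  subst hg
  let φQ : ((g • P : Sylow 2 G) : Subgroup G) ≃* DihedralGroup (2 ^ (n - 1)) :=
    (P.equivSMul g).symm.trans φ
  have hRTG : Subgroup.zpowers (rho φ) ≤ TG := by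
    intro x hx
    exact ⟨⟨x, hRC hx⟩, hRT (by simpa [Subgroup.mem_subgroupOf] using hx), rfl⟩
  have huQ : u ∈ ((g • P : Sylow 2 G) : Subgroup G) := hTQ (hRTG huR)
  have hTGle : TG ≤ Subgroup.zpowers (rho φQ) := by
    intro t ht
    have htQ : t ∈ ((g • P : Sylow 2 G) : Subgroup G) := hTQ ht
    have htC : t ∈ C := by
      obtain ⟨t', _, rfl⟩ := ht
      exact t'.2
    refine mem_zpowers_rho_of_commute φQ huQ huo htQ ?_
    exact ((Subgroup.mem_centralizer_iff.1 htC) u rfl).symm
  have h1 : Nat.card TG ∣ 2 ^ (n - 1) := by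
    have := Subgroup.card_dvd_of_le hTGle
    rwa [Nat.card_zpowers, orderOf_rho] at this
  have h2 : 2 ^ (n - 1) ∣ Nat.card TG := by
    have := Subgroup.card_dvd_of_le hRTG
    rwa [hRcard] at this
  have hcardTG : Nat.card TG = 2 ^ (n - 1) := Nat.dvd_antisymm h1 h2
  have hcardT : Nat.card T = 2 ^ (n - 1) := by
    rw [← hcardTG]
    exact (Subgroup.card_map_of_injective (Subgroup.subtype_injective C)).symm
  have hTGcyc : IsCyclic TG :=
    isCyclic_of_injective (Subgroup.inclusion hTGle) (Subgroup.inclusion_injective _)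
  have hTcyc : IsCyclic T :=
    isCyclic_of_injective
      ((Subgroup.equivMapOfInjective (T : Subgroup C) C.subtype
        (Subgroup.subtype_injective C)).toMonoidHom)
      (Subgroup.equivMapOfInjective (T : Subgroup C) C.subtype
        (Subgroup.subtype_injective C)).injective
  have h2C : 2 ∣ Nat.card C := by
    have h3 : 2 ^ (n - 1) ∣ Nat.card C := by
      have := Subgroup.card_dvd_of_le hRC
      rwa [hRcard] at this
    exact dvd_trans (dvd_pow_self 2 (by omega)) h3
  have hmin : (Nat.card C).minFac = 2 := (Nat.minFac_eq_two_iff _).2 h2C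
  have hcompl := IsCyclic.isComplement' hmin hTcyc
  have hKidx := hcompl.symm.index_eq_card
  have hKodd : (Nat.card (MonoidHom.transferSylow T
      (hTcyc.normalizer_le_centralizer hmin)).ker).Coprime 2 := by
    rw [Nat.coprime_comm, Nat.Prime.coprime_iff_not_dvd Nat.prime_two]
    exact MonoidHom.not_dvd_card_ker_transferSylow T _
  exact pPrimeCore_index_of_normal 2 _ (MonoidHom.normal_ker _) hKodd (n - 1) (by
    rw [hKidx, hcardT])

end Cfsg.Agent.Lib.Helper14.Dih
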