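/-
helper14: S4481 module [GT-B] (helper81's project DIH): the centralizer of the central involution of a dihedral
Sylow 2-subgroup of order `2^n` has a normal 2-complement of index `2^n`.
-/
import Mathlib
import Cfsg.Prelude.Def_Blocks
import Cfsg.Prelude.Def_Solvable
import Cfsg.Agent.Lib.Helper14.DihBase
import Cfsg.Agent.S0514

set_option autoImplicit false

namespace Cfsg.Agent.Lib.Helper14.Dih

open Cfsg

/-- [GT-B] centralizer of the central involution of a dihedral Sylow 2-subgroup. -/
theorem centralizer_index_of_central_involution {G : Type*} [Group G] [Finite G] (n : ℕ)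
    (hn : 3 ≤ n) (P : Sylow 2 G)
    (hP : Nonempty ((P : Subgroup G) ≃* DihedralGroup (2 ^ (n - 1))))
    (z : G) (hz : z ∈ (P : Subgroup G)) (hzo : orderOf z = 2)
    (hzc : ∀ x ∈ (P : Subgroup G), x * z = z * x) :
    (Cfsg.pPrimeCore 2 ↥(Subgroup.centralizer ({z} : Set G))).index = 2 ^ n := by
  classical
  have : Fact (Nat.Prime 2) := ⟨Nat.prime_two⟩
  have h2m : 2 ≤ 2 ^ (n - 1) := by
    calc 2 = 2 ^ 1 := by norm_num
      _ ≤ 2 ^ (n - 1) := Nat.pow_le_pow_right (by norm_num) (by omega)
  set C := Subgroup.centralizer ({z} : Set G) with hC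
  obtain ⟨N, hNn, hNodd, k, hk⟩ := Cfsg.Agent.S0514.result P (2 ^ (n - 1)) h2m hP z hzo
  have hPcard : Nat.card (P : Subgroup G) = 2 ^ n := by
    obtain ⟨φ⟩ := hP
    rw [Nat.card_congr φ.toEquiv, DihedralGroup.nat_card, ← pow_succ']
    congr 1; omega
  have hPC : (P : Subgroup G) ≤ C := by
    intro x hx
    rw [hC, Subgroup.mem_centralizer_iff]
    intro y hy
    rw [Set.mem_singleton_iff] at hy
    subst hy
    exact (hzc x hx).symm
  have hcardC : Nat.card N * 2 ^ k = Nat.card C := by
    rw [← hk]; exact Subgroup.card_mul_index N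
  have hNc : (Nat.card N).Coprime 2 := Nat.Coprime.symm (Nat.coprime_two_left.2 hNodd)
  -- n ≤ k
  have h1 : 2 ^ n ∣ 2 ^ k := by
    have h3 : 2 ^ n ∣ Nat.card C := by
      rw [← hPcard]; exact Subgroup.card_dvd_of_le hPC
    rw [← hcardC] at h3
    exact (Nat.Coprime.pow_left n hNc.symm).dvd_of_dvd_mul_left h3
  -- k ≤ n
  have h2 : 2 ^ k ∣ 2 ^ n := by
    have h3 : 2 ^ k ∣ Nat.card G :=
      dvd_trans (Dvd.intro_left _ hcardC) (Subgroup.card_subgroup_dvd_card C)
    have h4 : Nat.card (P : Subgroup G) * (P : Subgroup G).index = Nat.card G :=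
      Subgroup.card_mul_index _
    rw [hPcard] at h4
    rw [← h4] at h3
    have h5 : (2 ^ k).Coprime (P : Subgroup G).index := by
      apply Nat.Coprime.pow_left
      rw [Nat.Prime.coprime_iff_not_dvd Nat.prime_two]
      exact P.not_dvd_index
    exact h5.dvd_of_dvd_mul_right h3
  have hkn : k = n :=
    le_antisymm ((Nat.pow_dvd_pow_iff_le_right (by norm_num)).1 h2)
      ((Nat.pow_dvd_pow_iff_le_right (by norm_num)).1 h1)
  exact pPrimeCore_index_of_normal 2 N hNn hNc n (by rw [hk, hkn])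

end Cfsg.Agent.Lib.Helper14.Dih
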