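/-
helper14: S4481 module [GT-C] (helper81's project DIH): fusion of the powers of a generator `σ` of the rotation subgroup
of a dihedral Sylow 2-subgroup: `σ^l ~ σ^l'` only if `l' = ±l`.
-/
import Mathlib
import Cfsg.Prelude.Def_Blocks
import Cfsg.Prelude.Def_Solvable
import Cfsg.Agent.Lib.Helper14.DihBase

set_option autoImplicit false

namespace Cfsg.Agent.Lib.Helper14.Dih

open Cfsg
open scoped Pointwise

theorem pow_mem_zpowers_of_orderOf_eq {G : Type*} [Group G] (σ : G) (hσ : 0 < orderOf σ) (a b : ℕ)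
    (ha : a ≠ 0) (hb : b ≠ 0) (h : orderOf (σ ^ a) = orderOf (σ ^ b)) :
    σ ^ b ∈ Subgroup.zpowers (σ ^ a) := by
  have h1 : orderOf σ / Nat.gcd (orderOf σ) a = orderOf σ / Nat.gcd (orderOf σ) b := by
    rw [← orderOf_pow' σ ha, ← orderOf_pow' σ hb, h]
  have hda := Nat.gcd_dvd_left (orderOf σ) a
  have hdb := Nat.gcd_dvd_left (orderOf σ) b
  have hd : Nat.gcd (orderOf σ) a = Nat.gcd (orderOf σ) b := by
    have e1 := Nat.mul_div_cancel' hda
    have e2 := Nat.mul_div_cancel' hdb
    rw [← h1] at e2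
    have hq : 0 < orderOf σ / Nat.gcd (orderOf σ) a :=
      Nat.div_pos (Nat.le_of_dvd hσ hda) (Nat.pos_of_dvd_of_pos hda hσ)
    exact Nat.eq_of_mul_eq_mul_right hq (e1.trans e2.symm)
  have h2 : σ ^ (Nat.gcd (orderOf σ) a) ∈ Subgroup.zpowers (σ ^ a) := by
    rw [Subgroup.mem_zpowers_iff]
    refine ⟨Nat.gcdB (orderOf σ) a, ?_⟩
    have hbez := Nat.gcd_eq_gcd_ab (orderOf σ) a
    rw [← zpow_natCast σ (Nat.gcd (orderOf σ) a), hbez, zpow_add, zpow_mul, zpow_natCast,
      pow_orderOf_eq_one, one_zpow, one_mul, zpow_mul, zpow_natCast]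
  obtain ⟨c, hc⟩ : Nat.gcd (orderOf σ) a ∣ b := hd ▸ Nat.gcd_dvd_right (orderOf σ) b
  rw [hc, pow_mul]
  exact Subgroup.pow_mem _ h2 _

/-- [GT-C] fusion of powers of `σ`. -/
theorem pow_conj {G : Type*} [Group G] [Finite G] (n : ℕ) (hn : 3 ≤ n)
    (P : Sylow 2 G) (hP : Nonempty ((P : Subgroup G) ≃* DihedralGroup (2 ^ (n - 1))))
    (σ : G) (hσ : σ ∈ (P : Subgroup G)) (hσo : orderOf σ = 2 ^ (n - 1))
    (l l' : ℕ) (hl0 : 0 < l) (hl : l < 2 ^ (n - 1)) (hl'0 : 0 < l') (hl' : l' < 2 ^ (n - 1))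
    (hc : IsConj (σ ^ l) (σ ^ l')) : l' = l ∨ l' = 2 ^ (n - 1) - l := by
  classical
  obtain ⟨φ⟩ := hP
  have : NeZero (2 ^ (n - 1)) := ⟨by positivity⟩
  have : Fact (Nat.Prime 2) := ⟨Nat.prime_two⟩
  obtain ⟨c, hcu⟩ := isConj_iff.1 hc
  have hmpos : 0 < orderOf σ := by rw [hσo]; positivity
  have hord : orderOf (σ ^ l) = orderOf (σ ^ l') := by
    rw [← hcu]
    have := orderOf_injective (MulAut.conj c).toMonoidHom (MulAut.conj c).injective (σ ^ l)
    simpa using this.symm
  have hinj := pow_injOn_Iio_orderOf (x := σ)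
  have hlm : l ∈ Set.Iio (orderOf σ) := by rw [hσo]; exact hl
  have hl'm : l' ∈ Set.Iio (orderOf σ) := by rw [hσo]; exact hl'
  by_cases h4 : 4 ≤ orderOf (σ ^ l)
  · -- rotations of order at least 4
    have h4' : 4 ≤ orderOf (σ ^ l') := hord ▸ h4
    have huP : σ ^ l ∈ (P : Subgroup G) := Subgroup.pow_mem _ hσ _
    obtain ⟨k, hk⟩ := Subgroup.mem_zpowers_iff.1
      (pow_mem_zpowers_of_orderOf_eq σ hmpos l l' hl0.ne' hl'0.ne' hord)
    obtain ⟨k', hk'⟩ := Subgroup.mem_zpowers_iff.1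
      (pow_mem_zpowers_of_orderOf_eq σ hmpos l' l hl'0.ne' hl0.ne' hord.symm)
    set u := σ ^ l with hu
    set V := Subgroup.zpowers u with hV
    -- `c` normalizes `V`
    have hconj_zpow : ∀ j : ℤ, c * u ^ j * c⁻¹ = (σ ^ l') ^ j := by
      intro j
      rw [← hcu]
      exact (map_zpow (MulAut.conj c).toMonoidHom u j)
    have hcN : c ∈ Subgroup.normalizer (V : Set G) := by
      rw [Subgroup.mem_normalizer_iff]
      intro h
      constructor
      · intro hh
        obtain ⟨j, rfl⟩ := Subgroup.mem_zpowers_iff.1 hh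
        rw [hconj_zpow, ← hk, ← zpow_mul]
        exact Subgroup.zpow_mem _ (Subgroup.mem_zpowers _) _
      · intro hh
        obtain ⟨j, hj⟩ := Subgroup.mem_zpowers_iff.1 hh
        -- c h c⁻¹ = u^j = (u'^k')^j = c u^(k' j) c⁻¹
        have h1 : c * h * c⁻¹ = c * u ^ (k' * j) * c⁻¹ := by
          rw [hconj_zpow, zpow_mul, hk', hj]
        have h2 : h = u ^ (k' * j) := by
          have := mul_left_cancel (mul_right_cancel h1)
          exact this
        rw [h2]
        exact Subgroup.zpow_mem _ (Subgroup.mem_zpowers _) _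
    -- `P` normalizes `V`
    have hPconj : ∀ x ∈ (P : Subgroup G), ∀ h ∈ V, x * h * x⁻¹ ∈ V := by
      intro x hx h hh
      obtain ⟨j, rfl⟩ := Subgroup.mem_zpowers_iff.1 hh
      have h1 : x * u ^ j * x⁻¹ = (x * u * x⁻¹) ^ j :=
        (map_zpow (MulAut.conj x).toMonoidHom u j)
      rw [h1]
      rcases conj_eq_or_inv φ huP h4 hx with h2 | h2
      · rw [h2]; exact Subgroup.zpow_mem _ (Subgroup.mem_zpowers _) _
      · rw [h2]
        exact Subgroup.zpow_mem _ (Subgroup.inv_mem _ (Subgroup.mem_zpowers _)) _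
    have hPN : (P : Subgroup G) ≤ Subgroup.normalizer (V : Set G) := by
      intro x hx
      rw [Subgroup.mem_normalizer_iff]
      intro h
      constructor
      · exact hPconj x hx h
      · intro hh
        have := hPconj x⁻¹ (Subgroup.inv_mem _ hx) _ hh
        have e : x⁻¹ * (x * h * x⁻¹) * x⁻¹⁻¹ = h := by group
        rwa [e] at this
    -- inside the normalizer
    set N := Subgroup.normalizer (V : Set G) with hN
    set C' : Subgroup N := (Subgroup.normalizerMonoidHom V).ker with hC'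
    set P' : Subgroup N := (P : Subgroup G).subgroupOf N with hP'
    have hVcyc : IsCyclic V := by rw [hV]; infer_instance
    have hVcard : ∃ j : ℕ, Nat.card V = 2 ^ j := by
      have h1 : Nat.card V ∣ 2 ^ (n - 1) := by
        rw [hV, Nat.card_zpowers, ← hσo, hu]
        exact orderOf_pow_dvd l
      exact (Nat.dvd_prime_pow Nat.prime_two).1 h1 |>.imp fun j hj => hj.2
    obtain ⟨j, hj⟩ := hVcard
    have hAut : ∃ a : ℕ, Nat.card (MulAut V) = 2 ^ a := by
      rw [IsCyclic.card_mulAut, hj]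
      rcases Nat.eq_zero_or_pos j with h0 | h0
      · exact ⟨0, by rw [h0]; simp⟩
      · exact ⟨j - 1, by rw [Nat.totient_prime_pow Nat.prime_two h0]; simp⟩
    obtain ⟨a, ha⟩ := hAut
    have hC'idx : C'.index ∣ 2 ^ a := by
      have key := Subgroup.card_dvd_of_injective _
        (QuotientGroup.kerLift_injective (Subgroup.normalizerMonoidHom V))
      rw [ha] at key
      exact key
    have hP'idx : ¬ 2 ∣ P'.index := by
      intro h2
      apply P.not_dvd_index
      have h3 : P'.index ∣ (P : Subgroup G).index := by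
        rw [hP', ← Subgroup.relIndex]
        exact Subgroup.relIndex_dvd_index_of_le hPN
      exact dvd_trans h2 h3
    have htop : C' ⊔ P' = ⊤ := by
      rw [← Subgroup.index_eq_one]
      have h1 : (C' ⊔ P').index ∣ C'.index := Subgroup.index_dvd_of_le le_sup_left
      have h2 : (C' ⊔ P').index ∣ P'.index := Subgroup.index_dvd_of_le le_sup_right
      have h3 : (C' ⊔ P').index ∣ 2 ^ a := dvd_trans h1 hC'idx
      obtain ⟨b, -, hb⟩ := (Nat.dvd_prime_pow Nat.prime_two).1 h3
      rcases Nat.eq_zero_or_pos b with h0 | h0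
      · rw [hb, h0, pow_zero]
      · exfalso
        apply hP'idx
        refine dvd_trans ?_ h2
        rw [hb]
        exact dvd_pow_self 2 h0.ne'
    have hcmem : (⟨c, hcN⟩ : N) ∈ C' ⊔ P' := by rw [htop]; trivial
    have hC'n : C'.Normal := by rw [hC']; exact MonoidHom.normal_ker _
    have hmul : ((C' ⊔ P' : Subgroup N) : Set N) = (C' : Set N) * (P' : Set N) :=
      Subgroup.normal_mul C' P'
    have hcmem' : (⟨c, hcN⟩ : N) ∈ (C' : Set N) * (P' : Set N) := by
      rw [← hmul]; exact hcmem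
    obtain ⟨y, hy, x, hx, hyx⟩ := Set.mem_mul.1 hcmem'
    have hyC : (y : G) ∈ Subgroup.centralizer (V : Set G) := by
      have h1 : y ∈ (Subgroup.normalizerMonoidHom V).ker := hy
      rw [Subgroup.normalizerMonoidHom_ker, Subgroup.mem_subgroupOf] at h1
      exact h1
    have hxP : (x : G) ∈ (P : Subgroup G) := by
      have h1 : x ∈ (P : Subgroup G).subgroupOf N := hx
      rwa [Subgroup.mem_subgroupOf] at h1
    have hcyx : c = (y : G) * (x : G) := by
      have := congrArg Subtype.val hyx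
      simpa using this.symm
    -- conjugation by `c` on `u`
    have hyc : ∀ v ∈ V, (y : G) * v * (y : G)⁻¹ = v := by
      intro v hv
      have := (Subgroup.mem_centralizer_iff.1 hyC) v hv
      rw [← this, mul_inv_cancel_right]
    have hxu : (x : G) * u * (x : G)⁻¹ = u ∨ (x : G) * u * (x : G)⁻¹ = u⁻¹ :=
      conj_eq_or_inv φ huP h4 hxP
    have hcu' : c * u * c⁻¹ = (y : G) * ((x : G) * u * (x : G)⁻¹) * (y : G)⁻¹ := by
      rw [hcyx]; group
    rcases hxu with h2 | h2
    · left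
      rw [h2, hyc u (Subgroup.mem_zpowers u)] at hcu'
      rw [hcu'] at hcu
      exact (hinj hlm hl'm hcu).symm
    · right
      rw [h2, hyc u⁻¹ (Subgroup.inv_mem _ (Subgroup.mem_zpowers u))] at hcu'
      rw [hcu'] at hcu
      -- u⁻¹ = σ^(m - l)
      have h3 : u⁻¹ = σ ^ (2 ^ (n - 1) - l) := by
        rw [inv_eq_iff_mul_eq_one, hu, ← pow_add, Nat.add_sub_cancel' hl.le, ← hσo,
          pow_orderOf_eq_one]
      rw [h3] at hcu
      have hml : 2 ^ (n - 1) - l ∈ Set.Iio (orderOf σ) := by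
        rw [hσo]; exact Nat.sub_lt (by positivity) hl0
      exact (hinj hml hl'm hcu).symm
  · -- involutions
    left
    push Not at h4
    have hne : σ ^ l ≠ 1 := pow_ne_one_of_lt_orderOf hl0.ne' (by rw [hσo]; exact hl)
    have hne' : σ ^ l' ≠ 1 := pow_ne_one_of_lt_orderOf hl'0.ne' (by rw [hσo]; exact hl')
    have hdvd : orderOf (σ ^ l) ∣ 2 ^ (n - 1) := by rw [← hσo]; exact orderOf_pow_dvd l
    obtain ⟨j, hj1, hj2⟩ := (Nat.dvd_prime_pow Nat.prime_two).1 hdvd
    have hj : j = 1 := by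
      rcases Nat.lt_or_ge j 2 with h | h
      · rcases Nat.eq_zero_or_pos j with h0 | h0
        · exfalso
          rw [h0, pow_zero, orderOf_eq_one_iff] at hj2
          exact hne hj2
        · omega
      · exfalso
        have : 2 ^ 2 ≤ 2 ^ j := Nat.pow_le_pow_right (by norm_num) h
        rw [hj2] at h4
        omega
    rw [hj, pow_one] at hj2
    have hj2' : orderOf (σ ^ l') = 2 := by rw [← hord, hj2]
    -- `σ^(2l) = 1` so `m ∣ 2l`, hence `2l = m`
    have key : ∀ t : ℕ, 0 < t → t < 2 ^ (n - 1) → orderOf (σ ^ t) = 2 → 2 * t = 2 ^ (n - 1) := by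
      intro t ht0 htm ht2
      have h1 : σ ^ (t * 2) = 1 := by rw [pow_mul, ← ht2, pow_orderOf_eq_one]
      have h2 : 2 ^ (n - 1) ∣ t * 2 := by rw [← hσo]; exact orderOf_dvd_of_pow_eq_one h1
      obtain ⟨q, hq⟩ := h2
      have hq1 : q = 1 := by
        rcases Nat.lt_or_ge q 2 with h | h
        · rcases Nat.eq_zero_or_pos q with h0 | h0
          · rw [h0, mul_zero] at hq; omega
          · omega
        · exfalso
          have : 2 ^ (n - 1) * 2 ≤ 2 ^ (n - 1) * q := Nat.mul_le_mul_left _ h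
          omega
      rw [hq1, mul_one] at hq
      omega
    have e1 := key l hl0 hl hj2
    have e2 := key l' hl'0 hl' hj2'
    omega

end Cfsg.Agent.Lib.Helper14.Dih
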