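import Mathlib
import Cfsg.Agent.Lib.Helper46.DihOrdDefs
import Cfsg.Agent.Lib.Helper74.OrderFormulaB
import Cfsg.Agent.Lib.Helper74.InvolCols

/-!
# S4482 module [TABLE] (helper14, for helper46): `table_sum`

Finite algebra from the character table of S4481: with the principal `2`-block listed as
`1, χ₁, χ₂, χ₃, χ'_j` and the values on `⟨σ⟩` given, the two block sums at `z = σ ^ 2^(n-2)` and at `σ`
add up to `2 (f - δ)² / (f (f + δ))`.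

The statement is helper46's (#4034) verbatim, under `open scoped Classical in`.
-/

set_option autoImplicit false

namespace Cfsg.Agent.Lib.Helper14.DihOrd

open Cfsg Cfsg.Agent.Lib.Helper46.DihOrd
open Cfsg.Agent.Lib.Helper74 Cfsg.Agent.Lib.Helper78
open scoped ComplexConjugate

variable {G : Type*} [Group G] [Fintype G]

/-- `∑_{j < 2m+1} (-1)^(j+1) = -1`. -/
theorem sum_neg_one_pow_odd (m : ℕ) :
    ∑ j ∈ Finset.range (2 * m + 1), (-1 : ℂ) ^ (j + 1) = -1 := by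
  induction m with
  | zero => simp
  | succ m ih =>
    have : 2 * (m + 1) + 1 = (2 * m + 1) + 1 + 1 := by ring
    rw [this, Finset.sum_range_succ, Finset.sum_range_succ, ih]
    have e1 : (-1 : ℂ) ^ (2 * m + 1 + 1) = 1 := by
      rw [show 2 * m + 1 + 1 = 2 * (m + 1) by ring, pow_mul]; simp
    have e2 : (-1 : ℂ) ^ (2 * m + 1 + 1 + 1) = -1 := by
      rw [pow_succ, e1]; simp
    rw [e1, e2]; ring

/-- For `ζ ^ h = -1`: `∑_{j < h-1} (ζ^(j+1) + (ζ^(j+1))⁻¹) = 0`. -/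
theorem sum_root_add_inv (ζ : ℂ) (h : ℕ) (hζ : ζ ^ h = -1) :
    ∑ j ∈ Finset.range (h - 1), (ζ ^ (j + 1) + (ζ ^ (j + 1))⁻¹) = 0 := by
  have hinv : ∀ j ∈ Finset.range (h - 1), (ζ ^ (j + 1))⁻¹ = -ζ ^ (h - 1 - 1 - j + 1) := by
    intro j hj
    rw [Finset.mem_range] at hj
    apply inv_eq_of_mul_eq_one_right
    rw [mul_neg, ← pow_add, show j + 1 + (h - 1 - 1 - j + 1) = h by omega, hζ]; simp
  rw [Finset.sum_add_distrib, Finset.sum_congr rfl hinv, Finset.sum_neg_distrib,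
    Finset.sum_range_reflect (fun j => ζ ^ (j + 1)) (h - 1)]
  ring

/-- The principal character as an element of `IrrCharacter G`. -/
noncomputable def chi0 : IrrCharacter G := ⟨fun _ => 1, isIrrCharacter_one⟩

open scoped Classical in
/-- Splitting a sum over the principal block listed as `1, χ₁, χ₂, χ₃, χ'_j`. -/
theorem sum_block_split {M : Ideal AlgInt} {N : ℕ}
    (χ₁ χ₂ χ₃ : IrrCharacter G) (χ' : Fin N → IrrCharacter G)
    (hinj : Function.Injective χ')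
    (h1 : (χ₁ : G → ℂ) ≠ (fun _ => 1)) (h2 : (χ₂ : G → ℂ) ≠ (fun _ => 1))
    (h3 : (χ₃ : G → ℂ) ≠ (fun _ => 1)) (h12 : χ₁ ≠ χ₂) (h13 : χ₁ ≠ χ₃) (h23 : χ₂ ≠ χ₃)
    (hχ' : ∀ j, χ' j ≠ χ₁ ∧ χ' j ≠ χ₂ ∧ χ' j ≠ χ₃ ∧ (χ' j : G → ℂ) ≠ (fun _ => 1))
    (hB : principalBlock M G = {χ : IrrCharacter G | (χ : G → ℂ) = (fun _ => 1) ∨ χ = χ₁ ∨
      χ = χ₂ ∨ χ = χ₃ ∨ ∃ j, χ = χ' j})
    (F : IrrCharacter G → ℂ) :
    ∑ χ ∈ Finset.univ.filter (fun χ : IrrCharacter G => χ ∈ principalBlock M G), F χ =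
      F chi0 + (F χ₁ + (F χ₂ + (F χ₃ + ∑ j : Fin N, F (χ' j)))) := by
  have h0 : ∀ χ : IrrCharacter G, (χ : G → ℂ) = (fun _ => 1) ↔ χ = chi0 := by
    intro χ
    constructor
    · intro h; exact Subtype.ext h
    · intro h; rw [h]; rfl
  have hS : Finset.univ.filter (fun χ : IrrCharacter G => χ ∈ principalBlock M G) =
      insert chi0 (insert χ₁ (insert χ₂ (insert χ₃ (Finset.univ.image χ')))) := by
    ext χ
    simp only [Finset.mem_filter, Finset.mem_univ, true_and, Finset.mem_insert, Finset.mem_image,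
      hB, Set.mem_ofPred_eq, h0]
    constructor
    · rintro (h | h | h | h | ⟨j, h⟩)
      · exact Or.inl h
      · exact Or.inr (Or.inl h)
      · exact Or.inr (Or.inr (Or.inl h))
      · exact Or.inr (Or.inr (Or.inr (Or.inl h)))
      · exact Or.inr (Or.inr (Or.inr (Or.inr ⟨j, h.symm⟩)))
    · rintro (h | h | h | h | ⟨j, h⟩)
      · exact Or.inl h
      · exact Or.inr (Or.inl h)
      · exact Or.inr (Or.inr (Or.inl h))
      · exact Or.inr (Or.inr (Or.inr (Or.inl h)))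
      · exact Or.inr (Or.inr (Or.inr (Or.inr ⟨j, h.symm⟩)))
  have n3 : χ₃ ∉ Finset.univ.image χ' := by
    simp only [Finset.mem_image, Finset.mem_univ, true_and, not_exists]
    intro j h; exact (hχ' j).2.2.1 h
  have n2 : χ₂ ∉ insert χ₃ (Finset.univ.image χ') := by
    simp only [Finset.mem_insert, Finset.mem_image, Finset.mem_univ, true_and, not_or, not_exists]
    exact ⟨h23, fun j h => (hχ' j).2.1 h⟩
  have n1 : χ₁ ∉ insert χ₂ (insert χ₃ (Finset.univ.image χ')) := by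
    simp only [Finset.mem_insert, Finset.mem_image, Finset.mem_univ, true_and, not_or, not_exists]
    exact ⟨h12, h13, fun j h => (hχ' j).1 h⟩
  have n0 : (chi0 : IrrCharacter G) ∉
      insert χ₁ (insert χ₂ (insert χ₃ (Finset.univ.image χ'))) := by
    simp only [Finset.mem_insert, Finset.mem_image, Finset.mem_univ, true_and, not_or, not_exists]
    refine ⟨fun h => h1 ((h0 χ₁).mpr h.symm), fun h => h2 ((h0 χ₂).mpr h.symm),
      fun h => h3 ((h0 χ₃).mpr h.symm), fun j h => (hχ' j).2.2.2 ((h0 _).mpr h)⟩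
  rw [hS, Finset.sum_insert n0, Finset.sum_insert n1, Finset.sum_insert n2, Finset.sum_insert n3,
    Finset.sum_image (fun a _ b _ hab => hinj hab)]


omit [Fintype G] in
theorem chi0_apply (g : G) : ((chi0 : IrrCharacter G) : G → ℂ) g = 1 := rfl

open scoped Classical in
theorem table_sum {M : Ideal AlgInt} (n : ℕ) (hn : 3 ≤ n) (σ : G)
    (ζ : ℂ) (hζ : IsPrimitiveRoot ζ (2 ^ (n - 1)))
    (χ₁ χ₂ χ₃ : IrrCharacter G) (χ' : Fin (2 ^ (n - 2) - 1) → IrrCharacter G) (δ₁ δ₂ δ₃ : ℤ)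
    (hδ₁ : δ₁ = 1 ∨ δ₁ = -1) (hδ₂ : δ₂ = 1 ∨ δ₂ = -1) (hδ₃ : δ₃ = 1 ∨ δ₃ = -1)
    (hinj : Function.Injective χ')
    (h1 : (χ₁ : G → ℂ) ≠ (fun _ => 1)) (h2 : (χ₂ : G → ℂ) ≠ (fun _ => 1))
    (h3 : (χ₃ : G → ℂ) ≠ (fun _ => 1)) (h12 : χ₁ ≠ χ₂) (h13 : χ₁ ≠ χ₃) (h23 : χ₂ ≠ χ₃)
    (hχ' : ∀ j, χ' j ≠ χ₁ ∧ χ' j ≠ χ₂ ∧ χ' j ≠ χ₃ ∧ (χ' j : G → ℂ) ≠ (fun _ => 1))
    (hB : principalBlock M G = {χ : IrrCharacter G | (χ : G → ℂ) = (fun _ => 1) ∨ χ = χ₁ ∨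
      χ = χ₂ ∨ χ = χ₃ ∨ ∃ j, χ = χ' j})
    (hval : ∀ l : ℕ, 0 < l → l < 2 ^ (n - 1) → (χ₁ : G → ℂ) (σ ^ l) = δ₁ ∧
      (χ₂ : G → ℂ) (σ ^ l) = δ₂ * (-1) ^ (l + 1) ∧ (χ₃ : G → ℂ) (σ ^ l) = δ₃ * (-1) ^ (l + 1) ∧
      ∀ j : Fin (2 ^ (n - 2) - 1), (χ' j : G → ℂ) (σ ^ l) =
        δ₁ * (ζ ^ (((j : ℕ) + 1) * l) + (ζ ^ (((j : ℕ) + 1) * l))⁻¹))
    (hdeg : ∀ j : Fin (2 ^ (n - 2) - 1),
      1 + δ₁ * (χ₁ : G → ℂ) 1 = -δ₂ * (χ₂ : G → ℂ) 1 - δ₃ * (χ₃ : G → ℂ) 1 ∧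
      1 + δ₁ * (χ₁ : G → ℂ) 1 = δ₁ * (χ' j : G → ℂ) 1)
    (χg : IrrCharacter G) (hχg : χg ∈ principalBlock M G) (hg1 : (χg : G → ℂ) ≠ (fun _ => 1))
    (δg : ℤ) (hδg : δg = 1 ∨ δg = -1)
    (hvalg : ∀ l : ℕ, 0 < l → l < 2 ^ (n - 1) → (χg : G → ℂ) (σ ^ l) = δg) :
    ((charDegree (χg : G → ℂ) : ℂ) + δg ≠ 0) ∧
    (∑ χ ∈ Finset.univ.filter (fun χ : IrrCharacter G => χ ∈ principalBlock M G),
        conj ((χ : G → ℂ) (zz n σ) * (χ : G → ℂ) (zz n σ) / (χ : G → ℂ) 1) *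
          (χ : G → ℂ) (zz n σ)) +
      (∑ χ ∈ Finset.univ.filter (fun χ : IrrCharacter G => χ ∈ principalBlock M G),
        conj ((χ : G → ℂ) (zz n σ) * (χ : G → ℂ) (zz n σ) / (χ : G → ℂ) 1) *
          (χ : G → ℂ) σ) =
      2 * ((charDegree (χg : G → ℂ) : ℂ) - δg) ^ 2 /
        ((charDegree (χg : G → ℂ) : ℂ) * ((charDegree (χg : G → ℂ) : ℂ) + δg)) := by
  -- arithmetic of the exponents
  have hk : 1 ≤ 2 ^ (n - 3) := Nat.one_le_two_pow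
  have hh : 2 ^ (n - 2) = 2 * 2 ^ (n - 3) := by
    rw [show n - 2 = (n - 3) + 1 by omega, pow_succ]; ring
  have hh1 : 2 ^ (n - 1) = 2 ^ (n - 2) * 2 := by
    rw [show n - 1 = (n - 2) + 1 by omega, pow_succ]
  have hodd : 2 ^ (n - 2) - 1 = 2 * (2 ^ (n - 3) - 1) + 1 := by omega
  have hpos : 0 < 2 ^ (n - 2) := by positivity
  have hlt : 2 ^ (n - 2) < 2 ^ (n - 1) := by omega
  have h1lt : 1 < 2 ^ (n - 1) := by omega
  have h2lt : 2 < 2 ^ (n - 1) := by omega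
  -- ζ ^ h = -1
  have hζh : ζ ^ (2 ^ (n - 2)) = -1 :=
    (hζ.pow (by positivity) hh1).eq_neg_one_of_two_right
  -- signs in ℂ
  have hd1 : (δ₁ : ℂ) * δ₁ = 1 := by
    rcases hδ₁ with h | h <;> rw [h] <;> norm_num
  have hd2 : (δ₂ : ℂ) * δ₂ = 1 := by
    rcases hδ₂ with h | h <;> rw [h] <;> norm_num
  have hd3 : (δ₃ : ℂ) * δ₃ = 1 := by
    rcases hδ₃ with h | h <;> rw [h] <;> norm_num
  have hd2ne : (δ₂ : ℂ) ≠ 0 := fun h => by rw [h] at hd2; norm_num at hd2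
  have hd3ne : (δ₃ : ℂ) ≠ 0 := fun h => by rw [h] at hd3; norm_num at hd3
  -- values at z and at σ
  obtain ⟨z1, z2, z3, z4⟩ := hval (2 ^ (n - 2)) hpos hlt
  obtain ⟨s1, s2, s3, s4⟩ := hval 1 Nat.one_pos h1lt
  obtain ⟨t1, t2, t3, t4⟩ := hval 2 (by norm_num) h2lt
  rw [pow_one] at s1 s2 s3
  have heven : (-1 : ℂ) ^ (2 ^ (n - 2) + 1) = -1 := by
    rw [pow_succ, hh, pow_mul]; simp
  rw [heven] at z2 z3
  have s2' : (χ₂ : G → ℂ) σ = δ₂ := by rw [s2]; norm_num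
  have s3' : (χ₃ : G → ℂ) σ = δ₃ := by rw [s3]; norm_num
  have t2' : (χ₂ : G → ℂ) (σ ^ 2) = -δ₂ := by rw [t2]; norm_num
  have t3' : (χ₃ : G → ℂ) (σ ^ 2) = -δ₃ := by rw [t3]; norm_num
  have z4' : ∀ j : Fin (2 ^ (n - 2) - 1), (χ' j : G → ℂ) (σ ^ 2 ^ (n - 2)) =
      2 * δ₁ * (-1) ^ ((j : ℕ) + 1) := by
    intro j
    rw [z4 j, pow_mul', hζh, ← inv_pow, inv_neg_one]; ring
  have s4' : ∀ j : Fin (2 ^ (n - 2) - 1), (χ' j : G → ℂ) σ =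
      δ₁ * (ζ ^ ((j : ℕ) + 1) + (ζ ^ ((j : ℕ) + 1))⁻¹) := by
    intro j
    have := s4 j
    rwa [pow_one, mul_one] at this
  -- identify χg
  have hg : χg = χ₁ := by
    rw [hB] at hχg
    rcases hχg with h | h | h | h | ⟨j, h⟩
    · exact absurd h hg1
    · exact h
    · exfalso
      have e1 := hvalg 1 Nat.one_pos h1lt
      have e2 := hvalg 2 (by norm_num) h2lt
      rw [pow_one, h, s2'] at e1
      rw [h, t2', ← e1] at e2
      apply hd2ne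
      linear_combination (-1 / 2 : ℂ) * e2
    · exfalso
      have e1 := hvalg 1 Nat.one_pos h1lt
      have e2 := hvalg 2 (by norm_num) h2lt
      rw [pow_one, h, s3'] at e1
      rw [h, t3', ← e1] at e2
      apply hd3ne
      linear_combination (-1 / 2 : ℂ) * e2
    · exfalso
      have e1 := hvalg (2 ^ (n - 2)) hpos hlt
      rw [h, z4' j] at e1
      have hsq : ((-1 : ℂ) ^ ((j : ℕ) + 1)) * ((-1 : ℂ) ^ ((j : ℕ) + 1)) = 1 := by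
        rw [← mul_pow]; simp
      have hg2 : (δg : ℂ) * δg = 1 := by
        rcases hδg with h | h <;> rw [h] <;> norm_num
      have : (4 : ℂ) = 1 := by
        calc (4 : ℂ) = 4 * ((δ₁ : ℂ) * δ₁) *
              (((-1 : ℂ) ^ ((j : ℕ) + 1)) * ((-1 : ℂ) ^ ((j : ℕ) + 1))) := by
                rw [hd1, hsq]; ring
          _ = (2 * δ₁ * (-1) ^ ((j : ℕ) + 1)) * (2 * δ₁ * (-1) ^ ((j : ℕ) + 1)) := by ring
          _ = 1 := by rw [e1, hg2]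
      norm_num at this
  subst hg
  have hδ : δg = δ₁ := by
    have e1 := hvalg 1 Nat.one_pos h1lt
    rw [pow_one, s1] at e1
    exact_mod_cast e1.symm
  subst hδ
  -- degrees
  have hf : (χg : G → ℂ) 1 = (charDegree (χg : G → ℂ) : ℂ) :=
    IsCharacter.apply_one_eq_charDegree (IsIrrCharacter.isCharacter χg.2)
  have hfpos : 0 < charDegree (χg : G → ℂ) := IsIrrCharacter.charDegree_pos χg.2
  have hf2 : (χ₂ : G → ℂ) 1 = (charDegree (χ₂ : G → ℂ) : ℂ) :=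
    IsCharacter.apply_one_eq_charDegree (IsIrrCharacter.isCharacter χ₂.2)
  have hf3 : (χ₃ : G → ℂ) 1 = (charDegree (χ₃ : G → ℂ) : ℂ) :=
    IsCharacter.apply_one_eq_charDegree (IsIrrCharacter.isCharacter χ₃.2)
  have hfj : ∀ j : Fin (2 ^ (n - 2) - 1), (χ' j : G → ℂ) 1 =
      (charDegree (χg : G → ℂ) : ℂ) + δg := by
    intro j
    have e := (hdeg j).2
    rw [hf] at e
    linear_combination (-(δg : ℂ)) * e + (-(χ' j : G → ℂ) 1 + (charDegree (χg : G → ℂ) : ℂ)) * hd1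
  set f : ℂ := (charDegree (χg : G → ℂ) : ℂ) with hfdef
  have hfne : f ≠ 0 := by
    rw [hfdef]; exact_mod_cast hfpos.ne'
  have hfδne : f + δg ≠ 0 := by
    have j0 : Fin (2 ^ (n - 2) - 1) := ⟨0, by omega⟩
    rw [← hfj j0, IsCharacter.apply_one_eq_charDegree (IsIrrCharacter.isCharacter (χ' j0).2)]
    exact_mod_cast (IsIrrCharacter.charDegree_pos (χ' j0).2).ne'
  refine ⟨hfδne, ?_⟩
  -- conj facts
  have cf : conj f = f := by rw [hfdef]; exact map_natCast _ _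
  have cδ : conj (δg : ℂ) = δg := map_intCast _ _
  have cδ2 : conj (δ₂ : ℂ) = δ₂ := map_intCast _ _
  have cδ3 : conj (δ₃ : ℂ) = δ₃ := map_intCast _ _
  have sum1 : ∑ j : Fin (2 ^ (n - 2) - 1), (-1 : ℂ) ^ ((j : ℕ) + 1) = -1 := by
    rw [Fin.sum_univ_eq_sum_range (fun j => (-1 : ℂ) ^ (j + 1)) (2 ^ (n - 2) - 1), hodd]
    exact sum_neg_one_pow_odd _
  have sum2 : ∑ j : Fin (2 ^ (n - 2) - 1),
      (ζ ^ ((j : ℕ) + 1) + (ζ ^ ((j : ℕ) + 1))⁻¹) = 0 := by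
    rw [Fin.sum_univ_eq_sum_range (fun j => ζ ^ (j + 1) + (ζ ^ (j + 1))⁻¹) (2 ^ (n - 2) - 1)]
    exact sum_root_add_inv ζ _ hζh
  -- split the two sums
  rw [sum_block_split χg χ₂ χ₃ χ' hinj h1 h2 h3 h12 h13 h23 hχ' hB,
    sum_block_split χg χ₂ χ₃ χ' hinj h1 h2 h3 h12 h13 h23 hχ' hB]
  have hzz : zz n σ = σ ^ 2 ^ (n - 2) := rfl
  simp only [hzz, chi0_apply, z1, z2, z3, z4', s1, s2', s3', s4', hf, hf2, hf3, hfj]
  have hd2pos : ((charDegree (χ₂ : G → ℂ) : ℕ) : ℂ) ≠ 0 := by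
    exact_mod_cast (IsIrrCharacter.charDegree_pos χ₂.2).ne'
  have hd3pos : ((charDegree (χ₃ : G → ℂ) : ℕ) : ℂ) ≠ 0 := by
    exact_mod_cast (IsIrrCharacter.charDegree_pos χ₃.2).ne'
  have hsq : ∀ j : Fin (2 ^ (n - 2) - 1),
      (2 * (δg : ℂ) * (-1) ^ ((j : ℕ) + 1) * (2 * δg * (-1) ^ ((j : ℕ) + 1)) / (f + δg)) =
        4 / (f + δg) := by
    intro j
    have hε : ((-1 : ℂ) ^ ((j : ℕ) + 1)) * ((-1 : ℂ) ^ ((j : ℕ) + 1)) = 1 := by
      rw [← mul_pow]; simp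
    congr 1
    linear_combination (4 * ((-1 : ℂ) ^ ((j : ℕ) + 1)) * ((-1 : ℂ) ^ ((j : ℕ) + 1))) * hd1 + 4 * hε
  have c4 : conj ((4 : ℂ) / (f + δg)) = 4 / (f + δg) := by
    rw [map_div₀, map_add, cf, cδ, map_ofNat]
  have c1 : conj ((1 : ℂ) * 1 / 1) = 1 := by simp
  have cg : conj ((δg : ℂ) * δg / f) = 1 / f := by
    rw [hd1, map_div₀, cf, map_one]
  have c2 : conj ((δ₂ : ℂ) * -1 * (δ₂ * -1) / (charDegree (χ₂ : G → ℂ) : ℂ)) =
      1 / (charDegree (χ₂ : G → ℂ) : ℂ) := by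
    rw [show (δ₂ : ℂ) * -1 * (δ₂ * -1) = 1 by linear_combination hd2, map_div₀, map_one,
      map_natCast]
  have c3 : conj ((δ₃ : ℂ) * -1 * (δ₃ * -1) / (charDegree (χ₃ : G → ℂ) : ℂ)) =
      1 / (charDegree (χ₃ : G → ℂ) : ℂ) := by
    rw [show (δ₃ : ℂ) * -1 * (δ₃ * -1) = 1 by linear_combination hd3, map_div₀, map_one,
      map_natCast]
  simp only [hsq, c4, c1, cg, c2, c3]
  have Sz : ∑ x : Fin (2 ^ (n - 2) - 1), (4 : ℂ) / (f + δg) * (2 * δg * (-1) ^ ((x : ℕ) + 1)) =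
      4 / (f + δg) * (2 * δg) * (-1) := by
    have : ∀ x : Fin (2 ^ (n - 2) - 1),
        (4 : ℂ) / (f + δg) * (2 * δg * (-1) ^ ((x : ℕ) + 1)) =
        (4 / (f + δg) * (2 * δg)) * (-1) ^ ((x : ℕ) + 1) := by
      intro x; ring
    rw [Finset.sum_congr rfl (fun x _ => this x), ← Finset.mul_sum, sum1]
  have Ss : ∑ x : Fin (2 ^ (n - 2) - 1),
      (4 : ℂ) / (f + δg) * (δg * (ζ ^ ((x : ℕ) + 1) + (ζ ^ ((x : ℕ) + 1))⁻¹)) = 0 := by
    have : ∀ x : Fin (2 ^ (n - 2) - 1),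
        (4 : ℂ) / (f + δg) * (δg * (ζ ^ ((x : ℕ) + 1) + (ζ ^ ((x : ℕ) + 1))⁻¹)) =
        (4 / (f + δg) * δg) * (ζ ^ ((x : ℕ) + 1) + (ζ ^ ((x : ℕ) + 1))⁻¹) := by
      intro x; ring
    rw [Finset.sum_congr rfl (fun x _ => this x), ← Finset.mul_sum, sum2, mul_zero]
  rw [Sz, Ss]
  rcases hδ₁ with rfl | rfl
  · simp only [Int.cast_one] at hfδne ⊢
    field_simp
    ring
  · simp only [Int.cast_neg, Int.cast_one] at hfδne ⊢
    field_simp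
    ring

end Cfsg.Agent.Lib.Helper14.DihOrd
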