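import Mathlib

set_option autoImplicit false

namespace Cfsg.Agent.Lib.Helper14

section FCZsubU

/-- A finite Z-group contains no two distinct commuting involutions. -/
theorem zgroup_no_klein {G : Type*} [Group G] [IsZGroup G] (a b : G)
    (ha : a * a = 1) (hb : b * b = 1) (hab : a * b = b * a) (ha1 : a ≠ 1) (hb1 : b ≠ 1)
    (hne : a ≠ b) : False := by
  classical
  set K : Subgroup G := Subgroup.closure {a, b} with hK
  have hcomm : ∀ x ∈ ({a, b} : Set G), ∀ y ∈ ({a, b} : Set G), x * y = y * x := by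
    rintro x (rfl | rfl) y (rfl | rfl)
    · rfl
    · exact hab
    · exact hab.symm
    · rfl
  haveI : IsMulCommutative K := Subgroup.isMulCommutative_closure hcomm
  have hKcomm : ∀ x ∈ K, ∀ y ∈ K, x * y = y * x := by
    intro x hx y hy
    have := mul_comm' (⟨x, hx⟩ : K) ⟨y, hy⟩
    exact congrArg Subtype.val this
  have hsq : ∀ x ∈ K, x * x = 1 := by
    intro x hx
    induction hx using Subgroup.closure_induction with
    | mem x hx =>
      rcases hx with rfl | rfl
      · exact ha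
      · exact hb
    | one => simp
    | mul x y hx hy ihx ihy =>
      calc x * y * (x * y) = x * (y * x) * y := by group
        _ = x * (x * y) * y := by rw [hKcomm y hy x hx]
        _ = (x * x) * (y * y) := by group
        _ = 1 := by rw [ihx, ihy, mul_one]
    | inv x hx ihx =>
      calc x⁻¹ * x⁻¹ = (x * x)⁻¹ := by group
        _ = 1 := by rw [ihx, inv_one]
  haveI : Fact (Nat.Prime 2) := ⟨Nat.prime_two⟩
  have hP : IsPGroup 2 K := by
    intro x
    refine ⟨1, ?_⟩
    apply Subtype.ext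
    have := hsq x.1 x.2
    simp only [pow_one, Subgroup.coe_pow, Subgroup.coe_one]
    rw [pow_two]; exact this
  haveI : IsCyclic K := hP.isCyclic_of_isZGroup
  obtain ⟨g, hg⟩ := IsCyclic.exists_generator (α := K)
  have hg2 : g * g = 1 := by
    apply Subtype.ext
    exact hsq g.1 g.2
  have key : ∀ x : K, x = 1 ∨ x = g := by
    intro x
    obtain ⟨n, hn⟩ := Subgroup.mem_zpowers_iff.mp (hg x)
    rcases Int.emod_two_eq_zero_or_one n with h | h
    · left
      have : n = 2 * (n / 2) := by omega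
      rw [← hn, this, zpow_mul, zpow_ofNat, pow_two, hg2, one_zpow]
    · right
      have : n = 2 * (n / 2) + 1 := by omega
      rw [← hn, this, zpow_add, zpow_mul, zpow_ofNat, pow_two, hg2, one_zpow, one_mul, zpow_one]
  have haK : a ∈ K := Subgroup.subset_closure (by simp)
  have hbK : b ∈ K := Subgroup.subset_closure (by simp)
  rcases key ⟨a, haK⟩ with h | h
  · exact ha1 (congrArg Subtype.val h)
  · rcases key ⟨b, hbK⟩ with h' | h'
    · exact hb1 (congrArg Subtype.val h')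
    · apply hne
      have := h.trans h'.symm
      exact congrArg Subtype.val this

/-- Subgroup form: a Z-subgroup contains no two distinct commuting involutions. -/
theorem zsubgroup_no_klein {G : Type*} [Group G] (H : Subgroup G) [IsZGroup H] (a b : G)
    (haH : a ∈ H) (hbH : b ∈ H)
    (ha : a * a = 1) (hb : b * b = 1) (hab : a * b = b * a) (ha1 : a ≠ 1) (hb1 : b ≠ 1)
    (hne : a ≠ b) : False := by
  apply zgroup_no_klein (G := H) ⟨a, haH⟩ ⟨b, hbH⟩
  · apply Subtype.ext; exact ha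
  · apply Subtype.ext; exact hb
  · apply Subtype.ext; exact hab
  · intro h; exact ha1 (congrArg Subtype.val h)
  · intro h; exact hb1 (congrArg Subtype.val h)
  · intro h; exact hne (congrArg Subtype.val h)

/-- MODULE U of S4291: a Z-subgroup of the four-group has order at most 2. -/
theorem zsub_d2 (H : Subgroup (DihedralGroup 2)) [IsZGroup H] : Nat.card H ≤ 2 := by
  classical
  by_contra hlt
  push_neg at hlt
  have hdvd : Nat.card H ∣ 4 := by
    have := Subgroup.card_subgroup_dvd_card H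
    rwa [DihedralGroup.nat_card] at this
  have h4 : Nat.card H = 4 := by
    have hle : Nat.card H ≤ 4 := Nat.le_of_dvd (by norm_num) hdvd
    generalize Nat.card H = c at *
    interval_cases c <;> omega
  have htop : H = ⊤ := by
    apply Subgroup.eq_top_of_card_eq
    rw [h4, DihedralGroup.nat_card]
  apply zsubgroup_no_klein H (DihedralGroup.r 1) (DihedralGroup.sr 0)
  · rw [htop]; exact Subgroup.mem_top _
  · rw [htop]; exact Subgroup.mem_top _
  · decide
  · decide
  · decide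
  · decide
  · decide
  · decide

/-- commutator in `Perm (Fin 4)` -/
def comm4 (k g : Equiv.Perm (Fin 4)) : Equiv.Perm (Fin 4) := k * g * k⁻¹ * g⁻¹

/-- `[k,g₁]`, `[k,g₂]` are distinct commuting involutions and `g₁`, `g₂` are even. -/
def goodPair (k g₁ g₂ : Equiv.Perm (Fin 4)) : Prop :=
  Equiv.Perm.sign g₁ = 1 ∧ Equiv.Perm.sign g₂ = 1 ∧
      comm4 k g₁ * comm4 k g₁ = 1 ∧ comm4 k g₂ * comm4 k g₂ = 1 ∧
      comm4 k g₁ * comm4 k g₂ = comm4 k g₂ * comm4 k g₁ ∧
      comm4 k g₁ ≠ 1 ∧ comm4 k g₂ ≠ 1 ∧ comm4 k g₁ ≠ comm4 k g₂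

instance goodPairDecidable (k g₁ g₂ : Equiv.Perm (Fin 4)) : Decidable (goodPair k g₁ g₂) := by
  unfold goodPair; infer_instance

set_option maxRecDepth 100000 in
theorem perm_four_even_klein_aux : ∀ k : Equiv.Perm (Fin 4), Equiv.Perm.sign k = 1 → k ≠ 1 →
    goodPair k (Equiv.swap 0 1 * Equiv.swap 1 2) (Equiv.swap 1 2 * Equiv.swap 0 1) ∨
    goodPair k (Equiv.swap 0 1 * Equiv.swap 2 3) (Equiv.swap 0 2 * Equiv.swap 1 3) := by
  decide

theorem perm_four_even_klein (k : Equiv.Perm (Fin 4)) (hk : Equiv.Perm.sign k = 1) (hk1 : k ≠ 1) :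
    ∃ g₁ g₂ : Equiv.Perm (Fin 4), goodPair k g₁ g₂ := by
  rcases perm_four_even_klein_aux k hk hk1 with h | h
  · exact ⟨_, _, h⟩
  · exact ⟨_, _, h⟩

/-- A non-identity permutation of at least three points is not central. -/
theorem perm_exists_not_commute {α : Type*} [DecidableEq α] [Fintype α]
    (h3 : 3 ≤ Fintype.card α) (h : Equiv.Perm α) (h1 : h ≠ 1) : ∃ g : Equiv.Perm α, g * h ≠ h * g := by
  obtain ⟨x, hx⟩ : ∃ x, h x ≠ x := by
    by_contra hcon
    push_neg at hcon
    apply h1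
    ext x
    simp [hcon x]
  have hne : ({x, h x} : Finset α) ≠ Finset.univ := by
    intro e
    have h2 := congrArg Finset.card e
    rw [Finset.card_univ] at h2
    have h4 := Finset.card_le_two (a := x) (b := h x)
    omega
  obtain ⟨z, hz⟩ : ∃ z, z ∉ ({x, h x} : Finset α) := by
    by_contra hcon
    push_neg at hcon
    exact hne (Finset.eq_univ_iff_forall.mpr hcon)
  simp only [Finset.mem_insert, Finset.mem_singleton, not_or] at hz
  refine ⟨Equiv.swap (h x) z, ?_⟩
  intro e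
  have e1 := congrArg (fun σ : Equiv.Perm α => σ x) e
  simp only [Equiv.Perm.coe_mul, Function.comp_apply, Equiv.swap_apply_left] at e1
  rw [Equiv.swap_apply_of_ne_of_ne (Ne.symm hx) (Ne.symm hz.1)] at e1
  exact hz.2 e1

theorem sign_comm_eq_one {α : Type*} [DecidableEq α] [Fintype α] (h g : Equiv.Perm α) :
    Equiv.Perm.sign (h * g * h⁻¹ * g⁻¹) = 1 := by
  have : Equiv.Perm.sign (h * g * h⁻¹ * g⁻¹) =
      Equiv.Perm.sign h * Equiv.Perm.sign g * (Equiv.Perm.sign h)⁻¹ * (Equiv.Perm.sign g)⁻¹ := by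
    simp only [map_mul, map_inv]
  rw [this, mul_right_comm (Equiv.Perm.sign h) (Equiv.Perm.sign g), mul_inv_cancel, one_mul,
    mul_inv_cancel]

/-- A normal Z-subgroup of `Perm (Fin 4)` contains no non-identity even permutation. -/
theorem zsub_perm4_even (H : Subgroup (Equiv.Perm (Fin 4))) [H.Normal] [IsZGroup H]
    (k : Equiv.Perm (Fin 4)) (hkH : k ∈ H) (hk : Equiv.Perm.sign k = 1) : k = 1 := by
  by_contra hk1
  obtain ⟨g₁, g₂, -, -, h1, h2, h3, h4, h5, h6⟩ := perm_four_even_klein k hk hk1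
  have hmem : ∀ g : Equiv.Perm (Fin 4), comm4 k g ∈ H := by
    intro g
    have h1 : g * k⁻¹ * g⁻¹ ∈ H := Subgroup.Normal.conj_mem inferInstance _ (H.inv_mem hkH) g
    have h2 := H.mul_mem hkH h1
    have : comm4 k g = k * (g * k⁻¹ * g⁻¹) := by unfold comm4; group
    rw [this]; exact h2
  exact zsubgroup_no_klein H (comm4 k g₁) (comm4 k g₂) (hmem g₁) (hmem g₂) h1 h2 h3 h4 h5 h6

/-- MODULE U of S4291. -/
theorem zsub_perm4 (H : Subgroup (Equiv.Perm (Fin 4))) [H.Normal] [IsZGroup H] : H = ⊥ := by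
  rw [Subgroup.eq_bot_iff_forall]
  intro h hh
  by_contra h1
  obtain ⟨g, hg⟩ := perm_exists_not_commute (by simp) h h1
  have hkH : h * g * h⁻¹ * g⁻¹ ∈ H := by
    have h1 : g * h⁻¹ * g⁻¹ ∈ H := Subgroup.Normal.conj_mem inferInstance _ (H.inv_mem hh) g
    have h2 := H.mul_mem hh h1
    have : h * g * h⁻¹ * g⁻¹ = h * (g * h⁻¹ * g⁻¹) := by group
    rw [this]; exact h2
  have hsign : Equiv.Perm.sign (h * g * h⁻¹ * g⁻¹) = 1 := sign_comm_eq_one h g
  have := zsub_perm4_even H _ hkH hsign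
  apply hg
  calc g * h = (h * g * h⁻¹ * g⁻¹)⁻¹ * (h * g) := by group
    _ = h * g := by rw [this]; simp

/-- MODULE U of S4291. -/
theorem zsub_alt4 (H : Subgroup (alternatingGroup (Fin 4))) [H.Normal] [IsZGroup H] : H = ⊥ := by
  rw [Subgroup.eq_bot_iff_forall]
  intro h hh
  by_contra h1
  have hk : Equiv.Perm.sign (h : Equiv.Perm (Fin 4)) = 1 := Equiv.Perm.mem_alternatingGroup.mp h.2
  have hk1 : (h : Equiv.Perm (Fin 4)) ≠ 1 := by
    intro h'; apply h1; exact Subtype.ext h'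
  obtain ⟨g₁, g₂, e1, e2, h1', h2, h3, h4, h5, h6⟩ := perm_four_even_klein _ hk hk1
  let G₁ : alternatingGroup (Fin 4) := ⟨g₁, Equiv.Perm.mem_alternatingGroup.mpr e1⟩
  let G₂ : alternatingGroup (Fin 4) := ⟨g₂, Equiv.Perm.mem_alternatingGroup.mpr e2⟩
  have hmem : ∀ g : alternatingGroup (Fin 4), h * g * h⁻¹ * g⁻¹ ∈ H := by
    intro g
    have h1 : g * h⁻¹ * g⁻¹ ∈ H := Subgroup.Normal.conj_mem inferInstance _ (H.inv_mem hh) g
    have h2 := H.mul_mem hh h1
    have : h * g * h⁻¹ * g⁻¹ = h * (g * h⁻¹ * g⁻¹) := by group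
    rw [this]; exact h2
  obtain ⟨C₁, hC₁⟩ : ∃ C : alternatingGroup (Fin 4), C = h * G₁ * h⁻¹ * G₁⁻¹ := ⟨_, rfl⟩
  obtain ⟨C₂, hC₂⟩ : ∃ C : alternatingGroup (Fin 4), C = h * G₂ * h⁻¹ * G₂⁻¹ := ⟨_, rfl⟩
  have hc1 : (C₁ : Equiv.Perm (Fin 4)) = comm4 h g₁ := by rw [hC₁]; rfl
  have hc2 : (C₂ : Equiv.Perm (Fin 4)) = comm4 h g₂ := by rw [hC₂]; rfl
  have hm1 : C₁ ∈ H := by rw [hC₁]; exact hmem G₁
  have hm2 : C₂ ∈ H := by rw [hC₂]; exact hmem G₂
  apply zsubgroup_no_klein H C₁ C₂ hm1 hm2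
  · apply Subtype.ext; rw [Subgroup.coe_mul, hc1]; exact h1'
  · apply Subtype.ext; rw [Subgroup.coe_mul, hc2]; exact h2
  · apply Subtype.ext; rw [Subgroup.coe_mul, Subgroup.coe_mul, hc1, hc2]; exact h3
  · intro h'; apply h4; rw [← hc1, h']; rfl
  · intro h'; apply h5; rw [← hc2, h']; rfl
  · intro h'; apply h6; rw [← hc1, ← hc2, h']

/-- two distinct commuting involutions of `Perm (Fin 5)`, both even -/
theorem klein_perm5 :
    let a : Equiv.Perm (Fin 5) := Equiv.swap 0 1 * Equiv.swap 2 3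
    let b : Equiv.Perm (Fin 5) := Equiv.swap 0 2 * Equiv.swap 1 3
    Equiv.Perm.sign a = 1 ∧ Equiv.Perm.sign b = 1 ∧ a * a = 1 ∧ b * b = 1 ∧ a * b = b * a ∧
      a ≠ 1 ∧ b ≠ 1 ∧ a ≠ b := by
  decide

/-- A subgroup of `Perm (Fin 5)` containing `A₅` is not a Z-group. -/
theorem not_isZGroup_of_alt5_le (H : Subgroup (Equiv.Perm (Fin 5))) [IsZGroup H]
    (hle : alternatingGroup (Fin 5) ≤ H) : False := by
  obtain ⟨e1, e2, h1, h2, h3, h4, h5, h6⟩ := klein_perm5
  exact zsubgroup_no_klein H _ _ (hle (Equiv.Perm.mem_alternatingGroup.mpr e1))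
    (hle (Equiv.Perm.mem_alternatingGroup.mpr e2)) h1 h2 h3 h4 h5 h6

/-- MODULE U of S4291. -/
theorem zsub_alt5 (H : Subgroup (alternatingGroup (Fin 5))) [H.Normal] [IsZGroup H] : H = ⊥ := by
  haveI := alternatingGroup.isSimpleGroup_five
  rcases Subgroup.Normal.eq_bot_or_eq_top (inferInstance : H.Normal) with h | h
  · exact h
  · exfalso
    obtain ⟨e1, e2, h1, h2, h3, h4, h5, h6⟩ := klein_perm5
    let A : alternatingGroup (Fin 5) := ⟨_, Equiv.Perm.mem_alternatingGroup.mpr e1⟩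
    let B : alternatingGroup (Fin 5) := ⟨_, Equiv.Perm.mem_alternatingGroup.mpr e2⟩
    apply zsubgroup_no_klein H A B (by rw [h]; exact Subgroup.mem_top _)
      (by rw [h]; exact Subgroup.mem_top _)
    · apply Subtype.ext; exact h1
    · apply Subtype.ext; exact h2
    · apply Subtype.ext; exact h3
    · intro h'; exact h4 (congrArg Subtype.val h')
    · intro h'; exact h5 (congrArg Subtype.val h')
    · intro h'; exact h6 (congrArg Subtype.val h')

/-- MODULE U of S4291. -/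
theorem zsub_perm5 (H : Subgroup (Equiv.Perm (Fin 5))) [H.Normal] [IsZGroup H] : H = ⊥ := by
  haveI := alternatingGroup.isSimpleGroup_five
  have hn : (H.subgroupOf (alternatingGroup (Fin 5))).Normal := inferInstance
  rcases Subgroup.Normal.eq_bot_or_eq_top hn with h | h
  · -- `H ⊓ A₅ = ⊥`: then `H` is central
    rw [Subgroup.eq_bot_iff_forall]
    intro x hx
    by_contra h1
    obtain ⟨g, hg⟩ := perm_exists_not_commute (by simp) x h1
    have hkH : x * g * x⁻¹ * g⁻¹ ∈ H := by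
      have h1 : g * x⁻¹ * g⁻¹ ∈ H := Subgroup.Normal.conj_mem inferInstance _ (H.inv_mem hx) g
      have h2 := H.mul_mem hx h1
      have : x * g * x⁻¹ * g⁻¹ = x * (g * x⁻¹ * g⁻¹) := by group
      rw [this]; exact h2
    have hkA : x * g * x⁻¹ * g⁻¹ ∈ alternatingGroup (Fin 5) :=
      Equiv.Perm.mem_alternatingGroup.mpr (sign_comm_eq_one x g)
    have hmem : (⟨x * g * x⁻¹ * g⁻¹, hkA⟩ : alternatingGroup (Fin 5)) ∈
        H.subgroupOf (alternatingGroup (Fin 5)) := by
      rw [Subgroup.mem_subgroupOf]; exact hkH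
    rw [h, Subgroup.mem_bot] at hmem
    have hk1 : x * g * x⁻¹ * g⁻¹ = 1 := congrArg Subtype.val hmem
    apply hg
    calc g * x = (x * g * x⁻¹ * g⁻¹)⁻¹ * (x * g) := by group
      _ = x * g := by rw [hk1]; simp
  · exfalso
    rw [Subgroup.subgroupOf_eq_top] at h
    exact not_isZGroup_of_alt5_le H h

end FCZsubU

end Cfsg.Agent.Lib.Helper14
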