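/-
helper14: S5278 module [ACT-A] (helper88's project): a minimal nontrivial subgroup of the best offender attaining the
maximum of `|B|·|C_U(B)|`.
-/
import Mathlib
import Cfsg.Agent.Lib.Helper88.GlaubSubDefs

set_option autoImplicit false
set_option linter.unusedSectionVars false

namespace Cfsg.Agent.Lib.Helper14.GlaubSub

open Cfsg Cfsg.Agent.Lib.Helper88.GlaubSub

universe u
variable {Hh U : Type u} [Group Hh] [Finite Hh] [CommGroup U] [Finite U] [MulDistribMulAction Hh U] {p : ℕ} [Fact p.Prime]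

theorem fixOf_bot : fixOf (U := U) (⊥ : Subgroup Hh) = ⊤ := by
  ext u
  simp only [mem_fixOf, Subgroup.mem_bot, Subgroup.mem_top, iff_true]
  rintro b rfl
  exact one_smul _ _

/-- [ACT-A] a minimal nontrivial subgroup of the best offender `A0` attaining the maximum of `|B|·|C_U(B)|`:
hypothesis (i) of S2999. -/
theorem exists_minimal_offender (A0 : Subgroup Hh) (hA0 : A0 ≠ ⊥)
    (hoff : ∀ B : Subgroup Hh, B ≤ A0 →
      Nat.card B * Nat.card (fixOf (U := U) B) ≤ Nat.card A0 * Nat.card (fixOf (U := U) A0)) :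
    ∃ A : Subgroup Hh, A ≤ A0 ∧ A ≠ ⊥ ∧ Nat.card U ≤ Nat.card A * Nat.card (fixOf (U := U) A) ∧
      ∀ B : Subgroup Hh, B ≤ A → B ≠ ⊥ → B ≠ A →
        Nat.card B * Nat.card (fixOf (U := U) B) < Nat.card A * Nat.card (fixOf (U := U) A) := by
  classical
  set m := Nat.card A0 * Nat.card (fixOf (U := U) A0) with hm
  obtain ⟨A, hAmem, hAmin⟩ := Set.exists_min_image
    {B : Subgroup Hh | B ≤ A0 ∧ B ≠ ⊥ ∧ Nat.card B * Nat.card (fixOf (U := U) B) = m}
    (fun B => Nat.card B) (Set.toFinite _) ⟨A0, le_rfl, hA0, rfl⟩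
  obtain ⟨hAA0, hAne, hAm⟩ := hAmem
  refine ⟨A, hAA0, hAne, ?_, ?_⟩
  · rw [hAm]
    have h := hoff ⊥ bot_le
    rw [fixOf_bot, Subgroup.card_bot, one_mul, Subgroup.card_top] at h
    exact h
  · intro B hBA hBne hBA'
    rw [hAm]
    have hle := hoff B (hBA.trans hAA0)
    rcases lt_or_eq_of_le hle with h | h
    · exact h
    · exfalso
      have h1 := hAmin B ⟨hBA.trans hAA0, hBne, h⟩
      exact hBA' (Subgroup.eq_of_le_of_card_ge hBA h1)

end Cfsg.Agent.Lib.Helper14.GlaubSub
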