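/-
helper14: S5278 module [ACT-B] (helper88's project): from the L-Lemma (helper32 `LLemma.main`), a subgroup
`Ls = ⟨A, A^x₀⟩` of minimal order; it is generated by `A` and `A^x` for every `x ∈ Ls` outside `g Mb g⁻¹`.
-/
import Mathlib
import Cfsg.Agent.Lib.Helper88.GlaubSubDefs
import Cfsg.Agent.Lib.Helper32.LLemmaB

set_option autoImplicit false
set_option linter.unusedSectionVars false

namespace Cfsg.Agent.Lib.Helper14.GlaubSub

open Cfsg Cfsg.Agent.Lib.Helper88.GlaubSub Cfsg.Agent.Lib.Helper32.LLemma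

universe u
variable {Hh U : Type u} [Group Hh] [Finite Hh] [CommGroup U] [Finite U] [MulDistribMulAction Hh U] {p : ℕ} [Fact p.Prime]

theorem cj_le_of_mem {K A : Subgroup Hh} {x : Hh} (hx : x ∈ K) (hA : A ≤ K) : cj x A ≤ K := by
  intro y hy
  rw [mem_cj] at hy
  have h1 : y = x * (x⁻¹ * y * x) * x⁻¹ := by group
  rw [h1]
  exact K.mul_mem (K.mul_mem hx (hA hy)) (K.inv_mem hx)

/-- [ACT-B] from the L-Lemma (helper32 `LLemma.main`): a subgroup `Ls = ⟨A, A^x₀⟩` with `|Ls|` minimal among the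
`⟨A, A^x⟩`, `x ∈ L ∖ L₀`; it is generated by `A` and `A^x` for EVERY `x ∈ Ls` outside `g Mb g⁻¹`. -/
theorem exists_lstar (Rb : Sylow p Hh) (Mb : Subgroup Hh) (hMb : IsCoatom Mb) (hRM : (Rb : Subgroup Hh) ≤ Mb)
    (hMu : ∀ K : Subgroup Hh, IsCoatom K → (Rb : Subgroup Hh) ≤ K → K = Mb) (hOp : pCore p Hh = ⊥)
    (A : Subgroup Hh) (hAR : A ≤ (Rb : Subgroup Hh)) (hA : A ≠ ⊥) :
    ∃ (g : Hh) (Ls : Subgroup Hh), A ≤ Ls ∧ A ≤ Mb.map (MulAut.conj g).toMonoidHom ∧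
      ¬ Ls ≤ Mb.map (MulAut.conj g).toMonoidHom ∧
      ∀ x ∈ Ls, x ∉ Mb.map (MulAut.conj g).toMonoidHom → A ⊔ A.map (MulAut.conj x).toMonoidHom = Ls := by
  classical
  have hAnot : ¬ A ≤ pCore p Hh := by
    rw [hOp]
    intro h
    exact hA (le_bot_iff.1 h)
  obtain ⟨L, hAL, L₀, h1, h2, -, ⟨g, hg⟩, h5⟩ :=
    main (Nat.card Hh) Hh rfl p Rb Mb hMb hRM hMu A hAR hAnot
  have hAL₀ : A ≤ L₀ := le_sup_left.trans h1
  have hOL₀ : pCoreOf p L ≤ L₀ := le_sup_right.trans h1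
  have hAL' : A ≤ L := hAL₀.trans h2.le
  have hL₀M : L₀ ≤ cj g Mb := by rw [hg]; exact inf_le_right
  -- an element of `L ∖ L₀`
  obtain ⟨x1, hx1L, hx1⟩ := SetLike.exists_of_lt h2
  obtain ⟨x0, hx0mem, hx0min⟩ := Set.exists_min_image
    {x : Hh | x ∈ L ∧ x ∉ L₀} (fun x => Nat.card (A ⊔ cj x A : Subgroup Hh)) (Set.toFinite _)
    ⟨x1, hx1L, hx1⟩
  obtain ⟨hx0L, hx0⟩ := hx0mem
  have hLsL : A ⊔ cj x0 A ≤ L := sup_le hAL' (cj_le_of_mem hx0L hAL')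
  refine ⟨g, A ⊔ cj x0 A, le_sup_left, hAL₀.trans hL₀M, ?_, ?_⟩
  · intro hle
    have h3 : A ⊔ cj x0 A ≤ L₀ := by rw [hg]; exact le_inf hLsL hle
    have h4 : L ≤ L₀ := by
      rw [← h5 x0 hx0L hx0]
      exact sup_le h3 hOL₀
    exact (lt_irrefl _ (lt_of_lt_of_le h2 h4))
  · intro x hxLs hxM
    have hxL : x ∈ L := hLsL hxLs
    have hxL₀ : x ∉ L₀ := fun h => hxM (hL₀M h)
    have hmin := hx0min x ⟨hxL, hxL₀⟩
    have hle : A ⊔ cj x A ≤ A ⊔ cj x0 A := sup_le le_sup_left (cj_le_of_mem hxLs le_sup_left)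
    exact Subgroup.eq_of_le_of_card_ge hle hmin

end Cfsg.Agent.Lib.Helper14.GlaubSub
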