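/-
helper14, project GOLD (S1329, owner helper22): module [CLASS2], core part.
`class_two_core`: the class-two case of Goldschmidt's lemma, with the three inputs
([NORM] norm map, [ABFIX] fixed points lie in the derived group, [GEN] generation by the
`[C_Y(K), A]`) taken as hypotheses.
All declarations live in `Cfsg.Agent.Lib.Helper14.Gold`.
-/
import Mathlib
import Cfsg.Agent.Lib.Helper22.GoldDefs
import Cfsg.Agent.Lib.Helper22.GoldPar

set_option autoImplicit false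

namespace Cfsg.Agent.Lib.Helper14.Gold

open Subgroup
open scoped commutatorElement
open Cfsg.Agent.Lib.Helper22.Gold

variable {G : Type*} [Group G]

/-- The properties of the norm map of `A` on the abelian group `W` (module [NORM]). -/
structure NormMap (A W : Subgroup G) (T : G → G) : Prop where
  mem : ∀ w ∈ W, T w ∈ W ⊓ centralizer (A : Set G)
  mul : ∀ w ∈ W, ∀ w' ∈ W, T (w * w') = T w * T w'
  conj : ∀ w ∈ W, ∀ b ∈ A, T (b * w * b⁻¹) = T w
  fix : ∀ w ∈ W ⊓ centralizer (A : Set G), T w = w ^ Nat.card A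
  inv : ∀ X : Subgroup G, X ≤ W → A ≤ normalizer (X : Set G) → ∀ w ∈ X, T w ∈ X

theorem NormMap.one {A W : Subgroup G} {T : G → G} (hT : NormMap A W T) : T 1 = 1 := by
  have h1 := hT.mul 1 (one_mem _) 1 (one_mem _)
  rw [mul_one] at h1
  have h2 : T 1 * T 1 = T 1 * 1 := by rw [mul_one]; exact h1.symm
  exact mul_left_cancel h2

theorem NormMap.map_inv {A W : Subgroup G} {T : G → G} (hT : NormMap A W T) {w : G}
    (hw : w ∈ W) : T w⁻¹ = (T w)⁻¹ := by
  have h1 := hT.mul w hw w⁻¹ (inv_mem hw)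
  rw [mul_inv_cancel, hT.one] at h1
  exact eq_inv_of_mul_eq_one_right h1.symm

theorem le_normalizer_of_conj_mem {A X : Subgroup G}
    (hx : ∀ a ∈ A, ∀ x ∈ X, a * x * a⁻¹ ∈ X) : A ≤ normalizer (X : Set G) := by
  intro a ha
  rw [mem_normalizer_iff]
  intro x
  constructor
  · exact hx a ha x
  · intro hxa
    have := hx a⁻¹ (inv_mem ha) _ hxa
    have e : a⁻¹ * (a * x * a⁻¹) * a⁻¹⁻¹ = x := by group
    rwa [e] at this

/-- `A` (abelian) normalizes `C_Y(K)` for `K ≤ A`. -/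
theorem norm_fix {A Y K : Subgroup G} (h : Hyp A Y) (hK : K ≤ A) :
    A ≤ normalizer ((Y ⊓ centralizer (K : Set G) : Subgroup G) : Set G) := by
  apply le_normalizer_of_conj_mem
  intro a ha x hx
  rw [mem_inf] at hx ⊢
  refine ⟨conj_mem_of_mem_normalizer (h.norm ha) hx.1, ?_⟩
  rw [mem_centralizer_iff]
  intro k hk
  have h1 : k * x = x * k := mem_centralizer_iff.mp hx.2 k hk
  have h2 : a * k = k * a := h.comm a ha k (hK hk)
  have h3 : k * a⁻¹ = a⁻¹ * k := (h.comm a⁻¹ (inv_mem ha) k (hK hk)).symm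
  calc k * (a * x * a⁻¹) = (k * a) * x * a⁻¹ := by group
    _ = (a * k) * x * a⁻¹ := by rw [h2]
    _ = a * (k * x) * a⁻¹ := by group
    _ = a * (x * k) * a⁻¹ := by rw [h1]
    _ = a * x * (k * a⁻¹) := by group
    _ = a * x * (a⁻¹ * k) := by rw [h3]
    _ = a * x * a⁻¹ * k := by group

theorem comm_self_le (Y : Subgroup G) : ⁅Y, Y⁆ ≤ Y := by
  rw [commutator_le]
  intro u hu v hv
  rw [commutatorElement_def]
  exact mul_mem (mul_mem (mul_mem hu hv) (inv_mem hu)) (inv_mem hv)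

theorem central_conj {Y : Subgroup G} {z y : G} (hz : z ∈ centralizer (Y : Set G))
    (hy : y ∈ Y) : y * z * y⁻¹ = z := by
  have := mem_centralizer_iff.mp hz y hy
  rw [this, mul_assoc, mul_inv_cancel, mul_one]

section classtwo

variable {Y : Subgroup G} (hc : ⁅Y, Y⁆ ≤ centralizer (Y : Set G))
include hc

theorem comm_mul_left {u u' v : G} (hu : u ∈ Y) (hu' : u' ∈ Y) (hv : v ∈ Y) :
    ⁅u * u', v⁆ = ⁅u, v⁆ * ⁅u', v⁆ := by
  have hz : ⁅u', v⁆ ∈ centralizer (Y : Set G) := hc (commutator_mem_commutator hu' hv)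
  have e : ⁅u * u', v⁆ = (u * ⁅u', v⁆ * u⁻¹) * ⁅u, v⁆ := by
    simp only [commutatorElement_def]; group
  rw [e, central_conj hz hu]
  have huv : ⁅u, v⁆ ∈ Y := comm_self_le Y (commutator_mem_commutator hu hv)
  exact (mem_centralizer_iff.mp hz _ huv).symm

theorem comm_mul_right {u v v' : G} (hu : u ∈ Y) (hv : v ∈ Y) (hv' : v' ∈ Y) :
    ⁅u, v * v'⁆ = ⁅u, v⁆ * ⁅u, v'⁆ := by
  have hz : ⁅u, v'⁆ ∈ centralizer (Y : Set G) := hc (commutator_mem_commutator hu hv')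
  have e : ⁅u, v * v'⁆ = ⁅u, v⁆ * (v * ⁅u, v'⁆ * v⁻¹) := by
    simp only [commutatorElement_def]; group
  rw [e, central_conj hz hv]

theorem comm_inv_right {u v : G} (hu : u ∈ Y) (hv : v ∈ Y) : ⁅u, v⁻¹⁆ = ⁅u, v⁆⁻¹ := by
  have h1 := comm_mul_right hc hu hv (inv_mem hv)
  rw [mul_inv_cancel, commutatorElement_one_right] at h1
  exact eq_inv_of_mul_eq_one_right h1.symm

end classtwo

/-- The statement `P(K, L)`. -/
def PP (Y A : Subgroup G) (T : G → G) (K L : Subgroup G) : Prop :=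
  ∀ d ∈ ⁅Y ⊓ centralizer (K : Set G), A⁆, ∀ e ∈ ⁅Y ⊓ centralizer (L : Set G), A⁆,
    T ⁅d, e⁆ ∈ RR Y A

theorem norm_derived {A Y : Subgroup G} (h : Hyp A Y) :
    A ≤ normalizer ((⁅Y, Y⁆ : Subgroup G) : Set G) := fun _ ha =>
  mem_normalizer_commutator (h.norm ha) (h.norm ha)

theorem PP_symm {A Y K L : Subgroup G} {T : G → G} (h : Hyp A Y)
    (hT : NormMap A ⁅Y, Y⁆ T) (hK : K ≤ A) (hL : L ≤ A)
    (hP : PP Y A T K L) : PP Y A T L K := by
  intro d hd e he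
  have hDK : ⁅Y ⊓ centralizer (K : Set G), A⁆ ≤ Y ⊓ centralizer (K : Set G) :=
    comm_le (norm_fix h hK)
  have hDL : ⁅Y ⊓ centralizer (L : Set G), A⁆ ≤ Y ⊓ centralizer (L : Set G) :=
    comm_le (norm_fix h hL)
  have h1 := hP e he d hd
  have h2 : ⁅d, e⁆ = ⁅e, d⁆⁻¹ := (commutatorElement_inv e d).symm
  rw [h2, hT.map_inv (commutator_mem_commutator (hDK he).1 (hDL hd).1)]
  exact inv_mem h1

theorem PP_self {A Y K : Subgroup G} {T : G → G} (h : Hyp A Y)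
    (hT : NormMap A ⁅Y, Y⁆ T) (hK : CycQuot A K) : PP Y A T K K := by
  intro d hd e he
  have hDK : ⁅Y ⊓ centralizer (K : Set G), A⁆ ≤ Y ⊓ centralizer (K : Set G) :=
    comm_le (norm_fix h hK.1)
  have hAD : A ≤ normalizer ((⁅Y ⊓ centralizer (K : Set G), A⁆ : Subgroup G) : Set G) :=
    (comm_normalized (norm_fix h hK.1)).2
  have hAX : A ≤ normalizer ((⁅Y ⊓ centralizer (K : Set G), A⁆ ⊓ ⁅Y, Y⁆ : Subgroup G) : Set G) := by
    apply le_normalizer_of_conj_mem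
    intro a ha x hx
    rw [mem_inf] at hx ⊢
    exact ⟨conj_mem_of_mem_normalizer (hAD ha) hx.1,
      conj_mem_of_mem_normalizer (norm_derived h ha) hx.2⟩
  have hmem : ⁅d, e⁆ ∈ ⁅Y ⊓ centralizer (K : Set G), A⁆ ⊓ ⁅Y, Y⁆ := by
    rw [mem_inf]
    refine ⟨?_, commutator_mem_commutator (hDK hd).1 (hDK he).1⟩
    rw [commutatorElement_def]
    exact mul_mem (mul_mem (mul_mem hd he) (inv_mem hd)) (inv_mem he)
  have h1 := hT.inv _ inf_le_right hAX _ hmem
  have h2 := hT.mem _ hmem.2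
  exact piece_le_RR hK ⟨h1.1, h2.2⟩

/-- For `d ∈ Y` centralized by `B ≤ A`: `T [d, e] = 1` for all `e ∈ [X, B]`, `X ≤ Y`. -/
theorem T_comm_kill {A Y X B : Subgroup G} {T : G → G} (h : Hyp A Y)
    (hc : ⁅Y, Y⁆ ≤ centralizer (Y : Set G)) (hT : NormMap A ⁅Y, Y⁆ T) (hX : X ≤ Y)
    (hB : B ≤ A) {d : G} (hdY : d ∈ Y) (hdB : d ∈ centralizer (B : Set G)) :
    ∀ e ∈ ⁅X, B⁆, e ∈ Y ∧ T ⁅d, e⁆ = 1 := by
  intro e he
  rw [Subgroup.commutator_def] at he
  induction he using closure_induction with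
  | mem x hx =>
    obtain ⟨y, hy, b, hb, rfl⟩ := hx
    have hyY : y ∈ Y := hX hy
    have hbA : b ∈ A := hB hb
    have hconj : b * y⁻¹ * b⁻¹ ∈ Y := conj_mem_of_mem_normalizer (h.norm hbA) (inv_mem hyY)
    have e0 : ⁅y, b⁆ = y * (b * y⁻¹ * b⁻¹) := by
      rw [commutatorElement_def]; group
    have hbd : b * d = d * b := mem_centralizer_iff.mp hdB b hb
    have hbd' : b⁻¹ * d⁻¹ = d⁻¹ * b⁻¹ := by
      rw [← mul_inv_rev, ← mul_inv_rev, hbd]
    have e1 : ⁅d, b * y⁻¹ * b⁻¹⁆ = b * ⁅d, y⁻¹⁆ * b⁻¹ := by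
      simp only [commutatorElement_def]
      calc d * (b * y⁻¹ * b⁻¹) * d⁻¹ * (b * y⁻¹ * b⁻¹)⁻¹
          = (d * b) * y⁻¹ * (b⁻¹ * d⁻¹) * b * y⁻¹⁻¹ * b⁻¹ := by group
        _ = (b * d) * y⁻¹ * (d⁻¹ * b⁻¹) * b * y⁻¹⁻¹ * b⁻¹ := by rw [hbd, hbd']
        _ = b * (d * y⁻¹ * d⁻¹ * y⁻¹⁻¹) * b⁻¹ := by group
    refine ⟨by rw [e0]; exact mul_mem hyY hconj, ?_⟩
    rw [e0, comm_mul_right hc hdY hyY hconj,
      hT.mul _ (commutator_mem_commutator hdY hyY) _ (commutator_mem_commutator hdY hconj),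
      e1, hT.conj _ (commutator_mem_commutator hdY (inv_mem hyY)) b hbA,
      comm_inv_right hc hdY hyY, hT.map_inv (commutator_mem_commutator hdY hyY),
      mul_inv_cancel]
  | one =>
    exact ⟨one_mem _, by rw [commutatorElement_one_right, hT.one]⟩
  | mul x y _ _ ihx ihy =>
    refine ⟨mul_mem ihx.1 ihy.1, ?_⟩
    rw [comm_mul_right hc hdY ihx.1 ihy.1,
      hT.mul _ (commutator_mem_commutator hdY ihx.1) _ (commutator_mem_commutator hdY ihy.1),
      ihx.2, ihy.2, one_mul]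
  | inv x _ ih =>
    refine ⟨inv_mem ih.1, ?_⟩
    rw [comm_inv_right hc hdY ih.1, hT.map_inv (commutator_mem_commutator hdY ih.1), ih.2,
      inv_one]

theorem mem_centralizer_sup {H K : Subgroup G} {x : G} (h1 : x ∈ centralizer (H : Set G))
    (h2 : x ∈ centralizer (K : Set G)) : x ∈ centralizer ((H ⊔ K : Subgroup G) : Set G) := by
  have h3 : H ⊔ K ≤ centralizer ((zpowers x : Subgroup G) : Set G) :=
    sup_le (le_centralizer_iff.mp ((zpowers_le (H := centralizer (H : Set G))).mpr h1))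
      (le_centralizer_iff.mp ((zpowers_le (H := centralizer (K : Set G))).mpr h2))
  exact le_centralizer_iff.mp h3 (mem_zpowers x)

theorem PP_step [Finite G] {A Y K L : Subgroup G} {T : G → G} (h : Hyp A Y)
    (hc : ⁅Y, Y⁆ ≤ centralizer (Y : Set G)) (hfix : Y ⊓ centralizer (A : Set G) ≤ ⁅Y, Y⁆)
    (hT : NormMap A ⁅Y, Y⁆ T) (hK : K ≤ A) (hL : L ≤ A) {k : G} (hk : k ∈ K)
    (IH : PP Y A T K (L ⊔ zpowers k)) : PP Y A T K L := by
  intro d hd e he
  have hkA : k ∈ A := hK hk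
  have hDK : ⁅Y ⊓ centralizer (K : Set G), A⁆ ≤ Y ⊓ centralizer (K : Set G) :=
    comm_le (norm_fix h hK)
  have hDL : ⁅Y ⊓ centralizer (L : Set G), A⁆ ≤ Y ⊓ centralizer (L : Set G) :=
    comm_le (norm_fix h hL)
  have hdY : d ∈ Y := (hDK hd).1
  have hdK : d ∈ centralizer (K : Set G) := (hDK hd).2
  have heL := hDL he
  have hA_YL : Hyp A (Y ⊓ centralizer (L : Set G)) := h.of_le inf_le_left (norm_fix h hL)
  have hzk : zpowers k ≤ A := (zpowers_le (H := A)).mpr hkA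
  have hzkK : zpowers k ≤ K := (zpowers_le (H := K)).mpr hk
  have hk_YL : Hyp (zpowers k) (Y ⊓ centralizer (L : Set G)) := hA_YL.of_le_left hzk
  obtain ⟨e1, he1, e2, he2, rfl⟩ := dec hk_YL e heL
  -- the `e2` part dies
  have hdzk : d ∈ centralizer ((zpowers k : Subgroup G) : Set G) :=
    centralizer_le (by exact_mod_cast hzkK) hdK
  obtain ⟨he2Y, hTe2⟩ := T_comm_kill h hc hT (X := Y ⊓ centralizer (L : Set G))
    (B := zpowers k) inf_le_left hzk hdY hdzk e2 he2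
  -- the `e1` part
  have hL' : L ⊔ zpowers k ≤ A := sup_le hL hzk
  have he1' : e1 ∈ Y ⊓ centralizer ((L ⊔ zpowers k : Subgroup G) : Set G) :=
    ⟨he1.1.1, mem_centralizer_sup he1.1.2 he1.2⟩
  have hA_YL' : Hyp A (Y ⊓ centralizer ((L ⊔ zpowers k : Subgroup G) : Set G)) :=
    h.of_le inf_le_left (norm_fix h hL')
  obtain ⟨c, hcm, e', he', rfl⟩ := dec hA_YL' e1 he1'
  have hcY : c ∈ Y := hcm.1.1
  have hcz : c ∈ centralizer (Y : Set G) := hc (hfix ⟨hcY, hcm.2⟩)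
  have hdc : ⁅d, c⁆ = 1 := by
    rw [commutatorElement_eq_one_iff_mul_comm]
    exact mem_centralizer_iff.mp hcz d hdY
  have hDL' : ⁅Y ⊓ centralizer ((L ⊔ zpowers k : Subgroup G) : Set G), A⁆ ≤
      Y ⊓ centralizer ((L ⊔ zpowers k : Subgroup G) : Set G) := comm_le (norm_fix h hL')
  have he'Y : e' ∈ Y := (hDL' he').1
  have h1 := IH d hd e' he'
  rw [comm_mul_right hc hdY (mul_mem hcY he'Y) he2Y,
    hT.mul _ (commutator_mem_commutator hdY (mul_mem hcY he'Y)) _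
      (commutator_mem_commutator hdY he2Y), hTe2, mul_one,
    comm_mul_right hc hdY hcY he'Y, hdc, one_mul]
  exact h1

theorem PP_all [Finite G] {A Y : Subgroup G} {T : G → G} (h : Hyp A Y)
    (hc : ⁅Y, Y⁆ ≤ centralizer (Y : Set G)) (hfix : Y ⊓ centralizer (A : Set G) ≤ ⁅Y, Y⁆)
    (hT : NormMap A ⁅Y, Y⁆ T) :
    ∀ n : ℕ, ∀ K L : Subgroup G, CycQuot A K → CycQuot A L →
      (Nat.card A - Nat.card K) + (Nat.card A - Nat.card L) = n → PP Y A T K L := by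
  intro n
  induction n using Nat.strong_induction_on with
  | _ n IH =>
    intro K L hK hL hn
    have key : ∀ K L : Subgroup G, CycQuot A K → CycQuot A L →
        (Nat.card A - Nat.card K) + (Nat.card A - Nat.card L) = n →
        ∀ k ∈ K, k ∉ L → PP Y A T K L := by
      intro K L hK hL hn k hk hkL
      have hL' : CycQuot A (L ⊔ zpowers k) := by
        refine ⟨sup_le hL.1 ((zpowers_le (H := A)).mpr (hK.1 hk)), ?_⟩
        obtain ⟨a, ha, hle⟩ := hL.2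
        exact ⟨a, ha, hle.trans (sup_le_sup_right le_sup_left _)⟩
      have hlt : Nat.card L < Nat.card (L ⊔ zpowers k : Subgroup G) := by
        by_contra hge
        have := eq_of_le_of_card_ge (le_sup_left : L ≤ L ⊔ zpowers k) (not_lt.mp hge)
        apply hkL
        rw [this]
        exact (le_sup_right : zpowers k ≤ L ⊔ zpowers k) (mem_zpowers k)
      have hle : Nat.card (L ⊔ zpowers k : Subgroup G) ≤ Nat.card A := card_le_of_le hL'.1
      have hKle : Nat.card K ≤ Nat.card A := card_le_of_le hK.1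
      apply PP_step h hc hfix hT hK.1 hL.1 hk
      exact IH _ (by omega) K (L ⊔ zpowers k) hK hL' rfl
    by_cases hKL : K = L
    · subst hKL
      exact PP_self h hT hK
    · by_cases h1 : K ≤ L
      · have h2 : ¬ L ≤ K := fun h2 => hKL (le_antisymm h1 h2)
        obtain ⟨l, hl, hlK⟩ := SetLike.not_le_iff_exists.mp h2
        exact PP_symm h hT hL.1 hK.1 (key L K hL hK (by omega) l hl hlK)
      · obtain ⟨k, hk, hkL⟩ := SetLike.not_le_iff_exists.mp h1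
        exact key K L hK hL hn k hk hkL

theorem T_comm_mem [Finite G] {A Y : Subgroup G} {T : G → G} (h : Hyp A Y)
    (hYA : ⁅Y, A⁆ = Y)
    (hc : ⁅Y, Y⁆ ≤ centralizer (Y : Set G)) (hfix : Y ⊓ centralizer (A : Set G) ≤ ⁅Y, Y⁆)
    (hT : NormMap A ⁅Y, Y⁆ T)
    (hgen : ⁅Y, A⁆ = ⨆ K : {K : Subgroup G // CycQuot A K},
      ⁅Y ⊓ centralizer ((K : Subgroup G) : Set G), A⁆) :
    ∀ u ∈ Y, ∀ v ∈ Y, T ⁅u, v⁆ ∈ RR Y A := by
  have hD : ∀ K : {K : Subgroup G // CycQuot A K},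
      ⁅Y ⊓ centralizer ((K : Subgroup G) : Set G), A⁆ ≤ Y := fun K =>
    (comm_le (norm_fix h K.2.1)).trans inf_le_left
  have hY : Y = ⨆ K : {K : Subgroup G // CycQuot A K},
      ⁅Y ⊓ centralizer ((K : Subgroup G) : Set G), A⁆ := hYA.symm.trans hgen
  have main : ∀ u ∈ Y, u ∈ Y ∧ ∀ v ∈ Y, T ⁅u, v⁆ ∈ RR Y A := by
    intro u hu
    rw [hY] at hu
    refine iSup_induction _ (C := fun u => u ∈ Y ∧ ∀ v ∈ Y, T ⁅u, v⁆ ∈ RR Y A) hu ?_ ?_ ?_
    · intro K x hx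
      refine ⟨hD K hx, ?_⟩
      intro v hv
      rw [hY] at hv
      have : v ∈ Y ∧ T ⁅x, v⁆ ∈ RR Y A := by
        refine iSup_induction _ (C := fun v => v ∈ Y ∧ T ⁅x, v⁆ ∈ RR Y A) hv ?_ ?_ ?_
        · intro L y hy
          exact ⟨hD L hy, PP_all h hc hfix hT _ K.1 L.1 K.2 L.2 rfl x hx y hy⟩
        · refine ⟨one_mem _, ?_⟩
          rw [commutatorElement_one_right, hT.one]
          exact one_mem _
        · intro y z hy hz
          refine ⟨mul_mem hy.1 hz.1, ?_⟩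
          rw [comm_mul_right hc (hD K hx) hy.1 hz.1,
            hT.mul _ (commutator_mem_commutator (hD K hx) hy.1) _
              (commutator_mem_commutator (hD K hx) hz.1)]
          exact mul_mem hy.2 hz.2
      exact this.2
    · refine ⟨one_mem _, ?_⟩
      intro v _
      rw [commutatorElement_one_left, hT.one]
      exact one_mem _
    · intro x y hx hy
      refine ⟨mul_mem hx.1 hy.1, ?_⟩
      intro v hv
      rw [comm_mul_left hc hx.1 hy.1 hv,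
        hT.mul _ (commutator_mem_commutator hx.1 hv) _ (commutator_mem_commutator hy.1 hv)]
      exact mul_mem (hx.2 v hv) (hy.2 v hv)
  intro u hu v hv
  exact (main u hu).2 v hv

theorem T_mem [Finite G] {A Y : Subgroup G} {T : G → G} (h : Hyp A Y)
    (hYA : ⁅Y, A⁆ = Y)
    (hc : ⁅Y, Y⁆ ≤ centralizer (Y : Set G)) (hfix : Y ⊓ centralizer (A : Set G) ≤ ⁅Y, Y⁆)
    (hT : NormMap A ⁅Y, Y⁆ T)
    (hgen : ⁅Y, A⁆ = ⨆ K : {K : Subgroup G // CycQuot A K},
      ⁅Y ⊓ centralizer ((K : Subgroup G) : Set G), A⁆) :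
    ∀ w ∈ ⁅Y, Y⁆, T w ∈ RR Y A := by
  intro w hw
  have hw' := hw
  rw [Subgroup.commutator_def] at hw'
  have : w ∈ ⁅Y, Y⁆ ∧ T w ∈ RR Y A := by
    induction hw' using closure_induction with
    | mem x hx =>
      obtain ⟨u, hu, v, hv, rfl⟩ := hx
      exact ⟨commutator_mem_commutator hu hv, T_comm_mem h hYA hc hfix hT hgen u hu v hv⟩
    | one => exact ⟨one_mem _, by rw [hT.one]; exact one_mem _⟩
    | mul x y _ _ ihx ihy =>
      exact ⟨mul_mem (ihx (by assumption)).1 (ihy (by assumption)).1, by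
        rw [hT.mul _ (ihx (by assumption)).1 _ (ihy (by assumption)).1]
        exact mul_mem (ihx (by assumption)).2 (ihy (by assumption)).2⟩
    | inv x _ ih =>
      exact ⟨inv_mem (ih (by assumption)).1, by
        rw [hT.map_inv (ih (by assumption)).1]; exact inv_mem (ih (by assumption)).2⟩
  exact this.2

theorem mem_of_pow_two_pow_mem {H : Subgroup G} {c : G} {n : ℕ} (hodd : Odd (orderOf c))
    (h : c ^ (2 ^ n) ∈ H) : c ∈ H := by
  have hcop : (2 ^ n).Coprime (orderOf c) :=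
    Nat.Coprime.pow_left n (Nat.coprime_two_left.mpr hodd)
  obtain ⟨m, hm⟩ := exists_pow_eq_self_of_coprime hcop
  rw [← hm]
  exact pow_mem h m

/-- [CLASS2] with its three inputs as hypotheses. -/
theorem class_two_core [Finite G] {A Y : Subgroup G} {T : G → G} (h : Hyp A Y)
    (hYA : ⁅Y, A⁆ = Y)
    (hc : ⁅Y, Y⁆ ≤ centralizer (Y : Set G)) (hfix : Y ⊓ centralizer (A : Set G) ≤ ⁅Y, Y⁆)
    (hT : NormMap A ⁅Y, Y⁆ T)
    (hgen : ⁅Y, A⁆ = ⨆ K : {K : Subgroup G // CycQuot A K},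
      ⁅Y ⊓ centralizer ((K : Subgroup G) : Set G), A⁆) :
    Y ⊓ centralizer (A : Set G) ≤ RR Y A := by
  intro c hcm
  have hcW : c ∈ ⁅Y, Y⁆ := hfix hcm
  have h1 := T_mem h hYA hc hfix hT hgen c hcW
  rw [hT.fix c ⟨hcW, hcm.2⟩] at h1
  obtain ⟨n, hn⟩ := h.two.exists_card_eq
  rw [hn] at h1
  have hodd : Odd (orderOf c) := h.odd.of_dvd_nat (Y.orderOf_dvd_natCard hcm.1)
  exact mem_of_pow_two_pow_mem hodd h1

/-- [CLASS2] with the outputs of [NORM] (`exists_norm` for `W = [Y,Y]`), [ABFIX]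
(`fix_le_comm`) and [GEN] (`gen_comm`) as hypotheses, in exactly the shape those modules
produce. -/
theorem class_two_of [Finite G] {A Y : Subgroup G} (h : Hyp A Y) (hYA : ⁅Y, A⁆ = Y)
    (hc : ⁅Y, Y⁆ ≤ centralizer (Y : Set G))
    (hnorm : ∃ T : G → G, (∀ w ∈ ⁅Y, Y⁆, T w ∈ ⁅Y, Y⁆ ⊓ centralizer (A : Set G)) ∧
      (∀ w ∈ ⁅Y, Y⁆, ∀ w' ∈ ⁅Y, Y⁆, T (w * w') = T w * T w') ∧
      (∀ w ∈ ⁅Y, Y⁆, ∀ b ∈ A, T (b * w * b⁻¹) = T w) ∧
      (∀ w ∈ ⁅Y, Y⁆ ⊓ centralizer (A : Set G), T w = w ^ Nat.card A) ∧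
      (∀ X : Subgroup G, X ≤ ⁅Y, Y⁆ → A ≤ normalizer (X : Set G) → ∀ w ∈ X, T w ∈ X))
    (hfix : Y ⊓ centralizer (A : Set G) ≤ ⁅Y, Y⁆)
    (hgen : ⁅Y, A⁆ = ⨆ K : {K : Subgroup G // CycQuot A K},
      ⁅Y ⊓ centralizer ((K : Subgroup G) : Set G), A⁆) :
    Y ⊓ centralizer (A : Set G) ≤ RR Y A := by
  obtain ⟨T, h1, h2, h3, h4, h5⟩ := hnorm
  exact class_two_core h hYA hc hfix ⟨h1, h2, h3, h4, h5⟩ hgen

/-- `[Y,Y]` is abelian when it is central in `Y` (the hypothesis `hW` of `exists_norm`). -/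
theorem derived_comm_of_central {Y : Subgroup G} (hc : ⁅Y, Y⁆ ≤ centralizer (Y : Set G)) :
    ∀ x ∈ ⁅Y, Y⁆, ∀ y ∈ ⁅Y, Y⁆, x * y = y * x := fun x hx y hy =>
  mem_centralizer_iff.mp (hc hy) x (comm_self_le Y hx)

end Cfsg.Agent.Lib.Helper14.Gold
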