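/-
helper14, project GOLD (S1329, owner helper22): module [CLASS2], final statement.
`class_two` verbatim from the module sheet, from `class_two_of` (GoldClass2Core) and the landed
modules [NORM] / [ABFIX] (helper93) and [GEN] (helper87).
-/
import Mathlib
import Cfsg.Agent.Lib.Helper22.GoldDefs
import Cfsg.Agent.Lib.Helper22.GoldPar
import Cfsg.Agent.Lib.Helper14.GoldClass2Core
import Cfsg.Agent.Lib.Helper93.GoldNorm
import Cfsg.Agent.Lib.Helper93.GoldAbFix
import Cfsg.Agent.Lib.Helper87.GoldGen

set_option autoImplicit false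

namespace Cfsg.Agent.Lib.Helper14.Gold

open Subgroup
open scoped commutatorElement
open Cfsg.Agent.Lib.Helper22.Gold

variable {G : Type*} [Group G]

theorem class_two [Finite G] {A Y : Subgroup G} (h : Hyp A Y) (hYA : ⁅Y, A⁆ = Y)
    (hc : ⁅Y, Y⁆ ≤ centralizer (Y : Set G)) : Y ⊓ centralizer (A : Set G) ≤ RR Y A :=
  class_two_of h hYA hc
    (Cfsg.Agent.Lib.Helper93.Gold.exists_norm (derived_comm_of_central hc) (norm_derived h))
    (Cfsg.Agent.Lib.Helper93.Gold.fix_le_comm h hYA)
    (Cfsg.Agent.Lib.Helper87.Gold.gen_comm h)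

end Cfsg.Agent.Lib.Helper14.Gold
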