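import Mathlib
import Cfsg.Agent.Lib.Helper71.LWDefs
set_option autoImplicit false
set_option linter.unusedSectionVars false
open Equiv
open Cfsg.Agent.Lib.Helper71.LW
namespace Cfsg.Agent.Lib.Helper14.LW
variable {α : Type*} [Fintype α] [DecidableEq α]

/-- the range of an embedding `Fin j ↪ α` as a finset of card `j`. -/
theorem h14_card_map_univ {j : ℕ} (x : Fin j ↪ α) : (Finset.univ.map x).card = j := by
  rw [Finset.card_map, Finset.card_univ, Fintype.card_fin]

theorem trans_of_sub (G : Subgroup (Perm α)) (j : ℕ) (hh : Homog G j) (F : Finset α)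
    (hF : j ≤ F.card) (B : Subgroup (Perm ↥F))
    (hB : ∀ b ∈ B, ∃ g ∈ G, ∀ x : ↥F, g (x : α) = b x) (hBt : Trans B j) : Trans G j := by
  intro x y
  obtain ⟨Δ, hΔF, hΔc⟩ := Finset.exists_subset_card_eq hF
  obtain ⟨g1, hg1, hg1Δ⟩ := hh (Finset.univ.map x) Δ (h14_card_map_univ x) hΔc
  obtain ⟨g2, hg2, hg2Δ⟩ := hh (Finset.univ.map y) Δ (h14_card_map_univ y) hΔc
  have hx : ∀ i, g1 (x i) ∈ F := by
    intro i
    apply hΔF
    rw [← hg1Δ]
    exact Finset.mem_image_of_mem _ (Finset.mem_map_of_mem _ (Finset.mem_univ i))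
  have hy : ∀ i, g2 (y i) ∈ F := by
    intro i
    apply hΔF
    rw [← hg2Δ]
    exact Finset.mem_image_of_mem _ (Finset.mem_map_of_mem _ (Finset.mem_univ i))
  let x' : Fin j ↪ ↥F := ⟨fun i => ⟨g1 (x i), hx i⟩, by
    intro a b hab
    have h1 : g1 (x a) = g1 (x b) := congrArg Subtype.val hab
    exact x.injective (g1.injective h1)⟩
  let y' : Fin j ↪ ↥F := ⟨fun i => ⟨g2 (y i), hy i⟩, by
    intro a b hab
    have h1 : g2 (y a) = g2 (y b) := congrArg Subtype.val hab
    exact y.injective (g2.injective h1)⟩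
  obtain ⟨b, hb, hbxy⟩ := hBt x' y'
  obtain ⟨g, hg, hgb⟩ := hB b hb
  refine ⟨g2⁻¹ * g * g1, G.mul_mem (G.mul_mem (G.inv_mem hg2) hg) hg1, fun i => ?_⟩
  have h1 : g (g1 (x i)) = g2 (y i) := by
    have h2 := hgb (x' i)
    have h3 := hbxy i
    have h4 : ((x' i : ↥F) : α) = g1 (x i) := rfl
    rw [h4] at h2
    rw [h2, h3]
    rfl
  rw [Perm.mul_apply, Perm.mul_apply, h1]
  exact Equiv.symm_apply_apply g2 (y i)

theorem homog_sub (G : Subgroup (Perm α)) (j : ℕ) (hh : Homog G j) (F : Finset α)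
    (B : Subgroup (Perm ↥F))
    (hB2 : ∀ x y : Fin j ↪ ↥F, (∃ g ∈ G, ∀ i, g (x i : α) = (y i : α)) →
      ∃ b ∈ B, ∀ i, b (x i) = y i) : Homog B j := by
  intro s t hs ht
  have hs0 : (s.map (Function.Embedding.subtype _)).card = j := by rw [Finset.card_map, hs]
  have ht0 : (t.map (Function.Embedding.subtype _)).card = j := by rw [Finset.card_map, ht]
  obtain ⟨g, hg, hgst⟩ := hh _ _ hs0 ht0
  -- enumerate s
  let es : Fin j ≃ ↥s := (Finset.equivFinOfCardEq hs).symm
  let x : Fin j ↪ ↥F := ⟨fun i => (es i : ↥F), by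
    intro a b hab
    exact es.injective (Subtype.ext hab)⟩
  have hxs : ∀ i, x i ∈ s := fun i => (es i).2
  have hgx : ∀ i, g ((x i : ↥F) : α) ∈ t.map (Function.Embedding.subtype _) := by
    intro i
    rw [← hgst]
    exact Finset.mem_image_of_mem _ (Finset.mem_map_of_mem _ (hxs i))
  have hgxF : ∀ i, g ((x i : ↥F) : α) ∈ F := by
    intro i
    obtain ⟨w, _, hw⟩ := Finset.mem_map.1 (hgx i)
    rw [← hw]; exact w.2
  let y : Fin j ↪ ↥F := ⟨fun i => ⟨g ((x i : ↥F) : α), hgxF i⟩, by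
    intro a b hab
    have h1 : g ((x a : ↥F) : α) = g ((x b : ↥F) : α) := congrArg Subtype.val hab
    exact x.injective (Subtype.ext (g.injective h1))⟩
  have hyt : ∀ i, y i ∈ t := by
    intro i
    obtain ⟨w, hwt, hw⟩ := Finset.mem_map.1 (hgx i)
    have : y i = w := Subtype.ext hw.symm
    rw [this]; exact hwt
  obtain ⟨b, hb, hbxy⟩ := hB2 x y ⟨g, hg, fun i => rfl⟩
  refine ⟨b, hb, ?_⟩
  apply Finset.eq_of_subset_of_card_le
  · intro w hw
    obtain ⟨v, hv, rfl⟩ := Finset.mem_image.1 hw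
    obtain ⟨i, hi⟩ := es.surjective ⟨v, hv⟩
    have hvi : v = x i := by
      have := congrArg Subtype.val hi
      exact this.symm
    rw [hvi, hbxy i]
    exact hyt i
  · rw [Finset.card_image_of_injective _ b.injective, hs, ht]

end Cfsg.Agent.Lib.Helper14.LW
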