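import Mathlib
import Cfsg.Agent.Lib.Helper71.LWDefs
set_option autoImplicit false
set_option linter.unusedSectionVars false
open Equiv
open Cfsg.Agent.Lib.Helper71.LW
namespace Cfsg.Agent.Lib.Helper14.LW
variable {α : Type*} [Fintype α] [DecidableEq α]

/-- the equivalence `↥(Δ'.map subtype) ≃ ↥Δ'` for `Δ' : Finset ↥F`. -/
def h14MapSubtypeEquiv (F : Finset α) (Δ' : Finset ↥F) :
    ↥(Δ'.map (Function.Embedding.subtype _)) ≃ ↥Δ' where
  toFun x := ⟨⟨(x : α), by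
      obtain ⟨y, _, hy⟩ := Finset.mem_map.1 x.2
      rw [← hy]; exact y.2⟩, by
      obtain ⟨y, hy', hy⟩ := Finset.mem_map.1 x.2
      have : (⟨(x : α), by rw [← hy]; exact y.2⟩ : ↥F) = y := Subtype.ext hy.symm
      rw [this]; exact hy'⟩
  invFun y := ⟨((y : ↥F) : α), Finset.mem_map.2 ⟨(y : ↥F), y.2, rfl⟩⟩
  left_inv x := Subtype.ext rfl
  right_inv y := Subtype.ext (Subtype.ext rfl)

theorem h14MapSubtypeEquiv_coe (F : Finset α) (Δ' : Finset ↥F)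
    (x : ↥(Δ'.map (Function.Embedding.subtype _))) :
    (((h14MapSubtypeEquiv F Δ' x : ↥Δ') : ↥F) : α) = (x : α) := rfl

theorem inducesAlt_map (G : Subgroup (Perm α)) (F : Finset α) (B : Subgroup (Perm ↥F))
    (hB : ∀ b ∈ B, ∃ g ∈ G, ∀ x : ↥F, g (x : α) = b x) (Δ' : Finset ↥F)
    (h : InducesAlt B Δ') : InducesAlt G (Δ'.map (Function.Embedding.subtype _)) := by
  intro σ hσ
  set ε := h14MapSubtypeEquiv F Δ' with hε
  have hσ' : ε.permCongr σ ∈ alternatingGroup ↥Δ' := by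
    rw [Equiv.Perm.mem_alternatingGroup, Equiv.Perm.sign_permCongr]
    exact Equiv.Perm.mem_alternatingGroup.1 hσ
  obtain ⟨b, hb, hbσ⟩ := h (ε.permCongr σ) hσ'
  obtain ⟨g, hg, hgb⟩ := hB b hb
  refine ⟨g, hg, fun x => ?_⟩
  have h1 := hgb ((ε x : ↥Δ') : ↥F)
  have h2 := hbσ (ε x)
  rw [h14MapSubtypeEquiv_coe] at h1
  rw [h1, h2, Equiv.permCongr_apply, Equiv.symm_apply_apply, h14MapSubtypeEquiv_coe]

end Cfsg.Agent.Lib.Helper14.LW
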