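import Mathlib
import Cfsg.Agent.Lib.Helper71.LWDefs
import Cfsg.Agent.Lib.Helper42.LWSyl
import Cfsg.Agent.Lib.Helper42.LWPstab
import Cfsg.Agent.Lib.Helper42.LWRes

/-!
# S0747 module [WITT-RED] (helper14, for helper71): Witt's lemma for the Sylow 2-subgroup of a
`k`-point stabiliser
-/
set_option autoImplicit false
set_option linter.unusedSectionVars false
open Equiv
open Cfsg.Agent.Lib.Helper71.LW
open Cfsg.Agent.Lib.Helper42.LW (isSyl2In_card isSyl2In_conj card_pstab_eq exists_induced)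


namespace Cfsg.Agent.Lib.Helper14.LW
variable {α : Type*} [Fintype α] [DecidableEq α]

/-- a `2`-subgroup of `H ≤ H'` whose order is the full `2`-part of `|H'|` is Sylow in `H`. -/
theorem h14_isSyl2In_of_card {P H H' : Subgroup (Perm α)} (hPH : P ≤ H) (hHH' : H ≤ H')
    (hP2 : IsPGroup 2 P) (hcard : Nat.card P = 2 ^ (Nat.card H').factorization 2) :
    IsSyl2In P H := by
  refine ⟨hPH, hP2, ?_⟩
  intro Q hQ2 hPQ hQH
  -- |Q| is a power of 2 dividing |H'|
  obtain ⟨n, hn⟩ := hQ2.exists_card_eq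
  have hdvd : Nat.card Q ∣ Nat.card H' := Subgroup.card_dvd_of_le (hQH.trans hHH')
  have hH'pos : Nat.card H' ≠ 0 := Nat.card_pos.ne'
  have hle : n ≤ (Nat.card H').factorization 2 := by
    rw [hn] at hdvd
    exact (Nat.Prime.pow_dvd_iff_le_factorization Nat.prime_two hH'pos).1 hdvd
  have hcardle : Nat.card Q ≤ Nat.card P := by
    rw [hn, hcard]
    exact Nat.pow_le_pow_right (by norm_num) hle
  exact (Subgroup.eq_of_le_of_card_ge hPQ hcardle).symm


theorem witt_reduce (G : Subgroup (Perm α)) (k : ℕ) (hG : Trans G k) (Γ : Finset α)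
    (hΓ : Γ.card = k) (P : Subgroup (Perm α)) (hP : IsSyl2In P (pstab G Γ)) :
    ∃ B : Subgroup (Perm ↥(fixPts P)),
      (∀ b ∈ B, ∃ g ∈ G, ∀ x : ↥(fixPts P), g (x : α) = b x) ∧
      (∀ m : ℕ, k ≤ m → ∀ x y : Fin m ↪ ↥(fixPts P),
        (∃ g ∈ G, ∀ i, g (x i : α) = (y i : α)) → ∃ b ∈ B, ∀ i, b (x i) = y i) := by
  obtain ⟨B, hBa, hBb⟩ := exists_induced G P
  refine ⟨B, ?_, ?_⟩
  · intro b hb
    obtain ⟨g, hg, -, hgb⟩ := hBa b hb
    exact ⟨g, hg, hgb⟩
  · intro m hkm x y ⟨g, hg, hgxy⟩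
    have hPG : P ≤ G := hP.1.trans (pstab_le G Γ)
    have hP2 : IsPGroup 2 P := hP.2.1
    -- the image of x
    set X : Finset α := Finset.univ.map (x.trans (Function.Embedding.subtype _)) with hX
    have hXcard : X.card = m := by
      rw [hX, Finset.card_map, Finset.card_univ, Fintype.card_fin]
    have hXmem : ∀ i, ((x i : ↥(fixPts P)) : α) ∈ X := fun i =>
      Finset.mem_map.2 ⟨i, Finset.mem_univ i, rfl⟩
    have hXfix : ∀ z ∈ X, z ∈ fixPts P := by
      intro z hz
      obtain ⟨i, -, rfl⟩ := Finset.mem_map.1 hz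
      exact (x i).2
    have hXx : ∀ z ∈ X, ∃ i, ((x i : ↥(fixPts P)) : α) = z := by
      intro z hz
      obtain ⟨i, -, rfl⟩ := Finset.mem_map.1 hz
      exact ⟨i, rfl⟩
    obtain ⟨X0, hX0X, hX0card⟩ := Finset.exists_subset_card_eq (hkm.trans hXcard.ge)
    have hPX : P ≤ pstab G X := by
      intro p hp
      exact ⟨hPG hp, fun z hz => mem_fixPts.1 (hXfix z hz) p hp⟩
    have hXX0 : pstab G X ≤ pstab G X0 := pstab_mono G hX0X
    have hcardP : Nat.card P = 2 ^ (Nat.card (pstab G X0)).factorization 2 := by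
      rw [isSyl2In_card hP, card_pstab_eq G k hG Γ X0 hΓ hX0card]
    have hSylP : IsSyl2In P (pstab G X) := h14_isSyl2In_of_card hPX hXX0 hP2 hcardP
    -- the conjugate P' = g⁻¹ P g
    set P' : Subgroup (Perm α) := P.map (MulAut.conj g⁻¹).toMonoidHom with hP'
    have hmemP' : ∀ p : Perm α, p ∈ P' ↔ g * p * g⁻¹ ∈ P := by
      intro p
      rw [hP', Subgroup.mem_map]
      constructor
      · rintro ⟨q, hq, rfl⟩
        simp only [MulEquiv.coe_toMonoidHom, MulAut.conj_apply, inv_inv]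
        have : g * (g⁻¹ * q * g) * g⁻¹ = q := by group
        rw [this]; exact hq
      · intro h
        refine ⟨g * p * g⁻¹, h, ?_⟩
        simp only [MulEquiv.coe_toMonoidHom, MulAut.conj_apply, inv_inv]
        group
    have hP'2 : IsPGroup 2 P' := hP2.map _
    have hcardP' : Nat.card P' = Nat.card P := by
      rw [hP']
      exact Subgroup.card_map_of_injective (MulAut.conj g⁻¹).injective
    have hP'X : P' ≤ pstab G X := by
      intro p hp
      have hp' := (hmemP' p).1 hp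
      refine ⟨?_, ?_⟩
      · have : p = g⁻¹ * (g * p * g⁻¹) * g := by group
        rw [this]
        exact G.mul_mem (G.mul_mem (G.inv_mem hg) (hPG hp')) hg
      · intro z hz
        obtain ⟨i, rfl⟩ := hXx z hz
        have h1 := mem_fixPts.1 (y i).2 _ hp'
        rw [← hgxy i] at h1
        simp only [Perm.mul_apply] at h1
        rw [show g⁻¹ (g ((x i : ↥(fixPts P)) : α)) = ((x i : ↥(fixPts P)) : α) from Equiv.symm_apply_apply g _] at h1
        exact g.injective h1
    have hSylP' : IsSyl2In P' (pstab G X) :=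
      h14_isSyl2In_of_card hP'X hXX0 hP'2 (hcardP'.trans hcardP)
    obtain ⟨h, hh, hconj⟩ := isSyl2In_conj hSylP hSylP'
    -- n = g * h normalises P
    have hn : ∀ q ∈ P, (g * h) * q * (g * h)⁻¹ ∈ P := by
      intro q hq
      have h1 : h * q * h⁻¹ ∈ P' := by
        rw [hconj]
        have : h⁻¹ * (h * q * h⁻¹) * h = q := by group
        rw [this]; exact hq
      have h2 := (hmemP' _).1 h1
      have : g * h * q * (g * h)⁻¹ = g * (h * q * h⁻¹) * g⁻¹ := by group
      rw [this]; exact h2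
    obtain ⟨b, hb, hnb⟩ := hBb (g * h) (G.mul_mem hg hh.1) hn
    refine ⟨b, hb, fun i => ?_⟩
    apply Subtype.ext
    rw [← hnb (x i), Perm.mul_apply, hh.2 _ (hXmem i), hgxy i]

end Cfsg.Agent.Lib.Helper14.LW
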