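import Mathlib
import Cfsg.Agent.Lib.Helper17.Burnside
import Cfsg.Agent.Lib.Helper17.SylowCard
import Cfsg.Agent.Lib.Helper17.PrimeSylow
import Cfsg.Agent.Lib.Helper17.SimpleTools
import Cfsg.Agent.Lib.Helper17.SimpleIndex
import Cfsg.Agent.Lib.Helper17.ConjCount
import Cfsg.Agent.Lib.Helper17.OrderCount
import Cfsg.Agent.Lib.Helper17.InvolutionParity
import Cfsg.Agent.Lib.Helper17.OrbitCount
import Cfsg.Agent.Lib.Helper17.CosetAction
import Cfsg.Agent.Lib.Helper17.Simple5472b
import Cfsg.Agent.Lib.Helper17.SwapBound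

set_option autoImplicit false
set_option linter.unusedSectionVars false

/-!
# Simple groups of order 7920, part A: general tools and the Sylow 11-subgroups
-/

namespace Cfsg.Agent.Lib.Helper14.M11

open MulAction Subgroup Cfsg.Agent.Lib.Helper17

/-- Fixed points of `z` congruent mod `p` to common fixed points of `z` and a commuting `c` with
`c ^ p = 1`. -/
theorem card_fixedBy_modEq_of_commute {G X : Type*} [Group G] [MulAction G X] [Finite X]
    (p : ℕ) [Fact p.Prime] (c z : G) (hcz : Commute c z) (hc : c ^ p = 1) :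
    Nat.card (fixedBy X z) ≡ Nat.card {a : X // z • a = a ∧ c • a = a} [MOD p] := by
  classical
  let act : MulAction (Subgroup.zpowers c) (fixedBy X z) :=
    { smul := fun g a => ⟨g.1 • a.1, by
        have hg : Commute g.1 z := by
          obtain ⟨k, hk⟩ := Subgroup.mem_zpowers_iff.1 g.2
          rw [← hk]
          exact hcz.zpow_left k
        rw [mem_fixedBy, ← mul_smul, ← hg.eq, mul_smul]
        congr 1
        exact a.2⟩
      one_smul := fun a => Subtype.ext (one_smul _ _)
      mul_smul := fun g h a => Subtype.ext (mul_smul _ _ _) }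
  have h1 := Simple5472.card_modEq_card_fixedBy (α := fixedBy X z) p
    (⟨c, Subgroup.mem_zpowers c⟩ : Subgroup.zpowers c) (Subtype.ext (by simpa using hc))
  have e : Nat.card (fixedBy (fixedBy X z) (⟨c, Subgroup.mem_zpowers c⟩ : Subgroup.zpowers c)) =
      Nat.card {a : X // z • a = a ∧ c • a = a} := by
    apply Nat.card_congr
    refine ⟨fun a => ⟨a.1.1, a.1.2, congrArg Subtype.val a.2⟩,
      fun a => ⟨⟨a.1, a.2.1⟩, Subtype.ext a.2.2⟩, fun a => rfl, fun a => rfl⟩
  rw [← e]
  exact h1

/-- In a simple group, an element fixing all cosets of a proper subgroup is trivial. -/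
theorem eq_one_of_forall_smul_eq {G : Type*} [Group G] [IsSimpleGroup G] (H : Subgroup G)
    (hH : H ≠ ⊤) (z : G) (hz : ∀ q : G ⧸ H, z • q = q) : z = 1 := by
  have hmem : z ∈ H.normalCore := by
    rw [Subgroup.normalCore_eq_ker, MonoidHom.mem_ker]
    ext q
    exact hz q
  have hn : H.normalCore.Normal := inferInstance
  rcases hn.eq_bot_or_eq_top with hb | ht
  · rw [hb] at hmem
    exact Subgroup.mem_bot.1 hmem
  · exfalso
    apply hH
    have := Subgroup.normalCore_le H
    rw [ht] at this
    exact top_le_iff.1 this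


/-- Key parity/fixed-point lemma.  `G` simple non-commutative, `H` a proper subgroup, `z ∈ H` a
non-trivial element with `z ^ 2 = 1`, `c` commuting with `z`, `c ^ p = 1`, `c` fixing exactly one
coset of `H`, `c ∈ H`.  Then `|Fix(z)| ≡ 1 mod p`, `4 ∣ [G:H] - |Fix(z)|` and `|Fix(z)| < [G:H]`. -/
theorem card_fixedBy_involution_facts {G : Type*} [Group G] [Finite G] [IsSimpleGroup G]
    (hG : ¬ IsMulCommutative G) (H : Subgroup G) (hH : H ≠ ⊤) (p : ℕ) [Fact p.Prime]
    (z c : G) (hz1 : z ≠ 1) (hz2 : z ^ 2 = 1) (hzH : z ∈ H) (hcz : Commute c z) (hc : c ^ p = 1)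
    (hcH : c ∈ H) (hfix : Nat.card (fixedBy (G ⧸ H) c) = 1) :
    Nat.card (fixedBy (G ⧸ H) z) ≡ 1 [MOD p] ∧ 4 ∣ H.index - Nat.card (fixedBy (G ⧸ H) z) ∧
      Nat.card (fixedBy (G ⧸ H) z) < H.index := by
  refine ⟨?_, four_dvd_index_sub_card_fixedBy_of_simple hG H z hz2, ?_⟩
  · have h1 := card_fixedBy_modEq_of_commute (X := G ⧸ H) p c z hcz hc
    have h2 : Nat.card {a : G ⧸ H // z • a = a ∧ c • a = a} = 1 := by
      rw [Nat.card_eq_one_iff_unique]
      have hsub : Subsingleton (fixedBy (G ⧸ H) c) := (Nat.card_eq_one_iff_unique.1 hfix).1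
      constructor
      · constructor
        rintro ⟨a, ha⟩ ⟨b, hb⟩
        have := hsub.elim ⟨a, ha.2⟩ ⟨b, hb.2⟩
        have hab : a = b := congrArg Subtype.val this
        exact Subtype.ext hab
      · refine ⟨⟨((1 : G) : G ⧸ H), ?_, ?_⟩⟩
        · exact (smul_base_eq_iff H z).2 hzH
        · exact (smul_base_eq_iff H c).2 hcH
    rwa [h2] at h1
  · have hex : ∃ q : G ⧸ H, ¬ (z • q = q) := by
      by_contra hcon
      apply hz1
      apply eq_one_of_forall_smul_eq H hH z
      intro q
      by_contra hq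
      exact hcon ⟨q, hq⟩
    obtain ⟨q, hq⟩ := hex
    have := Finite.card_subtype_lt (p := fun a : G ⧸ H => z • a = a) hq
    rw [Subgroup.index_eq_card]
    exact this


theorem pow_smul_eq_of_smul_eq {H X : Type*} [Monoid H] [MulAction H X] {k : H} {q : X}
    (h : k • q = q) (i : ℕ) : k ^ i • q = q := by
  induction i with
  | zero => simp
  | succ i ih => rw [pow_succ, mul_smul, h, ih]

theorem card_orbit_eq_card_of_stabilizer_eq_bot {H X : Type*} [Group H] [MulAction H X] (q : X)
    (h : stabilizer H q = ⊥) : Nat.card (orbit H q) = Nat.card H := by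
  rw [Nat.card_coe_set_eq, ← index_stabilizer, h, Subgroup.index_bot]

theorem fact11 : Fact (Nat.Prime 11) := ⟨by norm_num⟩
theorem fact5 : Fact (Nat.Prime 5) := ⟨by norm_num⟩

attribute [local instance] fact11 fact5

section

variable {G : Type*} [Group G] [Finite G] [IsSimpleGroup G]

theorem not_comm (hc : Nat.card G = 7920) : ¬ IsMulCommutative G :=
  not_comm_of_simple_of_not_prime (by rw [hc]; norm_num)

theorem card_sylow11_sub (hc : Nat.card G = 7920) (P : Sylow 11 G) :
    Nat.card (P : Subgroup G) = 11 := by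
  have := sylow_card_of_card_eq P (k := 1) (m := 720) (by rw [hc]; norm_num) (by norm_num)
  simpa using this

theorem card_sylow5_sub (hc : Nat.card G = 7920) (P : Sylow 5 G) :
    Nat.card (P : Subgroup G) = 5 := by
  have := sylow_card_of_card_eq P (k := 1) (m := 1584) (by rw [hc]; norm_num) (by norm_num)
  simpa using this

theorem card_sylow11_mem (hc : Nat.card G = 7920) :
    Nat.card (Sylow 11 G) = 1 ∨ Nat.card (Sylow 11 G) = 12 ∨ Nat.card (Sylow 11 G) = 45 ∨
      Nat.card (Sylow 11 G) = 144 := by
  have h1 : Nat.card (Sylow 11 G) ∣ 720 :=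
    card_sylow_dvd_of_card_eq (p := 11) (k := 1) (m := 720) (by rw [hc]; norm_num) (by norm_num)
  have h2 : Nat.card (Sylow 11 G) ≡ 1 [MOD 11] := card_sylow_modEq_one 11 G
  have h3 : Nat.card (Sylow 11 G) ∈ (Nat.divisors 720).filter (fun d => d % 11 = 1) := by
    rw [Finset.mem_filter, Nat.mem_divisors]
    exact ⟨⟨h1, by norm_num⟩, h2⟩
  have h4 : (Nat.divisors 720).filter (fun d => d % 11 = 1) = {1, 12, 45, 144} := by decide
  rw [h4] at h3
  simpa using h3


theorem card_sylow11_ne_12 (hc : Nat.card G = 7920) : Nat.card (Sylow 11 G) ≠ 12 := by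
  intro h12
  obtain ⟨P⟩ := (Sylow.nonempty : Nonempty (Sylow 11 G))
  have h1 := card_normalizer_dvd_of_card_sylow_of_simple (not_comm hc) 11 11
    (Or.inr (by rw [h12])) P (by rw [hc]; norm_num)
  have h2 := card_sylow_mul_card_normalizer P
  rw [h12, hc] at h2
  have h3 : Nat.card (normalizer ((P : Subgroup G) : Set G)) = 660 := by omega
  rw [h3] at h1
  norm_num at h1

/-- An element of order `11` in a Sylow `11`-subgroup. -/
theorem exists_mem_sylow11 (hc : Nat.card G = 7920) (P : Sylow 11 G) :
    ∃ x : G, x ∈ (P : Subgroup G) ∧ orderOf x = 11 := by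
  have hP := card_sylow11_sub hc P
  obtain ⟨x, hx⟩ := exists_prime_orderOf_dvd_card' (G := (P : Subgroup G)) 11 (by rw [hP])
  exact ⟨x.1, x.2, by rw [Subgroup.orderOf_coe]; exact hx⟩

theorem card_sylow11_ne_45 (hc : Nat.card G = 7920) : Nat.card (Sylow 11 G) ≠ 45 := by
  intro h45
  have hG := not_comm hc
  obtain ⟨P⟩ := (Sylow.nonempty : Nonempty (Sylow 11 G))
  have hP := card_sylow11_sub hc P
  set N := normalizer ((P : Subgroup G) : Set G) with hN
  set C := centralizer ((P : Subgroup G) : Set G) with hC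
  have hNcard : Nat.card N = 176 := by
    have h2 : Nat.card (Sylow 11 G) * Nat.card N = Nat.card G := card_sylow_mul_card_normalizer P
    rw [h45, hc] at h2
    omega
  have hNidx : N.index = 45 := by
    rw [← h45]; exact (P.card_eq_index_normalizer).symm
  have hNtop : N ≠ ⊤ := by
    intro h; rw [h, index_top] at hNidx; omega
  have hCN : C ≤ N := Subgroup.centralizer_le_normalizer _
  have hr1 : C.relIndex N ∣ 10 := relIndex_cent_norm_dvd_pred_of_card_prime P hP
  have hr2 : 11 * C.relIndex N ∣ 176 := by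
    rw [← hNcard]; exact mul_relIndex_cent_norm_dvd_of_card_prime P hP
  have hr3 : Nat.card C * C.relIndex N = 176 := by
    rw [← hNcard]; exact card_mul_relIndex_of_le hCN
  have h8 : 2 ^ 3 ∣ Nat.card C := by
    have hr4 : C.relIndex N ∣ 16 := by
      have : (11 : ℕ) * C.relIndex N ∣ 11 * 16 := by norm_num; exact hr2
      exact Nat.dvd_of_mul_dvd_mul_left (by norm_num) this
    have hr5 : C.relIndex N ∣ 2 := by
      have := Nat.dvd_gcd hr1 hr4
      norm_num at this
      exact this
    rcases (Nat.dvd_prime Nat.prime_two).1 hr5 with h | h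
    · rw [h, mul_one] at hr3; rw [hr3]; norm_num
    · have : Nat.card C = 88 := by rw [h] at hr3; omega
      rw [this]; norm_num
  -- a 2-subgroup of order 8 inside C
  obtain ⟨K', hK'⟩ := Sylow.exists_subgroup_card_pow_prime (G := C) 2 h8
  set K : Subgroup G := K'.map C.subtype with hKdef
  have hKcard : Nat.card K = 8 := by
    rw [hKdef, Subgroup.card_map_of_injective C.subtype_injective, hK']; norm_num
  have hKC : K ≤ C := by
    rw [hKdef]; exact Subgroup.map_subtype_le K'
  obtain ⟨x, hxP, hx⟩ := exists_mem_sylow11 hc P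
  have hxN : x ∈ N := Subgroup.le_normalizer hxP
  have hfixx : Nat.card (fixedBy (G ⧸ N) x) = 1 := card_fixedBy_normalizer_eq_one P hP x hx
  have hx11 : x ^ 11 = 1 := by rw [← hx]; exact pow_orderOf_eq_one x
  -- every involution of K fixes only the base coset
  have hinv : ∀ z : G, z ∈ K → z ≠ 1 → z ^ 2 = 1 → Nat.card (fixedBy (G ⧸ N) z) = 1 := by
    intro z hzK hz1 hz2
    have hzC : z ∈ C := hKC hzK
    have hcomm : Commute x z := ((Subgroup.mem_centralizer_iff.1 hzC) x hxP)
    obtain ⟨m1, m2, m3⟩ := card_fixedBy_involution_facts hG N hNtop 11 z x hz1 hz2 (hCN hzC)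
      hcomm hx11 hxN hfixx
    rw [hNidx] at m2 m3
    have := m1
    unfold Nat.ModEq at this
    omega
  have hbase : ∀ z : G, z ∈ N → ((1 : G) : G ⧸ N) ∈ fixedBy (G ⧸ N) z := fun z hz =>
    (smul_base_eq_iff N z).2 hz
  have hinv' : ∀ z : G, z ∈ K → z ≠ 1 → z ^ 2 = 1 → ∀ q : G ⧸ N, z • q = q →
      q = ((1 : G) : G ⧸ N) := by
    intro z hzK hz1 hz2 q hq
    have hsub : Subsingleton (fixedBy (G ⧸ N) z) :=
      (Nat.card_eq_one_iff_unique.1 (hinv z hzK hz1 hz2)).1
    have := hsub.elim ⟨q, hq⟩ ⟨_, hbase z (hCN (hKC hzK))⟩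
    exact congrArg Subtype.val this
  -- every non-trivial element of K fixes only the base coset
  have hK2 : IsPGroup 2 K := IsPGroup.of_card (n := 3) (by rw [hKcard]; norm_num)
  have hall : ∀ k : G, k ∈ K → k ≠ 1 → ∀ q : G ⧸ N, k • q = q → q = ((1 : G) : G ⧸ N) := by
    intro k hkK hk1 q hq
    obtain ⟨n, hn⟩ := hK2 ⟨k, hkK⟩
    have hn' : k ^ 2 ^ n = 1 := by
      have := congrArg Subtype.val hn
      simpa using this
    -- minimal exponent
    have hex : ∃ m : ℕ, k ^ 2 ^ m = 1 := ⟨n, hn'⟩
    classical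
    set m := Nat.find hex with hm
    have hm1 : k ^ 2 ^ m = 1 := Nat.find_spec hex
    have hm0 : m ≠ 0 := by
      intro h0
      rw [h0, pow_zero, pow_one] at hm1
      exact hk1 hm1
    obtain ⟨j, hj⟩ : ∃ j, m = j + 1 := ⟨m - 1, by omega⟩
    have hzne : k ^ 2 ^ j ≠ 1 := by
      intro h
      have := Nat.find_min' hex h
      omega
    have hz2 : (k ^ 2 ^ j) ^ 2 = 1 := by
      rw [← pow_mul, ← pow_succ, ← hj]; exact hm1
    exact hinv' (k ^ 2 ^ j) (K.pow_mem hkK _) hzne hz2 q (pow_smul_eq_of_smul_eq hq _)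
  -- orbit counting
  have hfp : fixedPoints K (G ⧸ N) = {((1 : G) : G ⧸ N)} := by
    ext q
    constructor
    · intro hq
      obtain ⟨z, hz⟩ := exists_prime_orderOf_dvd_card' (G := K) 2 (by rw [hKcard]; norm_num)
      have hz1 : (z : G) ≠ 1 := by
        intro h
        have : z = 1 := Subtype.ext h
        rw [this, orderOf_one] at hz
        omega
      have := hall z.1 z.2 hz1 q (hq z)
      exact this
    · intro hq
      rw [Set.mem_singleton_iff] at hq
      rw [hq]
      intro k
      exact hbase k.1 (hCN (hKC k.2))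
  have hmod := card_modEq_card_fixedPoints_of_dvd (H := K) (X := G ⧸ N) 8 (by
    intro q hq
    have hstab : stabilizer K q = ⊥ := by
      rw [Subgroup.eq_bot_iff_forall]
      intro k hk
      by_contra hk1
      have hk1' : (k : G) ≠ 1 := fun h => hk1 (Subtype.ext h)
      have := hall k.1 k.2 hk1' q hk
      apply hq
      rw [hfp, this]
      rfl
    rw [card_orbit_eq_card_of_stabilizer_eq_bot q hstab, hKcard])
  rw [hfp] at hmod
  have hX : Nat.card (G ⧸ N) = 45 := by rw [← Subgroup.index_eq_card]; exact hNidx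
  rw [hX] at hmod
  simp at hmod
  unfold Nat.ModEq at hmod
  omega


theorem card_sylow11 (hc : Nat.card G = 7920) : Nat.card (Sylow 11 G) = 144 := by
  rcases card_sylow11_mem hc with h | h | h | h
  · exact absurd h (card_sylow_ne_one_of_simple (p := 11) (k := 1) (m := 720)
      (by rw [hc]; norm_num) (by norm_num) (by norm_num) (by norm_num))
  · exact absurd h (card_sylow11_ne_12 hc)
  · exact absurd h (card_sylow11_ne_45 hc)
  · exact h

theorem card_normalizer_sylow11 (hc : Nat.card G = 7920) (P : Sylow 11 G) :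
    Nat.card (normalizer ((P : Subgroup G) : Set G)) = 55 := by
  have h2 := card_sylow_mul_card_normalizer P
  rw [card_sylow11 hc, hc] at h2
  omega

theorem card_centralizer_sylow11 (hc : Nat.card G = 7920) (P : Sylow 11 G) :
    Nat.card (centralizer ((P : Subgroup G) : Set G)) = 11 := by
  have hP := card_sylow11_sub hc P
  have hN := card_normalizer_sylow11 hc P
  have hr1 := relIndex_cent_norm_dvd_pred_of_card_prime P hP
  have hr2 := mul_relIndex_cent_norm_dvd_of_card_prime P hP
  have hr0 := relIndex_cent_norm_ne_one_of_simple (not_comm hc) P (by rw [hc]; norm_num)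
  have hr3 := card_mul_relIndex_of_le
    (Subgroup.centralizer_le_normalizer (s := ((P : Subgroup G) : Set G)))
  rw [hN] at hr2 hr3
  set r := (centralizer ((P : Subgroup G) : Set G)).relIndex
    (normalizer ((P : Subgroup G) : Set G)) with hr
  have hr4 : r ∣ 5 := by
    have : (11 : ℕ) * r ∣ 11 * 5 := by norm_num; exact hr2
    exact Nat.dvd_of_mul_dvd_mul_left (by norm_num) this
  rcases (Nat.dvd_prime (by norm_num : Nat.Prime 5)).1 hr4 with h | h
  · exact absurd h hr0
  · rw [h] at hr3; omega

/-- The centralizer of an element of order `11` has order `11`. -/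
theorem card_centralizer_of_orderOf_eq_11 (hc : Nat.card G = 7920) (x : G)
    (hx : orderOf x = 11) : Nat.card (centralizer ({x} : Set G)) = 11 := by
  obtain ⟨P, hxP⟩ := exists_sylow_mem_of_orderOf_eq x hx
  have hP := card_sylow11_sub hc P
  have hx1 : x ≠ 1 := by
    intro h; rw [h, orderOf_one] at hx; omega
  have : centralizer ({x} : Set G) = centralizer ((P : Subgroup G) : Set G) := by
    apply le_antisymm
    · intro g hg
      exact mem_centralizer_of_commute_of_card_prime (P : Subgroup G) (by norm_num) hP hxP hx1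
        (Subgroup.mem_centralizer_singleton_iff.1 hg)
    · apply Subgroup.centralizer_le
      intro y hy
      rw [Set.mem_singleton_iff] at hy
      rw [hy]; exact hxP
  rw [this]
  exact card_centralizer_sylow11 hc P

/-- An element commuting with an element of order `11` is a power of it. -/
theorem mem_zpowers_of_commute_11 (hc : Nat.card G = 7920) (x g : G)
    (hx : orderOf x = 11) (hg : Commute g x) : g ∈ zpowers x := by
  have h1 : zpowers x ≤ centralizer ({x} : Set G) := by
    rw [Subgroup.zpowers_le]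
    exact Subgroup.mem_centralizer_singleton_iff.2 rfl
  have h2 : zpowers x = centralizer ({x} : Set G) := by
    apply Subgroup.eq_of_le_of_card_ge h1
    rw [card_centralizer_of_orderOf_eq_11 hc x hx, Nat.card_zpowers, hx]
  rw [h2]
  exact Subgroup.mem_centralizer_singleton_iff.2 hg.eq

/-- No element of order `11` commutes with an element of prime order `q ≠ 11`. -/
theorem not_commute_11 (hc : Nat.card G = 7920) (x g : G) (hx : orderOf x = 11)
    (hg : Commute g x) : orderOf g ∣ 11 := by
  have := mem_zpowers_of_commute_11 hc x g hx hg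
  have h := Subgroup.orderOf_dvd_natCard (zpowers x) this
  rwa [Nat.card_zpowers, hx] at h

end

end Cfsg.Agent.Lib.Helper14.M11
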