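import Mathlib
import Cfsg.Agent.Lib.Helper14.M11A

set_option autoImplicit false
set_option linter.unusedSectionVars false

/-!
# Simple groups of order 7920, part B: the Sylow 5-subgroups
-/

namespace Cfsg.Agent.Lib.Helper14.M11

open MulAction Subgroup Cfsg.Agent.Lib.Helper17

attribute [local instance] fact11 fact5

/-- An element of the normalizer of `H` whose order is coprime to `|Aut H|` centralizes `H`. -/
theorem mem_centralizer_of_coprime {G : Type*} [Group G] (H : Subgroup G) [Finite H] (g : G)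
    (hg : g ∈ normalizer (H : Set G)) (hcop : (orderOf g).Coprime (Nat.card (MulAut H))) :
    g ∈ centralizer (H : Set G) := by
  have h1 : orderOf (H.normalizerMonoidHom ⟨g, hg⟩) ∣ orderOf g := by
    have := orderOf_map_dvd H.normalizerMonoidHom (⟨g, hg⟩ : normalizer (H : Set G))
    rwa [Subgroup.orderOf_mk] at this
  have h2 : orderOf (H.normalizerMonoidHom ⟨g, hg⟩) ∣ Nat.card (MulAut H) :=
    orderOf_dvd_natCard _
  have h3 : orderOf (H.normalizerMonoidHom ⟨g, hg⟩) = 1 :=
    Nat.eq_one_of_dvd_coprimes hcop h1 h2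
  have h4 : (⟨g, hg⟩ : normalizer (H : Set G)) ∈ H.normalizerMonoidHom.ker := by
    rw [MonoidHom.mem_ker]; exact orderOf_eq_one_iff.1 h3
  rw [normalizerMonoidHom_ker, mem_subgroupOf] at h4
  exact h4

theorem card_mulAut_of_card_five {G : Type*} [Group G] (H : Subgroup G)
    (hH : Nat.card H = 5) : Nat.card (MulAut H) = 4 := by
  have hc : IsCyclic H := isCyclic_of_prime_card hH
  have : Finite H := Nat.finite_of_card_ne_zero (by rw [hH]; norm_num)
  rw [IsCyclic.card_mulAut, hH]
  decide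

section

variable {G : Type*} [Group G] [Finite G] [IsSimpleGroup G]

/-- `11` does not divide the order of the normalizer of a Sylow `5`-subgroup. -/
theorem not_dvd_card_normalizer_sylow5 (hc : Nat.card G = 7920) (Y : Sylow 5 G) :
    ¬ 11 ∣ Nat.card (normalizer ((Y : Subgroup G) : Set G)) := by
  intro hdvd
  have hY := card_sylow5_sub hc Y
  obtain ⟨x, hxN, hx⟩ := exists_mem_orderOf_eq_of_dvd_card _ 11 hdvd
  have : Finite (Y : Subgroup G) := inferInstance
  have hxC : x ∈ centralizer ((Y : Subgroup G) : Set G) := by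
    apply mem_centralizer_of_coprime _ x hxN
    rw [hx, card_mulAut_of_card_five _ hY]
    norm_num
  obtain ⟨y, hyY, hy⟩ := exists_mem_orderOf_eq_of_dvd_card (Y : Subgroup G) 5 (by rw [hY])
  have hcomm : Commute y x := ((Subgroup.mem_centralizer_iff.1 hxC) y hyY)
  have := not_commute_11 hc x y hx hcomm
  rw [hy] at this
  norm_num at this


/-- A Sylow `5`-subgroup generated by a given element of order `5`. -/
theorem exists_sylow5_eq_zpowers (hc : Nat.card G = 7920) (y : G) (hy : orderOf y = 5) :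
    ∃ Y : Sylow 5 G, (Y : Subgroup G) = zpowers y := by
  obtain ⟨Y, hyY⟩ := exists_sylow_mem_of_orderOf_eq y hy
  have hy1 : y ≠ 1 := by
    intro h; rw [h, orderOf_one] at hy; omega
  exact ⟨Y, eq_zpowers_of_card_prime _ (by norm_num) (card_sylow5_sub hc Y) hyY hy1⟩

theorem ne_one_of_orderOf_eq_five {y : G} (hy : orderOf y = 5) : y ≠ 1 := by
  intro h; rw [h, orderOf_one] at hy; omega

/-- Key lemma: if `y ∈ F = N(P)` of order 5 fixes the coset `gF ≠ F` and also `d g F` with
`d ∈ P`, then `d = 1`. -/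
theorem eq_one_of_fixed_translate (hc : Nat.card G = 7920) (P : Sylow 11 G) (y : G)
    (hyF : y ∈ normalizer ((P : Subgroup G) : Set G)) (hy : orderOf y = 5) (g d : G)
    (hg : g ∉ normalizer ((P : Subgroup G) : Set G))
    (hgy : g⁻¹ * y * g ∈ normalizer ((P : Subgroup G) : Set G)) (hd : d ∈ (P : Subgroup G))
    (hdy : (d * g)⁻¹ * y * (d * g) ∈ normalizer ((P : Subgroup G) : Set G)) : d = 1 := by
  set F := normalizer ((P : Subgroup G) : Set G) with hF
  have hP := card_sylow11_sub hc P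
  have hFcard : Nat.card F = 55 := card_normalizer_sylow11 hc P
  obtain ⟨Y, hY⟩ := exists_sylow5_eq_zpowers hc y hy
  have hYcard := card_sylow5_sub hc Y
  have hy1 := ne_one_of_orderOf_eq_five hy
  -- the subgroup D of elements h of F with g⁻¹ h g ∈ F
  set D : Subgroup G := F ⊓ F.comap (MulAut.conj g⁻¹).toMonoidHom with hD
  have hmemD : ∀ h : G, h ∈ D ↔ h ∈ F ∧ g⁻¹ * h * g ∈ F := by
    intro h
    rw [hD, Subgroup.mem_inf, Subgroup.mem_comap]
    simp
  have hD11 : ¬ 11 ∣ Nat.card D := by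
    intro hdvd
    obtain ⟨w, hwD, hw⟩ := exists_mem_orderOf_eq_of_dvd_card D 11 hdvd
    obtain ⟨hwF, hwF'⟩ := (hmemD w).1 hwD
    have hwP : w ∈ (P : Subgroup G) :=
      mem_sylow_of_mem_normalizer P w (isPGroup_zpowers_of_orderOf_eq w hw) hwF
    have hw' : orderOf (g⁻¹ * w * g) = 11 := by
      have := orderOf_conj_eq g⁻¹ w
      rw [inv_inv] at this
      rw [this, hw]
    have hwP' : g⁻¹ * w * g ∈ (P : Subgroup G) :=
      mem_sylow_of_mem_normalizer P _ (isPGroup_zpowers_of_orderOf_eq _ hw') hwF'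
    have hw1 : w ≠ 1 := by
      intro h; rw [h, orderOf_one] at hw; omega
    exact hg (mem_normalizer_of_mem_smul_of_card_prime P hP hwP hw1 hwP')
  have hDF : D ≤ F := inf_le_left
  have hD5 : Nat.card D ∣ 5 := by
    have h1 : Nat.card D ∣ 5 * 11 := by
      have := Subgroup.card_dvd_of_le hDF
      rwa [hFcard] at this
    have hcop : (Nat.card D).Coprime 11 := by
      rw [Nat.coprime_comm]
      exact (Nat.Prime.coprime_iff_not_dvd (by norm_num)).2 hD11
    exact hcop.dvd_of_dvd_mul_right h1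
  have hyD : y ∈ D := (hmemD y).2 ⟨hyF, hgy⟩
  have hdF : d ∈ F := Subgroup.le_normalizer hd
  have hy'D : d⁻¹ * y * d ∈ D := by
    refine (hmemD _).2 ⟨F.mul_mem (F.mul_mem (F.inv_mem hdF) hyF) hdF, ?_⟩
    have : g⁻¹ * (d⁻¹ * y * d) * g = (d * g)⁻¹ * y * (d * g) := by group
    rw [this]; exact hdy
  have hzD : zpowers y = D := by
    apply Subgroup.eq_of_le_of_card_ge
    · rw [Subgroup.zpowers_le]; exact hyD
    · rw [Nat.card_zpowers, hy]
      exact Nat.le_of_dvd (by norm_num) hD5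
  have hy'Y : d⁻¹ * y * d ∈ (Y : Subgroup G) := by rw [hY, hzD]; exact hy'D
  have hyY : y ∈ (Y : Subgroup G) := by rw [hY]; exact Subgroup.mem_zpowers y
  have hdN : d ∈ normalizer ((Y : Subgroup G) : Set G) :=
    mem_normalizer_of_mem_smul_of_card_prime Y hYcard hyY hy1 hy'Y
  have ho1 : orderOf d ∣ 11 := by
    have := Subgroup.orderOf_dvd_natCard (P : Subgroup G) hd
    rwa [hP] at this
  have ho2 : orderOf d ∣ Nat.card (normalizer ((Y : Subgroup G) : Set G)) :=
    Subgroup.orderOf_dvd_natCard _ hdN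
  rcases (Nat.dvd_prime (by norm_num : Nat.Prime 11)).1 ho1 with h | h
  · exact orderOf_eq_one_iff.1 h
  · rw [h] at ho2
    exact absurd ho2 (not_dvd_card_normalizer_sylow5 hc Y)


/-- The translation map `(a, c) ↦ c • a` from (non-base fixed points of `y`) × `P` to the
non-base points of `G ⧸ F` is injective. -/
theorem translate_injective (hc : Nat.card G = 7920) (P : Sylow 11 G) (F : Subgroup G)
    (hF : F = normalizer ((P : Subgroup G) : Set G)) (y : G)
    (hyF : y ∈ F) (hy : orderOf y = 5)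
    (a a' : G ⧸ F) (c c' : G)
    (ha : y • a = a) (ha0 : a ≠ ((1 : G) : G ⧸ F))
    (ha' : y • a' = a') (hcP : c ∈ (P : Subgroup G)) (hcP' : c' ∈ (P : Subgroup G))
    (h : c • a = c' • a') : c = c' ∧ a = a' := by
  have ha'eq : a' = (c'⁻¹ * c) • a := by rw [mul_smul, h, inv_smul_smul]
  have hdP : c'⁻¹ * c ∈ (P : Subgroup G) :=
    (P : Subgroup G).mul_mem ((P : Subgroup G).inv_mem hcP') hcP
  induction a using QuotientGroup.induction_on with
  | H g =>
  have hgF : g ∉ F := by
    intro hg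
    apply ha0
    rw [QuotientGroup.eq, mul_one]
    exact F.inv_mem hg
  have hgy : g⁻¹ * y * g ∈ F := (mk_mem_fixedBy_iff F y g).1 ha
  have hdy : ((c'⁻¹ * c) * g)⁻¹ * y * ((c'⁻¹ * c) * g) ∈ F := by
    rw [← mk_mem_fixedBy_iff]
    have : (((c'⁻¹ * c) * g : G) : G ⧸ F) = (c'⁻¹ * c) • ((g : G) : G ⧸ F) := rfl
    rw [this, ← ha'eq]
    exact ha'
  rw [hF] at hgF hgy hdy hyF
  have hd1 := eq_one_of_fixed_translate hc P y hyF hy g (c'⁻¹ * c) hgF hgy hdP hdy
  have hcc : c = c' := by
    have : c' * (c'⁻¹ * c) = c' * 1 := by rw [hd1]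
    rw [mul_inv_cancel_left, mul_one] at this
    exact this
  refine ⟨hcc, ?_⟩
  rw [ha'eq, hd1, one_smul]

/-- An element of order 5 of `F = N(P)` fixes at most 14 cosets of `F`. -/
theorem card_fixedBy_le_14 (hc : Nat.card G = 7920) (P : Sylow 11 G) (F : Subgroup G)
    (hF : F = normalizer ((P : Subgroup G) : Set G)) (y : G)
    (hyF : y ∈ F) (hy : orderOf y = 5) :
    Nat.card (fixedBy (G ⧸ F) y) ≤ 14 := by
  classical
  have hP := card_sylow11_sub hc P
  have hidx : Nat.card (G ⧸ F) = 144 := by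
    rw [← Subgroup.index_eq_card, hF]
    have := P.card_eq_index_normalizer
    rw [card_sylow11 hc] at this
    exact this.symm
  have hPfix : ∀ c : G, c ∈ (P : Subgroup G) → c • ((1 : G) : G ⧸ F) = ((1 : G) : G ⧸ F) :=
    fun c hcP => (smul_base_eq_iff F c).2 (by rw [hF]; exact Subgroup.le_normalizer hcP)
  let Φ : {a : G ⧸ F // y • a = a ∧ a ≠ ((1 : G) : G ⧸ F)} × (P : Subgroup G) →
      {q : G ⧸ F // q ≠ ((1 : G) : G ⧸ F)} :=
    fun ac => ⟨ac.2.1 • ac.1.1, by
      intro h
      apply ac.1.2.2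
      calc ac.1.1 = ac.2.1⁻¹ • (ac.2.1 • ac.1.1) := (inv_smul_smul _ _).symm
        _ = ac.2.1⁻¹ • ((1 : G) : G ⧸ F) := by rw [h]
        _ = ((1 : G) : G ⧸ F) := hPfix _ ((P : Subgroup G).inv_mem ac.2.2)⟩
  have hΦ : Function.Injective Φ := by
    rintro ⟨⟨a, ha, ha0⟩, ⟨c, hcP⟩⟩ ⟨⟨a', ha', ha0'⟩, ⟨c', hcP'⟩⟩ h
    have h' : c • a = c' • a' := congrArg Subtype.val h
    obtain ⟨h1, h2⟩ := translate_injective hc P F hF y hyF hy a a' c c' ha ha0 ha' hcP hcP' h'
    subst h1; subst h2; rfl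
  have hcard := Nat.card_le_card_of_injective Φ hΦ
  rw [Nat.card_prod, hP] at hcard
  have h143 : Nat.card {q : G ⧸ F // q ≠ ((1 : G) : G ⧸ F)} = 143 := by
    have h1 : Nat.card {q : G ⧸ F // q ≠ ((1 : G) : G ⧸ F)} = Nat.card (G ⧸ F) - 1 := by
      have := Fintype.ofFinite (G ⧸ F)
      rw [Nat.card_eq_fintype_card, Nat.card_eq_fintype_card]
      exact Fintype.card_subtype_compl (fun q => q = ((1 : G) : G ⧸ F)) |>.trans (by simp)
    rw [h1, hidx]
  rw [h143] at hcard
  have hA : Nat.card (fixedBy (G ⧸ F) y) ≤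
      Nat.card {a : G ⧸ F // y • a = a ∧ a ≠ ((1 : G) : G ⧸ F)} + 1 := by
    have e1 : Nat.card (fixedBy (G ⧸ F) y) = (fixedBy (G ⧸ F) y).ncard :=
      Nat.card_coe_set_eq _
    have e2 : Nat.card {a : G ⧸ F // y • a = a ∧ a ≠ ((1 : G) : G ⧸ F)} =
        ((fixedBy (G ⧸ F) y) \ {((1 : G) : G ⧸ F)}).ncard := by
      rw [← Nat.card_coe_set_eq]
      apply Nat.card_congr
      apply Equiv.subtypeEquivRight
      intro a
      simp [mem_fixedBy]
    rw [e1, e2]
    have := Set.ncard_le_ncard_sdiff_add_ncard (fixedBy (G ⧸ F) y) {((1 : G) : G ⧸ F)}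
    rwa [Set.ncard_singleton] at this
  omega


/-- Conjugation by an element of the normalizer of `zpowers y`. -/
theorem conj_mem_zpowers_of_mem_normalizer {y n : G} (hn : n ∈ normalizer ((zpowers y : Subgroup G) : Set G)) :
    n⁻¹ * y * n ∈ zpowers y := by
  have hn' : n⁻¹ ∈ normalizer ((zpowers y : Subgroup G) : Set G) := Subgroup.inv_mem _ hn
  have := (Subgroup.mem_normalizer_iff.1 hn' y).1 (Subgroup.mem_zpowers y)
  rwa [inv_inv] at this

/-- `|N(Y)| ≤ 5 |Fix(y)|` for `Y = ⟨y⟩ ≤ F`. -/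
theorem card_normalizer_le_mul_fixedBy (hc : Nat.card G = 7920) (P : Sylow 11 G) (F : Subgroup G)
    (hF : F = normalizer ((P : Subgroup G) : Set G)) (y : G)
    (hyF : y ∈ F) (hy : orderOf y = 5) (Y : Sylow 5 G) (hY : (Y : Subgroup G) = zpowers y) :
    Nat.card (normalizer ((Y : Subgroup G) : Set G)) ≤ 5 * Nat.card (fixedBy (G ⧸ F) y) := by
  set N := normalizer ((Y : Subgroup G) : Set G) with hN
  have hFcard : Nat.card F = 55 := by rw [hF]; exact card_normalizer_sylow11 hc P
  have h11 : ¬ 11 ∣ Nat.card N := not_dvd_card_normalizer_sylow5 hc Y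
  -- the orbit of the base point under N lies in Fix(y)
  have hsub : orbit N (((1 : G) : G ⧸ F)) ⊆ fixedBy (G ⧸ F) y := by
    rintro q ⟨n, rfl⟩
    have : (n • (((1 : G) : G ⧸ F)) : G ⧸ F) = (((n : G) : G) : G ⧸ F) := by
      show ((n : G) • (((1 : G) : G ⧸ F)) : G ⧸ F) = _
      rw [MulAction.Quotient.smul_coe, smul_eq_mul, mul_one]
    show (n • (((1 : G) : G ⧸ F)) : G ⧸ F) ∈ fixedBy (G ⧸ F) y
    rw [this, mk_mem_fixedBy_iff]
    have hn : (n : G) ∈ normalizer ((zpowers y : Subgroup G) : Set G) := by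
      rw [← hY]; exact n.2
    have h1 := conj_mem_zpowers_of_mem_normalizer hn
    have h2 : zpowers y ≤ F := by rw [Subgroup.zpowers_le]; exact hyF
    exact h2 h1
  have h1 : (orbit N (((1 : G) : G ⧸ F))).ncard ≤ Nat.card (fixedBy (G ⧸ F) y) := by
    rw [Nat.card_coe_set_eq]
    exact Set.ncard_le_ncard hsub (Set.toFinite _)
  have h2 : (stabilizer N (((1 : G) : G ⧸ F))).index = (orbit N (((1 : G) : G ⧸ F))).ncard :=
    index_stabilizer _ _
  have h3 := (stabilizer N (((1 : G) : G ⧸ F))).index_mul_card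
  -- the stabilizer has order dividing 5
  have h4 : Nat.card (stabilizer N (((1 : G) : G ⧸ F))) ∣ 5 := by
    set S := stabilizer N (((1 : G) : G ⧸ F)) with hS
    have e : Nat.card (S.map N.subtype) = Nat.card S :=
      Subgroup.card_map_of_injective N.subtype_injective
    have hle : S.map N.subtype ≤ F := by
      rintro g ⟨n, hn, rfl⟩
      have : (n : G) • (((1 : G) : G ⧸ F)) = ((1 : G) : G ⧸ F) := hn
      exact (smul_base_eq_iff F n.1).1 this
    have hd1 : Nat.card S ∣ 55 := by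
      rw [← e, ← hFcard]; exact Subgroup.card_dvd_of_le hle
    have hd2 : Nat.card S ∣ Nat.card N := Subgroup.card_subgroup_dvd_card S
    have hcop : (Nat.card S).Coprime 11 := by
      rw [Nat.coprime_comm]
      refine (Nat.Prime.coprime_iff_not_dvd (by norm_num)).2 ?_
      intro h
      exact h11 (h.trans hd2)
    exact hcop.dvd_of_dvd_mul_right (by norm_num; exact hd1)
  have h5 : Nat.card (stabilizer N (((1 : G) : G ⧸ F))) ≤ 5 := Nat.le_of_dvd (by norm_num) h4
  rw [h2] at h3
  calc Nat.card N = (orbit N (((1 : G) : G ⧸ F))).ncard *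
        Nat.card (stabilizer N (((1 : G) : G ⧸ F))) := h3.symm
    _ ≤ Nat.card (fixedBy (G ⧸ F) y) * 5 := Nat.mul_le_mul h1 h5
    _ = 5 * Nat.card (fixedBy (G ⧸ F) y) := mul_comm _ _


theorem card_sylow5_mem (hc : Nat.card G = 7920) :
    Nat.card (Sylow 5 G) ∈ ({1, 6, 11, 16, 36, 66, 176, 396} : Finset ℕ) := by
  have h1 : Nat.card (Sylow 5 G) ∣ 1584 :=
    card_sylow_dvd_of_card_eq (p := 5) (k := 1) (m := 1584) (by rw [hc]; norm_num) (by norm_num)
  have h2 : Nat.card (Sylow 5 G) ≡ 1 [MOD 5] := card_sylow_modEq_one 5 G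
  have h3 : Nat.card (Sylow 5 G) ∈ (Nat.divisors 1584).filter (fun d => d % 5 = 1) := by
    rw [Finset.mem_filter, Nat.mem_divisors]
    exact ⟨⟨h1, by norm_num⟩, h2⟩
  have h4 : (Nat.divisors 1584).filter (fun d => d % 5 = 1) = {1, 6, 11, 16, 36, 66, 176, 396} := by
    decide +kernel
  rw [h4] at h3
  exact h3

theorem card_sylow5 (hc : Nat.card G = 7920) : Nat.card (Sylow 5 G) = 396 := by
  obtain ⟨P⟩ := (Sylow.nonempty : Nonempty (Sylow 11 G))
  have hFcard := card_normalizer_sylow11 hc P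
  obtain ⟨y, hyF, hy⟩ := exists_mem_orderOf_eq_of_dvd_card
    (normalizer ((P : Subgroup G) : Set G)) 5 (by rw [hFcard]; norm_num)
  obtain ⟨Y, hY⟩ := exists_sylow5_eq_zpowers hc y hy
  have hYcard := card_sylow5_sub hc Y
  have hb1 := card_normalizer_le_mul_fixedBy hc P _ rfl y hyF hy Y hY
  have hb2 := card_fixedBy_le_14 hc P _ rfl y hyF hy
  have hN70 : Nat.card (normalizer ((Y : Subgroup G) : Set G)) ≤ 70 := by omega
  have hmul := card_sylow_mul_card_normalizer Y
  rw [hc] at hmul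
  have hr1 := relIndex_cent_norm_dvd_pred_of_card_prime Y hYcard
  have hr2 := mul_relIndex_cent_norm_dvd_of_card_prime Y hYcard
  have hr0 := relIndex_cent_norm_ne_one_of_simple (not_comm hc) Y (by rw [hc]; norm_num)
  have hmem := card_sylow5_mem hc
  simp only [Finset.mem_insert, Finset.mem_singleton] at hmem
  set r := (centralizer ((Y : Subgroup G) : Set G)).relIndex
    (normalizer ((Y : Subgroup G) : Set G)) with hr
  set n := Nat.card (normalizer ((Y : Subgroup G) : Set G)) with hn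
  rcases hmem with h | h | h | h | h | h | h | h
  · rw [h] at hmul; omega
  · rw [h] at hmul; omega
  · rw [h] at hmul; omega
  · rw [h] at hmul; omega
  · rw [h] at hmul; omega
  · rw [h] at hmul; omega
  · rw [h] at hmul
    have hn45 : n = 45 := by omega
    rw [hn45] at hr2
    exfalso
    have hr3 : r ∣ 9 := by
      have : (5 : ℕ) * r ∣ 5 * 9 := by norm_num; exact hr2
      exact Nat.dvd_of_mul_dvd_mul_left (by norm_num) this
    have : r ∣ Nat.gcd 4 9 := Nat.dvd_gcd (by simpa using hr1) hr3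
    norm_num at this
    exact hr0 this
  · exact h

theorem card_normalizer_sylow5 (hc : Nat.card G = 7920) (Y : Sylow 5 G) :
    Nat.card (normalizer ((Y : Subgroup G) : Set G)) = 20 := by
  have h2 := card_sylow_mul_card_normalizer Y
  rw [card_sylow5 hc, hc] at h2
  omega

theorem card_centralizer_sylow5 (hc : Nat.card G = 7920) (Y : Sylow 5 G) :
    Nat.card (centralizer ((Y : Subgroup G) : Set G)) = 5 ∨
      Nat.card (centralizer ((Y : Subgroup G) : Set G)) = 10 := by
  have hYcard := card_sylow5_sub hc Y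
  have hN := card_normalizer_sylow5 hc Y
  have hr1 := relIndex_cent_norm_dvd_pred_of_card_prime Y hYcard
  have hr0 := relIndex_cent_norm_ne_one_of_simple (not_comm hc) Y (by rw [hc]; norm_num)
  have hr3 := card_mul_relIndex_of_le
    (Subgroup.centralizer_le_normalizer (s := ((Y : Subgroup G) : Set G)))
  rw [hN] at hr3
  set r := (centralizer ((Y : Subgroup G) : Set G)).relIndex
    (normalizer ((Y : Subgroup G) : Set G)) with hr
  have hr4 : r ∣ 4 := by simpa using hr1
  have hr5 : r ∈ Nat.divisors 4 := Nat.mem_divisors.2 ⟨hr4, by norm_num⟩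
  have hd : Nat.divisors 4 = {1, 2, 4} := by decide
  rw [hd] at hr5
  simp only [Finset.mem_insert, Finset.mem_singleton] at hr5
  rcases hr5 with h | h | h
  · exact absurd h hr0
  · right; rw [h] at hr3; omega
  · left; rw [h] at hr3; omega

end

end Cfsg.Agent.Lib.Helper14.M11
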