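import Mathlib
import Cfsg.Agent.Lib.Helper14.M11B

set_option autoImplicit false
set_option linter.unusedSectionVars false
set_option linter.unusedVariables false

/-!
# Simple groups of order 7920, part C: the swap bound for involutions
-/

namespace Cfsg.Agent.Lib.Helper14.M11

open MulAction Subgroup Cfsg.Agent.Lib.Helper17

attribute [local instance] fact11 fact5

section

variable {G : Type*} [Group G] [Finite G] [IsSimpleGroup G]

/-- The stabilizer in `F` of a coset of `F`. -/
def stabIn (F : Subgroup G) (β : G ⧸ F) : Subgroup G := F ⊓ stabilizer G β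

theorem mem_stabIn (F : Subgroup G) (β : G ⧸ F) (h : G) :
    h ∈ stabIn F β ↔ h ∈ F ∧ h • β = β := by
  rw [stabIn, Subgroup.mem_inf, mem_stabilizer_iff]

/-- For a non-base coset, the two-point stabilizer has order dividing 5. -/
theorem card_stabIn_dvd_five (hc : Nat.card G = 7920) (P : Sylow 11 G) (F : Subgroup G)
    (hF : F = normalizer ((P : Subgroup G) : Set G)) (β : G ⧸ F)
    (hβ : β ≠ ((1 : G) : G ⧸ F)) : Nat.card (stabIn F β) ∣ 5 := by
  have hP := card_sylow11_sub hc P
  have hFcard : Nat.card F = 55 := by rw [hF]; exact card_normalizer_sylow11 hc P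
  induction β using QuotientGroup.induction_on with
  | H g =>
  have hg : g ∉ F := by
    intro hg
    apply hβ
    rw [QuotientGroup.eq, mul_one]
    exact F.inv_mem hg
  set D := stabIn F ((g : G) : G ⧸ F) with hD
  have hmemD : ∀ h : G, h ∈ D ↔ h ∈ F ∧ g⁻¹ * h * g ∈ F := by
    intro h
    rw [hD, mem_stabIn, ← mk_mem_fixedBy_iff, mem_fixedBy]
  have hD11 : ¬ 11 ∣ Nat.card D := by
    intro hdvd
    obtain ⟨w, hwD, hw⟩ := exists_mem_orderOf_eq_of_dvd_card D 11 hdvd
    obtain ⟨hwF, hwF'⟩ := (hmemD w).1 hwD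
    rw [hF] at hwF hwF'
    have hwP : w ∈ (P : Subgroup G) :=
      mem_sylow_of_mem_normalizer P w (isPGroup_zpowers_of_orderOf_eq w hw) hwF
    have hw' : orderOf (g⁻¹ * w * g) = 11 := by
      have := orderOf_conj_eq g⁻¹ w
      rw [inv_inv] at this
      rw [this, hw]
    have hwP' : g⁻¹ * w * g ∈ (P : Subgroup G) :=
      mem_sylow_of_mem_normalizer P _ (isPGroup_zpowers_of_orderOf_eq _ hw') hwF'
    have hw1 : w ≠ 1 := by
      intro h; rw [h, orderOf_one] at hw; omega
    apply hg
    rw [hF]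
    exact mem_normalizer_of_mem_smul_of_card_prime P hP hwP hw1 hwP'
  have hDF : D ≤ F := inf_le_left
  have h1 : Nat.card D ∣ 5 * 11 := by
    have := Subgroup.card_dvd_of_le hDF
    rwa [hFcard] at this
  have hcop : (Nat.card D).Coprime 11 := by
    rw [Nat.coprime_comm]
    exact (Nat.Prime.coprime_iff_not_dvd (by norm_num)).2 hD11
  exact hcop.dvd_of_dvd_mul_right h1

/-- An involution is not in `F`. -/
theorem involution_not_mem (hc : Nat.card G = 7920) (P : Sylow 11 G) (F : Subgroup G)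
    (hF : F = normalizer ((P : Subgroup G) : Set G)) (s : G) (hs : orderOf s = 2) : s ∉ F := by
  intro hsF
  have hFcard : Nat.card F = 55 := by rw [hF]; exact card_normalizer_sylow11 hc P
  have := Subgroup.orderOf_dvd_natCard F hsF
  rw [hs, hFcard] at this
  norm_num at this

theorem sq_eq_one_of_orderOf_eq_two {s : G} (hs : orderOf s = 2) : s * s = 1 := by
  have := pow_orderOf_eq_one s
  rwa [hs, pow_two] at this

/-- Generic involutions inject into generic points. -/
theorem card_inv_generic_le (hc : Nat.card G = 7920) (P : Sylow 11 G) (F : Subgroup G)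
    (hF : F = normalizer ((P : Subgroup G) : Set G)) :
    Nat.card {s : G // orderOf s = 2 ∧
        ∀ h ∈ F, h • (s • ((1 : G) : G ⧸ F)) = s • ((1 : G) : G ⧸ F) → h = 1} ≤
      Nat.card {β : G ⧸ F // β ≠ ((1 : G) : G ⧸ F) ∧ ∀ h ∈ F, h • β = β → h = 1} := by
  let f : {s : G // orderOf s = 2 ∧
        ∀ h ∈ F, h • (s • ((1 : G) : G ⧸ F)) = s • ((1 : G) : G ⧸ F) → h = 1} →
      {β : G ⧸ F // β ≠ ((1 : G) : G ⧸ F) ∧ ∀ h ∈ F, h • β = β → h = 1} :=
    fun s => ⟨s.1 • ((1 : G) : G ⧸ F), by
      refine ⟨?_, s.2.2⟩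
      intro h
      exact involution_not_mem hc P F hF s.1 s.2.1 ((smul_base_eq_iff F s.1).1 h)⟩
  apply Nat.card_le_card_of_injective f
  rintro ⟨s, hs, hgen⟩ ⟨s', hs', hgen'⟩ h
  have h' : s • ((1 : G) : G ⧸ F) = s' • ((1 : G) : G ⧸ F) := congrArg Subtype.val h
  have hss := sq_eq_one_of_orderOf_eq_two hs
  have hss' := sq_eq_one_of_orderOf_eq_two hs'
  -- s * s' fixes the base point and the point s • q0
  have h1 : (s * s') • ((1 : G) : G ⧸ F) = ((1 : G) : G ⧸ F) := by
    rw [mul_smul, ← h', ← mul_smul, hss, one_smul]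
  have h2 : (s * s') • (s • ((1 : G) : G ⧸ F)) = s • ((1 : G) : G ⧸ F) := by
    rw [h', ← mul_smul, mul_assoc, hss', mul_one]
    exact h'
  have h3 := hgen (s * s') ((smul_base_eq_iff F _).1 h1) h2
  have : s' = s := by
    have : s * (s * s') = s * 1 := by rw [h3]
    rw [← mul_assoc, hss, one_mul, mul_one] at this
    exact this
  subst this
  rfl


theorem card_fixedBy_le_succ (F : Subgroup G) (y : G) :
    Nat.card (fixedBy (G ⧸ F) y) ≤
      Nat.card {a : G ⧸ F // y • a = a ∧ a ≠ ((1 : G) : G ⧸ F)} + 1 := by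
  have e1 : Nat.card (fixedBy (G ⧸ F) y) = (fixedBy (G ⧸ F) y).ncard :=
    Nat.card_coe_set_eq _
  have e2 : Nat.card {a : G ⧸ F // y • a = a ∧ a ≠ ((1 : G) : G ⧸ F)} =
      ((fixedBy (G ⧸ F) y) \ {((1 : G) : G ⧸ F)}).ncard := by
    rw [← Nat.card_coe_set_eq]
    apply Nat.card_congr
    apply Equiv.subtypeEquivRight
    intro a
    simp [mem_fixedBy]
  rw [e1, e2]
  have := Set.ncard_le_ncard_sdiff_add_ncard (fixedBy (G ⧸ F) y) {((1 : G) : G ⧸ F)}
  rwa [Set.ncard_singleton] at this

theorem card_ne_base (hc : Nat.card G = 7920) (P : Sylow 11 G) (F : Subgroup G)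
    (hF : F = normalizer ((P : Subgroup G) : Set G)) :
    Nat.card {q : G ⧸ F // q ≠ ((1 : G) : G ⧸ F)} = 143 := by
  classical
  have hidx : Nat.card (G ⧸ F) = 144 := by
    rw [← Subgroup.index_eq_card, hF]
    have := P.card_eq_index_normalizer
    rw [card_sylow11 hc] at this
    exact this.symm
  have h1 : Nat.card {q : G ⧸ F // q ≠ ((1 : G) : G ⧸ F)} = Nat.card (G ⧸ F) - 1 := by
    have := Fintype.ofFinite (G ⧸ F)
    rw [Nat.card_eq_fintype_card, Nat.card_eq_fintype_card]
    exact Fintype.card_subtype_compl (fun q => q = ((1 : G) : G ⧸ F)) |>.trans (by simp)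
  rw [h1, hidx]

theorem card_subtype_and_add {α : Type*} [Finite α] (p q : α → Prop) :
    Nat.card {a : α // p a ∧ q a} + Nat.card {a : α // p a ∧ ¬ q a} = Nat.card {a : α // p a} := by
  classical
  have := Fintype.ofFinite α
  rw [Nat.card_eq_fintype_card, Nat.card_eq_fintype_card, Nat.card_eq_fintype_card,
    Fintype.card_subtype, Fintype.card_subtype, Fintype.card_subtype]
  rw [← Finset.filter_filter, ← Finset.filter_filter]
  exact Finset.card_filter_add_card_filter_not _

/-- There are at most 110 generic points. -/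
theorem card_generic_le (hc : Nat.card G = 7920) (P : Sylow 11 G) (F : Subgroup G)
    (hF : F = normalizer ((P : Subgroup G) : Set G)) :
    Nat.card {β : G ⧸ F // β ≠ ((1 : G) : G ⧸ F) ∧ ∀ h ∈ F, h • β = β → h = 1} ≤ 110 := by
  have hP := card_sylow11_sub hc P
  have hFcard : Nat.card F = 55 := by rw [hF]; exact card_normalizer_sylow11 hc P
  obtain ⟨y, hyF, hy⟩ := exists_mem_orderOf_eq_of_dvd_card F 5 (by rw [hFcard]; norm_num)
  obtain ⟨Y, hY⟩ := exists_sylow5_eq_zpowers hc y hy
  have hb1 := card_normalizer_le_mul_fixedBy hc P F hF y hyF hy Y hY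
  rw [card_normalizer_sylow5 hc Y] at hb1
  have hb2 := card_fixedBy_le_succ F y
  have hy1 := ne_one_of_orderOf_eq_five hy
  have hPF : (P : Subgroup G) ≤ F := by rw [hF]; exact Subgroup.le_normalizer
  have hPfix : ∀ c : G, c ∈ (P : Subgroup G) → c • ((1 : G) : G ⧸ F) = ((1 : G) : G ⧸ F) :=
    fun c hcP => (smul_base_eq_iff F c).2 (hPF hcP)
  let Φ : {a : G ⧸ F // y • a = a ∧ a ≠ ((1 : G) : G ⧸ F)} × (P : Subgroup G) →
      {β : G ⧸ F // β ≠ ((1 : G) : G ⧸ F) ∧ ¬ ∀ h ∈ F, h • β = β → h = 1} :=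
    fun ac => ⟨ac.2.1 • ac.1.1, by
      refine ⟨?_, ?_⟩
      · intro h
        apply ac.1.2.2
        calc ac.1.1 = ac.2.1⁻¹ • (ac.2.1 • ac.1.1) := (inv_smul_smul _ _).symm
          _ = ac.2.1⁻¹ • ((1 : G) : G ⧸ F) := by rw [h]
          _ = ((1 : G) : G ⧸ F) := hPfix _ ((P : Subgroup G).inv_mem ac.2.2)
      · intro hgen
        have hcF : ac.2.1 ∈ F := hPF ac.2.2
        have h1 := hgen (ac.2.1 * y * ac.2.1⁻¹)
          (F.mul_mem (F.mul_mem hcF hyF) (F.inv_mem hcF)) (by
            rw [← mul_smul, inv_mul_cancel_right, mul_smul, ac.1.2.1])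
        apply hy1
        have : ac.2.1⁻¹ * (ac.2.1 * y * ac.2.1⁻¹) * ac.2.1 = ac.2.1⁻¹ * 1 * ac.2.1 := by rw [h1]
        rw [mul_one, inv_mul_cancel] at this
        rw [← this]
        group⟩
  have hΦ : Function.Injective Φ := by
    rintro ⟨⟨a, ha, ha0⟩, ⟨c, hcP⟩⟩ ⟨⟨a', ha', ha0'⟩, ⟨c', hcP'⟩⟩ h
    have h' : c • a = c' • a' := congrArg Subtype.val h
    obtain ⟨h1, h2⟩ := translate_injective hc P F hF y hyF hy a a' c c' ha ha0 ha' hcP hcP' h'
    subst h1; subst h2; rfl
  have hcard := Nat.card_le_card_of_injective Φ hΦ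
  rw [Nat.card_prod, hP] at hcard
  have hsum := card_subtype_and_add (fun β : G ⧸ F => β ≠ ((1 : G) : G ⧸ F))
    (fun β => ∀ h ∈ F, h • β = β → h = 1)
  rw [card_ne_base hc P F hF] at hsum
  omega


/-- General fibre bound: if all fibres of `f : α → β` have at most `m` elements then
`|α| ≤ |β| * m`. -/
theorem card_le_card_mul_of_fiber_le {α β : Type*} [Finite α] [Finite β] (f : α → β) (m : ℕ)
    (hm : ∀ b : β, Nat.card {a : α // f a = b} ≤ m) : Nat.card α ≤ Nat.card β * m := by
  classical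
  have := Fintype.ofFinite β
  rw [← Nat.card_congr (Equiv.sigmaFiberEquiv f), Nat.card_sigma]
  calc ∑ b : β, Nat.card {a : α // f a = b} ≤ ∑ _b : β, m := Finset.sum_le_sum (fun b _ => hm b)
    _ = Nat.card β * m := by
      rw [Finset.sum_const, Finset.card_univ, smul_eq_mul, Nat.card_eq_fintype_card]

/-- An involution swapping the base point with `β` normalizes the two-point stabilizer. -/
theorem involution_mem_normalizer_stabIn (F : Subgroup G) (s : G) (hs : orderOf s = 2) :
    s ∈ normalizer ((stabIn F (s • ((1 : G) : G ⧸ F)) : Subgroup G) : Set G) := by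
  have hss := sq_eq_one_of_orderOf_eq_two hs
  have hsinv : s⁻¹ = s := inv_eq_of_mul_eq_one_left hss
  have key : ∀ h : G, h ∈ stabIn F (s • ((1 : G) : G ⧸ F)) →
      s * h * s⁻¹ ∈ stabIn F (s • ((1 : G) : G ⧸ F)) := by
    intro h hh
    rw [mem_stabIn] at hh ⊢
    obtain ⟨hF, hfix⟩ := hh
    have hq0 : h • ((1 : G) : G ⧸ F) = ((1 : G) : G ⧸ F) := (smul_base_eq_iff F h).2 hF
    constructor
    · rw [← smul_base_eq_iff, hsinv, mul_smul, mul_smul, hfix, ← mul_smul, hss, one_smul]
    · rw [hsinv, mul_smul, mul_smul, ← mul_smul s s, hss, one_smul, hq0]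
  rw [Subgroup.mem_normalizer_iff]
  intro h
  constructor
  · exact key h
  · intro hh
    have := key _ hh
    rw [hsinv] at this
    have e : s * (s * h * s) * s = h := by
      calc s * (s * h * s) * s = (s * s) * h * (s * s) := by group
        _ = h := by rw [hss, one_mul, mul_one]
    rwa [e] at this

/-- Special involutions: at most `11 m` of them, where `m` bounds the number of involutions in the
normalizer of a Sylow 5-subgroup. -/
theorem card_inv_special_le (hc : Nat.card G = 7920) (P : Sylow 11 G) (F : Subgroup G)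
    (hF : F = normalizer ((P : Subgroup G) : Set G)) (m : ℕ)
    (hm : ∀ Y : Sylow 5 G,
      Nat.card {s : G // orderOf s = 2 ∧ s ∈ normalizer ((Y : Subgroup G) : Set G)} ≤ m) :
    Nat.card {s : G // orderOf s = 2 ∧
        ¬ ∀ h ∈ F, h • (s • ((1 : G) : G ⧸ F)) = s • ((1 : G) : G ⧸ F) → h = 1} ≤ 11 * m := by
  classical
  have hFcard : Nat.card F = 55 := by rw [hF]; exact card_normalizer_sylow11 hc P
  have hfac : (Nat.card F).factorization 5 = 1 := by rw [hFcard]; decide +kernel
  have hfacG : (Nat.card G).factorization 5 = 1 := by rw [hc]; decide +kernel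
  -- the two-point stabilizer of a special involution has order 5
  have hD5 : ∀ s : {s : G // orderOf s = 2 ∧
        ¬ ∀ h ∈ F, h • (s • ((1 : G) : G ⧸ F)) = s • ((1 : G) : G ⧸ F) → h = 1},
      Nat.card (stabIn F (s.1 • ((1 : G) : G ⧸ F))) = 5 := by
    rintro ⟨s, hs, hsp⟩
    have hne : s • ((1 : G) : G ⧸ F) ≠ ((1 : G) : G ⧸ F) := fun h =>
      involution_not_mem hc P F hF s hs ((smul_base_eq_iff F s).1 h)
    have hdvd := card_stabIn_dvd_five hc P F hF _ hne
    rcases (Nat.dvd_prime (by norm_num : Nat.Prime 5)).1 hdvd with h1 | h5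
    · exfalso
      apply hsp
      intro h hhF hfix
      have hmem : h ∈ stabIn F (s • ((1 : G) : G ⧸ F)) := (mem_stabIn _ _ _).2 ⟨hhF, hfix⟩
      have hbot := (Subgroup.card_eq_one).1 h1
      rw [hbot] at hmem
      exact Subgroup.mem_bot.1 hmem
    · exact h5
  have hDF : ∀ β : G ⧸ F, stabIn F β ≤ F := fun β => inf_le_left
  let ψ : {s : G // orderOf s = 2 ∧
        ¬ ∀ h ∈ F, h • (s • ((1 : G) : G ⧸ F)) = s • ((1 : G) : G ⧸ F) → h = 1} → Sylow 5 F :=
    fun s => Sylow.ofCard ((stabIn F (s.1 • ((1 : G) : G ⧸ F))).subgroupOf F) (by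
      rw [hfac, pow_one, Nat.card_congr (Subgroup.subgroupOfEquivOfLe (hDF _)).toEquiv]
      exact hD5 s)
  have hfib : ∀ S : Sylow 5 F, Nat.card {s // ψ s = S} ≤ m := by
    intro S
    have hScard : Nat.card ((S : Subgroup F).map F.subtype) = 5 ^ (Nat.card G).factorization 5 := by
      rw [Subgroup.card_map_of_injective F.subtype_injective, hfacG, S.card_eq_multiplicity, hfac]
    let Y : Sylow 5 G := Sylow.ofCard ((S : Subgroup F).map F.subtype) hScard
    refine le_trans ?_ (hm Y)
    let f : {s // ψ s = S} →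
        {s : G // orderOf s = 2 ∧ s ∈ normalizer ((Y : Subgroup G) : Set G)} :=
      fun s => ⟨s.1.1, s.1.2.1, by
        have h1 : ((ψ s.1 : Sylow 5 F) : Subgroup F) = (S : Subgroup F) := by rw [s.2]
        have h2 : (Y : Subgroup G) = stabIn F (s.1.1 • ((1 : G) : G ⧸ F)) := by
          show ((Sylow.ofCard ((S : Subgroup F).map F.subtype) hScard : Sylow 5 G) : Subgroup G) = _
          rw [Sylow.coe_ofCard, ← h1]
          show ((Sylow.ofCard _ _ : Sylow 5 F) : Subgroup F).map F.subtype = _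
          rw [Sylow.coe_ofCard]
          exact Subgroup.map_subgroupOf_eq_of_le (hDF _)
        rw [h2]
        exact involution_mem_normalizer_stabIn F s.1.1 s.1.2.1⟩
    apply Nat.card_le_card_of_injective f
    intro s s' h
    have : (f s).1 = (f s').1 := congrArg Subtype.val h
    exact Subtype.ext (Subtype.ext this)
  have h1 := card_le_card_mul_of_fiber_le ψ m hfib
  have h11 : Nat.card (Sylow 5 F) ≤ 11 := by
    obtain ⟨S⟩ := (Sylow.nonempty : Nonempty (Sylow 5 F))
    have hd := S.card_dvd_index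
    have hi := (S : Subgroup F).index_mul_card
    rw [S.card_eq_multiplicity, hfac, pow_one, hFcard] at hi
    have : (S : Subgroup F).index = 11 := by omega
    rw [this] at hd
    exact Nat.le_of_dvd (by norm_num) hd
  calc _ ≤ Nat.card (Sylow 5 F) * m := h1
    _ ≤ 11 * m := Nat.mul_le_mul_right m h11

/-- The swap bound: at most `110 + 11 m` involutions. -/
theorem card_involutions_le (hc : Nat.card G = 7920) (m : ℕ)
    (hm : ∀ Y : Sylow 5 G,
      Nat.card {s : G // orderOf s = 2 ∧ s ∈ normalizer ((Y : Subgroup G) : Set G)} ≤ m) :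
    Nat.card {s : G // orderOf s = 2} ≤ 110 + 11 * m := by
  obtain ⟨P⟩ := (Sylow.nonempty : Nonempty (Sylow 11 G))
  set F := normalizer ((P : Subgroup G) : Set G) with hF
  have h1 := card_inv_generic_le hc P F hF
  have h2 := card_generic_le hc P F hF
  have h3 := card_inv_special_le hc P F hF m hm
  have hsum := card_subtype_and_add (fun s : G => orderOf s = 2)
    (fun s => ∀ h ∈ F, h • (s • ((1 : G) : G ⧸ F)) = s • ((1 : G) : G ⧸ F) → h = 1)
  omega

end

end Cfsg.Agent.Lib.Helper14.M11
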