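import Mathlib
import Cfsg.Agent.Lib.Helper14.M11C

set_option autoImplicit false
set_option linter.unusedSectionVars false
set_option linter.unusedVariables false

/-!
# Simple groups of order 7920, part D: counting pairs of involutions with product of order 5
-/

namespace Cfsg.Agent.Lib.Helper14.M11

open MulAction Subgroup Cfsg.Agent.Lib.Helper17

attribute [local instance] fact11 fact5

theorem card_offdiag_add (α : Type*) [Finite α] :
    Nat.card {p : α × α // p.1 ≠ p.2} + Nat.card α = Nat.card α * Nat.card α := by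
  classical
  have h := card_subtype_and_add (fun _ : α × α => True) (fun p => p.1 = p.2)
  have e1 : Nat.card {p : α × α // True ∧ p.1 = p.2} = Nat.card α := by
    apply Nat.card_congr
    exact ⟨fun p => p.1.1, fun a => ⟨(a, a), trivial, rfl⟩, fun p => by
      obtain ⟨⟨a, b⟩, _, hab⟩ := p
      simp only at hab
      subst hab
      rfl, fun a => rfl⟩
  have e2 : Nat.card {p : α × α // True ∧ ¬ p.1 = p.2} = Nat.card {p : α × α // p.1 ≠ p.2} := by
    apply Nat.card_congr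
    exact Equiv.subtypeEquivRight (fun p => by simp)
  have e3 : Nat.card {p : α × α // True} = Nat.card α * Nat.card α := by
    rw [Nat.card_congr (Equiv.subtypeUnivEquiv (fun _ => trivial)), Nat.card_prod]
  rw [e1, e2, e3] at h
  omega

section

variable {G : Type*} [Group G] [Finite G] [IsSimpleGroup G]

/-- If an involution `s` inverts `e` then `s * e ^ k * s⁻¹ = e ^ (-k)`. -/
theorem conj_zpow_of_inverts {s e : G} (h : s * e * s⁻¹ = e⁻¹) (k : ℤ) :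
    s * e ^ k * s⁻¹ = (e ^ k)⁻¹ := by
  have := map_zpow (MulAut.conj s) e k
  simp only [MulAut.conj_apply] at this
  rw [this, h, inv_zpow]

/-- Every element of order 5 is inverted by a conjugate of `s0`, if `s0` inverts one element of
order 5. -/
theorem exists_conj_inverting (hc : Nat.card G = 7920) (s0 y : G) (hy : orderOf y = 5)
    (hinv : s0 * y * s0⁻¹ = y⁻¹) (e : G) (he : orderOf e = 5) :
    ∃ s : G, IsConj s0 s ∧ s * e * s⁻¹ = e⁻¹ := by
  obtain ⟨Y0, hY0⟩ := exists_sylow5_eq_zpowers hc y hy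
  obtain ⟨Ye, hYe⟩ := exists_sylow5_eq_zpowers hc e he
  obtain ⟨g, hg⟩ := MulAction.exists_smul_eq G Y0 Ye
  have heY : e ∈ ((g • Y0 : Sylow 5 G) : Subgroup G) := by
    rw [hg, hYe]; exact Subgroup.mem_zpowers e
  rw [mem_smul_sylow_iff, hY0] at heY
  obtain ⟨k, hk⟩ := Subgroup.mem_zpowers_iff.1 heY
  refine ⟨g * s0 * g⁻¹, isConj_iff.2 ⟨g, rfl⟩, ?_⟩
  have h1 := conj_zpow_of_inverts hinv k
  have he' : e = g * y ^ k * g⁻¹ := by rw [hk]; group
  calc g * s0 * g⁻¹ * e * (g * s0 * g⁻¹)⁻¹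
      = g * (s0 * (g⁻¹ * e * g) * s0⁻¹) * g⁻¹ := by group
    _ = g * (s0 * y ^ k * s0⁻¹) * g⁻¹ := by rw [hk]
    _ = g * (y ^ k)⁻¹ * g⁻¹ := by rw [h1]
    _ = (g * y ^ k * g⁻¹)⁻¹ := by group
    _ = e⁻¹ := by rw [← he']


/-- Product of two conjugates (by powers of `e`) of an involution inverting `e`. -/
theorem conj_mul_conj_of_inverts {s e : G} (h : s * e * s⁻¹ = e⁻¹) (hs : s * s = 1) (i j : ℤ) :
    (e ^ i * s * (e ^ i)⁻¹) * (e ^ j * s * (e ^ j)⁻¹) = e ^ (2 * i - 2 * j) := by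
  have h1 : s * e ^ (j - i) = (e ^ (j - i))⁻¹ * s := by
    have := conj_zpow_of_inverts h (j - i)
    calc s * e ^ (j - i) = (s * e ^ (j - i) * s⁻¹) * s := by group
      _ = (e ^ (j - i))⁻¹ * s := by rw [this]
  calc (e ^ i * s * (e ^ i)⁻¹) * (e ^ j * s * (e ^ j)⁻¹)
      = e ^ i * (s * e ^ (j - i)) * s * (e ^ j)⁻¹ := by
        rw [zpow_sub]; group
    _ = e ^ i * ((e ^ (j - i))⁻¹ * s) * s * (e ^ j)⁻¹ := by rw [h1]
    _ = e ^ i * (e ^ (j - i))⁻¹ * (s * s) * (e ^ j)⁻¹ := by group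
    _ = e ^ (2 * i - 2 * j) := by
        rw [hs, mul_one, ← zpow_neg, ← zpow_neg, ← zpow_add, ← zpow_add]
        congr 1
        ring

theorem sq_eq_one_of_isConj {s0 s : G} (hs0 : orderOf s0 = 2) (h : IsConj s0 s) : s * s = 1 := by
  apply sq_eq_one_of_orderOf_eq_two
  have := orderOf_eq_of_isConj h
  omega

/-- The pair count: if the involution `s0` inverts an element of order 5 then its class `T`
satisfies `7920 + |T| ≤ |T|²`. -/
theorem pair_count (hc : Nat.card G = 7920) (s0 y : G) (hs0 : orderOf s0 = 2)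
    (hy : orderOf y = 5) (hinv : s0 * y * s0⁻¹ = y⁻¹) :
    7920 + Nat.card {g : G // IsConj s0 g} ≤
      Nat.card {g : G // IsConj s0 g} * Nat.card {g : G // IsConj s0 g} := by
  classical
  have hE : Nat.card {e : G // orderOf e = 5} = 1584 := by
    rw [card_orderOf_eq_prime (p := 5) (fun Y => card_sylow5_sub hc Y), card_sylow5 hc]
  have hex : ∀ e : {e : G // orderOf e = 5}, ∃ s : G, IsConj s0 s ∧ s * e.1 * s⁻¹ = e.1⁻¹ :=
    fun e => exists_conj_inverting hc s0 y hy hinv e.1 e.2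
  choose σ hσ1 hσ2 using hex
  have hσs : ∀ e, σ e * σ e = 1 := fun e => sq_eq_one_of_isConj hs0 (hσ1 e)
  have hconj : ∀ (e : {e : G // orderOf e = 5}) (i : ℤ),
      IsConj s0 (e.1 ^ i * σ e * (e.1 ^ i)⁻¹) := by
    intro e i
    exact (hσ1 e).trans (isConj_iff.2 ⟨e.1 ^ i, rfl⟩)
  have hpow5 : ∀ e : {e : G // orderOf e = 5}, e.1 ^ (5 : ℤ) = 1 := by
    intro e
    have := pow_orderOf_eq_one e.1
    rw [e.2] at this
    exact_mod_cast this
  have hprod : ∀ (e : {e : G // orderOf e = 5}) (b : ℤ),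
      (e.1 ^ (b + 3) * σ e * (e.1 ^ (b + 3))⁻¹) * (e.1 ^ b * σ e * (e.1 ^ b)⁻¹) = e.1 := by
    intro e b
    rw [conj_mul_conj_of_inverts (hσ2 e) (hσs e)]
    have : (2 * (b + 3) - 2 * b : ℤ) = 5 + 1 := by ring
    rw [this, zpow_add, hpow5 e, one_mul, zpow_one]
  let Ψ : {e : G // orderOf e = 5} × Fin 5 →
      {p : {g : G // IsConj s0 g} × {g : G // IsConj s0 g} // p.1 ≠ p.2} :=
    fun eb => ⟨(⟨eb.1.1 ^ ((eb.2.1 : ℤ) + 3) * σ eb.1 * (eb.1.1 ^ ((eb.2.1 : ℤ) + 3))⁻¹, hconj _ _⟩,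
        ⟨eb.1.1 ^ (eb.2.1 : ℤ) * σ eb.1 * (eb.1.1 ^ (eb.2.1 : ℤ))⁻¹, hconj _ _⟩), by
      intro h
      have h' : eb.1.1 ^ ((eb.2.1 : ℤ) + 3) * σ eb.1 * (eb.1.1 ^ ((eb.2.1 : ℤ) + 3))⁻¹ =
          eb.1.1 ^ (eb.2.1 : ℤ) * σ eb.1 * (eb.1.1 ^ (eb.2.1 : ℤ))⁻¹ := congrArg Subtype.val h
      have h1 := hprod eb.1 (eb.2.1 : ℤ)
      rw [h'] at h1
      have h2 : (eb.1.1 ^ (eb.2.1 : ℤ) * σ eb.1 * (eb.1.1 ^ (eb.2.1 : ℤ))⁻¹) *
          (eb.1.1 ^ (eb.2.1 : ℤ) * σ eb.1 * (eb.1.1 ^ (eb.2.1 : ℤ))⁻¹) = 1 :=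
        sq_eq_one_of_isConj hs0 (hconj _ _)
      rw [h2] at h1
      exact ne_one_of_orderOf_eq_five eb.1.2 h1.symm⟩
  have hΨ : Function.Injective Ψ := by
    rintro ⟨e, b⟩ ⟨e', b'⟩ h
    have hval := congrArg Subtype.val h
    have h1 : e.1 ^ ((b.1 : ℤ) + 3) * σ e * (e.1 ^ ((b.1 : ℤ) + 3))⁻¹ =
        e'.1 ^ ((b'.1 : ℤ) + 3) * σ e' * (e'.1 ^ ((b'.1 : ℤ) + 3))⁻¹ :=
      congrArg Subtype.val (congrArg Prod.fst hval)
    have h2 : e.1 ^ (b.1 : ℤ) * σ e * (e.1 ^ (b.1 : ℤ))⁻¹ =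
        e'.1 ^ (b'.1 : ℤ) * σ e' * (e'.1 ^ (b'.1 : ℤ))⁻¹ :=
      congrArg Subtype.val (congrArg Prod.snd hval)
    have hee : e = e' := by
      apply Subtype.ext
      rw [← hprod e (b.1 : ℤ), ← hprod e' (b'.1 : ℤ), h1, h2]
    subst hee
    have h3 := conj_mul_conj_of_inverts (hσ2 e) (hσs e) (b.1 : ℤ) (b'.1 : ℤ)
    rw [h2, sq_eq_one_of_isConj hs0 (hconj _ _)] at h3
    have h4 : (orderOf e.1 : ℤ) ∣ 2 * (b.1 : ℤ) - 2 * (b'.1 : ℤ) :=
      orderOf_dvd_iff_zpow_eq_one.2 h3.symm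
    rw [e.2] at h4
    have hb : b = b' := by
      apply Fin.ext
      have := b.2
      have := b'.2
      omega
    rw [hb]
  have hcard := Nat.card_le_card_of_injective Ψ hΨ
  rw [Nat.card_prod, hE, Nat.card_fin] at hcard
  have := card_offdiag_add {g : G // IsConj s0 g}
  omega

/-- Consequently the class has at least 90 elements. -/
theorem class_ge_90 (hc : Nat.card G = 7920) (s0 y : G) (hs0 : orderOf s0 = 2)
    (hy : orderOf y = 5) (hinv : s0 * y * s0⁻¹ = y⁻¹) :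
    90 ≤ Nat.card {g : G // IsConj s0 g} := by
  have h := pair_count hc s0 y hs0 hy hinv
  by_contra hlt
  push Not at hlt
  have h1 : Nat.card {g : G // IsConj s0 g} ≤ 89 := by omega
  have h2 := Nat.mul_le_mul_right (Nat.card {g : G // IsConj s0 g}) h1
  omega

end

end Cfsg.Agent.Lib.Helper14.M11
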