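import Mathlib
import Cfsg.Agent.Lib.Helper14.DegCount

set_option autoImplicit false

/-!
# The arithmetic behind the character degrees of a simple group of order `7920`

Pure counting: from the sum of squares, the divisibility of the degrees, the uniqueness of the
linear character and the Brauer data for `p = 11` (`e = 5`) and `p = 5` (`e = 4`), the degree
multiset is `1, 10, 10, 10, 11, 16, 16, 44, 45, 55`.
-/

namespace Cfsg.Agent.Lib.Helper14.DegCount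

variable {ι : Type*} [Fintype ι]

/-- The signed weight of an `X`-type degree for `p = 11`. -/
def wX (n : ℕ) : ℤ := if n % 11 = 1 then (n : ℤ) else if n % 11 = 10 then -(n : ℤ) else 0

/-- The target count function. -/
def tgt (n : ℕ) : ℕ :=
  if n = 1 ∨ n = 11 ∨ n = 44 ∨ n = 45 ∨ n = 55 then 1 else if n = 10 then 3 else if n = 16 then 2
  else 0

theorem aux1 (c1 c10 c45 : ℕ) (e4 : c1 + c10 + c45 = 5) (hlin : c1 = 1) (m : ℤ)
    (hm : m = c1 + 45 * c45 - 10 * c10) (hm' : m = 5 ∨ m = 16 ∨ m = 60 ∨ m = -6) :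
    c45 = 1 ∧ c10 = 3 ∧ m = 16 := by
  omega

theorem aux2 (c11 c44 c55 c66 : ℕ)
    (e1 : 121 * c11 + 1936 * c44 + 3025 * c55 + 4356 * c66 = 5082)
    (e2 : c11 + c44 + c66 = 2) : c11 = 1 ∧ c44 = 1 ∧ c55 = 1 ∧ c66 = 0 := by
  have b66 : c66 ≤ 1 := by omega
  have b55 : c55 ≤ 1 := by omega
  have b44 : c44 ≤ 2 := by omega
  interval_cases c66 <;> interval_cases c55 <;> interval_cases c44 <;> omega

theorem solve (c1 c5 c6 c10 c11 c16 c44 c45 c55 c60 c66 : ℕ)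
    (e1 : c1 + 25 * c5 + 36 * c6 + 100 * c10 + 121 * c11 + 256 * c16 + 1936 * c44 + 2025 * c45 +
      3025 * c55 + 3600 * c60 + 4356 * c66 = 7920)
    (e2 : c1 + c6 + c11 + c16 + c44 + c66 = 5)
    (e4 : c1 + c10 + c45 = 5)
    (e5 : c5 + c6 + c16 + c60 = 2)
    (hlin : c1 = 1)
    (hm : (2 ≤ c5 ∧ (5 : ℤ) = c1 + 45 * c45 - 10 * c10) ∨
      (2 ≤ c16 ∧ (16 : ℤ) = c1 + 45 * c45 - 10 * c10) ∨
      (2 ≤ c60 ∧ (60 : ℤ) = c1 + 45 * c45 - 10 * c10) ∨
      (2 ≤ c6 ∧ (-6 : ℤ) = c1 + 45 * c45 - 10 * c10)) :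
    c1 = 1 ∧ c5 = 0 ∧ c6 = 0 ∧ c10 = 3 ∧ c11 = 1 ∧ c16 = 2 ∧ c44 = 1 ∧ c45 = 1 ∧ c55 = 1 ∧
      c60 = 0 ∧ c66 = 0 := by
  have hm16 : 2 ≤ c16 ∧ c45 = 1 ∧ c10 = 3 := by
    rcases hm with h | h | h | h
    · have := aux1 c1 c10 c45 e4 hlin 5 h.2 (by norm_num); omega
    · have := aux1 c1 c10 c45 e4 hlin 16 h.2 (by norm_num); exact ⟨h.1, this.1, this.2.1⟩
    · have := aux1 c1 c10 c45 e4 hlin 60 h.2 (by norm_num); omega
    · have := aux1 c1 c10 c45 e4 hlin (-6) h.2 (by norm_num); omega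
  obtain ⟨h16, h45, h10⟩ := hm16
  have h16' : c16 = 2 ∧ c5 = 0 ∧ c6 = 0 ∧ c60 = 0 := by
    clear e1 e2 e4 hm
    omega
  obtain ⟨h16', h5, h6, h60⟩ := h16'
  subst h45 h10 h16' h5 h6 h60 hlin
  have := aux2 c11 c44 c55 c66 (by omega) (by omega)
  omega

set_option maxHeartbeats 1600000 in
open Classical in
theorem cnt_eq_tgt_of_facts (d : ι → ℕ) (hd : ∀ i, d i ∈ Dl)
    (hsq : ∑ i, d i ^ 2 = 7920)
    (hlin : cnt d 1 = 1)
    (h5a : (Finset.univ.filter (fun i => ¬ 5 ∣ d i)).card = 5)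
    (h5b : ∀ i, ¬ 5 ∣ d i → d i % 5 = 1 ∨ d i % 5 = 4)
    (hX : (Finset.univ.filter (fun i => d i % 11 = 1 ∨ d i % 11 = 10)).card = 5)
    (hY : (Finset.univ.filter (fun i => d i % 11 = 5 ∨ d i % 11 = 6)).card = 2)
    (ho : ∀ i, ¬ 11 ∣ d i → d i % 11 = 1 ∨ d i % 11 = 10 ∨ d i % 11 = 5 ∨ d i % 11 = 6)
    (m : ℕ) (hm : m ∈ Dl) (hm11 : m % 11 = 5 ∨ m % 11 = 6) (hm2 : 2 ≤ cnt d m)
    (hdeg : (if m % 11 = 5 then (m : ℤ) else -(m : ℤ)) = ∑ i, wX (d i)) :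
    ∀ n ∈ Dl, cnt d n = tgt n := by
  -- zeros forced by the residues
  have e3 := card_filter_eq d Dl Dl_nodup hd (fun n => ¬ 5 ∣ n ∧ n % 5 ≠ 1 ∧ n % 5 ≠ 4)
  have e3' : (Finset.univ.filter (fun i => ¬ 5 ∣ d i ∧ d i % 5 ≠ 1 ∧ d i % 5 ≠ 4)).card = 0 := by
    rw [Finset.card_eq_zero, Finset.filter_eq_empty_iff]
    intro i _ h
    rcases h5b i h.1 with h' | h'
    · exact h.2.1 h'
    · exact h.2.2 h'
  rw [e3'] at e3
  have e6 := card_filter_eq d Dl Dl_nodup hd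
    (fun n => ¬ 11 ∣ n ∧ n % 11 ≠ 1 ∧ n % 11 ≠ 10 ∧ n % 11 ≠ 5 ∧ n % 11 ≠ 6)
  have e6' : (Finset.univ.filter (fun i => ¬ 11 ∣ d i ∧ d i % 11 ≠ 1 ∧ d i % 11 ≠ 10 ∧
      d i % 11 ≠ 5 ∧ d i % 11 ≠ 6)).card = 0 := by
    rw [Finset.card_eq_zero, Finset.filter_eq_empty_iff]
    intro i _ h
    rcases ho i h.1 with h' | h' | h' | h'
    · exact h.2.1 h'
    · exact h.2.2.1 h'
    · exact h.2.2.2.1 h'
    · exact h.2.2.2.2 h'
  rw [e6'] at e6
  simp only [Dl, List.map_cons, List.map_nil, List.sum_cons, List.sum_nil] at e3 e6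
  norm_num at e3 e6
  have z2 : cnt d 2 = 0 := by omega
  have z3 : cnt d 3 = 0 := by omega
  have z4 : cnt d 4 = 0 := by omega
  have z8 : cnt d 8 = 0 := by omega
  have z9 : cnt d 9 = 0 := by omega
  have z12 : cnt d 12 = 0 := by omega
  have z15 : cnt d 15 = 0 := by omega
  have z18 : cnt d 18 = 0 := by omega
  have z20 : cnt d 20 = 0 := by omega
  have z22 : cnt d 22 = 0 := by omega
  have z24 : cnt d 24 = 0 := by omega
  have z30 : cnt d 30 = 0 := by omega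
  have z33 : cnt d 33 = 0 := by omega
  have z36 : cnt d 36 = 0 := by omega
  have z40 : cnt d 40 = 0 := by omega
  have z48 : cnt d 48 = 0 := by omega
  have z72 : cnt d 72 = 0 := by omega
  have z80 : cnt d 80 = 0 := by omega
  have z88 : cnt d 88 = 0 := by omega
  clear e3 e6 e3' e6'
  -- sum of squares
  have e1 := sum_weight_nat d Dl Dl_nodup hd (fun n => n ^ 2)
  rw [hsq] at e1
  -- 5'-degrees
  have e2 := card_filter_eq d Dl Dl_nodup hd (fun n => ¬ 5 ∣ n)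
  rw [h5a] at e2
  -- 11-data
  have e4 := card_filter_eq d Dl Dl_nodup hd (fun n => n % 11 = 1 ∨ n % 11 = 10)
  rw [hX] at e4
  have e5 := card_filter_eq d Dl Dl_nodup hd (fun n => n % 11 = 5 ∨ n % 11 = 6)
  rw [hY] at e5
  have e7 := sum_weight_int d Dl Dl_nodup hd wX
  rw [← hdeg] at e7
  simp only [Dl, List.map_cons, List.map_nil, List.sum_cons, List.sum_nil, wX] at e1 e2 e4 e5 e7
  norm_num at e1 e2 e4 e5 e7
  simp only [z2, z3, z4, z8, z9, z12, z15, z18, z20, z22, z24, z30, z33, z36, z40, z48, z72, z80,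
    z88, zero_mul, mul_zero, add_zero, zero_add, Nat.cast_zero, neg_zero] at e1 e2 e4 e5 e7
  simp only [Dl, List.mem_cons, List.not_mem_nil, or_false] at hm
  have hdisj : (2 ≤ cnt d 5 ∧ (5 : ℤ) = cnt d 1 + 45 * cnt d 45 - 10 * cnt d 10) ∨
      (2 ≤ cnt d 16 ∧ (16 : ℤ) = cnt d 1 + 45 * cnt d 45 - 10 * cnt d 10) ∨
      (2 ≤ cnt d 60 ∧ (60 : ℤ) = cnt d 1 + 45 * cnt d 45 - 10 * cnt d 10) ∨
      (2 ≤ cnt d 6 ∧ (-6 : ℤ) = cnt d 1 + 45 * cnt d 45 - 10 * cnt d 10) := by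
    clear e1 e2 e4 e5
    rcases hm with rfl | rfl | rfl | rfl | rfl | rfl | rfl | rfl | rfl | rfl | rfl | rfl | rfl |
      rfl | rfl | rfl | rfl | rfl | rfl | rfl | rfl | rfl | rfl | rfl | rfl | rfl | rfl | rfl |
      rfl | rfl <;>
    first
      | (exfalso; revert hm11; decide)
      | (exfalso; omega)
      | (norm_num at e7; refine Or.inl ⟨hm2, ?_⟩; linarith only [e7])
      | (norm_num at e7; refine Or.inr (Or.inl ⟨hm2, ?_⟩); linarith only [e7])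
      | (norm_num at e7; refine Or.inr (Or.inr (Or.inl ⟨hm2, ?_⟩)); linarith only [e7])
      | (norm_num at e7; refine Or.inr (Or.inr (Or.inr ⟨hm2, ?_⟩)); linarith only [e7])
  have main := solve (cnt d 1) (cnt d 5) (cnt d 6) (cnt d 10) (cnt d 11) (cnt d 16) (cnt d 44)
    (cnt d 45) (cnt d 55) (cnt d 60) (cnt d 66) (by linarith only [e1]) (by linarith only [e2])
    (by linarith only [e4]) (by linarith only [e5]) hlin hdisj
  obtain ⟨m1, m5, m6, m10, m11, m16, m44, m45, m55, m60, m66⟩ := main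
  clear e1 e2 e4 e5 e7 hm2 hdeg
  intro n hn
  simp only [Dl, List.mem_cons, List.not_mem_nil, or_false] at hn
  rcases hn with rfl | rfl | rfl | rfl | rfl | rfl | rfl | rfl | rfl | rfl | rfl | rfl | rfl | rfl |
    rfl | rfl | rfl | rfl | rfl | rfl | rfl | rfl | rfl | rfl | rfl | rfl | rfl | rfl | rfl | rfl <;>
  simp only [tgt] <;> norm_num <;> assumption

open Classical in
theorem cnt_eq_tgt (d : ι → ℕ) (hd : ∀ i, d i ∈ Dl) (h : ∀ n ∈ Dl, cnt d n = tgt n) (n : ℕ) :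
    cnt d n = tgt n := by
  by_cases hn : n ∈ Dl
  · exact h n hn
  · rw [cnt_eq_zero_of_notMem d Dl hd hn]
    simp only [Dl, List.mem_cons, List.not_mem_nil, or_false, not_or] at hn
    unfold tgt
    rw [if_neg (by omega), if_neg (by omega), if_neg (by omega)]

open Classical in
theorem card_eq_ten (d : ι → ℕ) (hd : ∀ i, d i ∈ Dl) (h : ∀ n ∈ Dl, cnt d n = tgt n) :
    Fintype.card ι = 10 := by
  have e := sum_weight_nat d Dl Dl_nodup hd (fun _ => 1)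
  rw [Finset.sum_const, Finset.card_univ, smul_eq_mul, mul_one] at e
  rw [e]
  have : ∀ n ∈ Dl, cnt d n * 1 = tgt n := fun n hn => by rw [mul_one, h n hn]
  rw [List.map_congr_left this]
  decide

end Cfsg.Agent.Lib.Helper14.DegCount
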