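import Mathlib
import Cfsg.Agent.Lib.Helper14.M11D

set_option autoImplicit false
set_option linter.unusedSectionVars false
set_option linter.unusedVariables false

/-!
# Simple groups of order 7920, part E: involutions normalizing a Sylow 5-subgroup; case I
-/

namespace Cfsg.Agent.Lib.Helper14.M11

open MulAction Subgroup Cfsg.Agent.Lib.Helper17

attribute [local instance] fact11 fact5

section

variable {G : Type*} [Group G] [Finite G] [IsSimpleGroup G]

theorem zpow_eq_one_iff_of_orderOf_eq_five {y : G} (hy : orderOf y = 5) (k : ℤ) :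
    y ^ k = 1 ↔ (5 : ℤ) ∣ k := by
  rw [← orderOf_dvd_iff_zpow_eq_one, hy]
  norm_num

/-- An involution normalizing `⟨y⟩` (of order 5) centralizes or inverts `y`. -/
theorem involution_normalizer_cases (y t : G) (hy : orderOf y = 5) (ht : orderOf t = 2)
    (htN : t ∈ normalizer ((zpowers y : Subgroup G) : Set G)) :
    t * y = y * t ∨ t * y * t⁻¹ = y⁻¹ := by
  have htt := sq_eq_one_of_orderOf_eq_two ht
  have htinv : t⁻¹ = t := inv_eq_of_mul_eq_one_left htt
  have h1 : t * y * t⁻¹ ∈ zpowers y := (Subgroup.mem_normalizer_iff.1 htN y).1 (Subgroup.mem_zpowers y)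
  obtain ⟨k, hk⟩ := Subgroup.mem_zpowers_iff.1 h1
  have h2 : t * y ^ k * t⁻¹ = y ^ (k * k) := by
    have := map_zpow (MulAut.conj t) y k
    simp only [MulAut.conj_apply] at this
    rw [this, ← hk, ← zpow_mul]
  have h3 : t * (t * y * t⁻¹) * t⁻¹ = y := by
    rw [htinv]
    calc t * (t * y * t) * t = (t * t) * y * (t * t) := by group
      _ = y := by rw [htt, one_mul, mul_one]
  rw [← hk, h2] at h3
  have h4 : y ^ (k * k - 1) = 1 := by
    rw [zpow_sub, h3, zpow_one, mul_inv_cancel]
  rw [zpow_eq_one_iff_of_orderOf_eq_five hy] at h4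
  have h5 : (5 : ℤ) ∣ (k - 1) * (k + 1) := by
    have : (k - 1) * (k + 1) = k * k - 1 := by ring
    rw [this]; exact h4
  have hp : Prime (5 : ℤ) := by
    rw [Int.prime_iff_natAbs_prime]; norm_num
  rcases hp.dvd_or_dvd h5 with h | h
  · left
    have : y ^ (k - 1) = 1 := (zpow_eq_one_iff_of_orderOf_eq_five hy _).2 h
    rw [zpow_sub, zpow_one, mul_inv_eq_one] at this
    rw [this] at hk
    calc t * y = (t * y * t⁻¹) * t := by group
      _ = y * t := by rw [← hk]
  · right
    have : y ^ (k + 1) = 1 := (zpow_eq_one_iff_of_orderOf_eq_five hy _).2 h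
    rw [zpow_add, zpow_one, mul_eq_one_iff_eq_inv] at this
    rw [← hk, this]

/-- Commuting with a generator of a Sylow 5-subgroup means centralizing it. -/
theorem mem_centralizer_sylow5_of_commute (hc : Nat.card G = 7920) (Y : Sylow 5 G) (y g : G)
    (hy : orderOf y = 5) (hyY : y ∈ (Y : Subgroup G)) (hcomm : g * y = y * g) :
    g ∈ centralizer ((Y : Subgroup G) : Set G) :=
  mem_centralizer_of_commute_of_card_prime (Y : Subgroup G) (by norm_num) (card_sylow5_sub hc Y)
    hyY (ne_one_of_orderOf_eq_five hy) hcomm

theorem exists_mem_sylow5 (hc : Nat.card G = 7920) (Y : Sylow 5 G) :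
    ∃ y : G, y ∈ (Y : Subgroup G) ∧ orderOf y = 5 ∧ (Y : Subgroup G) = zpowers y := by
  have hY := card_sylow5_sub hc Y
  obtain ⟨y, hyY, hy⟩ := exists_mem_orderOf_eq_of_dvd_card (Y : Subgroup G) 5 (by rw [hY])
  exact ⟨y, hyY, hy, eq_zpowers_of_card_prime _ (by norm_num) hY hyY (ne_one_of_orderOf_eq_five hy)⟩

/-- In case I (`|C(Y)| = 5`), the normalizer of `Y` contains at most 5 involutions. -/
theorem card_involutions_normalizer_le_five (hc : Nat.card G = 7920) (Y : Sylow 5 G)
    (hC : Nat.card (centralizer ((Y : Subgroup G) : Set G)) = 5) :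
    Nat.card {s : G // orderOf s = 2 ∧ s ∈ normalizer ((Y : Subgroup G) : Set G)} ≤ 5 := by
  obtain ⟨y, hyY, hy, hYz⟩ := exists_mem_sylow5 hc Y
  -- every involution of N(Y) inverts y
  have hinv : ∀ s : G, orderOf s = 2 → s ∈ normalizer ((Y : Subgroup G) : Set G) →
      s * y * s⁻¹ = y⁻¹ := by
    intro s hs hsN
    rw [hYz] at hsN
    rcases involution_normalizer_cases y s hy hs hsN with h | h
    · exfalso
      have hsC := mem_centralizer_sylow5_of_commute hc Y y s hy hyY h
      have := Subgroup.orderOf_dvd_natCard _ hsC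
      rw [hs, hC] at this
      norm_num at this
    · exact h
  by_cases hne : Nonempty {s : G // orderOf s = 2 ∧ s ∈ normalizer ((Y : Subgroup G) : Set G)}
  · obtain ⟨⟨t, ht, htN⟩⟩ := hne
    refine le_trans ?_ hC.le
    let f : {s : G // orderOf s = 2 ∧ s ∈ normalizer ((Y : Subgroup G) : Set G)} →
        centralizer ((Y : Subgroup G) : Set G) := fun s => ⟨t * s.1, by
      apply mem_centralizer_sylow5_of_commute hc Y y _ hy hyY
      have h1 := hinv s.1 s.2.1 s.2.2
      have h2 := hinv t ht htN
      have h3 : t * y⁻¹ * t⁻¹ = y := by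
        have : t * y⁻¹ * t⁻¹ = (t * y * t⁻¹)⁻¹ := by group
        rw [this, h2, inv_inv]
      calc t * s.1 * y = t * (s.1 * y * s.1⁻¹) * s.1 := by group
        _ = t * y⁻¹ * s.1 := by rw [h1]
        _ = (t * y⁻¹ * t⁻¹) * (t * s.1) := by group
        _ = y * (t * s.1) := by rw [h3]⟩
    apply Nat.card_le_card_of_injective f
    intro s s' h
    have : t * s.1 = t * s'.1 := congrArg Subtype.val h
    exact Subtype.ext (mul_left_cancel this)
  · rw [not_nonempty_iff] at hne
    rw [Nat.card_of_isEmpty]
    norm_num


/-- In case I the centralizer of an involution has order dividing 144. -/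
theorem card_centralizer_dvd_144 (hc : Nat.card G = 7920)
    (hI : ∀ Y : Sylow 5 G, Nat.card (centralizer ((Y : Subgroup G) : Set G)) = 5) (t : G)
    (ht : orderOf t = 2) : Nat.card (centralizer ({t} : Set G)) ∣ 144 := by
  have h5 : ¬ 5 ∣ Nat.card (centralizer ({t} : Set G)) := by
    intro hdvd
    obtain ⟨y, hyC, hy⟩ := exists_mem_orderOf_eq_of_dvd_card (centralizer ({t} : Set G)) 5 hdvd
    obtain ⟨Y, hY⟩ := exists_sylow5_eq_zpowers hc y hy
    have hyY : y ∈ (Y : Subgroup G) := by rw [hY]; exact Subgroup.mem_zpowers y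
    have hcomm : t * y = y * t := (Subgroup.mem_centralizer_singleton_iff.1 hyC).symm
    have htC := mem_centralizer_sylow5_of_commute hc Y y t hy hyY hcomm
    have := Subgroup.orderOf_dvd_natCard _ htC
    rw [ht, hI Y] at this
    norm_num at this
  have h11 : ¬ 11 ∣ Nat.card (centralizer ({t} : Set G)) := by
    intro hdvd
    obtain ⟨x, hxC, hx⟩ := exists_mem_orderOf_eq_of_dvd_card (centralizer ({t} : Set G)) 11 hdvd
    have hcomm : Commute t x := (Subgroup.mem_centralizer_singleton_iff.1 hxC).symm
    have := not_commute_11 hc x t hx hcomm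
    rw [ht] at this
    norm_num at this
  have hdvd : Nat.card (centralizer ({t} : Set G)) ∣ 144 * 55 := by
    have := Subgroup.card_subgroup_dvd_card (centralizer ({t} : Set G))
    rw [hc] at this
    norm_num
    exact this
  have hcop : (Nat.card (centralizer ({t} : Set G))).Coprime 55 := by
    have : (55 : ℕ) = 5 * 11 := by norm_num
    rw [this]
    apply Nat.Coprime.mul_right
    · rw [Nat.coprime_comm]; exact (Nat.Prime.coprime_iff_not_dvd (by norm_num)).2 h5
    · rw [Nat.coprime_comm]; exact (Nat.Prime.coprime_iff_not_dvd (by norm_num)).2 h11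
  exact hcop.dvd_of_dvd_mul_right hdvd

theorem card_centralizer_eq_of_isConj {s t : G} (h : IsConj t s) :
    Nat.card (centralizer ({s} : Set G)) = Nat.card (centralizer ({t} : Set G)) := by
  have h1 := card_conj_mul_card_centralizer s
  have h2 := card_conj_mul_card_centralizer t
  have e : Nat.card {g : G // IsConj s g} = Nat.card {g : G // IsConj t g} := by
    apply Nat.card_congr
    apply Equiv.subtypeEquivRight
    intro g
    exact ⟨fun hg => h.trans hg, fun hg => h.symm.trans hg⟩
  rw [e, ← h2] at h1
  have hpos : 0 < Nat.card {g : G // IsConj t g} := by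
    have : Nonempty {g : G // IsConj t g} := ⟨⟨t, IsConj.refl t⟩⟩
    exact Nat.card_pos
  exact Nat.eq_of_mul_eq_mul_left hpos h1

/-- Case I: every involution has centralizer of order 48. -/
theorem case_one (hc : Nat.card G = 7920)
    (hI : ∀ Y : Sylow 5 G, Nat.card (centralizer ((Y : Subgroup G) : Set G)) = 5) (s : G)
    (hs : orderOf s = 2) : Nat.card (centralizer ({s} : Set G)) = 48 := by
  have hG := not_comm hc
  have hi := card_involutions_le hc 5
    (fun Y => card_involutions_normalizer_le_five hc Y (hI Y))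
  obtain ⟨Y⟩ := (Sylow.nonempty : Nonempty (Sylow 5 G))
  obtain ⟨y, hyY, hy, hYz⟩ := exists_mem_sylow5 hc Y
  have hNcard := card_normalizer_sylow5 hc Y
  obtain ⟨t, htN, ht⟩ := exists_mem_orderOf_eq_of_dvd_card
    (normalizer ((Y : Subgroup G) : Set G)) 2 (by rw [hNcard]; norm_num)
  have htt := sq_eq_one_of_orderOf_eq_two ht
  -- t inverts y
  have hinv : t * y * t⁻¹ = y⁻¹ := by
    have htN' := htN
    rw [hYz] at htN'
    rcases involution_normalizer_cases y t hy ht htN' with h | h
    · exfalso
      have htC := mem_centralizer_sylow5_of_commute hc Y y t hy hyY h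
      have := Subgroup.orderOf_dvd_natCard _ htC
      rw [ht, hI Y] at this
      norm_num at this
    · exact h
  have h90 := class_ge_90 hc t y ht hy hinv
  have hmul := card_conj_mul_card_centralizer t
  rw [hc] at hmul
  have h144 := card_centralizer_dvd_144 hc hI t ht
  -- the class of t injects into the involutions
  let ι : {g : G // IsConj t g} → {g : G // orderOf g = 2} := fun g =>
    ⟨g.1, by have := orderOf_eq_of_isConj g.2; omega⟩
  have hι : Function.Injective ι := by
    intro g g' h
    have : (ι g).1 = (ι g').1 := congrArg Subtype.val h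
    exact Subtype.ext this
  have hTle := Nat.card_le_card_of_injective ι hι
  set T := Nat.card {g : G // IsConj t g} with hT
  set c := Nat.card (centralizer ({t} : Set G)) with hcdef
  have hcmem : c ∈ Nat.divisors 144 := Nat.mem_divisors.2 ⟨h144, by norm_num⟩
  have hdiv : Nat.divisors 144 = {1, 2, 3, 4, 6, 8, 9, 12, 16, 18, 24, 36, 48, 72, 144} := by
    decide +kernel
  rw [hdiv] at hcmem
  simp only [Finset.mem_insert, Finset.mem_singleton] at hcmem
  have hc48 : c = 48 := by
    rcases hcmem with h | h | h | h | h | h | h | h | h | h | h | h | h | h | h <;>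
      rw [h] at hmul <;> try omega
    -- c = 72: parity on the cosets of N(Y)
    exfalso
    have hT110 : T = 110 := by omega
    have hidx : (normalizer ((Y : Subgroup G) : Set G)).index = 396 := by
      have := Y.card_eq_index_normalizer
      rw [card_sylow5 hc] at this
      exact this.symm
    have hpar := four_dvd_index_sub_card_fixedBy_of_simple hG
      (normalizer ((Y : Subgroup G) : Set G)) t (by rw [pow_two]; exact htt)
    have hform := card_fixedBy_mul_card_conj (normalizer ((Y : Subgroup G) : Set G)) t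
    rw [hidx] at hpar hform
    rw [← hT, hT110] at hform
    have hk5 : Nat.card {g : G // IsConj t g ∧ g ∈ normalizer ((Y : Subgroup G) : Set G)} ≤ 5 := by
      refine le_trans ?_ (card_involutions_normalizer_le_five hc Y (hI Y))
      let f : {g : G // IsConj t g ∧ g ∈ normalizer ((Y : Subgroup G) : Set G)} →
          {s : G // orderOf s = 2 ∧ s ∈ normalizer ((Y : Subgroup G) : Set G)} := fun g =>
        ⟨g.1, by have := orderOf_eq_of_isConj g.2.1; omega, g.2.2⟩
      apply Nat.card_le_card_of_injective f
      intro g g' h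
      have : (f g).1 = (f g').1 := congrArg Subtype.val h
      exact Subtype.ext this
    have hk1 : 1 ≤ Nat.card {g : G // IsConj t g ∧ g ∈ normalizer ((Y : Subgroup G) : Set G)} := by
      have : Nonempty {g : G // IsConj t g ∧ g ∈ normalizer ((Y : Subgroup G) : Set G)} :=
        ⟨⟨t, IsConj.refl t, htN⟩⟩
      exact Nat.card_pos
    have hfle : Nat.card (fixedBy (G ⧸ normalizer ((Y : Subgroup G) : Set G)) t) ≤ 396 := by
      rw [← hidx, Subgroup.index_eq_card]
      exact Finite.card_subtype_le _
    omega
  -- now T = 165 = number of involutions, so every involution is conjugate to t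
  have hT165 : T = 165 := by rw [hc48] at hmul; omega
  have hbij : Function.Bijective ι :=
    hι.bijective_of_nat_card_le (by rw [← hT, hT165]; exact hi)
  obtain ⟨g, hg⟩ := hbij.2 ⟨s, hs⟩
  have hconj : IsConj t s := by
    have : g.1 = s := congrArg Subtype.val hg
    rw [← this]; exact g.2
  rw [card_centralizer_eq_of_isConj hconj]
  exact hc48

end

end Cfsg.Agent.Lib.Helper14.M11
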