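import Mathlib
import Cfsg.Agent.Lib.Helper14.M11E

set_option autoImplicit false
set_option linter.unusedSectionVars false
set_option linter.unusedVariables false

/-!
# Simple groups of order 7920, part F: case II (`|C(Y)| = 10`) is impossible
-/

namespace Cfsg.Agent.Lib.Helper14.M11

open MulAction Subgroup Cfsg.Agent.Lib.Helper17

attribute [local instance] fact11 fact5

section

variable {G : Type*} [Group G] [Finite G] [IsSimpleGroup G]

/-- Sylow counting inside a subgroup `M` containing `N(Y)`. -/
theorem card_eq_sylow_mul_normalizer (hc : Nat.card G = 7920) (M : Subgroup G) (Y : Sylow 5 G)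
    (hNM : normalizer ((Y : Subgroup G) : Set G) ≤ M) :
    ∃ n : ℕ, n ≡ 1 [MOD 5] ∧ Nat.card M = n * 20 := by
  have hYM : (Y : Subgroup G) ≤ M := le_trans Subgroup.le_normalizer hNM
  have hYcard := card_sylow5_sub hc Y
  have hcardYM : Nat.card ((Y : Subgroup G).subgroupOf M) = 5 := by
    rw [Nat.card_congr (Subgroup.subgroupOfEquivOfLe hYM).toEquiv, hYcard]
  have hMdvd : Nat.card M ∣ 7920 := by
    rw [← hc]; exact Subgroup.card_subgroup_dvd_card M
  have h5M : 5 ∣ Nat.card M := by
    rw [← hYcard]; exact Subgroup.card_dvd_of_le hYM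
  have hfac : (Nat.card M).factorization 5 = 1 := by
    have h1 : (Nat.card M).factorization 5 ≤ (7920 : ℕ).factorization 5 :=
      (Nat.factorization_le_iff_dvd Nat.card_pos.ne' (by norm_num)).2 hMdvd 5
    have h2 : (7920 : ℕ).factorization 5 = 1 := by decide +kernel
    have h3 : 0 < (Nat.card M).factorization 5 :=
      Nat.Prime.factorization_pos_of_dvd (by norm_num) Nat.card_pos.ne' h5M
    omega
  let S : Sylow 5 M := Sylow.ofCard ((Y : Subgroup G).subgroupOf M) (by rw [hfac, hcardYM]; norm_num)
  refine ⟨Nat.card (Sylow 5 M), card_sylow_modEq_one 5 M, ?_⟩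
  have h1 := S.card_eq_index_normalizer
  have h2 : (S : Subgroup M) = (Y : Subgroup G).subgroupOf M := Sylow.coe_ofCard _ _
  have h1' : Nat.card (Sylow 5 M) =
      (normalizer ((((Y : Subgroup G).subgroupOf M : Subgroup M)) : Set M)).index := by
    rw [← h2]; exact h1
  have h4 := Subgroup.subgroupOf_normalizer_eq hYM
  have h1 : Nat.card (Sylow 5 M) =
      ((normalizer ((Y : Subgroup G) : Set G)).subgroupOf M).index := by
    rw [h1']
    congr 1
    exact h4.symm
  have h3 := card_mul_relIndex_of_le hNM
  rw [card_normalizer_sylow5 hc Y] at h3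
  rw [h1, ← h3, mul_comm]
  rfl


/-- In case II the centralizer of `Y` contains a unique involution. -/
theorem involution_unique_of_card_ten (hc : Nat.card G = 7920) (Y : Sylow 5 G)
    (hII : Nat.card (centralizer ((Y : Subgroup G) : Set G)) = 10) (t t' : G)
    (ht : orderOf t = 2) (ht' : orderOf t' = 2)
    (htC : t ∈ centralizer ((Y : Subgroup G) : Set G))
    (htC' : t' ∈ centralizer ((Y : Subgroup G) : Set G)) : t' = t := by
  obtain ⟨y, hyY, hy, hYz⟩ := exists_mem_sylow5 hc Y
  have hYcard := card_sylow5_sub hc Y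
  set C := centralizer ((Y : Subgroup G) : Set G) with hC
  have hYC : (Y : Subgroup G) ≤ C := by
    intro z hz
    rw [hC, Subgroup.mem_centralizer_iff]
    intro w hw
    rw [hYz] at hz hw
    obtain ⟨a, rfl⟩ := Subgroup.mem_zpowers_iff.1 hz
    obtain ⟨b, rfl⟩ := Subgroup.mem_zpowers_iff.1 hw
    rw [← zpow_add, ← zpow_add, add_comm]
  have hidx : ((Y : Subgroup G).subgroupOf C).index = 2 := by
    have := card_mul_relIndex_of_le hYC
    rw [hYcard, hII] at this
    have h2 : (Y : Subgroup G).relIndex C = 2 := by omega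
    exact h2
  have hnot : ∀ s : G, orderOf s = 2 → s ∉ (Y : Subgroup G) := by
    intro s hs hsY
    have := Subgroup.orderOf_dvd_natCard _ hsY
    rw [hs, hYcard] at this
    norm_num at this
  have hmem := Subgroup.mul_mem_iff_of_index_two hidx (a := (⟨t, htC⟩ : C)) (b := ⟨t', htC'⟩)
  have h1 : t * t' ∈ (Y : Subgroup G) := by
    have : (⟨t, htC⟩ : C) * ⟨t', htC'⟩ ∈ (Y : Subgroup G).subgroupOf C := by
      rw [hmem]
      constructor
      · intro h; exact absurd (Subgroup.mem_subgroupOf.1 h) (hnot t ht)
      · intro h; exact absurd (Subgroup.mem_subgroupOf.1 h) (hnot t' ht')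
    exact Subgroup.mem_subgroupOf.1 this
  rw [hYz] at h1
  obtain ⟨j, hj⟩ := Subgroup.mem_zpowers_iff.1 h1
  have htt := sq_eq_one_of_orderOf_eq_two ht
  have htt' := sq_eq_one_of_orderOf_eq_two ht'
  have hcomm : Commute t (y ^ j) := by
    have : y ^ j ∈ (Y : Subgroup G) := by rw [hYz]; exact Subgroup.zpow_mem_zpowers y j
    exact ((Subgroup.mem_centralizer_iff.1 htC) _ this).symm
  -- t' = t * y^j
  have e1 : t' = t * y ^ j := by
    rw [hj]
    calc t' = (t * t) * t' := by rw [htt, one_mul]
      _ = t * (t * t') := by group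
  have e2 : y ^ (2 * j) = 1 := by
    have : t' * t' = y ^ (2 * j) := by
      rw [e1]
      calc t * y ^ j * (t * y ^ j) = t * (y ^ j * t) * y ^ j := by group
        _ = t * (t * y ^ j) * y ^ j := by rw [hcomm.eq]
        _ = (t * t) * (y ^ j * y ^ j) := by group
        _ = y ^ (2 * j) := by rw [htt, one_mul, ← zpow_add, two_mul]
    rw [← this, htt']
  rw [zpow_eq_one_iff_of_orderOf_eq_five hy] at e2
  have e3 : (5 : ℤ) ∣ j := by omega
  have e4 : y ^ j = 1 := (zpow_eq_one_iff_of_orderOf_eq_five hy j).2 e3
  rw [e1, e4, mul_one]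


/-- Case II is impossible. -/
theorem case_two_false (hc : Nat.card G = 7920) (Y : Sylow 5 G)
    (hII : Nat.card (centralizer ((Y : Subgroup G) : Set G)) = 10) : False := by
  have hG := not_comm hc
  obtain ⟨y, hyY, hy, hYz⟩ := exists_mem_sylow5 hc Y
  have hYcard := card_sylow5_sub hc Y
  have hNcard := card_normalizer_sylow5 hc Y
  set C := centralizer ((Y : Subgroup G) : Set G) with hC
  set N := normalizer ((Y : Subgroup G) : Set G) with hN
  obtain ⟨t, htC, ht⟩ := exists_mem_orderOf_eq_of_dvd_card C 2 (by rw [hII]; norm_num)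
  have htt := sq_eq_one_of_orderOf_eq_two ht
  have ht1 : t ≠ 1 := by
    intro h; rw [h, orderOf_one] at ht; omega
  have huniq : ∀ t' : G, orderOf t' = 2 → t' ∈ C → t' = t := fun t' ht' htC' =>
    involution_unique_of_card_ten hc Y hII t t' ht ht' htC htC'
  have hty : t * y = y * t := ((Subgroup.mem_centralizer_iff.1 htC) y hyY).symm
  set M := centralizer ({t} : Set G) with hM
  -- N ≤ M
  have hNM : N ≤ M := by
    intro n hn
    rw [hM, Subgroup.mem_centralizer_singleton_iff]
    have hconjC : n * t * n⁻¹ ∈ C := by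
      rw [hC, Subgroup.mem_centralizer_iff]
      intro z hz
      have hz' : n⁻¹ * z * n ∈ (Y : Subgroup G) := by
        have hn' : n⁻¹ ∈ N := N.inv_mem hn
        have := (Subgroup.mem_normalizer_iff.1 hn' z).1 hz
        rwa [inv_inv] at this
      have hcm := (Subgroup.mem_centralizer_iff.1 htC) _ hz'
      calc z * (n * t * n⁻¹) = n * ((n⁻¹ * z * n) * t) * n⁻¹ := by group
        _ = n * (t * (n⁻¹ * z * n)) * n⁻¹ := by rw [hcm]
        _ = n * t * n⁻¹ * z := by group
    have hord : orderOf (n * t * n⁻¹) = 2 := by rw [orderOf_conj_eq, ht]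
    have := huniq _ hord hconjC
    calc n * t = (n * t * n⁻¹) * n := by group
      _ = t * n := by rw [this]
  have hyM : y ∈ M := by
    rw [hM, Subgroup.mem_centralizer_singleton_iff]; exact hty.symm
  have htM : t ∈ M := by
    rw [hM, Subgroup.mem_centralizer_singleton_iff]
  obtain ⟨n5, hn5, hMcard⟩ := card_eq_sylow_mul_normalizer hc M Y hNM
  have hmul := card_conj_mul_card_centralizer t
  rw [hc, ← hM, hMcard] at hmul
  -- 11 ∤ |M|
  have h11 : ¬ 11 ∣ Nat.card M := by
    intro hdvd
    obtain ⟨x, hxM, hx⟩ := exists_mem_orderOf_eq_of_dvd_card M 11 hdvd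
    have hcomm : Commute t x := (Subgroup.mem_centralizer_singleton_iff.1 hxM).symm
    have := not_commute_11 hc x t hx hcomm
    rw [ht] at this
    norm_num at this
  -- involution count
  have hi := card_involutions_le hc 20 (fun Y' => by
    have := card_normalizer_sylow5 hc Y'
    rw [← this]
    let f : {s : G // orderOf s = 2 ∧ s ∈ normalizer ((Y' : Subgroup G) : Set G)} →
        normalizer ((Y' : Subgroup G) : Set G) := fun s => ⟨s.1, s.2.2⟩
    apply Nat.card_le_card_of_injective f
    intro s s' h
    have : (f s).1 = (f s').1 := congrArg Subtype.val h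
    exact Subtype.ext this)
  let ι : {g : G // IsConj t g} → {g : G // orderOf g = 2} := fun g =>
    ⟨g.1, by have := orderOf_eq_of_isConj g.2; omega⟩
  have hι : Function.Injective ι := by
    intro g g' h
    have : (ι g).1 = (ι g').1 := congrArg Subtype.val h
    exact Subtype.ext this
  have hTle := Nat.card_le_card_of_injective ι hι
  set T := Nat.card {g : G // IsConj t g} with hT
  -- possible values of n5
  have hn5dvd : n5 ∣ 36 := by
    have h1 : n5 * 20 ∣ 7920 := Dvd.intro_left _ hmul
    have h2 : n5 ∣ 36 * 11 := by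
      have : n5 * 20 ∣ (36 * 11) * 20 := by norm_num; exact h1
      exact Nat.dvd_of_mul_dvd_mul_right (by norm_num) this
    have hcop : n5.Coprime 11 := by
      rw [Nat.coprime_comm]
      refine (Nat.Prime.coprime_iff_not_dvd (by norm_num)).2 ?_
      intro h
      apply h11
      rw [hMcard]
      exact Dvd.dvd.mul_right h 20
    exact hcop.dvd_of_dvd_mul_right h2
  have hn5mem : n5 ∈ Nat.divisors 36 := Nat.mem_divisors.2 ⟨hn5dvd, by norm_num⟩
  have hdiv : Nat.divisors 36 = {1, 2, 3, 4, 6, 9, 12, 18, 36} := by decide +kernel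
  rw [hdiv] at hn5mem
  simp only [Finset.mem_insert, Finset.mem_singleton] at hn5mem
  unfold Nat.ModEq at hn5
  have hidxN : N.index = 396 := by
    have := Y.card_eq_index_normalizer
    rw [card_sylow5 hc] at this
    exact this.symm
  rcases hn5mem with h | h | h | h | h | h | h | h | h <;> rw [h] at hn5 hmul hMcard <;>
    try omega
  · -- n5 = 6, |M| = 120, |T| = 66: parity on G/N and the pair count
    have hT66 : T = 66 := by omega
    have hpar := four_dvd_index_sub_card_fixedBy_of_simple hG N t (by rw [pow_two]; exact htt)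
    have hform := card_fixedBy_mul_card_conj N t
    rw [hidxN] at hpar hform
    rw [← hT, hT66] at hform
    have hfle : Nat.card (fixedBy (G ⧸ N) t) ≤ 396 := by
      rw [← hidxN, Subgroup.index_eq_card]
      exact Finite.card_subtype_le _
    have hk2 : 2 ≤ Nat.card {g : G // IsConj t g ∧ g ∈ N} := by
      have hk1 : 1 ≤ Nat.card {g : G // IsConj t g ∧ g ∈ N} := by
        have : Nonempty {g : G // IsConj t g ∧ g ∈ N} :=
          ⟨⟨t, IsConj.refl t,
            (Subgroup.centralizer_le_normalizer (s := ((Y : Subgroup G) : Set G))) htC⟩⟩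
        exact Nat.card_pos
      omega
    -- another conjugate s of t in N
    obtain ⟨a, b, hab⟩ := (Finite.one_lt_card_iff_nontrivial.1 (by omega : 1 <
      Nat.card {g : G // IsConj t g ∧ g ∈ N})).exists_pair_ne
    have hex : ∃ s : G, IsConj t s ∧ s ∈ N ∧ s ≠ t := by
      by_cases ha : a.1 = t
      · refine ⟨b.1, b.2.1, b.2.2, ?_⟩
        intro hb
        apply hab
        exact Subtype.ext (ha.trans hb.symm)
      · exact ⟨a.1, a.2.1, a.2.2, ha⟩
    obtain ⟨s, hsconj, hsN, hst⟩ := hex
    have hs : orderOf s = 2 := by have := orderOf_eq_of_isConj hsconj; omega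
    have hsN' : s ∈ normalizer ((zpowers y : Subgroup G) : Set G) := by rw [← hYz]; exact hsN
    have hsinv : s * y * s⁻¹ = y⁻¹ := by
      rcases involution_normalizer_cases y s hy hs hsN' with h' | h'
      · exfalso
        apply hst
        exact huniq s hs (mem_centralizer_sylow5_of_commute hc Y y s hy hyY h')
      · exact h'
    have h90 := class_ge_90 hc s y hs hy hsinv
    have e : Nat.card {g : G // IsConj s g} = T := by
      rw [hT]
      apply Nat.card_congr
      apply Equiv.subtypeEquivRight
      intro g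
      exact ⟨fun hg => hsconj.trans hg, fun hg => hsconj.symm.trans hg⟩
    omega
  · -- n5 = 36, |M| = 720, index 11
    have hMidx : M.index = 11 := by
      have := M.index_mul_card
      rw [hMcard, hc] at this
      omega
    have hMtop : M ≠ ⊤ := by
      intro h'; rw [h', index_top] at hMidx; omega
    have hfixy : Nat.card (fixedBy (G ⧸ M) y) = 1 := by
      rw [Nat.card_eq_one_iff_unique]
      constructor
      · constructor
        rintro ⟨q1, h1⟩ ⟨q2, h2⟩
        apply Subtype.ext
        have key : ∀ q : G ⧸ M, q ∈ fixedBy (G ⧸ M) y → q = ((1 : G) : G ⧸ M) := by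
          intro q hq
          induction q using QuotientGroup.induction_on with
          | H g =>
          rw [mk_mem_fixedBy_iff, hM, Subgroup.mem_centralizer_singleton_iff] at hq
          -- g t g⁻¹ commutes with y
          have hcm : (g * t * g⁻¹) * y = y * (g * t * g⁻¹) := by
            calc (g * t * g⁻¹) * y = g * (t * (g⁻¹ * y * g)) * g⁻¹ := by group
              _ = g * ((g⁻¹ * y * g) * t) * g⁻¹ := by rw [← hq]
              _ = y * (g * t * g⁻¹) := by group
          have hord : orderOf (g * t * g⁻¹) = 2 := by rw [orderOf_conj_eq, ht]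
          have := huniq _ hord (mem_centralizer_sylow5_of_commute hc Y y _ hy hyY hcm)
          rw [QuotientGroup.eq, mul_one]
          apply M.inv_mem
          rw [hM, Subgroup.mem_centralizer_singleton_iff]
          calc g * t = (g * t * g⁻¹) * g := by group
            _ = t * g := by rw [this]
        show q1 = q2
        rw [key q1 h1, key q2 h2]
      · exact ⟨⟨((1 : G) : G ⧸ M), (smul_base_eq_iff M y).2 hyM⟩⟩
    have hy5 : y ^ 5 = 1 := by rw [← hy]; exact pow_orderOf_eq_one y
    obtain ⟨m1, m2, m3⟩ := card_fixedBy_involution_facts hG M hMtop 5 t y ht1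
      (by rw [pow_two]; exact htt) htM hty.symm hy5 hyM hfixy
    rw [hMidx] at m2 m3
    unfold Nat.ModEq at m1
    omega

end

end Cfsg.Agent.Lib.Helper14.M11
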