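import Mathlib
import Cfsg.Agent.S0795

/-!
# The centre of Ω (odd characteristic, dimension ≥ 5) — helper14

* `scalar_of_fix_sing`: an isometry fixing every singular point is a scalar.
* `central_scalar`: an element of the isometry group commuting with all of Ω acts as a scalar.
* `center_Omega_eq_bot_of_odd`: in odd dimension the centre of Ω is trivial.
-/

set_option autoImplicit false

namespace Cfsg.Agent.Lib.Helper14

open Cfsg.Agent.Lib.Helper13 Cfsg.Agent.S0795

section Geom

variable {F V : Type*} [Field F] [AddCommGroup V] [Module F V]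

local notation "pol" => QuadraticMap.polar

/-- a nonzero singular vector orthogonal to two given vectors -/
theorem exists_sing_perp_two [Finite F] [FiniteDimensional F V] (Q : QuadraticForm F V)
    (h5 : 5 ≤ Module.finrank F V) (a b : V) :
    ∃ r : V, r ≠ 0 ∧ Q r = 0 ∧ pol (⇑Q) a r = 0 ∧ pol (⇑Q) b r = 0 := by
  set φ : V →ₗ[F] F × F := (QuadraticMap.polarBilin Q a).prod (QuadraticMap.polarBilin Q b) with hφ
  have hker : 3 ≤ Module.finrank F (LinearMap.ker φ) := by
    have h1 := LinearMap.finrank_range_add_finrank_ker φ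
    have h2 : Module.finrank F (LinearMap.range φ) ≤ 2 := by
      have := Submodule.finrank_le (LinearMap.range φ)
      rw [Module.finrank_prod, Module.finrank_self] at this
      exact this
    omega
  obtain ⟨p0, hp0, hQp0⟩ := Cfsg.Agent.Lib.Helper44.exists_isotropic
    (Q.comp (LinearMap.ker φ).subtype) hker
  have hpmem : φ (p0 : V) = 0 := LinearMap.mem_ker.1 p0.2
  refine ⟨(p0 : V), ?_, hQp0, (Prod.ext_iff.1 hpmem).1, (Prod.ext_iff.1 hpmem).2⟩
  intro h
  apply hp0
  exact Subtype.ext h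

/-- existence of a hyperbolic pair -/
theorem exists_hyp_pair [Finite F] [FiniteDimensional F V] (Q : QuadraticForm F V)
    (hQ : (QuadraticMap.polarBilin Q).Nondegenerate) (h3 : 3 ≤ Module.finrank F V) :
    ∃ p p' : V, Q p = 0 ∧ Q p' = 0 ∧ pol (⇑Q) p p' = 1 := by
  obtain ⟨p, hp0, hQp⟩ := Cfsg.Agent.Lib.Helper44.exists_isotropic Q h3
  obtain ⟨p', hQp', hpp'⟩ := Cfsg.Agent.Lib.Helper44.exists_hyp_partner Q hQ p hp0 hQp
  exact ⟨p, p', hQp, hQp', hpp'⟩

/-- two eigenvalues on singular vectors agree: the orthogonal independent case -/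
theorem eig_eq_of_orth (Q : QuadraticForm F V) (g : V →ₗ[F] V)
    (hfix : ∀ p, Q p = 0 → ∃ l : F, g p = l • p) (p q : V) (hp : Q p = 0) (hq : Q q = 0)
    (hp0 : p ≠ 0) (hpq : pol (⇑Q) p q = 0) (hind : ∀ μ : F, q ≠ μ • p) (a b : F)
    (ha : g p = a • p) (hb : g q = b • q) : a = b := by
  have hs : Q (p + q) = 0 := by rw [Q_add', hp, hq, hpq]; ring
  obtain ⟨c, hc⟩ := hfix (p + q) hs
  rw [map_add, ha, hb, smul_add] at hc
  have h1 : (a - c) • p + (b - c) • q = 0 := by
    rw [sub_smul, sub_smul]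
    rw [← sub_eq_zero] at hc
    rw [← hc]; abel
  have hbc : b - c = 0 := by
    by_contra hne
    apply hind (-((b - c)⁻¹ * (a - c)))
    have h2 : (b - c) • q = -((a - c) • p) := eq_neg_of_add_eq_zero_right h1
    have h3 : q = (b - c)⁻¹ • ((b - c) • q) := by
      rw [smul_smul, inv_mul_cancel₀ hne, one_smul]
    rw [h3, h2, smul_neg, smul_smul, neg_smul]
  rw [hbc, zero_smul, add_zero] at h1
  have hac : a - c = 0 := by
    rcases smul_eq_zero.1 h1 with h | h
    · exact h
    · exact absurd h hp0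
  rw [sub_eq_zero] at hbc hac
  rw [hac, hbc]

/-- an isometry fixing every singular point is a scalar -/
theorem scalar_of_fix_sing [Finite F] [FiniteDimensional F V] (Q : QuadraticForm F V)
    (hQ : (QuadraticMap.polarBilin Q).Nondegenerate) (h5 : 5 ≤ Module.finrank F V)
    (g : V →ₗ[F] V) (hfix : ∀ p, Q p = 0 → ∃ l : F, g p = l • p) :
    ∃ l : F, ∀ x, g x = l • x := by
  obtain ⟨p₀, p₀', hQp₀, hQp₀', hpp₀⟩ := exists_hyp_pair Q hQ (by omega)
  have hp₀0 : p₀ ≠ 0 := by
    intro h
    rw [h, QuadraticMap.polar_zero_left] at hpp₀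
    exact zero_ne_one hpp₀
  obtain ⟨l, hl⟩ := hfix p₀ hQp₀
  refine ⟨l, ?_⟩
  -- all singular vectors have eigenvalue `l`
  have hsing : ∀ q, Q q = 0 → g q = l • q := by
    intro q hq
    by_cases hq0 : q = 0
    · rw [hq0, map_zero, smul_zero]
    obtain ⟨b, hb⟩ := hfix q hq
    suffices h : l = b by rw [h]; exact hb
    by_cases hdep : ∃ μ : F, q = μ • p₀
    · obtain ⟨μ, hμ⟩ := hdep
      have hμ0 : μ ≠ 0 := by
        intro h; apply hq0; rw [hμ, h, zero_smul]
      have h1 : g q = (l * μ) • p₀ := by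
        rw [hμ, map_smul, hl, smul_smul, mul_comm]
      rw [hb, hμ, smul_smul] at h1
      have h2 : (b * μ - l * μ) • p₀ = 0 := by rw [sub_smul, h1, sub_self]
      rcases smul_eq_zero.1 h2 with h | h
      · have : (b - l) * μ = 0 := by rw [sub_mul]; exact h
        rcases mul_eq_zero.1 this with h' | h'
        · exact (sub_eq_zero.1 h').symm
        · exact absurd h' hμ0
      · exact absurd h hp₀0
    · push Not at hdep
      by_cases hpq : pol (⇑Q) p₀ q = 0
      · exact eig_eq_of_orth Q g hfix p₀ q hQp₀ hq hp₀0 hpq hdep l b hl hb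
      · -- a third singular vector orthogonal to both
        obtain ⟨r, hr0, hQr, hpr, hqr⟩ := exists_sing_perp_two Q h5 p₀ q
        obtain ⟨c, hc⟩ := hfix r hQr
        have hind1 : ∀ μ : F, r ≠ μ • p₀ := by
          intro μ h
          have h1 : pol (⇑Q) q r = μ * pol (⇑Q) q p₀ := by
            rw [h, QuadraticMap.polar_smul_right, smul_eq_mul]
          rw [hqr, QuadraticMap.polar_comm (⇑Q) q p₀] at h1
          rcases mul_eq_zero.1 h1.symm with h' | h'
          · apply hr0; rw [h, h', zero_smul]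
          · exact hpq h'
        have hind2 : ∀ μ : F, q ≠ μ • r := by
          intro μ h
          apply hpq
          rw [h, QuadraticMap.polar_smul_right, hpr, smul_zero]
        have e1 := eig_eq_of_orth Q g hfix p₀ r hQp₀ hQr hp₀0 hpr hind1 l c hl hc
        have e2 := eig_eq_of_orth Q g hfix r q hQr hq hr0
          (by rw [QuadraticMap.polar_comm]; exact hqr) hind2 c b hc hb
        rw [e1, e2]
  intro x
  exact sing_induction Q ⊤ p₀ p₀' Submodule.mem_top Submodule.mem_top hQp₀ hQp₀' hpp₀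
    (fun x => g x = l • x)
    (fun x y hx hy => by rw [map_add, hx, hy, smul_add])
    (fun s _ hs => hsing s hs) x Submodule.mem_top

end Geom

section Grp

variable {F : Type*} [Field F] {n : ℕ} (Q : QuadraticForm F (Fin n → F))

local notation "pol" => QuadraticMap.polar

open Cfsg.Agent.S0792 (lin lin_mul lin_one lin_injective lin_isom pol_isom)

theorem Omega_eq_KS [Fintype F] (h2 : (2 : F) ≠ 0) (hn : 5 ≤ n)
    (hQ : (QuadraticMap.polarBilin Q).Nondegenerate) : Cfsg.Omega F ⇑Q = KS Q :=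
  Cfsg.Agent.S0795.result h2 hn Q hQ

/-- an element commuting with all of Ω fixes every singular point -/
theorem central_fix_sing [Fintype F] (h2 : (2 : F) ≠ 0) (hn : 5 ≤ n)
    (hQ : (QuadraticMap.polarBilin Q).Nondegenerate) (z : ↥(Cfsg.isometryGroup F (⇑Q)))
    (hz : ∀ k ∈ Cfsg.Omega F ⇑Q, k * z = z * k) (u : Fin n → F) (hu : Q u = 0) :
    ∃ l : F, lin Q z u = l • u := by
  by_cases hu0 : u = 0
  · exact ⟨0, by rw [hu0, map_zero, smul_zero]⟩
  have h5 : 5 ≤ Module.finrank F (Fin n → F) := by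
    rw [Module.finrank_fin_fun]; exact hn
  obtain ⟨p, p', hup, hup', hQp, hQp', hpp'⟩ := exists_hyp_in_perp Q hQ h5 u hu0
  have hp'p : pol (⇑Q) p' p = 1 := by rw [QuadraticMap.polar_comm]; exact hpp'
  -- the two Eichler elements
  obtain ⟨k1, hk1, hk1'⟩ := eichler_mem Q hn hQ u p hu hup
  obtain ⟨k2, hk2, hk2'⟩ := eichler_mem Q hn hQ u p' hu hup'
  rw [← Omega_eq_KS Q h2 hn hQ] at hk1 hk2
  have c1 := hz k1 hk1
  have c2 := hz k2 hk2
  -- evaluate `k1 z = z k1` at `p'`
  have e1 : lin Q k1 (lin Q z p') = lin Q z (lin Q k1 p') := by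
    rw [← lin_mul_apply, ← lin_mul_apply, c1]
  have e2 : lin Q k2 (lin Q z p) = lin Q z (lin Q k2 p) := by
    rw [← lin_mul_apply, ← lin_mul_apply, c2]
  rw [hk1', hk1', siegelLin_apply, siegelLin_apply, hQp, hpp', hup'] at e1
  rw [hk2', hk2', siegelLin_apply, siegelLin_apply, hQp', hp'p, hup] at e2
  simp only [zero_mul, sub_zero, zero_smul, one_smul, map_add] at e1 e2
  -- e1 : z p' + (pol p (z p')) u - pol u (z p') p = z p' + z u
  have f1 : lin Q z u = pol (⇑Q) p (lin Q z p') • u - pol (⇑Q) u (lin Q z p') • p := by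
    have := e1
    rw [add_sub_assoc] at this
    exact (add_left_cancel this).symm
  have f2 : lin Q z u = pol (⇑Q) p' (lin Q z p) • u - pol (⇑Q) u (lin Q z p) • p' := by
    have := e2
    rw [add_sub_assoc] at this
    exact (add_left_cancel this).symm
  -- pair with `p'`
  have g1 : pol (⇑Q) (lin Q z u) p' = - pol (⇑Q) u (lin Q z p') := by
    rw [f1, QuadraticMap.polar_sub_left, QuadraticMap.polar_smul_left, QuadraticMap.polar_smul_left,
      hup', hpp']
    simp
  have g2 : pol (⇑Q) (lin Q z u) p' = 0 := by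
    rw [f2, QuadraticMap.polar_sub_left, QuadraticMap.polar_smul_left, QuadraticMap.polar_smul_left,
      hup', polar_self', hQp']
    simp
  rw [g2] at g1
  have g3 : pol (⇑Q) u (lin Q z p') = 0 := by
    have := g1
    rw [eq_comm, neg_eq_zero] at this
    exact this
  rw [g3, zero_smul, sub_zero] at f1
  exact ⟨_, f1⟩

/-- an element commuting with all of Ω acts as a scalar -/
theorem central_scalar [Fintype F] (h2 : (2 : F) ≠ 0) (hn : 5 ≤ n)
    (hQ : (QuadraticMap.polarBilin Q).Nondegenerate) (z : ↥(Cfsg.isometryGroup F (⇑Q)))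
    (hz : ∀ k ∈ Cfsg.Omega F ⇑Q, k * z = z * k) :
    ∃ l : F, ∀ x, lin Q z x = l • x := by
  have h5 : 5 ≤ Module.finrank F (Fin n → F) := by
    rw [Module.finrank_fin_fun]; exact hn
  exact scalar_of_fix_sing Q hQ h5 (lin Q z) (central_fix_sing Q h2 hn hQ z hz)

end Grp

section Grp2

variable {F : Type*} [Field F] {n : ℕ} (Q : QuadraticForm F (Fin n → F))

local notation "pol" => QuadraticMap.polar

open Cfsg.Agent.S0792 (lin lin_mul lin_one lin_injective lin_isom pol_isom)

/-- elements of Ω have determinant one -/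
theorem det_eq_one_of_mem_Omega (g : ↥(Cfsg.isometryGroup F (⇑Q))) (hg : g ∈ Cfsg.Omega F ⇑Q) :
    ((g : Matrix.GeneralLinearGroup (Fin n) F) : Matrix (Fin n) (Fin n) F).det = 1 := by
  let d : ↥(Cfsg.isometryGroup F (⇑Q)) →* Fˣ :=
    Matrix.GeneralLinearGroup.det.comp (Subgroup.subtype _)
  have h1 : g ∈ d.ker := Abelianization.commutator_subset_ker d hg
  have h2 : d g = 1 := h1
  have h3 : ((d g : Fˣ) : F) = 1 := by rw [h2]; rfl
  exact h3

/-- an isometry acting as the scalar `l` has `l ^ 2 = 1` -/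
theorem scalar_sq [Fintype F] (hn : 3 ≤ n)
    (hQ : (QuadraticMap.polarBilin Q).Nondegenerate) (z : ↥(Cfsg.isometryGroup F (⇑Q))) (l : F)
    (hl : ∀ x, lin Q z x = l • x) : l ^ 2 = 1 := by
  have h3 : 3 ≤ Module.finrank F (Fin n → F) := by
    rw [Module.finrank_fin_fun]; exact hn
  obtain ⟨p, p', hp, hp', hpp'⟩ := exists_hyp_pair Q hQ h3
  have h1 : Q (p + p') = 1 := by rw [Q_add', hp, hp', hpp']; ring
  have h2 := lin_isom Q z (p + p')
  rw [hl, QuadraticMap.map_smul, h1, smul_eq_mul, mul_one] at h2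
  rw [sq]; exact h2

theorem eq_one_of_scalar_of_odd [Fintype F] (hn : 3 ≤ n) (hodd : Odd n)
    (hQ : (QuadraticMap.polarBilin Q).Nondegenerate) (z : ↥(Cfsg.isometryGroup F (⇑Q)))
    (hdet : ((z : Matrix.GeneralLinearGroup (Fin n) F) : Matrix (Fin n) (Fin n) F).det = 1) (l : F)
    (hl : ∀ x, lin Q z x = l • x) : z = 1 := by
  have hsq := scalar_sq Q hn hQ z l hl
  have hmat : ((z : Matrix.GeneralLinearGroup (Fin n) F) : Matrix (Fin n) (Fin n) F)
      = l • (1 : Matrix (Fin n) (Fin n) F) := by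
    apply Matrix.toLin'.injective
    apply LinearMap.ext
    intro x
    have := hl x
    simp only [lin] at this
    rw [this, map_smul, Matrix.toLin'_one]
    rfl
  rw [hmat, Matrix.det_smul, Matrix.det_one, mul_one, Fintype.card_fin] at hdet
  obtain ⟨k, hk⟩ := hodd
  rw [hk, pow_succ, pow_mul, hsq, one_pow, one_mul] at hdet
  apply lin_injective Q
  apply LinearMap.ext
  intro x
  rw [hl, hdet, one_smul, lin_one]
  rfl

/-- in odd dimension the centre of Ω is trivial -/
theorem center_Omega_eq_bot_of_odd [Fintype F] (h2 : (2 : F) ≠ 0) (hn : 5 ≤ n) (hodd : Odd n)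
    (hQ : (QuadraticMap.polarBilin Q).Nondegenerate) :
    Subgroup.center ↥(Cfsg.Omega F ⇑Q) = ⊥ := by
  rw [Subgroup.eq_bot_iff_forall]
  intro z hz
  rw [Subgroup.mem_center_iff] at hz
  have hz' : ∀ k ∈ Cfsg.Omega F ⇑Q, k * z.1 = z.1 * k := by
    intro k hk
    have := hz ⟨k, hk⟩
    exact congrArg Subtype.val this
  obtain ⟨l, hl⟩ := central_scalar Q h2 hn hQ z.1 hz'
  have h1 := eq_one_of_scalar_of_odd Q (by omega) hodd hQ z.1
    (det_eq_one_of_mem_Omega Q z.1 z.2) l hl
  exact Subtype.ext h1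

end Grp2

end Cfsg.Agent.Lib.Helper14
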