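import Mathlib
import Cfsg.Agent.Lib.Helper44.OddQF
import Cfsg.Agent.Lib.Helper14.OmegaCenter
import Cfsg.Agent.S0788

/-!
# Transport between `quadFormOdd m F` on `Unit ⊕ (Fin m ⊕ Fin m)` and a form on `Fin (2m+1)` — helper14
-/

set_option autoImplicit false

namespace Cfsg.Agent.Lib.Helper14

open Cfsg.Agent.Lib.Helper44

section OddT

variable (m : ℕ) (F : Type*) [Field F]

/-- indexing `Unit ⊕ (Fin m ⊕ Fin m)` by `Fin (2m+1)` -/
noncomputable def oddIdx : Unit ⊕ (Fin m ⊕ Fin m) ≃ Fin (2 * m + 1) :=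
  Fintype.equivFinOfCardEq (by simp; ring)

/-- the coordinate change -/
noncomputable def oddT : ((Unit ⊕ (Fin m ⊕ Fin m)) → F) ≃ₗ[F] (Fin (2 * m + 1) → F) :=
  LinearEquiv.funCongrLeft F F (oddIdx m).symm

/-- the odd-dimensional standard form on `Fin (2m+1) → F` -/
noncomputable def oddQ' : QuadraticForm F (Fin (2 * m + 1) → F) :=
  (oddQF m F).comp (oddT m F).symm.toLinearMap

theorem oddQ'_T (v : (Unit ⊕ (Fin m ⊕ Fin m)) → F) :
    (⇑(oddQ' m F)) (oddT m F v) = Cfsg.quadFormOdd m F v := by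
  show (oddQF m F) ((oddT m F).symm (oddT m F v)) = _
  rw [LinearEquiv.symm_apply_apply, oddQF_coe]

theorem oddQ'_nondeg (h2 : (2 : F) ≠ 0) :
    (QuadraticMap.polarBilin (oddQ' m F)).Nondegenerate := by
  have h0 := oddQF_nondeg m F h2
  have hpol : ∀ x y, QuadraticMap.polar (⇑(oddQ' m F)) x y
      = QuadraticMap.polar (⇑(oddQF m F)) ((oddT m F).symm x) ((oddT m F).symm y) := by
    intro x y
    simp only [QuadraticMap.polar]
    show (oddQF m F) ((oddT m F).symm (x + y)) - (oddQF m F) ((oddT m F).symm x)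
      - (oddQF m F) ((oddT m F).symm y) = _
    rw [map_add]
  constructor
  · intro x hx
    have : (oddT m F).symm x = 0 := by
      apply h0.1
      intro y
      have := hx (oddT m F y)
      rw [QuadraticMap.polarBilin_apply_apply, hpol, LinearEquiv.symm_apply_apply] at this
      exact this
    exact (LinearEquiv.map_eq_zero_iff _).1 this
  · intro y hy
    have : (oddT m F).symm y = 0 := by
      apply h0.2
      intro x
      have := hy (oddT m F x)
      rw [QuadraticMap.polarBilin_apply_apply, hpol, LinearEquiv.symm_apply_apply] at this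
      exact this
    exact (LinearEquiv.map_eq_zero_iff _).1 this

/-- the isomorphism of isometry groups -/
noncomputable def oddIso : ↥(Cfsg.isometryGroup F (Cfsg.quadFormOdd m F)) ≃*
    ↥(Cfsg.isometryGroup F ⇑(oddQ' m F)) :=
  conjIso (oddT m F) (Cfsg.quadFormOdd m F) (⇑(oddQ' m F)) (oddQ'_T m F)

/-- the isomorphism of the groups Ω -/
noncomputable def oddOmegaIso : ↥(Cfsg.Omega F (Cfsg.quadFormOdd m F)) ≃*
    ↥(Cfsg.Omega F ⇑(oddQ' m F)) :=
  omegaIso (oddT m F) (Cfsg.quadFormOdd m F) (⇑(oddQ' m F)) (oddQ'_T m F)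

end OddT

section General

theorem center_eq_bot_of_mulEquiv {G H : Type*} [Group G] [Group H] (e : G ≃* H)
    (h : Subgroup.center H = ⊥) : Subgroup.center G = ⊥ := by
  rw [Subgroup.eq_bot_iff_forall]
  intro z hz
  have : e z ∈ Subgroup.center H := by
    rw [Subgroup.mem_center_iff]
    intro g
    obtain ⟨g, rfl⟩ := e.surjective g
    rw [← map_mul, ← map_mul, Subgroup.mem_center_iff.1 hz g]
  rw [h, Subgroup.mem_bot] at this
  exact (MulEquiv.map_eq_one_iff e).1 this

theorem index_commutator_of_mulEquiv {G H : Type*} [Group G] [Group H] (e : G ≃* H) :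
    (commutator G).index = (commutator H).index := by
  have h1 : (commutator G) = (commutator H).comap e.toMonoidHom := by
    ext x
    rw [Subgroup.mem_comap]
    exact (mulEquiv_mem_commutator_iff e x).symm
  rw [h1]
  exact Subgroup.index_comap_of_surjective _ e.surjective

end General

section OddFacts

variable (m : ℕ) (F : Type*) [Field F] [Fintype F]

theorem center_Omega_quadFormOdd (h2 : (2 : F) ≠ 0) (hm : 2 ≤ m) :
    Subgroup.center ↥(Cfsg.Omega F (Cfsg.quadFormOdd m F)) = ⊥ :=
  center_eq_bot_of_mulEquiv (oddOmegaIso m F)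
    (center_Omega_eq_bot_of_odd (oddQ' m F) h2 (by omega) ⟨m, rfl⟩ (oddQ'_nondeg m F h2))

theorem index_Omega_quadFormOdd (h2 : (2 : F) ≠ 0) (hm : 1 ≤ m) :
    (Cfsg.Omega F (Cfsg.quadFormOdd m F)).index = 4 := by
  show (commutator _).index = 4
  rw [index_commutator_of_mulEquiv (oddIso m F)]
  exact Cfsg.Agent.S0788.result h2 (by omega) (oddQ' m F) (oddQ'_nondeg m F h2)

end OddFacts

end Cfsg.Agent.Lib.Helper14
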