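/-
helper14 (for helper55, project ASCHOE): module [T-CANCEL] `isPlusTypeOn_of_orthogonal_plus`: Witt cancellation of a plus-type
orthogonal summand.  Route: the totally singular half `U₁` of `W₁` is moved into the totally singular half `U` of the whole
space by Witt's extension theorem (helper13 `witt_quad`, any linear isomorphism between totally singular subspaces is an
isometry); then `U' ⊓ W₂` is the wanted totally singular half of `W₂`.
-/
import Mathlib
import Cfsg.Prelude.Def_GeometricClasses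
import Cfsg.Agent.Lib.Helper99.AschDefs
import Cfsg.Agent.Lib.Helper55.Oe.Defs
import Cfsg.Agent.Lib.Helper94.OrthBridge
import Cfsg.Agent.Lib.Helper94.OrthSiegel
import Cfsg.Agent.Lib.Helper13.QuadWitt

set_option autoImplicit false

namespace Cfsg.Agent.Lib.Helper14.OeTCancel

open Cfsg Cfsg.Geo Cfsg.Agent.Lib.Helper94

variable {ι : Type} {F : Type*} [Field F]

/-- the polar form vanishes on a totally singular subspace -/
theorem polar_eq_zero_of_ts {Q : (ι → F) → F} {U : Submodule F (ι → F)} (hU : IsTotallySingularQuad Q U)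
    {x y : ι → F} (hx : x ∈ U) (hy : y ∈ U) : QuadraticMap.polar Q x y = 0 := by
  unfold QuadraticMap.polar
  rw [hU _ (U.add_mem hx hy), hU _ hx, hU _ hy]
  ring

/-- a totally singular subspace can be moved inside any larger totally singular subspace by an isometry: the image
`U'` of `U` is totally singular of the same dimension and contains `U₁` -/
theorem exists_ts_ge [Fintype ι] [DecidableEq ι] {Q : (ι → F) → F} (hQ : IsNondegenerateQuadraticForm Q) (U U₁ : Submodule F (ι → F))
    (hU : IsTotallySingularQuad Q U) (hU₁ : IsTotallySingularQuad Q U₁)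
    (hle : Module.finrank F U₁ ≤ Module.finrank F U) :
    ∃ U' : Submodule F (ι → F), IsTotallySingularQuad Q U' ∧ U₁ ≤ U' ∧
      Module.finrank F U' = Module.finrank F U := by
  classical
  have hD := quadData_polarBilin hQ
  obtain ⟨f, hf⟩ := exists_linearIndependent_of_le_finrank (R := F) (M := U) hle
  have hf' : LinearIndependent F (fun i => ((f i : U) : ι → F)) :=
    hf.map' U.subtype (Submodule.ker_subtype U)
  let bX := Module.Basis.span hf'
  let b₁ : Module.Basis (Fin (Module.finrank F U₁)) F U₁ := Module.finBasis F U₁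
  let φ : Submodule.span F (Set.range (fun i => ((f i : U) : ι → F))) ≃ₗ[F] U₁ := bX.equiv b₁ (Equiv.refl _)
  have hXU : Submodule.span F (Set.range (fun i => ((f i : U) : ι → F))) ≤ U := by
    rw [Submodule.span_le]
    rintro _ ⟨i, rfl⟩
    exact (f i).2
  obtain ⟨g, hgQ, hgφ⟩ := Cfsg.Agent.Lib.Helper13.witt_quad hD.toQF (hD.nondeg_toQF (nondeg_polarBilin hQ))
    (Submodule.span F (Set.range (fun i => ((f i : U) : ι → F)))) U₁ φ (by
      intro x
      show Q _ = Q _
      rw [hU₁ _ (φ x).2, hU _ (hXU x.2)])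
  refine ⟨U.map (g : (ι → F) →ₗ[F] (ι → F)), ?_, ?_, ?_⟩
  · rintro _ ⟨u, hu, rfl⟩
    have := hgQ u
    rw [QuadData.toQF_apply, QuadData.toQF_apply] at this
    rw [LinearEquiv.coe_coe, this]
    exact hU u hu
  · intro u₁ hu₁
    refine ⟨(φ.symm ⟨u₁, hu₁⟩ : ι → F), hXU (φ.symm ⟨u₁, hu₁⟩).2, ?_⟩
    rw [LinearEquiv.coe_coe, hgφ, LinearEquiv.apply_symm_apply]
  · exact LinearEquiv.finrank_map_eq g U

end Cfsg.Agent.Lib.Helper14.OeTCancel

namespace Cfsg.Agent.Lib.Helper55.Oe

open Cfsg Cfsg.Geo Cfsg.Agent.Lib.Helper99.Asch Cfsg.Agent.Lib.Helper94 Cfsg.Agent.Lib.Helper14.OeTCancel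
open scoped MatrixGroups Matrix Kronecker

variable {n : ℕ} {F : Type*} [Field F] [Fintype F]

/-- ASCHOE-[T-CANCEL] -/
theorem isPlusTypeOn_of_orthogonal_plus {Q : (Fin n → F) → F} (hQ : IsNondegenerateQuadraticForm Q)
    (W₁ W₂ : Submodule F (Fin n → F)) (h1 : IsNondegenerateOn (QuadraticMap.polar Q) W₁)
    (h2 : IsNondegenerateOn (QuadraticMap.polar Q) W₂)
    (horth : AreOrthogonalFor (QuadraticMap.polar Q) W₁ W₂) (hsup : W₁ ⊔ W₂ = ⊤)
    (hp1 : IsPlusTypeOn Q W₁) (hp : IsPlusTypeOn Q ⊤) : IsPlusTypeOn Q W₂ := by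
  classical
  obtain ⟨U₁, hU₁W, hU₁s, hU₁d⟩ := hp1
  obtain ⟨U, -, hUs, hUd⟩ := hp
  rw [finrank_top, Module.finrank_fin_fun] at hUd
  have hD := quadData_polarBilin hQ
  -- `W₁ ⊓ W₂ = ⊥`
  have hinf : W₁ ⊓ W₂ = ⊥ := by
    rw [eq_bot_iff]
    rintro w ⟨hw1, hw2⟩
    by_contra hne
    obtain ⟨x, hx, hxw⟩ := (h1 w hw1 hne).1
    exact hxw (horth x hx w hw2)
  have hdim : Module.finrank F W₁ + Module.finrank F W₂ = n := by
    have := Submodule.finrank_sup_add_finrank_inf_eq W₁ W₂
    rw [hsup, hinf, finrank_top, Module.finrank_fin_fun, finrank_bot, add_zero] at this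
    exact this.symm
  have hle : Module.finrank F U₁ ≤ Module.finrank F U := by omega
  obtain ⟨U', hU's, hU₁U', hU'd⟩ := exists_ts_ge hQ U U₁ hUs hU₁s hle
  -- the orthogonal complement of `U₁`
  have hBnd : (polarBilin hQ).Nondegenerate := by
    have := hD.nondeg_toQF (nondeg_polarBilin hQ)
    rwa [hD.polarBilin_toQF] at this
  have horthdim := LinearMap.BilinForm.finrank_orthogonal hBnd U₁
  rw [Module.finrank_fin_fun] at horthdim
  have hU₁W₂ : U₁ ⊓ W₂ = ⊥ := by
    rw [eq_bot_iff, ← hinf]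
    exact inf_le_inf_right _ hU₁W
  have hsupdim : Module.finrank F (U₁ ⊔ W₂ : Submodule F (Fin n → F)) =
      Module.finrank F U₁ + Module.finrank F W₂ := by
    have := Submodule.finrank_sup_add_finrank_inf_eq U₁ W₂
    rw [hU₁W₂, finrank_bot, add_zero] at this
    exact this
  have hsuple : U₁ ⊔ W₂ ≤ (polarBilin hQ).orthogonal U₁ := by
    rw [sup_le_iff]
    constructor
    · intro x hx u hu
      show polarBilin hQ u x = 0
      rw [polarBilin_apply]
      exact polar_eq_zero_of_ts hU₁s hu hx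
    · intro x hx u hu
      show polarBilin hQ u x = 0
      rw [polarBilin_apply]
      exact horth u (hU₁W hu) x hx
  have hsupeq : U₁ ⊔ W₂ = (polarBilin hQ).orthogonal U₁ := by
    apply Submodule.eq_of_le_of_finrank_eq hsuple
    rw [hsupdim, horthdim]
    omega
  have hU'le : U' ≤ U₁ ⊔ W₂ := by
    rw [hsupeq]
    intro x hx u hu
    show polarBilin hQ u x = 0
    rw [polarBilin_apply]
    exact polar_eq_zero_of_ts hU's (hU₁U' hu) hx
  -- the totally singular half of `W₂`
  refine ⟨U' ⊓ W₂, inf_le_right, fun w hw => hU's w hw.1, ?_⟩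
  have hmod : U₁ ⊔ W₂ ⊓ U' = U' := by
    rw [← sup_inf_assoc_of_le W₂ hU₁U']
    exact inf_eq_right.mpr hU'le
  have hdisj : U₁ ⊓ (W₂ ⊓ U') = ⊥ := by
    rw [eq_bot_iff, ← hU₁W₂]
    exact inf_le_inf_left _ inf_le_left
  have hfin := Submodule.finrank_sup_add_finrank_inf_eq U₁ (W₂ ⊓ U')
  rw [hmod, hdisj, finrank_bot, add_zero, inf_comm W₂ U'] at hfin
  omega

end Cfsg.Agent.Lib.Helper55.Oe
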