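import Mathlib
import Cfsg.Agent.Lib.Helper14.OmegaCenter

/-!
# Simplicity of Ω in odd dimension ≥ 7, odd characteristic — helper14
-/

set_option autoImplicit false
set_option linter.unusedSimpArgs false

namespace Cfsg.Agent.Lib.Helper14

open Cfsg.Agent.Lib.Helper13 Cfsg.Agent.S0795
open scoped commutatorElement

section Geom2

variable {F V : Type*} [Field F] [AddCommGroup V] [Module F V]

local notation "pol" => QuadraticMap.polar

/-- a nonsingular vector orthogonal to two given vectors -/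
theorem exists_nonsing_perp_two [FiniteDimensional F V] (Q : QuadraticForm F V)
    (hQ : (QuadraticMap.polarBilin Q).Nondegenerate) (h5 : 5 ≤ Module.finrank F V) (a b : V) :
    ∃ z : V, pol (⇑Q) a z = 0 ∧ pol (⇑Q) b z = 0 ∧ Q z ≠ 0 := by
  by_contra hcon
  push Not at hcon
  set φ : V →ₗ[F] F × F := (QuadraticMap.polarBilin Q a).prod (QuadraticMap.polarBilin Q b) with hφ
  have hker : Module.finrank F V ≤ Module.finrank F (LinearMap.ker φ) + 2 := by
    have h1 := LinearMap.finrank_range_add_finrank_ker φ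
    have h2 : Module.finrank F (LinearMap.range φ) ≤ 2 := by
      have := Submodule.finrank_le (LinearMap.range φ)
      rw [Module.finrank_prod, Module.finrank_self] at this
      exact this
    omega
  have hsing : ∀ z ∈ LinearMap.ker φ, Q z = 0 := by
    intro z hz
    have hz' : φ z = 0 := LinearMap.mem_ker.1 hz
    exact hcon z (Prod.ext_iff.1 hz').1 (Prod.ext_iff.1 hz').2
  have hle : LinearMap.ker φ ≤ LinearMap.BilinForm.orthogonal (QuadraticMap.polarBilin Q)
      (LinearMap.ker φ) := by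
    intro x hx
    rw [LinearMap.BilinForm.mem_orthogonal_iff]
    intro y hy
    show pol (⇑Q) y x = 0
    have h1 := hsing (y + x) (Submodule.add_mem _ hy hx)
    rw [Q_add', hsing y hy, hsing x hx] at h1
    simpa using h1
  have h3 := LinearMap.BilinForm.finrank_orthogonal hQ (LinearMap.ker φ)
  have h4 := Submodule.finrank_mono hle
  omega

/-- a common non-neighbour of two orthogonal independent singular vectors -/
theorem exists_common_nonperp [Finite F] [FiniteDimensional F V] (Q : QuadraticForm F V)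
    (hQ : (QuadraticMap.polarBilin Q).Nondegenerate) (h5 : 5 ≤ Module.finrank F V) (x y : V)
    (hx0 : x ≠ 0) (hQx : Q x = 0) (hxy : pol (⇑Q) x y = 0) (hind : ∀ l : F, y ≠ l • x) :
    ∃ z : V, Q z = 0 ∧ pol (⇑Q) z x ≠ 0 ∧ pol (⇑Q) z y ≠ 0 := by
  obtain ⟨x', hQx', hxx'⟩ := Cfsg.Agent.Lib.Helper44.exists_hyp_partner Q hQ x hx0 hQx
  obtain ⟨t, hQt, hxt, hyt⟩ := exists_sing_perp_not_perp Q hQ h5 x y hx0 hind
  -- `e = x' + s t` with `f(e,x) = 1`, `f(e,y) ≠ 0`
  obtain ⟨e, hex, hey⟩ : ∃ e : V, pol (⇑Q) e x = 1 ∧ pol (⇑Q) e y ≠ 0 := by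
    by_cases h : pol (⇑Q) x' y = 0
    · refine ⟨x' + t, ?_, ?_⟩
      · rw [QuadraticMap.polar_add_left, QuadraticMap.polar_comm (⇑Q) x' x, hxx',
          QuadraticMap.polar_comm (⇑Q) t x, hxt, add_zero]
      · rw [QuadraticMap.polar_add_left, h, zero_add, QuadraticMap.polar_comm]
        exact hyt
    · refine ⟨x', ?_, h⟩
      rw [QuadraticMap.polar_comm]; exact hxx'
  refine ⟨e - Q e • x, ?_, ?_, ?_⟩
  · rw [Q_sub, QuadraticMap.map_smul, hQx, QuadraticMap.polar_smul_right, hex]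
    simp
  · rw [QuadraticMap.polar_sub_left, QuadraticMap.polar_smul_left, polar_self', hQx, hex]
    simp
  · rw [QuadraticMap.polar_sub_left, QuadraticMap.polar_smul_left, hxy]
    simpa using hey

end Geom2

section Geom3

variable {F V : Type*} [Field F] [AddCommGroup V] [Module F V]

local notation "pol" => QuadraticMap.polar

/-- a hyperbolic pair orthogonal to two independent orthogonal singular vectors (dimension ≥ 7) -/
theorem exists_hyp_perp_pair [Finite F] [FiniteDimensional F V] (Q : QuadraticForm F V)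
    (hQ : (QuadraticMap.polarBilin Q).Nondegenerate) (h7 : 7 ≤ Module.finrank F V) (a b : V)
    (ha0 : a ≠ 0) (hind : ∀ l : F, b ≠ l • a) :
    ∃ d d' : V, Q d = 0 ∧ Q d' = 0 ∧ pol (⇑Q) d d' = 1 ∧ pol (⇑Q) a d = 0 ∧ pol (⇑Q) b d = 0 ∧
      pol (⇑Q) a d' = 0 ∧ pol (⇑Q) b d' = 0 := by
  have hb0 : b ≠ 0 := by
    intro h; apply hind 0; rw [h, zero_smul]
  have hind' : ∀ l : F, a ≠ l • b := by
    intro l h
    have hl : l ≠ 0 := by
      intro hl; apply ha0; rw [h, hl, zero_smul]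
    apply hind l⁻¹
    rw [h, smul_smul, inv_mul_cancel₀ hl, one_smul]
  have h5 : 5 ≤ Module.finrank F V := by omega
  -- dual vectors
  obtain ⟨t, -, hbt, hat⟩ := exists_sing_perp_not_perp Q hQ h5 b a hb0 hind'
  obtain ⟨a', haa', hba'⟩ : ∃ a' : V, pol (⇑Q) a a' = 1 ∧ pol (⇑Q) b a' = 0 := by
    refine ⟨(pol (⇑Q) a t)⁻¹ • t, ?_, ?_⟩
    · rw [QuadraticMap.polar_smul_right, smul_eq_mul, inv_mul_cancel₀ hat]
    · rw [QuadraticMap.polar_smul_right, hbt, smul_zero]
  obtain ⟨t', hbt'⟩ := exists_dual Q hQ b hb0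
  obtain ⟨b', hab', hbb'⟩ : ∃ b' : V, pol (⇑Q) a b' = 0 ∧ pol (⇑Q) b b' = 1 := by
    refine ⟨t' - pol (⇑Q) a t' • a', ?_, ?_⟩
    · rw [QuadraticMap.polar_sub_right, QuadraticMap.polar_smul_right, haa']
      simp
    · rw [QuadraticMap.polar_sub_right, QuadraticMap.polar_smul_right, hba', hbt']
      simp
  -- the common kernel
  set φ : V →ₗ[F] (F × F) × (F × F) :=
    ((QuadraticMap.polarBilin Q a).prod (QuadraticMap.polarBilin Q b)).prod
      ((QuadraticMap.polarBilin Q a').prod (QuadraticMap.polarBilin Q b')) with hφ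
  have hker : 3 ≤ Module.finrank F (LinearMap.ker φ) := by
    have h1 := LinearMap.finrank_range_add_finrank_ker φ
    have h2 : Module.finrank F (LinearMap.range φ) ≤ 4 := by
      have := Submodule.finrank_le (LinearMap.range φ)
      rw [Module.finrank_prod, Module.finrank_prod, Module.finrank_self] at this
      exact this
    omega
  obtain ⟨d0, hd0, hQd0⟩ := Cfsg.Agent.Lib.Helper44.exists_isotropic
    (Q.comp (LinearMap.ker φ).subtype) hker
  set d : V := (d0 : V) with hd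
  have hdne : d ≠ 0 := by
    intro h
    apply hd0
    exact Subtype.ext h
  have hQd : Q d = 0 := hQd0
  have hdmem : φ d = 0 := LinearMap.mem_ker.1 d0.2
  have had : pol (⇑Q) a d = 0 := (Prod.ext_iff.1 (Prod.ext_iff.1 hdmem).1).1
  have hbd : pol (⇑Q) b d = 0 := (Prod.ext_iff.1 (Prod.ext_iff.1 hdmem).1).2
  have ha'd : pol (⇑Q) a' d = 0 := (Prod.ext_iff.1 (Prod.ext_iff.1 hdmem).2).1
  have hb'd : pol (⇑Q) b' d = 0 := (Prod.ext_iff.1 (Prod.ext_iff.1 hdmem).2).2
  obtain ⟨y0, hy0⟩ := exists_dual Q hQ d hdne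
  obtain ⟨y, hay, hby, hdy⟩ : ∃ y : V, pol (⇑Q) a y = 0 ∧ pol (⇑Q) b y = 0 ∧ pol (⇑Q) d y ≠ 0 := by
    refine ⟨y0 - pol (⇑Q) a y0 • a' - pol (⇑Q) b y0 • b', ?_, ?_, ?_⟩
    · rw [QuadraticMap.polar_sub_right, QuadraticMap.polar_sub_right,
        QuadraticMap.polar_smul_right, QuadraticMap.polar_smul_right, haa', hab']
      simp
    · rw [QuadraticMap.polar_sub_right, QuadraticMap.polar_sub_right,
        QuadraticMap.polar_smul_right, QuadraticMap.polar_smul_right, hba', hbb']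
      simp
    · rw [QuadraticMap.polar_sub_right, QuadraticMap.polar_sub_right,
        QuadraticMap.polar_smul_right, QuadraticMap.polar_smul_right,
        QuadraticMap.polar_comm (⇑Q) d a', ha'd, QuadraticMap.polar_comm (⇑Q) d b', hb'd, hy0]
      simp
  set X : Submodule F V :=
    LinearMap.ker ((QuadraticMap.polarBilin Q a).prod (QuadraticMap.polarBilin Q b)) with hX
  have hmemX : ∀ v : V, v ∈ X ↔ pol (⇑Q) a v = 0 ∧ pol (⇑Q) b v = 0 := by
    intro v
    rw [hX, LinearMap.mem_ker, LinearMap.prod_apply, Prod.ext_iff]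
    rfl
  obtain ⟨d', hd'X, hQd', hdd'⟩ := partner_in Q X d y ((hmemX d).2 ⟨had, hbd⟩)
    ((hmemX y).2 ⟨hay, hby⟩) hQd hdy
  rw [hmemX] at hd'X
  exact ⟨d, d', hQd, hQd', hdd', had, hbd, hd'X.1, hd'X.2⟩

end Geom3

section Eich

variable {F V : Type*} [Field F] [AddCommGroup V] [Module F V]

local notation "pol" => QuadraticMap.polar

theorem siegelLin_smul_left (Q : QuadraticForm F V) (u z : V) (c : F) (x : V) :
    siegelLin Q (c • u) z x = siegelLin Q u (c • z) x := by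
  rw [siegelLin_apply, siegelLin_apply, QuadraticMap.polar_smul_left, QuadraticMap.polar_smul_left,
    QuadraticMap.map_smul]
  simp only [smul_eq_mul]
  module

theorem siegelLin_comm (Q : QuadraticForm F V) (u z z' : V) (hu : Q u = 0)
    (hz : pol (⇑Q) u z = 0) (hz' : pol (⇑Q) u z' = 0) (x : V) :
    siegelLin Q u z (siegelLin Q u z' x) = siegelLin Q u z' (siegelLin Q u z x) := by
  have huu : pol (⇑Q) u u = 0 := by rw [QuadraticMap.polar_self, hu, smul_zero]
  have hzu : pol (⇑Q) z u = 0 := by rw [QuadraticMap.polar_comm]; exact hz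
  have hzu' : pol (⇑Q) z' u = 0 := by rw [QuadraticMap.polar_comm]; exact hz'
  have hzz : pol (⇑Q) z' z = pol (⇑Q) z z' := QuadraticMap.polar_comm _ _ _
  simp only [siegelLin_apply, QuadraticMap.polar_add_right, QuadraticMap.polar_sub_right,
    QuadraticMap.polar_smul_right, huu, hz, hz', hzu, hzu', hzz, smul_eq_mul, mul_zero, add_zero,
    sub_zero]
  module

theorem siegelLin_zero_right (Q : QuadraticForm F V) (u x : V) : siegelLin Q u 0 x = x := by
  rw [siegelLin_apply]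
  simp

end Eich

section Grp3

variable {F : Type*} [Field F] {n : ℕ} (Q : QuadraticForm F (Fin n → F))

local notation "pol" => QuadraticMap.polar

open Cfsg.Agent.S0792 (lin lin_mul lin_one lin_injective lin_isom pol_isom)

theorem lin_inv_apply' (g : ↥(Cfsg.isometryGroup F (⇑Q))) (x : Fin n → F) :
    lin Q g⁻¹ (lin Q g x) = x := by
  have := lin_inv_apply Q g⁻¹ x
  rw [inv_inv] at this
  exact this

theorem lin_one_apply (x : Fin n → F) : lin Q 1 x = x := by
  rw [lin_one]; rfl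

theorem lin_siegelLin_conj (h : ↥(Cfsg.isometryGroup F (⇑Q))) (p w x : Fin n → F) :
    lin Q h (siegelLin Q p w x) = siegelLin Q (lin Q h p) (lin Q h w) (lin Q h x) := by
  rw [siegelLin_apply, siegelLin_apply, map_sub, map_add, map_smul, map_smul, lin_pol, lin_pol,
    lin_isom]

/-- conjugating an Eichler element -/
theorem eichler_conj (h k k' : ↥(Cfsg.isometryGroup F (⇑Q))) (p w : Fin n → F)
    (hk : ∀ x, lin Q k x = siegelLin Q p w x)
    (hk' : ∀ x, lin Q k' x = siegelLin Q (lin Q h p) (lin Q h w) x) :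
    h * k * h⁻¹ = k' := by
  apply lin_injective Q
  apply LinearMap.ext
  intro x
  rw [lin_mul_apply, lin_mul_apply, hk, lin_siegelLin_conj, lin_inv_apply, hk']

/-- a Siegel generator in Eichler form -/
theorem siegSet_eichler (s : ↥(Cfsg.isometryGroup F (⇑Q))) (hs : s ∈ SiegSet Q) :
    ∃ a z : Fin n → F, Q a = 0 ∧ pol (⇑Q) a z = 0 ∧ ∀ x, lin Q s x = siegelLin Q a z x := by
  obtain ⟨u, v, c, hu, hv, huv, hmat⟩ := hs
  refine ⟨u, (-c) • v, hu, ?_, ?_⟩
  · rw [QuadraticMap.polar_smul_right, huv, smul_zero]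
  · intro x
    rw [lin_siegel Q s u v c hmat, siegelLin_apply, QuadraticMap.polar_smul_left,
      QuadraticMap.map_smul, hv]
    simp only [smul_eq_mul, mul_zero, zero_mul, sub_zero]
    module

/-- `KS` is transitive on nonzero singular vectors, up to scalars -/
theorem KS_trans_sing [Finite F] (hn : 5 ≤ n) (hQ : (QuadraticMap.polarBilin Q).Nondegenerate)
    (x y : Fin n → F) (hx0 : x ≠ 0) (hy0 : y ≠ 0) (hx : Q x = 0) (hy : Q y = 0) :
    ∃ k ∈ KS Q, ∃ c : F, c ≠ 0 ∧ lin Q k x = c • y := by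
  by_cases hdep : ∃ l : F, y = l • x
  · obtain ⟨l, hl⟩ := hdep
    have hl0 : l ≠ 0 := by
      intro h; apply hy0; rw [hl, h, zero_smul]
    refine ⟨1, Subgroup.one_mem _, l⁻¹, inv_ne_zero hl0, ?_⟩
    rw [lin_one_apply, hl, smul_smul, inv_mul_cancel₀ hl0, one_smul]
  · push Not at hdep
    have hind : ∀ l : F, x ≠ l • (y - x) := by
      intro l h
      have hl0 : l ≠ 0 := by
        intro h0; apply hx0; rw [h, h0, zero_smul]
      apply hdep (l⁻¹ * (1 + l))
      have h1 : l • y = (1 + l) • x := by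
        rw [add_smul, one_smul]
        nth_rewrite 1 [h]
        rw [smul_sub]; abel
      rw [mul_smul, ← h1, smul_smul, inv_mul_cancel₀ hl0, one_smul]
    have hne : y - x ≠ 0 := by
      intro h
      apply hdep 1
      rw [one_smul]
      exact sub_eq_zero.1 h
    obtain ⟨k, hk, hkx⟩ := KS_trans_indep Q hn hQ x y (by rw [hx, hy]) hind hne
    exact ⟨k, hk, 1, one_ne_zero, by rw [hkx, one_smul]⟩

/-- the stabiliser of `u` in `KS` is transitive on singular vectors pairing to `1` with `u` -/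
theorem stab_trans2 [Finite F] (hn : 5 ≤ n) (hQ : (QuadraticMap.polarBilin Q).Nondegenerate)
    (u w w' : Fin n → F) (hu : Q u = 0) (hw : Q w = 0) (hw' : Q w' = 0)
    (h1 : pol (⇑Q) u w = 1) (h2 : pol (⇑Q) u w' = 1) :
    ∃ k ∈ KS Q, lin Q k u = u ∧ lin Q k w = w' := by
  have huz : pol (⇑Q) u (w - w') = 0 := by
    rw [QuadraticMap.polar_sub_right, h1, h2, sub_self]
  obtain ⟨k, hk, hlin⟩ := eichler_mem Q hn hQ u (w - w') hu huz
  have huu : pol (⇑Q) u u = 0 := by rw [QuadraticMap.polar_self, hu, smul_zero]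
  have hww : pol (⇑Q) w w = 0 := by rw [QuadraticMap.polar_self, hw, smul_zero]
  refine ⟨k, hk, ?_, ?_⟩
  · rw [hlin, siegelLin_apply, QuadraticMap.polar_comm (⇑Q) (w - w') u, huz, huu]
    simp
  · rw [hlin, siegelLin_apply, h1, Q_sub, hw, hw', QuadraticMap.polar_sub_left, hww,
      QuadraticMap.polar_comm (⇑Q) w' w]
    simp only [zero_sub, zero_add, mul_one, one_smul]
    have : -pol (⇑Q) w w' - -pol (⇑Q) w w' = 0 := by ring
    rw [this, zero_smul]
    abel

end Grp3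

section NClaims

variable {F : Type*} [Field F] {n : ℕ} (Q : QuadraticForm F (Fin n → F))

local notation "pol" => QuadraticMap.polar

open Cfsg.Agent.S0792 (lin lin_mul lin_one lin_injective lin_isom pol_isom)

variable (N : Subgroup ↥(Cfsg.isometryGroup F (⇑Q)))

/-- if `N` (normalised by `KS`) moves one singular point, it moves every singular point -/
theorem N_moves_all [Finite F] (hn : 5 ≤ n) (hQ : (QuadraticMap.polarBilin Q).Nondegenerate)
    (hnorm : ∀ h ∈ KS Q, ∀ k ∈ N, h * k * h⁻¹ ∈ N)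
    (hmove : ∃ g ∈ N, ∃ u₀ : Fin n → F, u₀ ≠ 0 ∧ Q u₀ = 0 ∧ ∀ c : F, lin Q g u₀ ≠ c • u₀)
    (u : Fin n → F) (hu0 : u ≠ 0) (hu : Q u = 0) :
    ∃ g ∈ N, ∀ c : F, lin Q g u ≠ c • u := by
  obtain ⟨g, hg, u₀, hu₀0, hu₀, hgu⟩ := hmove
  obtain ⟨h, hh, c, hc, hhu⟩ := KS_trans_sing Q hn hQ u₀ u hu₀0 hu0 hu₀ hu
  refine ⟨h * g * h⁻¹, hnorm h hh g hg, ?_⟩
  intro d hd
  -- `u = c⁻¹ • h u₀`
  have h1 : u = c⁻¹ • lin Q h u₀ := by
    rw [hhu, smul_smul, inv_mul_cancel₀ hc, one_smul]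
  have h2 : lin Q h⁻¹ u = c⁻¹ • u₀ := by
    rw [h1, map_smul, lin_inv_apply']
  rw [lin_mul_apply, lin_mul_apply, h2, map_smul, map_smul] at hd
  -- `c⁻¹ • h (g u₀) = d • u = d • c⁻¹ • h u₀`
  apply hgu d
  have h3 : lin Q h (lin Q g u₀) = lin Q h (d • u₀) := by
    have : c⁻¹ • lin Q h (lin Q g u₀) = c⁻¹ • lin Q h (d • u₀) := by
      rw [hd, h1, map_smul, smul_smul, smul_smul, mul_comm]
    have hc' : c⁻¹ ≠ 0 := inv_ne_zero hc
    exact smul_right_injective _ hc' this
  have h4 := congrArg (lin Q h⁻¹) h3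
  rw [lin_inv_apply', lin_inv_apply'] at h4
  exact h4

/-- Case A: `N` maps `u` to a non-orthogonal point; then it reaches all of them -/
theorem N_caseA [Finite F] (hn : 5 ≤ n) (hQ : (QuadraticMap.polarBilin Q).Nondegenerate)
    (hnorm : ∀ h ∈ KS Q, ∀ k ∈ N, h * k * h⁻¹ ∈ N)
    (u : Fin n → F) (hu : Q u = 0) (g : ↥(Cfsg.isometryGroup F (⇑Q))) (hg : g ∈ N)
    (hgu : pol (⇑Q) u (lin Q g u) ≠ 0) (w : Fin n → F) (hw : Q w = 0) (huw : pol (⇑Q) u w ≠ 0) :
    ∃ m ∈ N, ∃ c : F, c ≠ 0 ∧ lin Q m u = c • w := by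
  set α := pol (⇑Q) u (lin Q g u) with hα
  set β := pol (⇑Q) u w with hβ
  obtain ⟨k, hk, hku, hkw⟩ := stab_trans2 Q hn hQ u (α⁻¹ • lin Q g u) (β⁻¹ • w) hu
    (by rw [QuadraticMap.map_smul, lin_isom, hu, smul_zero])
    (by rw [QuadraticMap.map_smul, hw, smul_zero])
    (by rw [QuadraticMap.polar_smul_right, ← hα, smul_eq_mul, inv_mul_cancel₀ hgu])
    (by rw [QuadraticMap.polar_smul_right, ← hβ, smul_eq_mul, inv_mul_cancel₀ huw])
  refine ⟨k * g * k⁻¹, hnorm k hk g hg, α * β⁻¹, mul_ne_zero hgu (inv_ne_zero huw), ?_⟩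
  have h1 : lin Q k⁻¹ u = u := by
    have := congrArg (lin Q k⁻¹) hku
    rw [lin_inv_apply'] at this
    exact this.symm
  rw [lin_mul_apply, lin_mul_apply, h1]
  have h2 : lin Q g u = α • (α⁻¹ • lin Q g u) := by
    rw [smul_smul, mul_inv_cancel₀ hgu, one_smul]
  rw [h2, map_smul, hkw, smul_smul]

/-- Case B: from a moved orthogonal point to a non-orthogonal one -/
theorem N_caseB [Finite F] (hn : 5 ≤ n) (hQ : (QuadraticMap.polarBilin Q).Nondegenerate)
    (hnorm : ∀ h ∈ KS Q, ∀ k ∈ N, h * k * h⁻¹ ∈ N)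
    (u : Fin n → F) (hu0 : u ≠ 0) (hu : Q u = 0) (g : ↥(Cfsg.isometryGroup F (⇑Q))) (hg : g ∈ N)
    (hgu : ∀ c : F, lin Q g u ≠ c • u) :
    ∃ g₃ ∈ N, pol (⇑Q) u (lin Q g₃ u) ≠ 0 := by
  have h5 : 5 ≤ Module.finrank F (Fin n → F) := by
    rw [Module.finrank_fin_fun]; exact hn
  set u' := lin Q g u with hu'
  have hu'0 : u' ≠ 0 := by
    intro h; apply hgu 0; rw [h, zero_smul]
  have hQu' : Q u' = 0 := by rw [hu', lin_isom, hu]
  have hind : ∀ l : F, u ≠ l • u' := by
    intro l h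
    have hl : l ≠ 0 := by
      intro h0; apply hu0; rw [h, h0, zero_smul]
    apply hgu l⁻¹
    rw [h, smul_smul, inv_mul_cancel₀ hl, one_smul]
  obtain ⟨p, hQp, hu'p, hup⟩ := exists_sing_perp_not_perp Q hQ h5 u' u hu'0 hind
  obtain ⟨z, hpz, hu'z, hQz⟩ := exists_nonsing_perp_two Q hQ h5 p u'
  obtain ⟨h, hh, hlin⟩ := eichler_mem Q hn hQ p z hQp hpz
  have hhu' : lin Q h u' = u' := by
    rw [hlin, siegelLin_apply, QuadraticMap.polar_comm (⇑Q) z u', hu'z,
      QuadraticMap.polar_comm (⇑Q) p u', hu'p]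
    simp
  have huu : pol (⇑Q) u u = 0 := by rw [QuadraticMap.polar_self, hu, smul_zero]
  have hhu : pol (⇑Q) u (lin Q h u) ≠ 0 := by
    rw [hlin, siegelLin_apply, QuadraticMap.polar_sub_right, QuadraticMap.polar_add_right,
      QuadraticMap.polar_smul_right, QuadraticMap.polar_smul_right, huu,
      QuadraticMap.polar_comm (⇑Q) p u, QuadraticMap.polar_comm (⇑Q) z u]
    have : (0 : F) + (pol (⇑Q) u z - Q z * pol (⇑Q) u p) • pol (⇑Q) u p
        - pol (⇑Q) u p • pol (⇑Q) u z = - (Q z * (pol (⇑Q) u p * pol (⇑Q) u p)) := by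
      simp only [smul_eq_mul]; ring
    rw [this]
    exact neg_ne_zero.2 (mul_ne_zero hQz (mul_ne_zero hup hup))
  set g₂ := h * g * h⁻¹ with hg₂
  have hg₂N : g₂ ∈ N := hnorm h hh g hg
  have h1 : lin Q g₂ (lin Q h u) = u' := by
    rw [hg₂, lin_mul_apply, lin_mul_apply, lin_inv_apply', ← hu', hhu']
  refine ⟨g₂⁻¹ * g, N.mul_mem (N.inv_mem hg₂N) hg, ?_⟩
  rw [lin_mul_apply, ← hu', ← h1, lin_inv_apply']
  exact hhu

/-- `N` reaches every point not orthogonal to `u` -/
theorem N_trans_nonperp [Finite F] (hn : 5 ≤ n) (hQ : (QuadraticMap.polarBilin Q).Nondegenerate)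
    (hnorm : ∀ h ∈ KS Q, ∀ k ∈ N, h * k * h⁻¹ ∈ N)
    (hmove : ∃ g ∈ N, ∃ u₀ : Fin n → F, u₀ ≠ 0 ∧ Q u₀ = 0 ∧ ∀ c : F, lin Q g u₀ ≠ c • u₀)
    (u w : Fin n → F) (hu : Q u = 0) (hw : Q w = 0) (huw : pol (⇑Q) u w ≠ 0) :
    ∃ m ∈ N, ∃ c : F, c ≠ 0 ∧ lin Q m u = c • w := by
  have hu0 : u ≠ 0 := by
    intro h; apply huw; rw [h, QuadraticMap.polar_zero_left]
  obtain ⟨g, hg, hgu⟩ := N_moves_all Q N hn hQ hnorm hmove u hu0 hu
  by_cases horth : pol (⇑Q) u (lin Q g u) = 0
  · obtain ⟨g₃, hg₃, hg₃u⟩ := N_caseB Q N hn hQ hnorm u hu0 hu g hg hgu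
    exact N_caseA Q N hn hQ hnorm u hu g₃ hg₃ hg₃u w hw huw
  · exact N_caseA Q N hn hQ hnorm u hu g hg horth w hw huw

/-- `N` is transitive on singular points -/
theorem N_trans [Finite F] (hn : 5 ≤ n) (hQ : (QuadraticMap.polarBilin Q).Nondegenerate)
    (hnorm : ∀ h ∈ KS Q, ∀ k ∈ N, h * k * h⁻¹ ∈ N)
    (hmove : ∃ g ∈ N, ∃ u₀ : Fin n → F, u₀ ≠ 0 ∧ Q u₀ = 0 ∧ ∀ c : F, lin Q g u₀ ≠ c • u₀)
    (x y : Fin n → F) (hx0 : x ≠ 0) (hy0 : y ≠ 0) (hx : Q x = 0) (hy : Q y = 0) :
    ∃ m ∈ N, ∃ c : F, c ≠ 0 ∧ lin Q m x = c • y := by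
  have h5 : 5 ≤ Module.finrank F (Fin n → F) := by
    rw [Module.finrank_fin_fun]; exact hn
  by_cases hxy : pol (⇑Q) x y = 0
  · by_cases hdep : ∃ l : F, y = l • x
    · obtain ⟨l, hl⟩ := hdep
      have hl0 : l ≠ 0 := by
        intro h; apply hy0; rw [hl, h, zero_smul]
      refine ⟨1, N.one_mem, l⁻¹, inv_ne_zero hl0, ?_⟩
      rw [lin_one_apply, hl, smul_smul, inv_mul_cancel₀ hl0, one_smul]
    · push Not at hdep
      obtain ⟨z, hQz, hzx, hzy⟩ := exists_common_nonperp Q hQ h5 x y hx0 hx hxy hdep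
      obtain ⟨m₁, hm₁, c₁, hc₁, h1⟩ := N_trans_nonperp Q N hn hQ hnorm hmove x z hx hQz
        (by rw [QuadraticMap.polar_comm]; exact hzx)
      obtain ⟨m₂, hm₂, c₂, hc₂, h2⟩ := N_trans_nonperp Q N hn hQ hnorm hmove z y hQz hy hzy
      refine ⟨m₂ * m₁, N.mul_mem hm₂ hm₁, c₁ * c₂, mul_ne_zero hc₁ hc₂, ?_⟩
      rw [lin_mul_apply, h1, map_smul, h2, smul_smul]
  · exact N_trans_nonperp Q N hn hQ hnorm hmove x y hx hy hxy

end NClaims

section Perfect

variable {F : Type*} [Field F] {n : ℕ} (Q : QuadraticForm F (Fin n → F))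

local notation "pol" => QuadraticMap.polar

open Cfsg.Agent.S0792 (lin lin_mul lin_one lin_injective lin_isom pol_isom)

/-- every Siegel generator is a commutator of two elements of `KS` (dimension ≥ 7) -/
theorem siegel_is_comm [Finite F] (hn : 7 ≤ n) (hQ : (QuadraticMap.polarBilin Q).Nondegenerate)
    (s : ↥(Cfsg.isometryGroup F (⇑Q))) (hs : s ∈ SiegSet Q) :
    ∃ X ∈ KS Q, ∃ Y ∈ KS Q, s = ⁅X, Y⁆ := by
  have h7 : 7 ≤ Module.finrank F (Fin n → F) := by
    rw [Module.finrank_fin_fun]; exact hn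
  obtain ⟨a, b, c, ha, hb, hab, hmat⟩ := hs
  have hlin := lin_siegel Q s a b c hmat
  by_cases htriv : a = 0 ∨ ∃ l : F, b = l • a
  · -- `s = 1`
    have hs1 : s = 1 := by
      apply lin_injective Q
      apply LinearMap.ext
      intro x
      rw [hlin, lin_one_apply]
      rcases htriv with h | ⟨l, h⟩
      · rw [h]; simp
      · rw [h, QuadraticMap.polar_smul_left]
        simp only [smul_eq_mul]
        module
    refine ⟨1, Subgroup.one_mem _, 1, Subgroup.one_mem _, ?_⟩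
    rw [hs1, commutatorElement_one_right]
  · push Not at htriv
    obtain ⟨ha0, hind⟩ := htriv
    obtain ⟨d, d', hd, hd', hdd', had, hbd, had', hbd'⟩ :=
      exists_hyp_perp_pair Q hQ h7 a b ha0 hind
    obtain ⟨X, hX, hXlin⟩ := exists_sO Q a d' ha hd' had' 1
    obtain ⟨Y, hY, hYlin⟩ := exists_sO Q d b hd hb
      (by rw [QuadraticMap.polar_comm]; exact hbd) (-c)
    refine ⟨X, Subgroup.subset_closure hX, Y, Subgroup.subset_closure hY, ?_⟩
    have hmain : X * Y = s * Y * X := by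
      apply lin_injective Q
      apply LinearMap.ext
      intro x
      have haa : pol (⇑Q) a a = 0 := by rw [QuadraticMap.polar_self, ha, smul_zero]
      have hbb : pol (⇑Q) b b = 0 := by rw [QuadraticMap.polar_self, hb, smul_zero]
      have hd0 : pol (⇑Q) d d = 0 := by rw [QuadraticMap.polar_self, hd, smul_zero]
      have hd'0 : pol (⇑Q) d' d' = 0 := by rw [QuadraticMap.polar_self, hd', smul_zero]
      have hba : pol (⇑Q) b a = 0 := by rw [QuadraticMap.polar_comm]; exact hab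
      have hda : pol (⇑Q) d a = 0 := by rw [QuadraticMap.polar_comm]; exact had
      have hdb : pol (⇑Q) d b = 0 := by rw [QuadraticMap.polar_comm]; exact hbd
      have hd'a : pol (⇑Q) d' a = 0 := by rw [QuadraticMap.polar_comm]; exact had'
      have hd'b : pol (⇑Q) d' b = 0 := by rw [QuadraticMap.polar_comm]; exact hbd'
      have hd'd : pol (⇑Q) d' d = 1 := by rw [QuadraticMap.polar_comm]; exact hdd'
      rw [lin_mul_apply, lin_mul_apply, lin_mul_apply]
      simp only [hXlin, hYlin, hlin, QuadraticMap.polar_add_right, QuadraticMap.polar_sub_right,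
        QuadraticMap.polar_smul_right, haa, hbb, hd0, hd'0, hab, hba, had, hda, hbd, hdb, had',
        hd'a, hbd', hd'b, hdd', hd'd, smul_eq_mul, mul_zero, mul_one, add_zero, sub_zero, one_mul]
      module
    rw [commutatorElement_def, hmain]
    group

end Perfect

section Final

variable {F : Type*} [Field F] {n : ℕ} (Q : QuadraticForm F (Fin n → F))

local notation "pol" => QuadraticMap.polar

open Cfsg.Agent.S0792 (lin lin_mul lin_one lin_injective lin_isom pol_isom)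

/-- `KS` is perfect in dimension ≥ 7 -/
theorem KS_perfect [Finite F] (hn : 7 ≤ n) (hQ : (QuadraticMap.polarBilin Q).Nondegenerate) :
    commutator ↥(KS Q) = ⊤ := by
  rw [eq_top_iff]
  rintro ⟨g, hg⟩ -
  have key : ∀ (g : ↥(Cfsg.isometryGroup F (⇑Q))) (hg : g ∈ Subgroup.closure (SiegSet Q)),
      (⟨g, hg⟩ : ↥(KS Q)) ∈ commutator ↥(KS Q) := by
    intro g hg
    induction hg using Subgroup.closure_induction with
    | mem s hs =>
      obtain ⟨X, hX, Y, hY, hXY⟩ := siegel_is_comm Q hn hQ s hs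
      have : (⟨s, Subgroup.subset_closure hs⟩ : ↥(KS Q)) = ⁅(⟨X, hX⟩ : ↥(KS Q)), ⟨Y, hY⟩⁆ := by
        apply Subtype.ext
        exact hXY
      rw [this, commutator_def]
      exact Subgroup.commutator_mem_commutator (Subgroup.mem_top _) (Subgroup.mem_top _)
    | one => exact Subgroup.one_mem _
    | mul x y hx hy ihx ihy =>
      have : (⟨x * y, Subgroup.mul_mem _ hx hy⟩ : ↥(KS Q)) = ⟨x, hx⟩ * ⟨y, hy⟩ := rfl
      rw [this]
      exact Subgroup.mul_mem _ ihx ihy
    | inv x hx ihx =>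
      have : (⟨x⁻¹, Subgroup.inv_mem _ hx⟩ : ↥(KS Q)) = (⟨x, hx⟩ : ↥(KS Q))⁻¹ := rfl
      rw [this]
      exact Subgroup.inv_mem _ ihx
  exact key g hg

/-- the Siegel generators generate `KS` as a group in its own right -/
theorem closure_siegSet_subtype :
    Subgroup.closure {s : ↥(KS Q) | s.1 ∈ SiegSet Q} = ⊤ :=
  Subgroup.closure_preimage_eq_top (SiegSet Q)

/-- for a normal subgroup `N` of `KS` moving a singular point, the quotient is abelian -/
theorem commutator_le_of_moves [Finite F] (hn : 5 ≤ n)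
    (hQ : (QuadraticMap.polarBilin Q).Nondegenerate) (N : Subgroup ↥(KS Q)) [hN : N.Normal]
    (hmove : ∃ g ∈ N, ∃ u₀ : Fin n → F, u₀ ≠ 0 ∧ Q u₀ = 0 ∧ ∀ c : F, lin Q g.1 u₀ ≠ c • u₀) :
    commutator ↥(KS Q) ≤ N := by
  set N' : Subgroup ↥(Cfsg.isometryGroup F (⇑Q)) := N.map (KS Q).subtype with hN'
  have hmemN' : ∀ m : ↥(KS Q), m ∈ N → m.1 ∈ N' := fun m hm =>
    Subgroup.mem_map_of_mem (KS Q).subtype hm
  have hnorm : ∀ h ∈ KS Q, ∀ k ∈ N', h * k * h⁻¹ ∈ N' := by
    intro h hh k hk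
    obtain ⟨k₀, hk₀, hk₀k⟩ := Subgroup.mem_map.1 hk
    have h1 := hmemN' _ (hN.conj_mem k₀ hk₀ ⟨h, hh⟩)
    have h2 : ((⟨h, hh⟩ * k₀ * (⟨h, hh⟩ : ↥(KS Q))⁻¹ : ↥(KS Q)) : ↥(Cfsg.isometryGroup F (⇑Q)))
        = h * k * h⁻¹ := by
      rw [← hk₀k]; rfl
    rw [h2] at h1
    exact h1
  have hmove' : ∃ g ∈ N', ∃ u₀ : Fin n → F, u₀ ≠ 0 ∧ Q u₀ = 0 ∧ ∀ c : F, lin Q g u₀ ≠ c • u₀ := by
    obtain ⟨g, hg, u₀, h1, h2, h3⟩ := hmove
    exact ⟨g.1, hmemN' g hg, u₀, h1, h2, h3⟩
  obtain ⟨g₀, -, u₀, hu₀0, hu₀, -⟩ := hmove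
  set π := QuotientGroup.mk' N with hπ
  -- each generator is congruent to an Eichler element based at `u₀`
  have hgen : ∀ s : ↥(KS Q), s.1 ∈ SiegSet Q → ∃ t : ↥(KS Q), ∃ z : Fin n → F,
      pol (⇑Q) u₀ z = 0 ∧ (∀ x, lin Q t.1 x = siegelLin Q u₀ z x) ∧ π s = π t := by
    intro s hs
    obtain ⟨a, z₀, ha, haz, hlin⟩ := siegSet_eichler Q s.1 hs
    by_cases ha0 : a = 0
    · refine ⟨1, 0, ?_, ?_, ?_⟩
      · rw [QuadraticMap.polar_zero_right]
      · intro x
        rw [siegelLin_zero_right]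
        exact lin_one_apply Q x
      · have : s = 1 := by
          apply Subtype.ext
          apply lin_injective Q
          apply LinearMap.ext
          intro x
          rw [hlin, siegelLin_apply, ha0]
          simp only [QuadraticMap.polar_zero_left, smul_zero, add_zero, zero_smul, sub_zero]
          exact (lin_one_apply Q x).symm
        rw [this]
    · obtain ⟨m, ⟨m₀, hm₀, hm₀m⟩, c, hc, hma⟩ :=
        N_trans Q N' hn hQ hnorm hmove' a u₀ ha0 hu₀0 ha hu₀
      have hm₀m' : m₀.1 = m := hm₀m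
      refine ⟨m₀ * s * m₀⁻¹, c • lin Q m z₀, ?_, ?_, ?_⟩
      · have h1 : pol (⇑Q) (c • u₀) (lin Q m z₀) = 0 := by
          rw [← hma, lin_pol, haz]
        rw [QuadraticMap.polar_smul_left] at h1
        rw [QuadraticMap.polar_smul_right]
        exact h1
      · intro x
        have h1 : ((m₀ * s * m₀⁻¹ : ↥(KS Q)) : ↥(Cfsg.isometryGroup F (⇑Q))) = m * s.1 * m⁻¹ := by
          rw [← hm₀m']; rfl
        rw [h1, lin_mul_apply, lin_mul_apply, hlin, lin_siegelLin_conj, lin_inv_apply, hma,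
          siegelLin_smul_left]
      · have h1 : π m₀ = 1 := (QuotientGroup.eq_one_iff _).2 hm₀
        rw [map_mul, map_mul, map_inv, h1]
        simp
  -- images of generators commute
  have hcomm : ∀ s : ↥(KS Q), s.1 ∈ SiegSet Q → ∀ s' : ↥(KS Q), s'.1 ∈ SiegSet Q →
      Commute (π s) (π s') := by
    intro s hs s' hs'
    obtain ⟨t, z, hz, ht, hst⟩ := hgen s hs
    obtain ⟨t', z', hz', ht', hst'⟩ := hgen s' hs'
    rw [hst, hst']
    have : t * t' = t' * t := by
      apply Subtype.ext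
      apply lin_injective Q
      apply LinearMap.ext
      intro x
      show lin Q (t.1 * t'.1) x = lin Q (t'.1 * t.1) x
      rw [lin_mul_apply, lin_mul_apply, ht, ht', ht, ht', siegelLin_comm Q u₀ z z' hu₀ hz hz']
    show π t * π t' = π t' * π t
    rw [← map_mul, ← map_mul, this]
  have hall1 : ∀ s : ↥(KS Q), s.1 ∈ SiegSet Q → ∀ y : ↥(KS Q), Commute (π s) (π y) := by
    intro s hs y
    have hy : y ∈ Subgroup.closure {s : ↥(KS Q) | s.1 ∈ SiegSet Q} := by
      rw [closure_siegSet_subtype]; exact Subgroup.mem_top _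
    induction hy using Subgroup.closure_induction with
    | mem s' hs' => exact hcomm s hs s' hs'
    | one => rw [map_one]; exact Commute.one_right _
    | mul x y _ _ hx hy => rw [map_mul]; exact Commute.mul_right hx hy
    | inv x _ hx => rw [map_inv]; exact Commute.inv_right hx
  have hall2 : ∀ x y : ↥(KS Q), Commute (π x) (π y) := by
    intro x y
    have hx : x ∈ Subgroup.closure {s : ↥(KS Q) | s.1 ∈ SiegSet Q} := by
      rw [closure_siegSet_subtype]; exact Subgroup.mem_top _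
    induction hx using Subgroup.closure_induction with
    | mem s hs => exact hall1 s hs y
    | one => rw [map_one]; exact Commute.one_left _
    | mul x x' _ _ hx hx' => rw [map_mul]; exact Commute.mul_left hx hx'
    | inv x _ hx => rw [map_inv]; exact Commute.inv_left hx
  rw [commutator_def, Subgroup.commutator_le]
  intro x _ y _
  have h1 : π ⁅x, y⁆ = 1 := by
    rw [map_commutatorElement, commutatorElement_eq_one_iff_mul_comm]
    exact hall2 x y
  exact (QuotientGroup.eq_one_iff _).1 h1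

/-- `KS` (= Ω) is simple in odd dimension ≥ 7 over a finite field of odd characteristic -/
theorem KS_simple [Fintype F] (h2 : (2 : F) ≠ 0) (hn : 7 ≤ n) (hodd : Odd n)
    (hQ : (QuadraticMap.polarBilin Q).Nondegenerate) : IsSimpleGroup ↥(KS Q) := by
  have hn5 : 5 ≤ n := by omega
  have h5 : 5 ≤ Module.finrank F (Fin n → F) := by
    rw [Module.finrank_fin_fun]; exact hn5
  obtain ⟨p, p', hp, hp', hpp'⟩ := exists_hyp_pair Q hQ (by omega : 3 ≤ Module.finrank F (Fin n → F))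
  have hp0 : p ≠ 0 := by
    intro h; rw [h, QuadraticMap.polar_zero_left] at hpp'; exact zero_ne_one hpp'
  have hp'0 : p' ≠ 0 := by
    intro h; rw [h, QuadraticMap.polar_zero_right] at hpp'; exact zero_ne_one hpp'
  have hp'p' : pol (⇑Q) p' p' = 0 := by rw [QuadraticMap.polar_self, hp', smul_zero]
  -- an element of `KS` moving the point `p`
  obtain ⟨k, hk, c, hc, hkp⟩ := KS_trans_sing Q hn5 hQ p p' hp0 hp'0 hp hp'
  have hkmove : ∀ d : F, lin Q k p ≠ d • p := by
    intro d hd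
    rw [hkp] at hd
    have h1 : pol (⇑Q) (c • p') p' = pol (⇑Q) (d • p) p' := by rw [hd]
    rw [QuadraticMap.polar_smul_left, QuadraticMap.polar_smul_left, hp'p', hpp'] at h1
    have h3 : d = 0 := by simpa using h1.symm
    rw [h3, zero_smul] at hd
    rcases smul_eq_zero.1 hd with h | h
    · exact hc h
    · exact hp'0 h
  refine { exists_pair_ne := ?_, eq_bot_or_eq_top_of_normal := ?_ }
  · refine ⟨⟨k, hk⟩, 1, ?_⟩
    intro h
    have h1 : k = 1 := congrArg Subtype.val h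
    apply hkmove 1
    rw [h1, lin_one_apply, one_smul]
  · intro N hN
    by_cases hmove : ∃ g ∈ N, ∃ u₀ : Fin n → F, u₀ ≠ 0 ∧ Q u₀ = 0 ∧ ∀ c : F, lin Q g.1 u₀ ≠ c • u₀
    · right
      have h1 := commutator_le_of_moves Q hn5 hQ N hmove
      rw [KS_perfect Q hn hQ] at h1
      exact top_le_iff.1 h1
    · left
      push Not at hmove
      rw [Subgroup.eq_bot_iff_forall]
      intro g hg
      have hfix : ∀ u, Q u = 0 → ∃ l : F, lin Q g.1 u = l • u := by
        intro u hu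
        by_cases hu0 : u = 0
        · exact ⟨0, by rw [hu0, map_zero, smul_zero]⟩
        · exact hmove g hg u hu0 hu
      obtain ⟨l, hl⟩ := scalar_of_fix_sing Q hQ h5 (lin Q g.1) hfix
      have hgO : g.1 ∈ Cfsg.Omega F ⇑Q := by
        rw [Omega_eq_KS Q h2 hn5 hQ]; exact g.2
      have h1 := eq_one_of_scalar_of_odd Q (by omega) hodd hQ g.1
        (det_eq_one_of_mem_Omega Q g.1 hgO) l hl
      exact Subtype.ext h1

/-- Ω is simple in odd dimension ≥ 7 over a finite field of odd characteristic -/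
theorem Omega_simple_of_odd [Fintype F] (h2 : (2 : F) ≠ 0) (hn : 7 ≤ n) (hodd : Odd n)
    (hQ : (QuadraticMap.polarBilin Q).Nondegenerate) : IsSimpleGroup ↥(Cfsg.Omega F ⇑Q) := by
  rw [Omega_eq_KS Q h2 (by omega) hQ]
  exact KS_simple Q h2 hn hodd hQ

end Final

end Cfsg.Agent.Lib.Helper14
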