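import Mathlib
import Cfsg.Agent.Lib.Helper14.OmegaSimple

/-!
# Characteristic-free simplicity of `KS / Z(KS)` (dimension ≥ 7) and `PΩ` simple for odd `q` — helper14

`KS Q` is the subgroup of the isometry group generated by the Siegel transformations.
Everything here only needs a non-degenerate polar form and `7 ≤ n`; no hypothesis on the
characteristic, except in the final corollary (where `Ω = KS` is S0795).
-/

set_option autoImplicit false

namespace Cfsg.Agent.Lib.Helper14

open Cfsg.Agent.Lib.Helper13 Cfsg.Agent.S0795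
open scoped commutatorElement

section General

variable {F : Type*} [Field F] {n : ℕ} (Q : QuadraticForm F (Fin n → F))

local notation "pol" => QuadraticMap.polar

open Cfsg.Agent.S0792 (lin lin_mul lin_one lin_injective lin_isom pol_isom)

/-- characteristic-free dichotomy: a normal subgroup of `KS` (the group generated by the Siegel
transformations) is everything or consists of scalars (dimension ≥ 7, non-degenerate polar form) -/
theorem KS_normal_top_or_scalar [Finite F] (hn : 7 ≤ n)
    (hQ : (QuadraticMap.polarBilin Q).Nondegenerate) (N : Subgroup ↥(KS Q)) [hN : N.Normal] :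
    N = ⊤ ∨ ∀ g ∈ N, ∃ l : F, ∀ x, lin Q g.1 x = l • x := by
  have hn5 : 5 ≤ n := by omega
  have h5 : 5 ≤ Module.finrank F (Fin n → F) := by
    rw [Module.finrank_fin_fun]; exact hn5
  by_cases hmove : ∃ g ∈ N, ∃ u₀ : Fin n → F, u₀ ≠ 0 ∧ Q u₀ = 0 ∧ ∀ c : F, lin Q g.1 u₀ ≠ c • u₀
  · left
    have h1 := commutator_le_of_moves Q hn5 hQ N hmove
    rw [KS_perfect Q hn hQ] at h1
    exact top_le_iff.1 h1
  · right
    push Not at hmove
    intro g hg
    have hfix : ∀ u, Q u = 0 → ∃ l : F, lin Q g.1 u = l • u := by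
      intro u hu
      by_cases hu0 : u = 0
      · exact ⟨0, by rw [hu0, map_zero, smul_zero]⟩
      · exact hmove g hg u hu0 hu
    exact scalar_of_fix_sing Q hQ h5 (lin Q g.1) hfix

/-- `KS` is not abelian: it is nontrivial (dimension ≥ 5) -/
theorem KS_nontrivial [Finite F] (hn : 5 ≤ n) (hQ : (QuadraticMap.polarBilin Q).Nondegenerate) :
    ∃ k ∈ KS Q, ∃ p : Fin n → F, ∀ d : F, lin Q k p ≠ d • p := by
  have h3 : 3 ≤ Module.finrank F (Fin n → F) := by
    rw [Module.finrank_fin_fun]; omega
  obtain ⟨p, p', hp, hp', hpp'⟩ := exists_hyp_pair Q hQ h3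
  have hp0 : p ≠ 0 := by
    intro h; rw [h, QuadraticMap.polar_zero_left] at hpp'; exact zero_ne_one hpp'
  have hp'0 : p' ≠ 0 := by
    intro h; rw [h, QuadraticMap.polar_zero_right] at hpp'; exact zero_ne_one hpp'
  have hp'p' : pol (⇑Q) p' p' = 0 := by rw [QuadraticMap.polar_self, hp', smul_zero]
  obtain ⟨k, hk, c, hc, hkp⟩ := KS_trans_sing Q hn hQ p p' hp0 hp'0 hp hp'
  refine ⟨k, hk, p, ?_⟩
  intro d hd
  rw [hkp] at hd
  have h1 : pol (⇑Q) (c • p') p' = pol (⇑Q) (d • p) p' := by rw [hd]
  rw [QuadraticMap.polar_smul_left, QuadraticMap.polar_smul_left, hp'p', hpp'] at h1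
  have h3 : d = 0 := by simpa using h1.symm
  rw [h3, zero_smul] at hd
  rcases smul_eq_zero.1 hd with h | h
  · exact hc h
  · exact hp'0 h

/-- characteristic-free: `KS / Z(KS)` is simple in dimension ≥ 7 -/
theorem KS_mod_center_simple [Finite F] (hn : 7 ≤ n)
    (hQ : (QuadraticMap.polarBilin Q).Nondegenerate) :
    IsSimpleGroup (↥(KS Q) ⧸ Subgroup.center ↥(KS Q)) := by
  have hn5 : 5 ≤ n := by omega
  refine { exists_pair_ne := ?_, eq_bot_or_eq_top_of_normal := ?_ }
  · -- nontrivial: otherwise `KS` is abelian, contradicting perfectness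
    by_contra hcon
    have hsub : Subsingleton (↥(KS Q) ⧸ Subgroup.center ↥(KS Q)) :=
      not_nontrivial_iff_subsingleton.1 (fun h => hcon h.exists_pair_ne)
    have htop : Subgroup.center ↥(KS Q) = ⊤ := QuotientGroup.subgroup_eq_top_of_subsingleton _ hsub
    have hcomm : ∀ x y : ↥(KS Q), x * y = y * x := by
      intro x y
      have hy : y ∈ Subgroup.center ↥(KS Q) := by rw [htop]; exact Subgroup.mem_top _
      exact Subgroup.mem_center_iff.1 hy x
    have hbot : commutator ↥(KS Q) = ⊥ := by
      rw [commutator_def, Subgroup.commutator_eq_bot_iff_le_centralizer]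
      intro x _
      rw [Subgroup.mem_centralizer_iff]
      intro y _
      exact hcomm y x
    rw [KS_perfect Q hn hQ] at hbot
    obtain ⟨k, hk, p, hkp⟩ := KS_nontrivial Q hn5 hQ
    have h1 : (⟨k, hk⟩ : ↥(KS Q)) ∈ (⊤ : Subgroup ↥(KS Q)) := Subgroup.mem_top _
    rw [hbot, Subgroup.mem_bot] at h1
    have h2 : k = 1 := congrArg Subtype.val h1
    apply hkp 1
    rw [h2, lin_one_apply, one_smul]
  · intro H hH
    set π := QuotientGroup.mk' (Subgroup.center ↥(KS Q)) with hπ
    have hsurj : Function.Surjective π := QuotientGroup.mk'_surjective _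
    rcases KS_normal_top_or_scalar Q hn hQ (H.comap π) with h | h
    · right
      rw [eq_top_iff]
      intro x _
      obtain ⟨g, rfl⟩ := hsurj x
      have : g ∈ H.comap π := by rw [h]; exact Subgroup.mem_top _
      exact this
    · left
      rw [Subgroup.eq_bot_iff_forall]
      intro x hx
      obtain ⟨g, rfl⟩ := hsurj x
      obtain ⟨l, hl⟩ := h g hx
      have hgc : g ∈ Subgroup.center ↥(KS Q) := by
        rw [Subgroup.mem_center_iff]
        intro y
        apply Subtype.ext
        apply lin_injective Q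
        apply LinearMap.ext
        intro v
        show lin Q (y.1 * g.1) v = lin Q (g.1 * y.1) v
        rw [lin_mul_apply, lin_mul_apply, hl, hl, map_smul]
      exact (QuotientGroup.eq_one_iff g).2 hgc

/-- `PΩ(Q)` is simple in dimension ≥ 7 over a finite field of odd characteristic (any parity of the
dimension, any non-degenerate form) -/
theorem POmega_simple_of_two_ne_zero [Fintype F] (h2 : (2 : F) ≠ 0) (hn : 7 ≤ n)
    (hQ : (QuadraticMap.polarBilin Q).Nondegenerate) :
    IsSimpleGroup (↥(Cfsg.Omega F ⇑Q) ⧸ Subgroup.center ↥(Cfsg.Omega F ⇑Q)) := by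
  rw [Omega_eq_KS Q h2 (by omega) hQ]
  exact KS_mod_center_simple Q hn hQ

end General

end Cfsg.Agent.Lib.Helper14
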