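import Mathlib

set_option autoImplicit false

/-!
# Groups with the arithmetic profile of `PSL₂(13)` (helper14)

General lemmas on normalizers, and the structure `H1092` (order 1092, simple, the Dickson list of
subgroup orders, element orders `≤ 14` and `≠ 4`).
-/

namespace Cfsg.Agent.Lib.Helper14

open Subgroup


section general
variable {Q : Type*} [Group Q]

/-- a subgroup of `H` which is unique of its order in `H` is normalized by `N(H)` -/
theorem normalizer_le_of_unique [Finite Q] {R H : Subgroup Q} (hRH : R ≤ H)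
    (huniq : ∀ R' : Subgroup Q, R' ≤ H → Nat.card R' = Nat.card R → R' = R) :
    normalizer (H : Set Q) ≤ normalizer (R : Set Q) := by
  intro g hg
  have hmap : R.map (MulAut.conj g).toMonoidHom = R := by
    apply huniq
    · rintro _ ⟨r, hr, rfl⟩
      have := (Subgroup.mem_normalizer_iff.mp hg r).mp (hRH hr)
      simpa using this
    · exact Subgroup.card_map_of_injective (MulAut.conj g).injective
  rw [Subgroup.mem_normalizer_iff]
  intro r
  constructor
  · intro hr
    have : g * r * g⁻¹ ∈ R.map (MulAut.conj g).toMonoidHom := ⟨r, hr, by simp⟩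
    rwa [hmap] at this
  · intro hr
    rw [← hmap] at hr
    obtain ⟨r', hr', he⟩ := hr
    have : r' = r := by
      have he' : g * r' * g⁻¹ = g * r * g⁻¹ := by simpa using he
      have := congrArg (fun z => g⁻¹ * z * g) he'
      simpa [mul_assoc] using this
    rwa [← this]

/-- two subgroups of prime order `r` inside a group of order `< r²` coincide -/
theorem eq_of_prime_card_of_lt [Finite Q] {H P P' : Subgroup Q} {r : ℕ} (hr : r.Prime)
    (hH : Nat.card H < r * r) (hP : P ≤ H) (hP' : P' ≤ H) (cP : Nat.card P = r)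
    (cP' : Nat.card P' = r) : P' = P := by
  by_contra hne
  have hinf : P ⊓ P' = ⊥ := by
    have hd : Nat.card (P ⊓ P' : Subgroup Q) ∣ r := cP ▸ Subgroup.card_dvd_of_le inf_le_left
    rcases (Nat.dvd_prime hr).mp hd with h1 | h1
    · exact Subgroup.card_eq_one.mp h1
    · exfalso
      have h2 : P ⊓ P' = P := Subgroup.eq_of_le_of_card_ge inf_le_left (by rw [h1, cP])
      have h3 : P ≤ P' := by rw [← h2]; exact inf_le_right
      exact hne (Subgroup.eq_of_le_of_card_ge h3 (by rw [cP, cP'])).symm
  have hinj : Function.Injective (fun x : P × P' => (⟨(x.1 : Q) * (x.2 : Q),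
      H.mul_mem (hP x.1.2) (hP' x.2.2)⟩ : H)) := by
    rintro ⟨⟨a, ha⟩, ⟨b, hb⟩⟩ ⟨⟨a', ha'⟩, ⟨b', hb'⟩⟩ he
    have he' : a * b = a' * b' := by simpa using congrArg Subtype.val he
    have h4 : a'⁻¹ * a = b' * b⁻¹ := by
      have : a'⁻¹ * (a * b) * b⁻¹ = a'⁻¹ * (a' * b') * b⁻¹ := by rw [he']
      simpa [mul_assoc] using this
    have h5 : a'⁻¹ * a ∈ P ⊓ P' := by
      refine ⟨P.mul_mem (P.inv_mem ha') ha, ?_⟩
      rw [h4]; exact P'.mul_mem hb' (P'.inv_mem hb)
    rw [hinf, Subgroup.mem_bot] at h5
    have h6 : a = a' := by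
      have := congrArg (fun z => a' * z) h5
      simpa using this
    subst h6
    have h7 : b = b' := mul_left_cancel he'
    subst h7
    rfl
  have := Nat.card_le_card_of_injective _ hinj
  rw [Nat.card_prod, cP, cP'] at this
  omega

/-- index two subgroups are normal, relative version -/
theorem le_normalizer_of_card_eq_two_mul [Finite Q] {H N : Subgroup Q} (hHN : H ≤ N)
    (hc : Nat.card N = 2 * Nat.card H) : N ≤ normalizer (H : Set Q) := by
  rw [← Subgroup.normal_subgroupOf_iff_le_normalizer hHN]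
  apply Subgroup.normal_of_index_eq_two
  have h1 := (H.subgroupOf N).card_mul_index
  have h2 : Nat.card (H.subgroupOf N) = Nat.card H :=
    Nat.card_congr (Subgroup.subgroupOfEquivOfLe hHN).toEquiv
  rw [h2, hc] at h1
  have hpos : 0 < Nat.card H := Nat.card_pos
  have : Nat.card H * (H.subgroupOf N).index = Nat.card H * 2 := by rw [h1]; ring
  exact Nat.eq_of_mul_eq_mul_left hpos this

end general



section general2
variable {Q : Type*} [Group Q]

theorem mem_zpowers_of_orderOf_three {x z : Q} (hx : orderOf x = 3) (hz : z ∈ zpowers x) :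
    z = 1 ∨ z = x ∨ z = x⁻¹ := by
  obtain ⟨k, rfl⟩ := Subgroup.mem_zpowers_iff.mp hz
  have h3 : x ^ (3 : ℤ) = 1 := by
    have := pow_orderOf_eq_one x
    rw [hx] at this
    exact_mod_cast this
  have hk : x ^ k = x ^ (k % 3) := by
    conv_lhs => rw [← Int.emod_add_mul_ediv k 3]
    rw [zpow_add, zpow_mul, h3, one_zpow, mul_one]
  rw [hk]
  have h0 : 0 ≤ k % 3 := Int.emod_nonneg _ (by norm_num)
  have h1 : k % 3 < 3 := Int.emod_lt_of_pos _ (by norm_num)
  have : k % 3 = 0 ∨ k % 3 = 1 ∨ k % 3 = 2 := by omega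
  rcases this with h | h | h
  · left; rw [h, zpow_zero]
  · right; left; rw [h, zpow_one]
  · right; right
    rw [h]
    have : x ^ (2 : ℤ) * x = 1 := by
      rw [← zpow_add_one]; exact h3
    exact eq_inv_of_mul_eq_one_left this

theorem conj_of_orderOf_three {x g : Q} (hx : orderOf x = 3)
    (hg : g ∈ normalizer ((zpowers x : Subgroup Q) : Set Q)) :
    g * x * g⁻¹ = x ∨ g * x * g⁻¹ = x⁻¹ := by
  have h1 : g * x * g⁻¹ ∈ zpowers x :=
    (Subgroup.mem_normalizer_iff.mp hg x).mp (Subgroup.mem_zpowers x)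
  rcases mem_zpowers_of_orderOf_three hx h1 with h | h | h
  · exfalso
    have : x = 1 := by
      have := congrArg (fun z => g⁻¹ * z * g) h
      simpa [mul_assoc] using this
    rw [this, orderOf_one] at hx
    omega
  · exact Or.inl h
  · exact Or.inr h

end general2



/-- arithmetic profile of `PSL₂(13)` -/
structure H1092 (Q : Type*) [Group Q] [Finite Q] : Prop where
  card : Nat.card Q = 1092
  simple : IsSimpleGroup Q
  sub : ∀ H : Subgroup Q, Nat.card H = 1 ∨ Nat.card H = 2 ∨ Nat.card H = 3 ∨ Nat.card H = 4 ∨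
    Nat.card H = 6 ∨ Nat.card H = 7 ∨ Nat.card H = 12 ∨ Nat.card H = 13 ∨ Nat.card H = 14 ∨
    Nat.card H = 26 ∨ Nat.card H = 39 ∨ Nat.card H = 78 ∨ Nat.card H = 1092
  ord : ∀ x : Q, orderOf x ≤ 14
  ord4 : ∀ x : Q, orderOf x ≠ 4

variable {Q : Type*} [Group Q] [Finite Q]

theorem H1092.eq_top_of_card (h : H1092 Q) {H : Subgroup Q} (hc : Nat.card H = 1092) : H = ⊤ :=
  Subgroup.eq_top_of_card_eq H (hc.trans h.card.symm)

theorem H1092.normalizer_ne_top (h : H1092 Q) {H : Subgroup Q} (h1 : H ≠ ⊥) (h2 : H ≠ ⊤) :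
    normalizer (H : Set Q) ≠ ⊤ := by
  intro htop
  have hn : H.Normal := Subgroup.normalizer_eq_top_iff.mp htop
  have := h.simple
  rcases hn.eq_bot_or_eq_top with h3 | h3
  · exact h1 h3
  · exact h2 h3

/-- subgroups of order 12, 14, 78 are maximal -/
theorem H1092.isCoatom_of_card (h : H1092 Q) {H : Subgroup Q}
    (hc : Nat.card H = 12 ∨ Nat.card H = 14 ∨ Nat.card H = 78) : IsCoatom H := by
  constructor
  · intro htop
    rw [htop, Subgroup.card_top, h.card] at hc
    omega
  · intro M hM
    have hdvd : Nat.card H ∣ Nat.card M := Subgroup.card_dvd_of_le hM.le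
    have hne : Nat.card H ≠ Nat.card M := by
      intro he
      exact hM.ne (Subgroup.eq_of_le_of_card_ge hM.le he.ge)
    apply h.eq_top_of_card
    rcases h.sub M with c | c | c | c | c | c | c | c | c | c | c | c | c <;>
      rcases hc with d | d | d <;> rw [c, d] at hdvd hne <;> omega

/-- Sylow counting for a subgroup of prime power order and coprime index -/
theorem H1092.sylow_count (h : H1092 Q) (p : ℕ) [Fact p.Prime] {H : Subgroup Q} {k : ℕ}
    (hk : Nat.card H = p ^ k) (hidx : ¬ p ∣ H.index) :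
    ∃ n : ℕ, Nat.card (normalizer (H : Set Q)) * n = 1092 ∧ n % p = 1 % p := by
  have hP : IsPGroup p H := IsPGroup.of_card hk
  set P : Sylow p Q := hP.toSylow hidx with hPdef
  have hcoe : (P : Subgroup Q) = H := IsPGroup.toSylow_coe _ _
  refine ⟨(normalizer ((P : Subgroup Q) : Set Q)).index, ?_, ?_⟩
  · rw [← hcoe, Subgroup.card_mul_index, h.card]
  · have h1 := Sylow.card_eq_index_normalizer P
    have h2 : Nat.card (Sylow p Q) ≡ 1 [MOD p] := card_sylow_modEq_one p Q
    rw [h1] at h2
    exact h2

theorem H1092.index_eq (h : H1092 Q) (H : Subgroup Q) : Nat.card H * H.index = 1092 := by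
  rw [Subgroup.card_mul_index, h.card]

theorem H1092.card_normalizer_ne (h : H1092 Q) {H : Subgroup Q} (h1 : Nat.card H ≠ 1)
    (h2 : Nat.card H ≠ 1092) : Nat.card (normalizer (H : Set Q)) ≠ 1092 := by
  intro hc
  apply h.normalizer_ne_top (H := H) _ _ (h.eq_top_of_card hc)
  · rintro rfl
    exact h1 (by simp)
  · rintro rfl
    exact h2 (by rw [Subgroup.card_top, h.card])

theorem H1092.card_dvd_normalizer (H : Subgroup Q) :
    Nat.card H ∣ Nat.card (normalizer (H : Set Q)) :=
  Subgroup.card_dvd_of_le Subgroup.le_normalizer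

theorem H1092.card_normalizer_13 (h : H1092 Q) {H : Subgroup Q} (hc : Nat.card H = 13) :
    Nat.card (normalizer (H : Set Q)) = 78 := by
  have : Fact (Nat.Prime 13) := ⟨by norm_num⟩
  have hi := h.index_eq H
  rw [hc] at hi
  obtain ⟨n, hn, hmod⟩ := h.sylow_count 13 (H := H) (k := 1) (by rw [hc]; norm_num) (by omega)
  have hdvd := H1092.card_dvd_normalizer H
  have hne := h.card_normalizer_ne (H := H) (by omega) (by omega)
  rw [hc] at hdvd
  rcases h.sub (normalizer (H : Set Q)) with c | c | c | c | c | c | c | c | c | c | c | c | c <;>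
    rw [c] at hdvd hn <;> omega

theorem H1092.card_normalizer_7 (h : H1092 Q) {H : Subgroup Q} (hc : Nat.card H = 7) :
    Nat.card (normalizer (H : Set Q)) = 14 := by
  have : Fact (Nat.Prime 7) := ⟨by norm_num⟩
  have hi := h.index_eq H
  rw [hc] at hi
  obtain ⟨n, hn, hmod⟩ := h.sylow_count 7 (H := H) (k := 1) (by rw [hc]; norm_num) (by omega)
  have hdvd := H1092.card_dvd_normalizer H
  have hne := h.card_normalizer_ne (H := H) (by omega) (by omega)
  rw [hc] at hdvd
  rcases h.sub (normalizer (H : Set Q)) with c | c | c | c | c | c | c | c | c | c | c | c | c <;>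
    rw [c] at hdvd hn <;> omega

theorem H1092.card_normalizer_3 (h : H1092 Q) {H : Subgroup Q} (hc : Nat.card H = 3) :
    Nat.card (normalizer (H : Set Q)) = 3 ∨ Nat.card (normalizer (H : Set Q)) = 12 ∨
      Nat.card (normalizer (H : Set Q)) = 39 := by
  have : Fact (Nat.Prime 3) := ⟨by norm_num⟩
  have hi := h.index_eq H
  rw [hc] at hi
  obtain ⟨n, hn, hmod⟩ := h.sylow_count 3 (H := H) (k := 1) (by rw [hc]; norm_num) (by omega)
  have hdvd := H1092.card_dvd_normalizer H
  have hne := h.card_normalizer_ne (H := H) (by omega) (by omega)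
  rw [hc] at hdvd
  rcases h.sub (normalizer (H : Set Q)) with c | c | c | c | c | c | c | c | c | c | c | c | c <;>
    rw [c] at hdvd hn <;> omega

theorem H1092.card_normalizer_4 (h : H1092 Q) {H : Subgroup Q} (hc : Nat.card H = 4) :
    Nat.card (normalizer (H : Set Q)) = 4 ∨ Nat.card (normalizer (H : Set Q)) = 12 := by
  have hdvd := H1092.card_dvd_normalizer H
  have hne := h.card_normalizer_ne (H := H) (by omega) (by omega)
  rw [hc] at hdvd
  rcases h.sub (normalizer (H : Set Q)) with c | c | c | c | c | c | c | c | c | c | c | c | c <;>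
    rw [c] at hdvd <;> omega

/-- Burnside transfer: an abelian self-normalizing Sylow subgroup is impossible -/
theorem H1092.burnside_contra (h : H1092 Q) (p : ℕ) [Fact p.Prime] {H : Subgroup Q} {k : ℕ}
    (hk : Nat.card H = p ^ k) (hidx : ¬ p ∣ H.index)
    (hab : ∀ a ∈ H, ∀ b ∈ H, a * b = b * a)
    (hN : Nat.card (normalizer (H : Set Q)) = Nat.card H)
    (h1 : Nat.card H ≠ 1) (h2 : Nat.card H ≠ 1092) : False := by
  have hP : IsPGroup p H := IsPGroup.of_card hk
  set P : Sylow p Q := hP.toSylow hidx with hPdef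
  have hcoe : (P : Subgroup Q) = H := IsPGroup.toSylow_coe _ _
  have hNH : normalizer (H : Set Q) = H :=
    (Subgroup.eq_of_le_of_card_ge Subgroup.le_normalizer hN.le).symm
  have hPN : normalizer ((P : Subgroup Q) : Set Q) ≤ centralizer ((P : Subgroup Q) : Set Q) := by
    rw [hcoe, hNH]
    intro g hg
    rw [Subgroup.mem_centralizer_iff]
    intro b hb
    exact hab b hb g hg
  have hc := MonoidHom.ker_transferSylow_isComplement' P hPN
  have hcard := hc.card_mul_card
  have hcP : Nat.card (P : Subgroup Q) = Nat.card H := by rw [hcoe]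
  rw [hcP, h.card] at hcard
  have := h.simple
  rcases (MonoidHom.normal_ker (MonoidHom.transferSylow P hPN)).eq_bot_or_eq_top with h3 | h3
  · rw [h3, Subgroup.card_bot] at hcard
    omega
  · rw [h3, Subgroup.card_top, h.card] at hcard
    have : Nat.card H = 1 := by
      have h5 : 1092 * Nat.card H = 1092 * 1 := by omega
      exact Nat.eq_of_mul_eq_mul_left (by norm_num) h5
    exact h1 this

end Cfsg.Agent.Lib.Helper14
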