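import Mathlib
import Cfsg.Agent.Lib.Helper14.Order1092A

set_option autoImplicit false

namespace Cfsg.Agent.Lib.Helper14

open Subgroup

variable {Q : Type*} [Group Q] [Finite Q]

/-- Cauchy inside a subgroup -/
theorem exists_mem_orderOf_eq (H : Subgroup Q) (p : ℕ) [Fact p.Prime] (hd : p ∣ Nat.card H) :
    ∃ x ∈ H, orderOf x = p := by
  obtain ⟨x, hx⟩ := exists_prime_orderOf_dvd_card' (G := H) p hd
  exact ⟨x, x.2, by rw [← hx, Subgroup.orderOf_coe]⟩

theorem H1092.commute_bound (h : H1092 Q) {x y : Q} (hc : Commute x y)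
    (hco : (orderOf x).Coprime (orderOf y)) : orderOf x * orderOf y ≤ 14 := by
  rw [← hc.orderOf_mul_eq_mul_orderOf_of_coprime hco]
  exact h.ord _

/-- the centralizer of an element of order 13 is the group it generates -/
theorem H1092.centralizer_13 (h : H1092 Q) {x : Q} (hx : orderOf x = 13) {g : Q}
    (hg : g * x = x * g) : g ∈ zpowers x := by
  have hle : zpowers x ≤ centralizer ({x} : Set Q) := by
    rw [Subgroup.zpowers_le]
    rw [Subgroup.mem_centralizer_iff]
    intro y hy
    rw [Set.mem_singleton_iff.mp hy]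
  have hcz : Nat.card (zpowers x) = 13 := by rw [Nat.card_zpowers, hx]
  have hgC : g ∈ centralizer ({x} : Set Q) := by
    rw [Subgroup.mem_centralizer_iff]
    intro y hy
    rw [Set.mem_singleton_iff.mp hy]; exact hg.symm
  have hdvd : 13 ∣ Nat.card (centralizer ({x} : Set Q)) := hcz ▸ Subgroup.card_dvd_of_le hle
  have key : ∀ r : ℕ, r.Prime → r ≠ 13 → r ∣ Nat.card (centralizer ({x} : Set Q)) → r = 1 := by
    intro r hr hr13 hd
    have : Fact r.Prime := ⟨hr⟩
    obtain ⟨y, hyC, hy⟩ := exists_mem_orderOf_eq (centralizer ({x} : Set Q)) r hd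
    have hyx : Commute x y := by
      rw [Subgroup.mem_centralizer_iff] at hyC
      exact hyC x rfl
    have hb := h.commute_bound hyx (by
      rw [hx, hy]
      exact (Nat.coprime_primes (by norm_num) hr).mpr (Ne.symm hr13))
    rw [hx, hy] at hb
    have := hr.two_le
    omega
  have hC13 : Nat.card (centralizer ({x} : Set Q)) = 13 := by
    have k2 : 2 ∣ Nat.card (centralizer ({x} : Set Q)) → False := fun hd => by
      have := key 2 Nat.prime_two (by norm_num) hd; omega
    have k3 : 3 ∣ Nat.card (centralizer ({x} : Set Q)) → False := fun hd => by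
      have := key 3 Nat.prime_three (by norm_num) hd; omega
    rcases h.sub (centralizer ({x} : Set Q)) with c | c | c | c | c | c | c | c | c | c | c | c | c <;>
      rw [c] at hdvd k2 k3 <;> first | omega | exact c | exact (k2 ⟨13, rfl⟩).elim | exact (k2 ⟨39, rfl⟩).elim | exact (k2 ⟨546, rfl⟩).elim | exact (k3 ⟨13, rfl⟩).elim
  have : zpowers x = centralizer ({x} : Set Q) :=
    Subgroup.eq_of_le_of_card_ge hle (by rw [hC13, hcz])
  rw [this]; exact hgC

/-- commutators of elements normalizing `⟨x⟩` centralize `x` -/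
theorem comm_mem_centralizer_of_normalizer {x b c : Q}
    (hb : b ∈ normalizer ((zpowers x : Subgroup Q) : Set Q))
    (hc : c ∈ normalizer ((zpowers x : Subgroup Q) : Set Q)) :
    (b * c * b⁻¹ * c⁻¹) * x = x * (b * c * b⁻¹ * c⁻¹) := by
  have hb' : b⁻¹ ∈ normalizer ((zpowers x : Subgroup Q) : Set Q) := Subgroup.inv_mem _ hb
  have hc' : c⁻¹ ∈ normalizer ((zpowers x : Subgroup Q) : Set Q) := Subgroup.inv_mem _ hc
  obtain ⟨m, hm⟩ := Subgroup.mem_zpowers_iff.mp
    ((Subgroup.mem_normalizer_iff.mp hb' x).mp (Subgroup.mem_zpowers x))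
  obtain ⟨n, hn⟩ := Subgroup.mem_zpowers_iff.mp
    ((Subgroup.mem_normalizer_iff.mp hc' x).mp (Subgroup.mem_zpowers x))
  simp only [inv_inv] at hm hn
  -- b⁻¹ x b = x^m, c⁻¹ x c = x^n
  have h1 : ∀ k : ℤ, b⁻¹ * x ^ k * b = (x ^ m) ^ k := by
    intro k
    rw [hm]
    have := conj_zpow (a := b⁻¹) (b := x) (i := k)
    simpa using this.symm
  have h2 : ∀ k : ℤ, c⁻¹ * x ^ k * c = (x ^ n) ^ k := by
    intro k
    rw [hn]
    have := conj_zpow (a := c⁻¹) (b := x) (i := k)
    simpa using this.symm
  have h3 : c⁻¹ * (b⁻¹ * x * b) * c = b⁻¹ * (c⁻¹ * x * c) * b := by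
    rw [← hm, ← hn, h1, h2, ← zpow_mul, ← zpow_mul, mul_comm]
  have h4 : (b * c) * (c⁻¹ * (b⁻¹ * x * b) * c) * (b * c)⁻¹ = x := by group
  rw [h3] at h4
  have h5 : (b * c * b⁻¹ * c⁻¹) * x * (b * c * b⁻¹ * c⁻¹)⁻¹ = x := by
    have : (b * c * b⁻¹ * c⁻¹) * x * (b * c * b⁻¹ * c⁻¹)⁻¹ =
        (b * c) * (b⁻¹ * (c⁻¹ * x * c) * b) * (b * c)⁻¹ := by group
    exact this.trans h4
  exact mul_inv_eq_iff_eq_mul.mp h5

theorem H1092.card_normalizer_of_13 (h : H1092 Q) {H : Subgroup Q}
    (hc : Nat.card H = 26 ∨ Nat.card H = 39) : Nat.card (normalizer (H : Set Q)) = 78 := by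
  have : Fact (Nat.Prime 13) := ⟨by norm_num⟩
  obtain ⟨x, hxH, hx⟩ := exists_mem_orderOf_eq H 13 (by rcases hc with c | c <;> rw [c] <;> norm_num)
  have hPH : zpowers x ≤ H := by rw [Subgroup.zpowers_le]; exact hxH
  have cP : Nat.card (zpowers x) = 13 := by rw [Nat.card_zpowers, hx]
  have huniq : ∀ R' : Subgroup Q, R' ≤ H → Nat.card R' = Nat.card (zpowers x) → R' = zpowers x := by
    intro R' hR' cR'
    exact eq_of_prime_card_of_lt (r := 13) (by norm_num) (by rcases hc with c | c <;> rw [c] <;> norm_num)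
      hPH hR' cP (cR'.trans cP)
  have hNle : normalizer (H : Set Q) ≤ normalizer ((zpowers x : Subgroup Q) : Set Q) :=
    normalizer_le_of_unique hPH huniq
  have cB := h.card_normalizer_13 cP
  have hHB : H ≤ normalizer ((zpowers x : Subgroup Q) : Set Q) := Subgroup.le_normalizer.trans hNle
  have hfwd : ∀ b ∈ normalizer ((zpowers x : Subgroup Q) : Set Q), ∀ y ∈ H, b * y * b⁻¹ ∈ H := by
    intro b hb y hy
    have h1 := comm_mem_centralizer_of_normalizer hb (hHB hy)
    have h2 := hPH (h.centralizer_13 hx h1)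
    have h3 : b * y * b⁻¹ = (b * y * b⁻¹ * y⁻¹) * y := by group
    rw [h3]
    exact H.mul_mem h2 hy
  have hBle : normalizer ((zpowers x : Subgroup Q) : Set Q) ≤ normalizer (H : Set Q) := by
    intro b hb
    rw [Subgroup.mem_normalizer_iff]
    intro y
    constructor
    · exact hfwd b hb y
    · intro hy
      have := hfwd b⁻¹ (Subgroup.inv_mem _ hb) _ hy
      have h4 : b⁻¹ * (b * y * b⁻¹) * b⁻¹⁻¹ = y := by group
      rwa [h4] at this
  rw [le_antisymm hNle hBle, cB]

/-- every subgroup of order divisible by 13 (other than the whole group) has normalizer of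
order 78 -/
theorem H1092.card_normalizer_13' (h : H1092 Q) {H : Subgroup Q}
    (hc : Nat.card H = 13 ∨ Nat.card H = 26 ∨ Nat.card H = 39 ∨ Nat.card H = 78) :
    Nat.card (normalizer (H : Set Q)) = 78 := by
  rcases hc with c | c | c | c
  · exact h.card_normalizer_13 c
  · exact h.card_normalizer_of_13 (Or.inl c)
  · exact h.card_normalizer_of_13 (Or.inr c)
  · have hdvd := H1092.card_dvd_normalizer H
    have hne := h.card_normalizer_ne (H := H) (by omega) (by omega)
    rw [c] at hdvd
    rcases h.sub (normalizer (H : Set Q)) with d | d | d | d | d | d | d | d | d | d | d | d | d <;>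
      rw [d] at hdvd <;> omega

theorem H1092.card_normalizer_7' (h : H1092 Q) {H : Subgroup Q}
    (hc : Nat.card H = 7 ∨ Nat.card H = 14) :
    Nat.card (normalizer (H : Set Q)) = 14 := by
  rcases hc with c | c
  · exact h.card_normalizer_7 c
  · have hdvd := H1092.card_dvd_normalizer H
    have hne := h.card_normalizer_ne (H := H) (by omega) (by omega)
    rw [c] at hdvd
    rcases h.sub (normalizer (H : Set Q)) with d | d | d | d | d | d | d | d | d | d | d | d | d <;>
      rw [d] at hdvd <;> omega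

theorem H1092.card_normalizer_12 (h : H1092 Q) {H : Subgroup Q}
    (c : Nat.card H = 12) :
    Nat.card (normalizer (H : Set Q)) = 12 := by
  have hdvd := H1092.card_dvd_normalizer H
  have hne := h.card_normalizer_ne (H := H) (by omega) (by omega)
  rw [c] at hdvd
  rcases h.sub (normalizer (H : Set Q)) with d | d | d | d | d | d | d | d | d | d | d | d | d <;>
    rw [d] at hdvd <;> omega

omit [Finite Q] in
theorem comm_of_mem_zpowers {x a b : Q} (ha : a ∈ zpowers x) (hb : b ∈ zpowers x) :
    a * b = b * a := by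
  obtain ⟨i, rfl⟩ := Subgroup.mem_zpowers_iff.mp ha
  obtain ⟨j, rfl⟩ := Subgroup.mem_zpowers_iff.mp hb
  rw [← zpow_add, ← zpow_add, add_comm]

theorem H1092.card_normalizer_three (h : H1092 Q) {H : Subgroup Q} (hc : Nat.card H = 3) :
    Nat.card (normalizer (H : Set Q)) = 12 := by
  have : Fact (Nat.Prime 3) := ⟨by norm_num⟩
  obtain ⟨x, hxH, hx⟩ := exists_mem_orderOf_eq H 3 (by rw [hc])
  have hPH : zpowers x ≤ H := by rw [Subgroup.zpowers_le]; exact hxH
  have cP : Nat.card (zpowers x) = 3 := by rw [Nat.card_zpowers, hx]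
  have hHP : zpowers x = H := Subgroup.eq_of_le_of_card_ge hPH (by rw [cP, hc])
  have hi := h.index_eq H
  rw [hc] at hi
  rcases h.card_normalizer_3 hc with c | c | c
  · exfalso
    refine h.burnside_contra 3 (H := H) (k := 1) (by rw [hc]; norm_num) (by omega) ?_
      (by rw [c, hc]) (by omega) (by omega)
    intro a ha b hb
    rw [← hHP] at ha hb
    exact comm_of_mem_zpowers ha hb
  · exact c
  · exfalso
    have : Fact (Nat.Prime 13) := ⟨by norm_num⟩
    obtain ⟨y, hyN, hy⟩ := exists_mem_orderOf_eq (normalizer (H : Set Q)) 13 (by rw [c]; norm_num)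
    rw [← hHP] at hyN
    have hcomm : Commute x y := by
      rcases conj_of_orderOf_three hx hyN with h1 | h1
      · exact (mul_inv_eq_iff_eq_mul.mp h1).symm
      · have h2 : (y * y) * x * (y * y)⁻¹ = x := by
          have : (y * y) * x * (y * y)⁻¹ = y * (y * x * y⁻¹) * y⁻¹ := by group
          rw [this, h1]
          have : y * x⁻¹ * y⁻¹ = (y * x * y⁻¹)⁻¹ := by group
          rw [this, h1, inv_inv]
        have h3 : Commute x (y * y) := (mul_inv_eq_iff_eq_mul.mp h2).symm
        have h4 : (y * y) ^ 7 = y := by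
          have h13 : y ^ 13 = 1 := by rw [← hy]; exact pow_orderOf_eq_one y
          calc (y * y) ^ 7 = y ^ 13 * y := by rw [← pow_two, ← pow_mul, ← pow_succ]
            _ = y := by rw [h13, one_mul]
        rw [← h4]
        exact h3.pow_right 7
    have := h.commute_bound hcomm (by rw [hx, hy]; norm_num)
    rw [hx, hy] at this
    omega

theorem H1092.card_normalizer_six (h : H1092 Q) {H : Subgroup Q} (hc : Nat.card H = 6) :
    Nat.card (normalizer (H : Set Q)) = 12 := by
  have : Fact (Nat.Prime 3) := ⟨by norm_num⟩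
  obtain ⟨x, hxH, hx⟩ := exists_mem_orderOf_eq H 3 (by rw [hc]; norm_num)
  have hPH : zpowers x ≤ H := by rw [Subgroup.zpowers_le]; exact hxH
  have cP : Nat.card (zpowers x) = 3 := by rw [Nat.card_zpowers, hx]
  have huniq : ∀ R' : Subgroup Q, R' ≤ H → Nat.card R' = Nat.card (zpowers x) → R' = zpowers x := by
    intro R' hR' cR'
    exact eq_of_prime_card_of_lt (r := 3) (by norm_num) (by rw [hc]; norm_num)
      hPH hR' cP (cR'.trans cP)
  have hNle : normalizer (H : Set Q) ≤ normalizer ((zpowers x : Subgroup Q) : Set Q) :=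
    normalizer_le_of_unique hPH huniq
  have cB := h.card_normalizer_three cP
  have hHB : H ≤ normalizer ((zpowers x : Subgroup Q) : Set Q) := Subgroup.le_normalizer.trans hNle
  have hBle : normalizer ((zpowers x : Subgroup Q) : Set Q) ≤ normalizer (H : Set Q) :=
    le_normalizer_of_card_eq_two_mul hHB (by rw [cB, hc])
  rw [le_antisymm hNle hBle, cB]

theorem H1092.card_normalizer_four (h : H1092 Q) {H : Subgroup Q} (hc : Nat.card H = 4) :
    Nat.card (normalizer (H : Set Q)) = 12 := by
  have : Fact (Nat.Prime 2) := ⟨by norm_num⟩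
  have hi := h.index_eq H
  rw [hc] at hi
  rcases h.card_normalizer_4 hc with c | c
  · exfalso
    refine h.burnside_contra 2 (H := H) (k := 2) (by rw [hc]; norm_num) (by omega) ?_
      (by rw [c, hc]) (by omega) (by omega)
    intro a ha b hb
    have h1 : Nat.card H = 2 ^ 2 := by rw [hc]; norm_num
    have h2 := (IsPGroup.isMulCommutative_of_card_eq_prime_sq h1).is_comm.comm
      (⟨a, ha⟩ : H) ⟨b, hb⟩
    exact congrArg Subtype.val h2
  · exact c

end Cfsg.Agent.Lib.Helper14
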