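import Mathlib
import Cfsg.Agent.Lib.Helper14.Order1092B

set_option autoImplicit false

namespace Cfsg.Agent.Lib.Helper14

open Subgroup

variable {Q : Type*} [Group Q] [Finite Q]

theorem H1092.card_sylow_two (h : H1092 Q) (P : Sylow 2 Q) : Nat.card (P : Subgroup Q) = 4 := by
  have : Fact (Nat.Prime 2) := ⟨Nat.prime_two⟩
  obtain ⟨n, hn⟩ := IsPGroup.iff_card.mp P.2
  have hidx : ¬ 2 ∣ (P : Subgroup Q).index := P.not_dvd_index
  have hi := h.index_eq (P : Subgroup Q)
  rw [hn] at hi ⊢
  rcases n with _ | _ | _ | n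
  · exfalso; simp only [pow_zero, one_mul] at hi; omega
  · exfalso; simp only [zero_add, pow_one] at hi; omega
  · norm_num
  · exfalso
    have : (8 : ℕ) ∣ 1092 := ⟨2 ^ n * (P : Subgroup Q).index, by rw [← hi]; ring⟩
    omega

theorem H1092.exists_sylow_two (h : H1092 Q) {t : Q} (ht : orderOf t = 2) :
    ∃ P : Sylow 2 Q, t ∈ (P : Subgroup Q) := by
  have : Fact (Nat.Prime 2) := ⟨Nat.prime_two⟩
  have h1 : IsPGroup 2 (zpowers t) :=
    IsPGroup.of_card (n := 1) (by rw [Nat.card_zpowers, ht, pow_one])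
  obtain ⟨P, hP⟩ := h1.exists_le_sylow
  exact ⟨P, hP (Subgroup.mem_zpowers t)⟩

theorem H1092.sylow_two_comm (h : H1092 Q) (P : Sylow 2 Q) {a b : Q} (ha : a ∈ (P : Subgroup Q))
    (hb : b ∈ (P : Subgroup Q)) : a * b = b * a := by
  have : Fact (Nat.Prime 2) := ⟨Nat.prime_two⟩
  have h1 : Nat.card (P : Subgroup Q) = 2 ^ 2 := by rw [h.card_sylow_two P]; norm_num
  have h2 := (IsPGroup.isMulCommutative_of_card_eq_prime_sq h1).is_comm.comm
    (⟨a, ha⟩ : (P : Subgroup Q)) ⟨b, hb⟩
  exact congrArg Subtype.val h2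

/-- the centralizer of an involution has order 4 or 12 -/
theorem H1092.card_centralizer_involution (h : H1092 Q) {t : Q} (ht : orderOf t = 2) :
    Nat.card (centralizer ({t} : Set Q)) = 4 ∨ Nat.card (centralizer ({t} : Set Q)) = 12 := by
  obtain ⟨P, hP⟩ := h.exists_sylow_two ht
  have hle : (P : Subgroup Q) ≤ centralizer ({t} : Set Q) := by
    intro a ha
    rw [Subgroup.mem_centralizer_iff]
    intro y hy
    rw [Set.mem_singleton_iff.mp hy]
    exact h.sylow_two_comm P hP ha
  have hdvd : 4 ∣ Nat.card (centralizer ({t} : Set Q)) :=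
    h.card_sylow_two P ▸ Subgroup.card_dvd_of_le hle
  have hne : Nat.card (centralizer ({t} : Set Q)) ≠ 1092 := by
    intro hc
    have h1 : centralizer ({t} : Set Q) ≤ normalizer ((zpowers t : Subgroup Q) : Set Q) := by
      have := Subgroup.centralizer_le_normalizer ((zpowers t : Subgroup Q) : Set Q)
      have hc' : centralizer ((zpowers t : Subgroup Q) : Set Q) = centralizer ({t} : Set Q) := by
        rw [Subgroup.zpowers_eq_closure, Subgroup.centralizer_closure]
      rwa [hc'] at this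
    have h2 := h.card_normalizer_ne (H := zpowers t) (by rw [Nat.card_zpowers, ht]; norm_num)
      (by rw [Nat.card_zpowers, ht]; norm_num)
    rw [h.eq_top_of_card hc, top_le_iff] at h1
    rw [h1, Subgroup.card_top, h.card] at h2
    exact h2 rfl
  rcases h.sub (centralizer ({t} : Set Q)) with d | d | d | d | d | d | d | d | d | d | d | d | d <;>
    rw [d] at hdvd hne <;> omega

/-- a set of at most two elements containing a subgroup of order four: impossible -/
theorem exists_third {V : Subgroup Q} (hV : Nat.card V = 4) (a b : Q) :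
    ∃ v ∈ V, v ≠ a ∧ v ≠ b := by
  by_contra hcon
  push Not at hcon
  have hsub : (V : Set Q) ⊆ {a, b} := by
    intro v hv
    by_cases h1 : v = a
    · exact Or.inl h1
    · exact Or.inr (hcon v hv h1)
  have h1 : (V : Set Q).ncard ≤ ({a, b} : Set Q).ncard :=
    Set.ncard_le_ncard hsub (Set.toFinite _)
  have h2 : ({a, b} : Set Q).ncard ≤ 2 := by
    have := Set.ncard_insert_le a ({b} : Set Q)
    rw [Set.ncard_singleton] at this
    exact this
  have h3 : Nat.card V = (V : Set Q).ncard := Nat.card_coe_set_eq (V : Set Q)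
  omega

/-- an involution commuting with an element of order three exists -/
theorem H1092.exists_commuting (h : H1092 Q) :
    ∃ z x : Q, orderOf z = 2 ∧ orderOf x = 3 ∧ z * x = x * z := by
  have : Fact (Nat.Prime 3) := ⟨by norm_num⟩
  have : Fact (Nat.Prime 2) := ⟨by norm_num⟩
  obtain ⟨x, hx⟩ := exists_prime_orderOf_dvd_card' (G := Q) 3 (by rw [h.card]; norm_num)
  have cP : Nat.card (zpowers x) = 3 := by rw [Nat.card_zpowers, hx]
  have cN := h.card_normalizer_three cP
  obtain ⟨K, hK⟩ := Sylow.exists_subgroup_card_pow_prime (G := normalizer ((zpowers x : Subgroup Q) : Set Q))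
    2 (n := 2) (by rw [cN]; norm_num)
  set V : Subgroup Q := K.map (normalizer ((zpowers x : Subgroup Q) : Set Q)).subtype with hVdef
  have cV : Nat.card V = 4 := by
    rw [hVdef, Subgroup.card_map_of_injective (Subgroup.subtype_injective _), hK]; norm_num
  have hVN : V ≤ normalizer ((zpowers x : Subgroup Q) : Set Q) := Subgroup.map_subtype_le K
  have hsq : ∀ v ∈ V, v ≠ 1 → orderOf v = 2 := by
    intro v hv hv1
    have h4 : v ^ 4 = 1 := by
      have := pow_card_eq_one' (G := V) (x := ⟨v, hv⟩)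
      rw [cV] at this
      exact congrArg Subtype.val this
    have hd : orderOf v ∣ 4 := orderOf_dvd_of_pow_eq_one h4
    have hle : orderOf v ≤ 4 := Nat.le_of_dvd (by norm_num) hd
    have h0 : orderOf v ≠ 0 := (orderOf_pos v).ne'
    have h1 : orderOf v ≠ 1 := fun e => hv1 (orderOf_eq_one_iff.mp e)
    have h4' := h.ord4 v
    interval_cases hh : orderOf v <;> simp_all
  have hconj : ∀ v ∈ V, v * x * v⁻¹ = x ∨ v * x * v⁻¹ = x⁻¹ :=
    fun v hv => conj_of_orderOf_three hx (hVN hv)
  obtain ⟨v1, hv1V, hv1, -⟩ := exists_third cV 1 1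
  rcases hconj v1 hv1V with c1 | c1
  · exact ⟨v1, x, hsq v1 hv1V hv1, hx, mul_inv_eq_iff_eq_mul.mp c1⟩
  obtain ⟨v2, hv2V, hv2, hv21⟩ := exists_third cV 1 v1
  rcases hconj v2 hv2V with c2 | c2
  · exact ⟨v2, x, hsq v2 hv2V hv2, hx, mul_inv_eq_iff_eq_mul.mp c2⟩
  refine ⟨v1 * v2, x, hsq _ (V.mul_mem hv1V hv2V) ?_, hx, ?_⟩
  · intro he
    have h1 : v1 * v1 = 1 := by
      have := hsq v1 hv1V hv1
      rw [← pow_two, ← this]; exact pow_orderOf_eq_one v1
    have : v2 = v1 := by
      have h2 : v1 * v2 = v1 * v1 := by rw [he, h1]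
      exact mul_left_cancel h2
    exact hv21 this
  · have : (v1 * v2) * x * (v1 * v2)⁻¹ = x := by
      have e1 : (v1 * v2) * x * (v1 * v2)⁻¹ = v1 * (v2 * x * v2⁻¹) * v1⁻¹ := by group
      rw [e1, c2]
      have e2 : v1 * x⁻¹ * v1⁻¹ = (v1 * x * v1⁻¹)⁻¹ := by group
      rw [e2, c1, inv_inv]
    exact mul_inv_eq_iff_eq_mul.mp this

/-- four distinct elements exhaust a subgroup of order four -/
theorem mem_four {V : Subgroup Q} (hV : Nat.card V = 4) {a b c d : Q} (ha : a ∈ V) (hb : b ∈ V)
    (hc : c ∈ V) (hd : d ∈ V) (hab : a ≠ b) (hac : a ≠ c) (had : a ≠ d) (hbc : b ≠ c) (hbd : b ≠ d)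
    (hcd : c ≠ d) {v : Q} (hv : v ∈ V) : v = a ∨ v = b ∨ v = c ∨ v = d := by
  by_contra hcon
  push Not at hcon
  obtain ⟨h1, h2, h3, h4⟩ := hcon
  have hsub : ({v, a, b, c, d} : Set Q) ⊆ (V : Set Q) := by
    intro y hy
    simp only [Set.mem_insert_iff, Set.mem_singleton_iff] at hy
    rcases hy with rfl | rfl | rfl | rfl | rfl <;> assumption
  have hle : ({v, a, b, c, d} : Set Q).ncard ≤ (V : Set Q).ncard :=
    Set.ncard_le_ncard hsub (Set.toFinite _)
  have h5 : ({v, a, b, c, d} : Set Q).ncard = 5 := by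
    rw [Set.ncard_insert_of_notMem (by simp [h1, h2, h3, h4]) (Set.toFinite _),
      Set.ncard_insert_of_notMem (by simp [hab, hac, had]) (Set.toFinite _),
      Set.ncard_insert_of_notMem (by simp [hbc, hbd]) (Set.toFinite _),
      Set.ncard_pair hcd]
  have h6 : Nat.card V = (V : Set Q).ncard := Nat.card_coe_set_eq (V : Set Q)
  omega

omit [Finite Q] in
theorem centralizer_conj_le {t n : Q} :
    (centralizer ({n * t * n⁻¹} : Set Q)).map (MulAut.conj n⁻¹).toMonoidHom ≤
      centralizer ({t} : Set Q) := by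
  rintro _ ⟨g, hg, rfl⟩
  replace hg : g ∈ centralizer ({n * t * n⁻¹} : Set Q) := hg
  rw [Subgroup.mem_centralizer_iff] at hg ⊢
  intro y hy
  rw [Set.mem_singleton_iff.mp hy]
  have h1 := hg (n * t * n⁻¹) rfl
  simp only [MulEquiv.coe_toMonoidHom, MulAut.conj_apply, inv_inv]
  have h2 : t * (n⁻¹ * g * n) = n⁻¹ * ((n * t * n⁻¹) * g) * n := by group
  rw [h2, h1]; group

theorem H1092.card_centralizer_involution_eq (h : H1092 Q) {t : Q} (ht : orderOf t = 2) :
    Nat.card (centralizer ({t} : Set Q)) = 12 := by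
  rcases h.card_centralizer_involution ht with c | c
  swap
  · exact c
  exfalso
  have : Fact (Nat.Prime 3) := ⟨by norm_num⟩
  have : Fact (Nat.Prime 2) := ⟨by norm_num⟩
  obtain ⟨P, hP⟩ := h.exists_sylow_two ht
  have cP := h.card_sylow_two P
  have hle : (P : Subgroup Q) ≤ centralizer ({t} : Set Q) := by
    intro a ha
    rw [Subgroup.mem_centralizer_iff]
    intro y hy
    rw [Set.mem_singleton_iff.mp hy]
    exact h.sylow_two_comm P hP ha
  have hPC : (P : Subgroup Q) = centralizer ({t} : Set Q) :=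
    Subgroup.eq_of_le_of_card_ge hle (by rw [c, cP])
  have hmemC : ∀ g : Q, g * t = t * g → g ∈ (P : Subgroup Q) := by
    intro g hg
    rw [hPC, Subgroup.mem_centralizer_iff]
    intro y hy
    rw [Set.mem_singleton_iff.mp hy]; exact hg.symm
  have cN2 := h.card_normalizer_four cP
  obtain ⟨g, hgN, hg⟩ := exists_mem_orderOf_eq
    (normalizer (((P : Subgroup Q)) : Set Q)) 3 (by rw [cN2]; norm_num)
  have hg3 : g ^ 3 = 1 := by rw [← hg]; exact pow_orderOf_eq_one g
  have hgP : g ∉ (P : Subgroup Q) := by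
    intro hgP
    have := Subgroup.orderOf_dvd_natCard (P : Subgroup Q) hgP
    rw [hg, cP] at this
    omega
  have hggP : g * g ∉ (P : Subgroup Q) := by
    intro hggP
    apply hgP
    have e : g = (g * g) * (g * g) := by
      calc g = g ^ 3 * g := by rw [hg3, one_mul]
        _ = (g * g) * (g * g) := by simp only [pow_succ, pow_zero, one_mul, mul_assoc]
    rw [e]; exact (P : Subgroup Q).mul_mem hggP hggP
  have ht1 : t ≠ 1 := by
    rintro rfl
    rw [orderOf_one] at ht; omega
  have h1P : g * t * g⁻¹ ∈ (P : Subgroup Q) := (Subgroup.mem_normalizer_iff.mp hgN t).mp hP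
  have h2P : g * (g * t * g⁻¹) * g⁻¹ ∈ (P : Subgroup Q) :=
    (Subgroup.mem_normalizer_iff.mp hgN _).mp h1P
  have d1 : g * t * g⁻¹ ≠ t := by
    intro e
    exact hgP (hmemC g (mul_inv_eq_iff_eq_mul.mp e))
  have d2 : g * (g * t * g⁻¹) * g⁻¹ ≠ t := by
    intro e
    apply hggP
    apply hmemC
    have e' : (g * g) * t * (g * g)⁻¹ = g * (g * t * g⁻¹) * g⁻¹ := by group
    exact mul_inv_eq_iff_eq_mul.mp (e'.trans e)
  have d3 : g * (g * t * g⁻¹) * g⁻¹ ≠ g * t * g⁻¹ := by
    intro e
    apply d1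
    have := congrArg (fun y => g⁻¹ * y * g) e
    simpa [mul_assoc] using this
  have n1 : g * t * g⁻¹ ≠ 1 := by
    intro e
    apply ht1
    have := congrArg (fun y => g⁻¹ * y * g) e
    simpa [mul_assoc] using this
  have n2 : g * (g * t * g⁻¹) * g⁻¹ ≠ 1 := by
    intro e
    apply n1
    have := congrArg (fun y => g⁻¹ * y * g) e
    simpa [mul_assoc] using this
  have hall : ∀ s ∈ (P : Subgroup Q), s ≠ 1 → ∃ m : Q, s = m * t * m⁻¹ := by
    intro s hs hs1
    rcases mem_four cP (P : Subgroup Q).one_mem hP h1P h2P ht1.symm n1.symm n2.symm d1.symm d2.symm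
      d3.symm hs with e | e | e | e
    · exact (hs1 e).elim
    · exact ⟨1, by rw [e]; group⟩
    · exact ⟨g, e⟩
    · exact ⟨g * g, by rw [e]; group⟩
  obtain ⟨z, x, hz, hx, hzx⟩ := h.exists_commuting
  have cz : Nat.card (centralizer ({z} : Set Q)) = 12 := by
    rcases h.card_centralizer_involution hz with c' | c'
    · exfalso
      have hxC : x ∈ centralizer ({z} : Set Q) := by
        rw [Subgroup.mem_centralizer_iff]
        intro y hy
        rw [Set.mem_singleton_iff.mp hy]; exact hzx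
      have := Subgroup.orderOf_dvd_natCard _ hxC
      rw [hx, c'] at this
      omega
    · exact c'
  obtain ⟨P', hP'⟩ := h.exists_sylow_two hz
  obtain ⟨k, hk⟩ := MulAction.exists_smul_eq Q P' P
  have hkz : k * z * k⁻¹ ∈ (P : Subgroup Q) := by
    rw [← hk, Sylow.coe_subgroup_smul]
    have := Subgroup.smul_mem_pointwise_smul z (MulAut.conj k) (P' : Subgroup Q) hP'
    simpa [MulAut.smul_def] using this
  have hkz1 : k * z * k⁻¹ ≠ 1 := by
    intro e
    have : z = 1 := by
      have := congrArg (fun y => k⁻¹ * y * k) e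
      simpa [mul_assoc] using this
    rw [this, orderOf_one] at hz; omega
  obtain ⟨m, hm⟩ := hall _ hkz hkz1
  have hzm : z = (k⁻¹ * m) * t * (k⁻¹ * m)⁻¹ := by
    have : k⁻¹ * (k * z * k⁻¹) * k = k⁻¹ * (m * t * m⁻¹) * k := by rw [hm]
    rw [show k⁻¹ * (k * z * k⁻¹) * k = z by group] at this
    rw [this]; group
  have hcard := Subgroup.card_le_of_le (centralizer_conj_le (t := t) (n := k⁻¹ * m))
  rw [Subgroup.card_map_of_injective (MulAut.conj _).injective, ← hzm, cz, c] at hcard
  omega

theorem H1092.card_normalizer_two (h : H1092 Q) {H : Subgroup Q} (hc : Nat.card H = 2) :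
    Nat.card (normalizer (H : Set Q)) = 12 := by
  have : Fact (Nat.Prime 2) := ⟨by norm_num⟩
  obtain ⟨t, htH, ht⟩ := exists_mem_orderOf_eq H 2 (by rw [hc])
  have hPH : zpowers t ≤ H := by rw [Subgroup.zpowers_le]; exact htH
  have hHP : zpowers t = H :=
    Subgroup.eq_of_le_of_card_ge hPH (by rw [Nat.card_zpowers, ht, hc])
  have h1 : centralizer ({t} : Set Q) ≤ normalizer (H : Set Q) := by
    have := Subgroup.centralizer_le_normalizer ((zpowers t : Subgroup Q) : Set Q)
    have hc' : centralizer ((zpowers t : Subgroup Q) : Set Q) = centralizer ({t} : Set Q) := by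
      rw [Subgroup.zpowers_eq_closure, Subgroup.centralizer_closure]
    rwa [hc', hHP] at this
  have hdvd : 12 ∣ Nat.card (normalizer (H : Set Q)) :=
    h.card_centralizer_involution_eq ht ▸ Subgroup.card_dvd_of_le h1
  have hne := h.card_normalizer_ne (H := H) (by omega) (by omega)
  rcases h.sub (normalizer (H : Set Q)) with d | d | d | d | d | d | d | d | d | d | d | d | d <;>
    rw [d] at hdvd <;> omega

/-- **Main theorem**: in a group with the arithmetic profile of `PSL₂(13)`, every proper nontrivial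
subgroup has a maximal normalizer. -/
theorem H1092.isCoatom_normalizer (h : H1092 Q) {H : Subgroup Q} (h1 : H ≠ ⊥) (h2 : H ≠ ⊤) :
    IsCoatom (normalizer (H : Set Q)) := by
  apply h.isCoatom_of_card
  rcases h.sub H with c | c | c | c | c | c | c | c | c | c | c | c | c
  · exact (h1 (Subgroup.card_eq_one.mp c)).elim
  · exact Or.inl (h.card_normalizer_two c)
  · exact Or.inl (h.card_normalizer_three c)
  · exact Or.inl (h.card_normalizer_four c)
  · exact Or.inl (h.card_normalizer_six c)
  · exact Or.inr (Or.inl (h.card_normalizer_7' (Or.inl c)))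
  · exact Or.inl (h.card_normalizer_12 c)
  · exact Or.inr (Or.inr (h.card_normalizer_13' (Or.inl c)))
  · exact Or.inr (Or.inl (h.card_normalizer_7' (Or.inr c)))
  · exact Or.inr (Or.inr (h.card_normalizer_13' (Or.inr (Or.inl c))))
  · exact Or.inr (Or.inr (h.card_normalizer_13' (Or.inr (Or.inr (Or.inl c)))))
  · exact Or.inr (Or.inr (h.card_normalizer_13' (Or.inr (Or.inr (Or.inr c)))))
  · exact (h2 (h.eq_top_of_card c)).elim

end Cfsg.Agent.Lib.Helper14
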