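import Mathlib
import Cfsg.Agent.Lib.Helper41.SL2Nonsplit

set_option autoImplicit false

/-!
# Element orders in `PGL₂(K)` and `PSL₂(K)`, `K` finite with `r` elements, are at most `r + 1`
(helper14)
-/

namespace Cfsg.Agent.Lib.Helper14

open Cfsg.Agent.Lib.Helper41
open scoped MatrixGroups

variable {K : Type*} [Field K]

/-- Cayley–Hamilton for `2 × 2` matrices -/
theorem mat2_mul_self (A : Matrix (Fin 2) (Fin 2) K) :
    A * A = (-A.det) • (1 : Matrix (Fin 2) (Fin 2) K) + A.trace • A := by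
  ext i j
  fin_cases i <;> fin_cases j <;>
    simp [Matrix.mul_apply, Fin.sum_univ_two, Matrix.det_fin_two, Matrix.trace_fin_two] <;> ring

theorem pow_mul_eigen (A X : Matrix (Fin 2) (Fin 2) K) (l : K) (h : A * X = l • X) (n : ℕ) :
    A ^ n * X = l ^ n • X := by
  induction n with
  | zero => simp
  | succ n ih =>
    rw [pow_succ, mul_assoc, h, Matrix.mul_smul, ih, smul_smul, pow_succ, mul_comm]

theorem mat2_eigen (A : Matrix (Fin 2) (Fin 2) K) (l m : K) (hsum : l + m = A.trace)
    (hprod : l * m = A.det) :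
    A * (A - m • (1 : Matrix (Fin 2) (Fin 2) K)) = l • (A - m • (1 : Matrix (Fin 2) (Fin 2) K)) := by
  rw [mul_sub, mat2_mul_self, Matrix.mul_smul, mul_one, ← hsum, ← hprod]
  module

variable [Fintype K]

theorem mat2_pow_of_two_roots (A : Matrix (Fin 2) (Fin 2) K) (hdet : A.det ≠ 0) (l m : K)
    (hlm : l ≠ m) (hsum : l + m = A.trace) (hprod : l * m = A.det) :
    A ^ (Fintype.card K - 1) = 1 := by
  have hl : l ≠ 0 := by rintro rfl; exact hdet (by rw [← hprod, zero_mul])
  have hm : m ≠ 0 := by rintro rfl; exact hdet (by rw [← hprod, mul_zero])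
  have h1 := pow_mul_eigen A _ l (mat2_eigen A l m hsum hprod) (Fintype.card K - 1)
  have h2 := pow_mul_eigen A _ m (mat2_eigen A m l (by rw [add_comm]; exact hsum)
    (by rw [mul_comm]; exact hprod)) (Fintype.card K - 1)
  rw [FiniteField.pow_card_sub_one_eq_one l hl, one_smul] at h1
  rw [FiniteField.pow_card_sub_one_eq_one m hm, one_smul] at h2
  have h3 : (l - m) • A ^ (Fintype.card K - 1) = (l - m) • (1 : Matrix (Fin 2) (Fin 2) K) := by
    have : A ^ (Fintype.card K - 1) * (A - m • (1 : Matrix (Fin 2) (Fin 2) K)) -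
        A ^ (Fintype.card K - 1) * (A - l • (1 : Matrix (Fin 2) (Fin 2) K)) =
        (A - m • (1 : Matrix (Fin 2) (Fin 2) K)) - (A - l • (1 : Matrix (Fin 2) (Fin 2) K)) := by
      rw [h1, h2]
    rw [← mul_sub] at this
    have e1 : (A - m • (1 : Matrix (Fin 2) (Fin 2) K)) - (A - l • (1 : Matrix (Fin 2) (Fin 2) K))
        = (l - m) • (1 : Matrix (Fin 2) (Fin 2) K) := by module
    rw [e1, Matrix.mul_smul, mul_one] at this
    exact this
  exact smul_right_injective _ (sub_ne_zero.mpr hlm) h3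

theorem mat2_pow_of_double_root (p : ℕ) [Fact p.Prime] [CharP K p]
    (A : Matrix (Fin 2) (Fin 2) K) (l : K)
    (hsum : l + l = A.trace) (hprod : l * l = A.det) :
    A ^ p = (l ^ p) • (1 : Matrix (Fin 2) (Fin 2) K) := by
  set N : Matrix (Fin 2) (Fin 2) K := A - l • (1 : Matrix (Fin 2) (Fin 2) K) with hN
  have hNN : N * N = 0 := by
    have h1 := mat2_eigen A l l hsum hprod
    rw [← hN] at h1
    have : N * N = A * N - l • N := by
      rw [hN, sub_mul, Matrix.smul_mul, one_mul]
    rw [this, h1, sub_self]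
  have hA : A = l • (1 : Matrix (Fin 2) (Fin 2) K) + N := by rw [hN]; abel
  have hcomm : Commute (l • (1 : Matrix (Fin 2) (Fin 2) K)) N := by
    rw [Commute, SemiconjBy, Matrix.smul_mul, one_mul, Matrix.mul_smul, mul_one]
  have hp2 : 2 ≤ p := (Fact.out : p.Prime).two_le
  have hNp : N ^ p = 0 := pow_eq_zero_of_le hp2 (by rw [pow_two, hNN])
  rw [hA, add_pow_char_of_commute p hcomm, hNp, add_zero, smul_pow, one_pow]

/-- every invertible `2 × 2` matrix over a field with `r` elements has a scalar `k`-th power for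
some `0 < k ≤ r + 1` -/
theorem mat2_exists_pow_scalar (A : Matrix (Fin 2) (Fin 2) K) (hdet : A.det ≠ 0) :
    ∃ (k : ℕ) (s : K), 0 < k ∧ k ≤ Fintype.card K + 1 ∧
      A ^ k = s • (1 : Matrix (Fin 2) (Fin 2) K) := by
  by_cases hroot : ∃ l : K, l ^ 2 = -A.det + A.trace * l
  · obtain ⟨l, hl⟩ := hroot
    set m : K := A.trace - l with hm
    have hsum : l + m = A.trace := by rw [hm]; ring
    have hprod : l * m = A.det := by rw [hm]; linear_combination -hl
    by_cases hlm : l = m
    · obtain ⟨p, hp⟩ := CharP.exists K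
      obtain ⟨n, hpp, hn⟩ := FiniteField.card K p
      have : Fact p.Prime := ⟨hpp⟩
      refine ⟨p, l ^ p, hpp.pos, ?_, ?_⟩
      · rw [hn]
        have : p ^ 1 ≤ p ^ (n : ℕ) := Nat.pow_le_pow_right hpp.pos n.pos
        rw [pow_one] at this
        omega
      · rw [← hlm] at hsum hprod
        exact mat2_pow_of_double_root p A l hsum hprod
    · have h2 : 2 ≤ Fintype.card K := Fintype.one_lt_card
      refine ⟨Fintype.card K - 1, 1, by omega, by omega, ?_⟩
      rw [one_smul]
      exact mat2_pow_of_two_roots A hdet l m hlm hsum hprod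
  · push Not at hroot
    have : Fact (∀ r : K, r ^ 2 ≠ -A.det + A.trace * r) := ⟨hroot⟩
    have h1 : (QuadraticAlgebra.omega : QuadraticAlgebra K (-A.det) A.trace) ^ (Fintype.card K + 1)
        = algebraMap K _ (QuadraticAlgebra.norm
          (QuadraticAlgebra.omega : QuadraticAlgebra K (-A.det) A.trace)) := by
      rw [← algebra_norm_eq, FiniteField.algebraMap_norm_eq_pow, card_sub_one_div]
    let φ : QuadraticAlgebra K (-A.det) A.trace →ₐ[K] Matrix (Fin 2) (Fin 2) K :=
      QuadraticAlgebra.lift ⟨A, mat2_mul_self A⟩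
    have hφ : φ QuadraticAlgebra.omega = A := by
      show (QuadraticAlgebra.omega : QuadraticAlgebra K (-A.det) A.trace).re •
          (1 : Matrix (Fin 2) (Fin 2) K) +
        (QuadraticAlgebra.omega : QuadraticAlgebra K (-A.det) A.trace).im • A = A
      simp
    refine ⟨Fintype.card K + 1, QuadraticAlgebra.norm
          (QuadraticAlgebra.omega : QuadraticAlgebra K (-A.det) A.trace), by omega, le_refl _, ?_⟩
    have h2 := congrArg φ h1
    rw [map_pow, hφ, AlgHom.commutes, Algebra.algebraMap_eq_smul_one] at h2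
    exact h2

theorem pgl2_exists_pow_eq_one (x : Matrix.ProjGenLinGroup (Fin 2) K) :
    ∃ k : ℕ, 0 < k ∧ k ≤ Fintype.card K + 1 ∧ x ^ k = 1 := by
  induction x using Matrix.ProjGenLinGroup.induction_on with | mk g =>
  have hdet : (g : Matrix (Fin 2) (Fin 2) K).det ≠ 0 := by
    have := (Matrix.GeneralLinearGroup.det g).ne_zero
    simpa using this
  obtain ⟨k, s, hk0, hk, hks⟩ := mat2_exists_pow_scalar (g : Matrix (Fin 2) (Fin 2) K) hdet
  refine ⟨k, hk0, hk, ?_⟩
  have hs : s ≠ 0 := by
    rintro rfl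
    rw [zero_smul] at hks
    have := congrArg Matrix.det hks
    rw [Matrix.det_pow, Matrix.det_zero] at this
    exact hdet (pow_eq_zero_iff (by omega) |>.mp this)
  have hg : g ^ k = Matrix.GeneralLinearGroup.scalar (Fin 2) (Units.mk0 s hs) := by
    apply Units.ext
    rw [Units.val_pow_eq_pow_val, hks, Matrix.GeneralLinearGroup.coe_scalar]
    ext i j
    simp [Matrix.smul_apply, Matrix.one_apply, Matrix.scalar_apply, Matrix.diagonal_apply]
  rw [← map_pow, hg, Matrix.ProjGenLinGroup.mk_scalar]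

theorem psl2_exists_pow_eq_one (x : PSL(2, K)) :
    ∃ k : ℕ, 0 < k ∧ k ≤ Fintype.card K + 1 ∧ x ^ k = 1 := by
  obtain ⟨k, hk0, hk, h⟩ := pgl2_exists_pow_eq_one
    (Matrix.ProjectiveSpecialLinearGroup.toPGL (n := Fin 2) (R := K) x)
  refine ⟨k, hk0, hk, ?_⟩
  apply Matrix.ProjectiveSpecialLinearGroup.toPGL_injective
  rw [map_pow, h, map_one]

end Cfsg.Agent.Lib.Helper14
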