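import Mathlib
import Cfsg.Agent.Lib.Helper5.PSL2Small
import Cfsg.Agent.S0265

set_option autoImplicit false

/-!
# Orders of `PSL₂(F)`, `PGL₂(F)` and of the centre of `SL₂(F)` in terms of `gcd 2 (q - 1)` (helper14)
-/

namespace Cfsg.Agent.Lib.Helper14

open scoped MatrixGroups

variable {F : Type*} [Field F] [Fintype F]

theorem two_eq_zero_iff_even_card : (2 : F) = 0 ↔ 2 ∣ Fintype.card F := by
  constructor
  · intro h
    have : CharP F 2 := CharTwo.of_one_ne_zero_of_two_eq_zero one_ne_zero h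
    exact (CharP.cast_eq_zero_iff F 2 (Fintype.card F)).mp (Nat.cast_card_eq_zero F)
  · intro h
    obtain ⟨p, hp⟩ := CharP.exists F
    obtain ⟨n, hpp, hn⟩ := FiniteField.card F p
    rw [hn] at h
    have h2 : 2 ∣ p := Nat.Prime.dvd_of_dvd_pow Nat.prime_two h
    have h3 : 2 = p := (Nat.prime_dvd_prime_iff_eq Nat.prime_two hpp).mp h2
    subst h3
    have := CharP.cast_eq_zero F 2
    exact_mod_cast this

theorem card_center_SL2_eq_gcd :
    Nat.card (Subgroup.center SL(2, F)) = Nat.gcd 2 (Fintype.card F - 1) := by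
  have hq : 2 ≤ Fintype.card F := Fintype.one_lt_card
  by_cases h2 : (2 : F) = 0
  · rw [Helper5.center_SL2_eq_bot_of_two_eq_zero h2, Subgroup.card_bot]
    have := two_eq_zero_iff_even_card.mp h2
    have hodd : ¬ 2 ∣ (Fintype.card F - 1) := by omega
    have := Nat.Coprime.gcd_eq_one ((Nat.Prime.coprime_iff_not_dvd Nat.prime_two).mpr hodd)
    exact this.symm
  · rw [Helper5.card_center_SL2_of_two_ne_zero h2]
    have h3 : ¬ 2 ∣ Fintype.card F := fun h => h2 (two_eq_zero_iff_even_card.mpr h)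
    have h4 : 2 ∣ (Fintype.card F - 1) := by omega
    exact (Nat.gcd_eq_left h4).symm

theorem card_PSL2_mul_gcd :
    Nat.card PSL(2, F) * Nat.gcd 2 (Fintype.card F - 1) =
      Fintype.card F * (Fintype.card F - 1) * (Fintype.card F + 1) := by
  rw [← card_center_SL2_eq_gcd, Helper5.card_PSL2_mul]
  have h1 : 1 ≤ Fintype.card F := Fintype.card_pos
  have : Fintype.card F ^ 2 - 1 = (Fintype.card F - 1) * (Fintype.card F + 1) := by
    zify [h1, show 1 ≤ Fintype.card F ^ 2 from Nat.one_le_pow _ _ (by omega)]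
    ring
  rw [this, mul_assoc]

theorem card_PGL2 :
    Nat.card (Matrix.ProjGenLinGroup (Fin 2) F) =
      Fintype.card F * (Fintype.card F - 1) * (Fintype.card F + 1) := by
  rw [Cfsg.Agent.S0265.result, Helper5.card_SL2]
  have h1 : 1 ≤ Fintype.card F := Fintype.card_pos
  have : Fintype.card F ^ 2 - 1 = (Fintype.card F - 1) * (Fintype.card F + 1) := by
    zify [h1, show 1 ≤ Fintype.card F ^ 2 from Nat.one_le_pow _ _ (by omega)]
    ring
  rw [this, mul_assoc]

/-- `gcd 2 (q - 1)` is `1` for even `q` and `2` for odd `q` -/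
theorem gcd_two_cases (q : ℕ) (hq : 1 ≤ q) :
    (Nat.gcd 2 (q - 1) = 1 ∧ 2 ∣ q) ∨ (Nat.gcd 2 (q - 1) = 2 ∧ ¬ 2 ∣ q) := by
  by_cases h : 2 ∣ q
  · left
    refine ⟨?_, h⟩
    have hodd : ¬ 2 ∣ (q - 1) := by omega
    exact Nat.Coprime.gcd_eq_one ((Nat.Prime.coprime_iff_not_dvd Nat.prime_two).mpr hodd)
  · right
    refine ⟨?_, h⟩
    have h4 : 2 ∣ (q - 1) := by omega
    exact Nat.gcd_eq_left h4

theorem card_alt4 : Nat.card (alternatingGroup (Fin 4)) = 12 := by
  rw [Nat.card_eq_fintype_card]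
  have := two_mul_card_alternatingGroup (α := Fin 4)
  rw [Fintype.card_perm, Fintype.card_fin] at this
  have h4 : Nat.factorial 4 = 24 := by decide
  omega

theorem card_alt5 : Nat.card (alternatingGroup (Fin 5)) = 60 := by
  rw [Nat.card_eq_fintype_card]
  have := two_mul_card_alternatingGroup (α := Fin 5)
  rw [Fintype.card_perm, Fintype.card_fin] at this
  have h4 : Nat.factorial 5 = 120 := by decide
  omega

theorem card_perm4 : Nat.card (Equiv.Perm (Fin 4)) = 24 := by
  rw [Nat.card_eq_fintype_card, Fintype.card_perm, Fintype.card_fin]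
  decide

end Cfsg.Agent.Lib.Helper14
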