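import Mathlib
import Cfsg.Agent.Lib.Helper14.Order1092C
import Cfsg.Agent.Lib.Helper14.PSL2Arith
import Cfsg.Agent.Lib.Helper14.PGL2Order
import Cfsg.Agent.Lib.Helper14.PSL2Borel
import Cfsg.Agent.S0799

set_option autoImplicit false

/-!
# `PSL₂(13)` satisfies the abstract hypotheses `H1092` (helper14)
-/

namespace Cfsg.Agent.Lib.Helper14

open scoped MatrixGroups

instance fact_prime_thirteen : Fact (Nat.Prime 13) := ⟨by norm_num⟩

theorem card_psl2_thirteen : Nat.card PSL(2, ZMod 13) = 1092 := by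
  have h := card_PSL2_mul_gcd (F := ZMod 13)
  rw [ZMod.card, show Nat.gcd 2 (13 - 1) = 2 by norm_num] at h
  omega

theorem card_psl2_of_card_thirteen {K : Type} [Field K] [Fintype K] (hK : Fintype.card K = 13) :
    Nat.card PSL(2, K) = 1092 := by
  have h := card_PSL2_mul_gcd (F := K)
  rw [hK, show Nat.gcd 2 (13 - 1) = 2 by norm_num] at h
  omega

theorem card_pgl2_of_card_thirteen {K : Type} [Field K] [Fintype K] (hK : Fintype.card K = 13) :
    Nat.card (Matrix.ProjGenLinGroup (Fin 2) K) = 2184 := by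
  have h := card_PGL2 (F := K)
  rw [hK] at h
  omega

/-- Dickson's list specialised to `q = 13`. -/
theorem subgroups_psl2_thirteen (H : Subgroup PSL(2, ZMod 13)) :
    (IsCyclic H ∧ (Nat.card H = 1 ∨ Nat.card H = 2 ∨ Nat.card H = 3 ∨ Nat.card H = 6 ∨
        Nat.card H = 7)) ∨
    (∃ k : ℕ, (k = 1 ∨ k = 2 ∨ k = 3 ∨ k = 6 ∨ k = 7) ∧ Nonempty (H ≃* DihedralGroup k)) ∨
    Nat.card H ∣ 78 ∨ Nat.card H = 12 ∨ Nat.card H = 1092 := by
  have hdvd : Nat.card H ∣ 1092 := by
    rw [← card_psl2_thirteen]; exact Subgroup.card_subgroup_dvd_card H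
  rcases Cfsg.Agent.S0799.result (F := ZMod 13) (q := 13) (ZMod.card 13) 13 H with
    ⟨k, hk, h⟩ | ⟨P, K, hK, ⟨e⟩⟩ | ⟨⟨e⟩⟩ | ⟨⟨e⟩⟩ | ⟨⟨e⟩⟩ | ⟨K, _, _, m, hm, h⟩
  · have hk' : k = 1 ∨ k = 2 ∨ k = 3 ∨ k = 6 ∨ k = 7 := by
      norm_num at hk
      rcases hk with hk | hk
      · have := (Nat.dvd_prime (by norm_num : Nat.Prime 7)).mp hk
        omega
      · have hle := Nat.le_of_dvd (by norm_num) hk
        interval_cases k <;> omega
    rcases h with ⟨hc, hcard⟩ | h
    · left
      exact ⟨hc, by omega⟩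
    · right; left
      exact ⟨k, hk', h⟩
  · right; right; left
    have h1 := card_normalizer_sylow_mul (F := ZMod 13) 13 P
    rw [card_center_SL2_eq_gcd, ZMod.card, show Nat.gcd 2 (13 - 1) = 2 by norm_num] at h1
    have h2 : Nat.card (Subgroup.normalizer ((P : Subgroup PSL(2, ZMod 13)) : Set PSL(2, ZMod 13))) = 78 := by
      omega
    rw [Nat.card_congr e.toEquiv, ← h2]
    exact Subgroup.card_dvd_of_le hK
  · right; right; right; left
    rw [Nat.card_congr e.toEquiv, card_alt4]
  · exfalso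
    rw [Nat.card_congr e.toEquiv, card_perm4] at hdvd
    omega
  · exfalso
    rw [Nat.card_congr e.toEquiv, card_alt5] at hdvd
    omega
  · have hm0 : m ≠ 0 := by
      rintro rfl
      simp at hm
    have hKd : Fintype.card K ∣ 13 := by
      rw [← hm]; exact dvd_pow_self _ hm0
    have hK2 : 2 ≤ Fintype.card K := Fintype.one_lt_card
    have hK13 : Fintype.card K = 13 := by
      have := (Nat.dvd_prime (by norm_num : Nat.Prime 13)).mp hKd
      omega
    rcases h with ⟨⟨e⟩⟩ | ⟨⟨e⟩⟩
    · right; right; right; right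
      rw [Nat.card_congr e.toEquiv, card_psl2_of_card_thirteen hK13]
    · exfalso
      rw [Nat.card_congr e.toEquiv, card_pgl2_of_card_thirteen hK13] at hdvd
      omega

theorem card_dihedral_sq (k : ℕ) (hk : k = 1 ∨ k = 2) (y : DihedralGroup k) : y * y = 1 := by
  rcases hk with rfl | rfl <;> revert y <;> decide

theorem h1092_psl2_thirteen : H1092 PSL(2, ZMod 13) where
  card := card_psl2_thirteen
  simple := Matrix.ProjectiveSpecialLinearGroup.rank_two_simple (by
    rw [Nat.card_eq_fintype_card, ZMod.card]; norm_num)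
  sub := by
    intro H
    rcases subgroups_psl2_thirteen H with ⟨-, h⟩ | ⟨k, hk, ⟨e⟩⟩ | h | h | h
    · omega
    · have : Nat.card H = 2 * k := by
        rw [Nat.card_congr e.toEquiv, DihedralGroup.nat_card]
      omega
    · have hle := Nat.le_of_dvd (by norm_num) h
      have h0 : 0 < Nat.card H := Nat.card_pos
      have : Nat.card H = 1 ∨ Nat.card H = 2 ∨ Nat.card H = 3 ∨ Nat.card H = 6 ∨
          Nat.card H = 13 ∨ Nat.card H = 26 ∨ Nat.card H = 39 ∨ Nat.card H = 78 := by
        generalize Nat.card H = n at *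
        interval_cases n <;> omega
      omega
    · omega
    · omega
  ord := by
    intro x
    obtain ⟨k, hk0, hk, hx⟩ := psl2_exists_pow_eq_one x
    rw [ZMod.card] at hk
    exact (orderOf_le_of_pow_eq_one hk0 hx).trans hk
  ord4 := by
    intro x hx
    have hcard : Nat.card (Subgroup.zpowers x) = 4 := by rw [Nat.card_zpowers, hx]
    rcases subgroups_psl2_thirteen (Subgroup.zpowers x) with ⟨-, h⟩ | ⟨k, hk, ⟨e⟩⟩ | h | h | h
    · omega
    · have h2 : Nat.card (Subgroup.zpowers x) = 2 * k := by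
        rw [Nat.card_congr e.toEquiv, DihedralGroup.nat_card]
      have hk2 : k = 2 := by omega
      have h3 := card_dihedral_sq k (Or.inr hk2) (e ⟨x, Subgroup.mem_zpowers x⟩)
      rw [← map_mul, map_eq_one_iff e e.injective] at h3
      have h4 : x * x = 1 := by
        have := congrArg Subtype.val h3
        simpa using this
      have h5 : orderOf x ∣ 2 := orderOf_dvd_of_pow_eq_one (by rw [pow_two]; exact h4)
      rw [hx] at h5
      omega
    · rw [hcard] at h; omega
    · omega
    · omega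

end Cfsg.Agent.Lib.Helper14
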