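import Mathlib
import Cfsg.Agent.Lib.Helper14.Order1092C

set_option autoImplicit false

/-!
# Maximal normalizers: central extensions by an involution and coprime abelian factors (helper14)
-/

namespace Cfsg.Agent.Lib.Helper14

open Subgroup

/-- the preimage of a maximal subgroup under a surjection is maximal -/
theorem isCoatom_comap_of_surjective {G Q : Type*} [Group G] [Group Q] (π : G →* Q)
    (hπ : Function.Surjective π) {M : Subgroup Q} (hM : IsCoatom M) :
    IsCoatom (M.comap π) := by
  constructor
  · intro h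
    apply hM.1
    have : M.comap π = (⊤ : Subgroup Q).comap π := by rw [h, Subgroup.comap_top]
    exact Subgroup.comap_injective hπ this
  · intro L hL
    have hker : π.ker ≤ L := le_trans (Subgroup.ker_le_comap π M) hL.le
    have h1 : M ≤ L.map π := by
      have := Subgroup.map_mono (f := π) hL.le
      rwa [Subgroup.map_comap_eq_self_of_surjective hπ] at this
    have h2 : M ≠ L.map π := by
      intro h
      apply hL.not_ge
      rw [h]
      exact Subgroup.le_comap_map π L
    have h3 : L.map π = ⊤ := hM.2 _ (lt_of_le_of_ne h1 h2)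
    have h4 : (L.map π).comap π = L := by
      rw [Subgroup.comap_map_eq, sup_eq_left.mpr hker]
    rw [← h4, h3, Subgroup.comap_top]

/-- transport of the hypotheses `H1092` along an isomorphism -/
theorem H1092.of_mulEquiv {K Q : Type*} [Group K] [Finite K] [Group Q] [Finite Q]
    (h : H1092 Q) (e : K ≃* Q) : H1092 K where
  card := by rw [Nat.card_congr e.toEquiv, h.card]
  simple := by
    have := h.simple
    have : Nontrivial K := e.toEquiv.nontrivial
    exact IsSimpleGroup.isSimpleGroup_of_surjective e.symm.toMonoidHom e.symm.surjective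
  sub := by
    intro H
    have := h.sub (H.map e.toMonoidHom)
    rwa [Subgroup.card_map_of_injective (f := e.toMonoidHom) e.injective] at this
  ord := by
    intro x
    have := h.ord (e x)
    rwa [MulEquiv.orderOf_eq] at this
  ord4 := by
    intro x
    have := h.ord4 (e x)
    rwa [MulEquiv.orderOf_eq] at this

/-- A central extension of a group `Q` of type `H1092` by a group of order two containing every
involution: each non-normal subgroup has a maximal normalizer. -/
theorem isCoatom_normalizer_of_central_ext {G Q : Type*} [Group G] [Finite G] [Group Q] [Finite Q]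
    (hQ : H1092 Q) (π : G →* Q) (hπ : Function.Surjective π)
    (hcard : Nat.card π.ker = 2) (hinv : ∀ x : G, x * x = 1 → x ∈ π.ker)
    (H : Subgroup G) (hH : ¬ H.Normal) : IsCoatom (normalizer (H : Set G)) := by
  -- the nontrivial element of the kernel
  obtain ⟨⟨z, hzZ⟩, hz1, hzu⟩ := (Nat.card_eq_two_iff' (1 : π.ker)).mp hcard
  have hz1' : z ≠ 1 := fun h => hz1 (Subtype.ext h)
  have hZ : ∀ k ∈ π.ker, k = 1 ∨ k = z := by
    intro k hk
    by_cases hk1 : k = 1
    · exact Or.inl hk1
    · right
      have := hzu ⟨k, hk⟩ (fun h => hk1 (congrArg Subtype.val h))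
      exact congrArg Subtype.val this
  have hzc : ∀ g : G, g * z = z * g := by
    intro g
    have h1 : g * z * g⁻¹ ∈ π.ker := (inferInstance : π.ker.Normal).conj_mem z hzZ g
    rcases hZ _ h1 with h | h
    · exfalso
      apply hz1'
      have : z = g⁻¹ * (g * z * g⁻¹) * g := by group
      rw [this, h]; group
    · calc g * z = g * z * g⁻¹ * g := by group
        _ = z * g := by rw [h]
  have hzz : z * z = 1 := by
    have h1 : z * z ∈ π.ker := π.ker.mul_mem hzZ hzZ
    rcases hZ _ h1 with h | h
    · exact h
    · exfalso; apply hz1'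
      calc z = z⁻¹ * (z * z) := by group
        _ = 1 := by rw [h]; group
  have hkc : ∀ k ∈ π.ker, ∀ g : G, g * k = k * g := by
    intro k hk g
    rcases hZ k hk with rfl | rfl
    · simp
    · exact hzc g
  -- the image is proper and nontrivial
  have himtop : H.map π ≠ ⊤ := by
    intro htop
    apply hH
    constructor
    intro x hx g
    have hg : π g ∈ H.map π := by rw [htop]; exact Subgroup.mem_top _
    obtain ⟨h, hh, hhg⟩ := Subgroup.mem_map.mp hg
    have hk : h⁻¹ * g ∈ π.ker := by
      rw [MonoidHom.mem_ker, map_mul, map_inv, hhg]; group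
    have hgk : g = h * (h⁻¹ * g) := by group
    have hc := hkc _ hk
    have : g * x * g⁻¹ = h * x * h⁻¹ := by
      have h1 : (h⁻¹ * g) * x = x * (h⁻¹ * g) := (hc x).symm
      calc g * x * g⁻¹ = h * ((h⁻¹ * g) * x) * g⁻¹ := by group
        _ = h * (x * (h⁻¹ * g)) * g⁻¹ := by rw [h1]
        _ = h * x * h⁻¹ := by group
    rw [this]
    exact H.mul_mem (H.mul_mem hh hx) (H.inv_mem hh)
  have himbot : H.map π ≠ ⊥ := by
    intro hbot
    apply hH
    have hle : H ≤ π.ker := (Subgroup.map_eq_bot_iff H).mp hbot
    constructor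
    intro x hx g
    have := hkc x (hle hx) g
    have h2 : g * x * g⁻¹ = x := by rw [this]; group
    rw [h2]; exact hx
  have hM := hQ.isCoatom_normalizer himbot himtop
  have hMc := isCoatom_comap_of_surjective π hπ hM
  -- conjugation by elements of `M` preserves `H`
  have hodd : z ∉ H → ¬ 2 ∣ Nat.card H := by
    intro hzH h2
    have : Fact (Nat.Prime 2) := ⟨Nat.prime_two⟩
    obtain ⟨x, hx⟩ := exists_prime_orderOf_dvd_card' (G := H) 2 h2
    have hx2 : (x : G) * (x : G) = 1 := by
      have := pow_orderOf_eq_one x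
      rw [hx, pow_two] at this
      exact congrArg Subtype.val this
    have hx1 : (x : G) ≠ 1 := by
      intro h
      have : x = 1 := Subtype.ext h
      rw [this, orderOf_one] at hx
      omega
    rcases hZ _ (hinv _ hx2) with h | h
    · exact hx1 h
    · exact hzH (h ▸ x.2)
  have hconj : ∀ m ∈ (normalizer ((H.map π : Subgroup Q) : Set Q)).comap π, ∀ h ∈ H,
      m * h * m⁻¹ ∈ H := by
    intro m hm h hh
    have hm' : π m ∈ normalizer ((H.map π : Subgroup Q) : Set Q) := hm
    have h1 : π (m * h * m⁻¹) ∈ H.map π := by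
      rw [map_mul, map_mul, map_inv]
      exact (Subgroup.mem_normalizer_iff.mp hm' (π h)).mp (Subgroup.mem_map_of_mem π hh)
    obtain ⟨h', hh', hh'e⟩ := Subgroup.mem_map.mp h1
    have hk : h'⁻¹ * (m * h * m⁻¹) ∈ π.ker := by
      rw [MonoidHom.mem_ker, map_mul, map_inv, hh'e]; group
    rcases hZ _ hk with hk1 | hkz
    · have : m * h * m⁻¹ = h' := by
        calc m * h * m⁻¹ = h' * (h'⁻¹ * (m * h * m⁻¹)) := by group
          _ = h' := by rw [hk1, mul_one]
      rw [this]; exact hh'
    · have heq : m * h * m⁻¹ = h' * z := by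
        calc m * h * m⁻¹ = h' * (h'⁻¹ * (m * h * m⁻¹)) := by group
          _ = h' * z := by rw [hkz]
      by_cases hzH : z ∈ H
      · rw [heq]; exact H.mul_mem hh' hzH
      · exfalso
        have hoddn := hodd hzH
        set n := Nat.card H with hn
        have hpow : ∀ y ∈ H, y ^ n = 1 := by
          intro y hy
          have : (⟨y, hy⟩ : H) ^ n = 1 := pow_card_eq_one'
          exact congrArg Subtype.val this
        have h3 : (m * h * m⁻¹) ^ n = 1 := by
          rw [conj_pow, hpow h hh]; group
        have hcomm : Commute h' z := (hzc h')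
        have h4 : (h' * z) ^ n = z := by
          rw [hcomm.mul_pow, hpow h' hh', one_mul]
          obtain ⟨j, hj⟩ : ∃ j, n = 2 * j + 1 := ⟨n / 2, by omega⟩
          rw [hj, pow_succ, pow_mul, pow_two, hzz, one_pow, one_mul]
        rw [heq, h4] at h3
        exact hz1' h3
  have hle1 : normalizer (H : Set G) ≤ (normalizer ((H.map π : Subgroup Q) : Set Q)).comap π := by
    intro g hg
    exact Subgroup.le_normalizer_map π (Subgroup.mem_map_of_mem π hg)
  have hle2 : (normalizer ((H.map π : Subgroup Q) : Set Q)).comap π ≤ normalizer (H : Set G) := by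
    intro m hm
    rw [Subgroup.mem_normalizer_iff]
    intro x
    constructor
    · intro hx; exact hconj m hm x hx
    · intro hx
      have := hconj m⁻¹ (Subgroup.inv_mem _ hm) _ hx
      have h2 : m⁻¹ * (m * x * m⁻¹) * m⁻¹⁻¹ = x := by group
      rwa [h2] at this
  rw [le_antisymm hle1 hle2]
  exact hMc

/-- Direct product with an abelian group of coprime order. -/
theorem isCoatom_normalizer_prod {K S : Type*} [Group K] [CommGroup S] [Finite K] [Finite S]
    (hKS : (Nat.card K).Coprime (Nat.card S))
    (hK : ∀ J : Subgroup K, ¬ J.Normal → IsCoatom (normalizer (J : Set K)))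
    (H : Subgroup (K × S)) (hH : ¬ H.Normal) :
    IsCoatom (normalizer (H : Set (K × S))) := by
  -- coprimality splits elements of `H`
  have hsplit : ∀ k : K, ∀ s : S, (k, s) ∈ H → (k, 1) ∈ H := by
    intro k s hks
    obtain ⟨n, hn1, hn0⟩ := Nat.chineseRemainder hKS 1 0
    have h1 : (k, s) ^ n ∈ H := H.pow_mem hks n
    have h2 : (k, s) ^ n = (k, 1) := by
      rw [Prod.pow_mk]
      congr 1
      · have : n ≡ 1 [MOD orderOf k] := hn1.of_dvd (orderOf_dvd_natCard k)
        have := pow_eq_pow_iff_modEq.mpr this
        rwa [pow_one] at this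
      · have hd : Nat.card S ∣ n := (Nat.modEq_zero_iff_dvd).mp hn0
        obtain ⟨c, rfl⟩ := hd
        rw [pow_mul, pow_card_eq_one', one_pow]
    rwa [h2] at h1
  have hsplit2 : ∀ k : K, ∀ s : S, (k, s) ∈ H → (1, s) ∈ H := by
    intro k s hks
    have h1 := hsplit k s hks
    have : ((1 : K), s) = (k, 1)⁻¹ * (k, s) := by simp
    rw [this]
    exact H.mul_mem (H.inv_mem h1) hks
  set J : Subgroup K := H.comap (MonoidHom.inl K S) with hJ
  have hJmem : ∀ k : K, k ∈ J ↔ (k, (1 : S)) ∈ H := fun k => Iff.rfl
  have hmemH : ∀ k : K, ∀ s : S, (k, s) ∈ H ↔ (k ∈ J ∧ ((1 : K), s) ∈ H) := by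
    intro k s
    constructor
    · intro h; exact ⟨hsplit k s h, hsplit2 k s h⟩
    · rintro ⟨h1, h2⟩
      have : (k, s) = (k, 1) * (1, s) := by simp
      rw [this]; exact H.mul_mem h1 h2
  have hnorm : normalizer (H : Set (K × S)) =
      (normalizer (J : Set K)).comap (MonoidHom.fst K S) := by
    ext ⟨g, t⟩
    rw [Subgroup.mem_comap, Subgroup.mem_normalizer_iff, Subgroup.mem_normalizer_iff]
    constructor
    · intro h x
      have := h (x, 1)
      simpa [hJmem] using this
    · intro h ⟨k, s⟩
      have hc : (g, t) * (k, s) * (g, t)⁻¹ = (g * k * g⁻¹, s) := by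
        simp [mul_comm t s]
      rw [hc, hmemH, hmemH (g * k * g⁻¹)]
      exact and_congr_left' (h k)
  rw [hnorm]
  apply isCoatom_comap_of_surjective _ (fun k => ⟨(k, 1), rfl⟩)
  apply hK
  intro hJn
  apply hH
  have : normalizer (J : Set K) = ⊤ := Subgroup.normalizer_eq_top_iff.mpr hJn
  rw [this, Subgroup.comap_top] at hnorm
  exact Subgroup.normalizer_eq_top_iff.mp hnorm

end Cfsg.Agent.Lib.Helper14
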