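import Mathlib
import Cfsg.Agent.Lib.Helper64.PFElevenStruct
import Cfsg.Agent.Lib.Helper51.PFElevenDom
import Cfsg.Agent.Lib.Helper58.PFNineCoh

/-!
# PF section 11 end game, sheet #2, module [T4-COH] (helper14, for helper64)

`typeIV_coherent`: the subset of `calS M` of the members of degree `q r`, `q r²`, `q r^m` is coherent,
given enough irreducible members of degree `q r` and one of degree `q r²`.
-/

set_option autoImplicit false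

namespace Cfsg.Agent.Lib.Helper64.PF11

open Cfsg Cfsg.Agent.Lib.Helper24.PFCyc Cfsg.Agent.Lib.Helper4.PF Cfsg.Agent.Lib.Helper58.PF9

universe u

variable {G : Type u} [Group G] [Fintype G] {M W₁ U W₂ : Subgroup G} [Fintype M]
  {mu : WChar W₁ W₂ → (↥M → ℂ)} {dl : WChar W₁ W₂ → ℂ} {η : WChar W₁ W₂ → (G → ℂ)}
  {d : ℕ} {δ : ℂ} {n : ℤ}

omit [Fintype G] in
/-- `calS M` is finite -/
theorem h14_calS_finite [Finite G] : (calS M).Finite := by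
  have hfin : Finite (IrrCharacter ↥(derK M)) := Cfsg.Agent.Lib.Helper78.instFiniteIrrCharacter
  have h1 : ({θ : ↥(derK M) → ℂ | IsIrrCharacter ↥(derK M) θ}).Finite := Set.finite_coe_iff.mp hfin
  refine (h1.image (indFun (derK M))).subset ?_
  rintro φ ⟨θ, hθ, -, -, rfl⟩
  exact ⟨θ, hθ, rfl⟩

/-- norms of members of `calS M` are natural numbers -/
theorem h14_calS_norm (F : Frame M W₁ U W₂ mu dl η d δ n) (ξ : ↥M → ℂ) (hξ : ξ ∈ calS M) :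
    ∃ k : ℕ, classInner ξ ξ = (k : ℂ) := by
  obtain ⟨-, -, -, -, -, hirr, hmu⟩ := Cfsg.Agent.Lib.Helper51.PF11.calS0_inner F
  rcases F.calS_cases ξ hξ with ⟨h1, -⟩ | ⟨ψ, hψ, hψ1, rfl⟩
  · exact ⟨1, by rw [hirr ξ hξ h1]; simp⟩
  · exact ⟨Nat.card W₁, (hmu ψ hψ hψ1).1⟩

omit [Group G] [Fintype G] in
/-- conjugation does not change a natural-number value at `1` -/
theorem h14_conjFun_natCast {X : Type u} (ξ : X → ℂ) (x : X) (k : ℕ) (h : ξ x = (k : ℂ)) :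
    conjFun ξ x = (k : ℂ) := by
  simp only [conjFun, h, map_natCast]

/-- the arithmetic of stage 2 -/
theorem h14_arith (q r m a b N₁ N₂ : ℕ) (hq : 0 < q) (hr : 3 ≤ r) (hm : 3 ≤ m)
    (h1 : 2 * r ^ (m - 1) ≤ N₁) (h2 : 1 ≤ N₂) (ha : N₁ ≤ a) (hb : N₂ ≤ b) :
    2 * (q * r ^ m) * (q * r) < a * (q * r) ^ 2 + b * (q * r ^ 2) ^ 2 := by
  have e0 : r ^ m = r ^ (m - 1) * r := by
    rw [← pow_succ]; congr 1; omega
  have e1 : 2 * (q * r ^ m) * (q * r) = (2 * r ^ (m - 1)) * (q * r) ^ 2 := by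
    rw [e0]; ring
  have hle1 : (2 * r ^ (m - 1)) * (q * r) ^ 2 ≤ a * (q * r) ^ 2 :=
    Nat.mul_le_mul_right _ (le_trans h1 ha)
  have hb0 : 0 < b := lt_of_lt_of_le (by omega) hb
  have hr0 : 0 < r := by omega
  have hpos2 : 0 < b * (q * r ^ 2) ^ 2 := by positivity
  rw [e1]
  omega

/-- the arithmetic of stage 1 -/
theorem h14_arith1 (q r m N₁ : ℕ) (hq : 0 < q) (hr : 3 ≤ r) (hm : 3 ≤ m)
    (h1 : 2 * r ^ (m - 1) ≤ N₁) :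
    2 * (q * r ^ 2) * (q * r) < N₁ * (q * r) ^ 2 := by
  have hr0 : 0 < r := by omega
  have hrpow : r ^ 2 ≤ r ^ (m - 1) := Nat.pow_le_pow_right hr0 (by omega)
  have hr2 : 3 * r ≤ r ^ 2 := by nlinarith
  have e1 : 2 * (q * r ^ 2) * (q * r) = (2 * r) * (q ^ 2 * r ^ 2) := by ring
  have e2 : N₁ * (q * r) ^ 2 = N₁ * (q ^ 2 * r ^ 2) := by ring
  rw [e1, e2]
  have hpos : 0 < q ^ 2 * r ^ 2 := by positivity
  have hlt : 2 * r < N₁ := by omega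
  exact Nat.mul_lt_mul_of_pos_right hlt hpos

/-! ### MODULE [T4-COH] -/

set_option maxHeartbeats 1000000 in
theorem typeIV_coherent (F : Frame M W₁ U W₂ mu dl η d δ n)
    (R : (↥M → ℂ) → Finset (G → ℂ)) (hS : IsCoherenceSystem (calS M) (tauM M) R)
    (r m : ℕ) (hr : 3 ≤ r) (hm : 3 ≤ m) (hd : d = r ^ m)
    (N₁ N₂ : ℕ)
    (hN₁ : N₁ ≤ {ξ : ↥M → ℂ | ξ ∈ calS M ∧ IsIrrCharacter ↥M ξ ∧
        ξ 1 = ((Nat.card W₁ * r : ℕ) : ℂ)}.ncard)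
    (hN₂ : N₂ ≤ {ξ : ↥M → ℂ | ξ ∈ calS M ∧ IsIrrCharacter ↥M ξ ∧
        ξ 1 = ((Nat.card W₁ * r ^ 2 : ℕ) : ℂ)}.ncard)
    (h1 : 2 * r ^ (m - 1) ≤ N₁) (h2 : 1 ≤ N₂) :
    IsCoherent {ξ : ↥M → ℂ | ξ ∈ calS M ∧
      (ξ 1 = ((Nat.card W₁ * r : ℕ) : ℂ) ∨ ξ 1 = ((Nat.card W₁ * r ^ 2 : ℕ) : ℂ) ∨
        ξ 1 = ((Nat.card W₁ * r ^ m : ℕ) : ℂ))} {1}ᶜ (tauM M) := by
  classical
  set q : ℕ := Nat.card W₁ with hqdef
  have hq0 : 0 < q := F.hq.pos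
  have hr0 : 0 < r := by omega
  have hcalfin : (calS M).Finite := h14_calS_finite
  -- the two sets
  set Z : Set (↥M → ℂ) := {ξ : ↥M → ℂ | ξ ∈ calS M ∧
      (ξ 1 = ((q * r : ℕ) : ℂ) ∨ ξ 1 = ((q * r ^ 2 : ℕ) : ℂ) ∨
        ξ 1 = ((q * r ^ m : ℕ) : ℂ))} with hZdef
  set Z₁ : Set (↥M → ℂ) := {ξ : ↥M → ℂ | ξ ∈ calS M ∧
      (ξ 1 = ((q * r : ℕ) : ℂ) ∨ ξ 1 = ((q * r ^ 2 : ℕ) : ℂ))} with hZ₁def
  have hZS : Z ⊆ calS M := fun ξ hξ => hξ.1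
  have hZ₁Z : Z₁ ⊆ Z := fun ξ hξ => ⟨hξ.1, hξ.2.elim Or.inl (fun h => Or.inr (Or.inl h))⟩
  have hZ₁S : Z₁ ⊆ calS M := fun ξ hξ => hξ.1
  have hZfin : Z.Finite := hcalfin.subset hZS
  have hZ₁fin : Z₁.Finite := hcalfin.subset hZ₁S
  -- the irreducible members of degree `q r`, `q r²`
  set A₁ : Set (↥M → ℂ) := {ξ : ↥M → ℂ | ξ ∈ calS M ∧ IsIrrCharacter ↥M ξ ∧
        ξ 1 = ((q * r : ℕ) : ℂ)} with hA₁def
  set A₂ : Set (↥M → ℂ) := {ξ : ↥M → ℂ | ξ ∈ calS M ∧ IsIrrCharacter ↥M ξ ∧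
        ξ 1 = ((q * r ^ 2 : ℕ) : ℂ)} with hA₂def
  have hA₁fin : A₁.Finite := hcalfin.subset (fun ξ hξ => hξ.1)
  have hA₂fin : A₂.Finite := hcalfin.subset (fun ξ hξ => hξ.1)
  have hrpow : r ^ 2 ≤ r ^ (m - 1) := Nat.pow_le_pow_right hr0 (by omega)
  have hr2 : 3 * r ≤ r ^ 2 := by nlinarith
  have hN₁big : 2 * r ^ 2 ≤ N₁ := le_trans (by omega) h1
  have hN₁pos : 0 < N₁ := by nlinarith
  -- a member of `A₁`
  have hA₁ne : A₁.Nonempty := by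
    by_contra hne
    rw [Set.not_nonempty_iff_eq_empty] at hne
    rw [hne, Set.ncard_empty] at hN₁
    omega
  obtain ⟨χ₀, hχ₀⟩ := hA₁ne
  have hχ₀Z₁ : χ₀ ∈ Z₁ := ⟨hχ₀.1, Or.inl hχ₀.2.2⟩
  -- conjugation closure
  have hZc : ∀ ξ ∈ Z, conjFun ξ ∈ Z := by
    rintro ξ ⟨hξ, hξ1⟩
    refine ⟨hS.conj_mem ξ hξ, ?_⟩
    rcases hξ1 with h | h | h
    · exact Or.inl (h14_conjFun_natCast ξ 1 _ h)
    · exact Or.inr (Or.inl (h14_conjFun_natCast ξ 1 _ h))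
    · exact Or.inr (Or.inr (h14_conjFun_natCast ξ 1 _ h))
  have hZ₁c : ∀ ξ ∈ Z₁, conjFun ξ ∈ Z₁ := by
    rintro ξ ⟨hξ, hξ1⟩
    refine ⟨hS.conj_mem ξ hξ, ?_⟩
    rcases hξ1 with h | h
    · exact Or.inl (h14_conjFun_natCast ξ 1 _ h)
    · exact Or.inr (h14_conjFun_natCast ξ 1 _ h)
  have hsysZ : IsCoherenceSystem Z (tauM M) R :=
    coherenceSystem_subset hS hZS ⟨χ₀, hZ₁Z hχ₀Z₁⟩ hZc
  have hsysZ₁ : IsCoherenceSystem Z₁ (tauM M) R :=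
    coherenceSystem_subset hS hZ₁S ⟨χ₀, hχ₀Z₁⟩ hZ₁c
  -- Stage 1: `Z₁` is coherent
  have hcoh₁ : IsCoherent Z₁ {1}ᶜ (tauM M) := by
    refine coherent_of_small_degree hZ₁fin hsysZ₁ (q * r) (q * r ^ 2) N₁ ?_ ?_ ?_ ?_
    · rintro φ ⟨-, h | h⟩
      · refine ⟨1, by rw [h, mul_one], ?_⟩
        rw [mul_one]
        nlinarith
      · refine ⟨r, by rw [h]; congr 1; ring, ?_⟩
        exact le_of_eq (by ring)
    · intro φ hφ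
      exact h14_calS_norm F φ hφ.1
    · have hsub : A₁ ⊆ {φ : ↥M → ℂ | φ ∈ Z₁ ∧ IsIrrCharacter ↥M φ ∧ φ 1 = ((q * r : ℕ) : ℂ)} :=
        fun ξ hξ => ⟨⟨hξ.1, Or.inl hξ.2.2⟩, hξ.2.1, hξ.2.2⟩
      exact le_trans hN₁ (Set.ncard_le_ncard hsub (hZ₁fin.subset (fun ξ hξ => hξ.1)))
    · exact h14_arith1 q r m N₁ hq0 hr hm h1
  -- Stage 2: extend to `Z`
  have hdegZ : ∀ φ ∈ Z, ∃ k : ℕ, φ 1 = (k : ℂ) := by
    rintro φ ⟨-, h | h | h⟩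
    exacts [⟨_, h⟩, ⟨_, h⟩, ⟨_, h⟩]
  have hnormZ : ∀ φ ∈ Z, ∃ k : ℕ, classInner φ φ = (k : ℂ) :=
    fun φ hφ => h14_calS_norm F φ hφ.1
  let dd : (↥M → ℂ) → ℕ := fun φ => if h : φ ∈ Z then Classical.choose (hdegZ φ h) else 0
  let nn : (↥M → ℂ) → ℕ := fun φ => if h : φ ∈ Z then Classical.choose (hnormZ φ h) else 0
  have hdd : ∀ φ ∈ Z, φ 1 = (dd φ : ℂ) := by
    intro φ hφ
    simp only [dd, dif_pos hφ]
    exact Classical.choose_spec (hdegZ φ hφ)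
  have hnn : ∀ φ ∈ Z, classInner φ φ = (nn φ : ℂ) := by
    intro φ hφ
    simp only [nn, dif_pos hφ]
    exact Classical.choose_spec (hnormZ φ hφ)
  have hdd_eq : ∀ φ ∈ Z, ∀ k : ℕ, φ 1 = (k : ℂ) → dd φ = k := by
    intro φ hφ k hk
    have := hdd φ hφ
    rw [hk] at this
    exact_mod_cast this.symm
  have hnn_irr : ∀ φ ∈ Z, IsIrrCharacter ↥M φ → nn φ = 1 := by
    intro φ hφ hirr
    have h := hnn φ hφ
    rw [Cfsg.Agent.Lib.Helper78.classInner_irr_self hirr] at h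
    exact_mod_cast h.symm
  set S₁ : Finset (↥M → ℂ) := hZ₁fin.toFinset with hS₁def
  have hS₁coe : (↑S₁ : Set (↥M → ℂ)) = Z₁ := Set.Finite.coe_toFinset hZ₁fin
  have hS₁mem : ∀ φ, φ ∈ S₁ ↔ φ ∈ Z₁ := fun φ => Set.Finite.mem_toFinset hZ₁fin
  refine coherent_of_extend hZfin hsysZ dd nn hdd hnn S₁ (by rw [hS₁coe]; exact hZ₁Z)
    (fun φ hφ => (hS₁mem _).mpr (hZ₁c φ ((hS₁mem φ).mp hφ))) (by rw [hS₁coe]; exact hcoh₁) ?_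
  intro χ hχ hχS₁
  have hχ1 : χ 1 = ((q * r ^ m : ℕ) : ℂ) := by
    rcases hχ.2 with h | h | h
    · exact absurd ((hS₁mem χ).mpr ⟨hχ.1, Or.inl h⟩) hχS₁
    · exact absurd ((hS₁mem χ).mpr ⟨hχ.1, Or.inr h⟩) hχS₁
    · exact h
  refine ⟨χ₀, (hS₁mem χ₀).mpr hχ₀Z₁, ?_, ?_⟩
  · rw [hdd_eq χ₀ (hZ₁Z hχ₀Z₁) _ hχ₀.2.2, hdd_eq χ hχ _ hχ1]
    refine Nat.mul_dvd_mul_left q ?_
    exact dvd_pow_self r (by omega)
  · rw [hdd_eq χ₀ (hZ₁Z hχ₀Z₁) _ hχ₀.2.2, hdd_eq χ hχ _ hχ1]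
    -- the two families of irreducible members
    set T₁ : Finset (↥M → ℂ) := hA₁fin.toFinset with hT₁def
    set T₂ : Finset (↥M → ℂ) := hA₂fin.toFinset with hT₂def
    have hT₁mem : ∀ φ, φ ∈ T₁ ↔ φ ∈ A₁ := fun φ => Set.Finite.mem_toFinset hA₁fin
    have hT₂mem : ∀ φ, φ ∈ T₂ ↔ φ ∈ A₂ := fun φ => Set.Finite.mem_toFinset hA₂fin
    have hT₁card : N₁ ≤ T₁.card := by
      rw [hT₁def, ← Set.ncard_eq_toFinset_card A₁ hA₁fin]; exact hN₁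
    have hT₂card : N₂ ≤ T₂.card := by
      rw [hT₂def, ← Set.ncard_eq_toFinset_card A₂ hA₂fin]; exact hN₂
    have hdisj : Disjoint T₁ T₂ := by
      rw [Finset.disjoint_left]
      intro φ h1' h2'
      have e1 := ((hT₁mem φ).mp h1').2.2
      have e2 := ((hT₂mem φ).mp h2').2.2
      rw [e1] at e2
      have e3 : q * r = q * r ^ 2 := by exact_mod_cast e2
      have e4 : r = r ^ 2 := Nat.eq_of_mul_eq_mul_left hq0 e3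
      nlinarith
    have hsub : T₁ ∪ T₂ ⊆ S₁ := by
      intro φ hφ
      rw [Finset.mem_union] at hφ
      rw [hS₁mem]
      rcases hφ with h | h
      · have := (hT₁mem φ).mp h
        exact ⟨this.1, Or.inl this.2.2⟩
      · have := (hT₂mem φ).mp h
        exact ⟨this.1, Or.inr this.2.2⟩
    have hsum1 : ∑ φ ∈ T₁ ∪ T₂, ((dd φ : ℝ) ^ 2 / (nn φ : ℝ)) ≤
        ∑ φ ∈ S₁, ((dd φ : ℝ) ^ 2 / (nn φ : ℝ)) := by
      apply Finset.sum_le_sum_of_subset_of_nonneg hsub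
      intro φ _ _
      positivity
    have hsumT₁ : ∑ φ ∈ T₁, ((dd φ : ℝ) ^ 2 / (nn φ : ℝ)) = (T₁.card : ℝ) * ((q * r : ℕ) : ℝ) ^ 2 := by
      rw [Finset.sum_congr rfl (g := fun _ => ((q * r : ℕ) : ℝ) ^ 2)]
      · rw [Finset.sum_const, nsmul_eq_mul]
      · intro φ hφ
        have hφ' := (hT₁mem φ).mp hφ
        have hφZ : φ ∈ Z := ⟨hφ'.1, Or.inl hφ'.2.2⟩
        rw [hdd_eq φ hφZ _ hφ'.2.2, hnn_irr φ hφZ hφ'.2.1]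
        simp
    have hsumT₂ : ∑ φ ∈ T₂, ((dd φ : ℝ) ^ 2 / (nn φ : ℝ)) =
        (T₂.card : ℝ) * ((q * r ^ 2 : ℕ) : ℝ) ^ 2 := by
      rw [Finset.sum_congr rfl (g := fun _ => ((q * r ^ 2 : ℕ) : ℝ) ^ 2)]
      · rw [Finset.sum_const, nsmul_eq_mul]
      · intro φ hφ
        have hφ' := (hT₂mem φ).mp hφ
        have hφZ : φ ∈ Z := ⟨hφ'.1, Or.inr (Or.inl hφ'.2.2)⟩
        rw [hdd_eq φ hφZ _ hφ'.2.2, hnn_irr φ hφZ hφ'.2.1]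
        simp
    rw [Finset.sum_union hdisj, hsumT₁, hsumT₂] at hsum1
    refine lt_of_lt_of_le ?_ hsum1
    -- arithmetic: 2 (q r^m) (q r) < |T₁| (q r)² + |T₂| (q r²)²
    have hnat : 2 * (q * r ^ m) * (q * r) < T₁.card * (q * r) ^ 2 + T₂.card * (q * r ^ 2) ^ 2 :=
      h14_arith q r m T₁.card T₂.card N₁ N₂ hq0 hr hm h1 h2 hT₁card hT₂card
    exact_mod_cast hnat

end Cfsg.Agent.Lib.Helper64.PF11
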