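import Mathlib
import Cfsg.Agent.Lib.Helper60.PFTenTDefs
import Cfsg.Agent.Lib.Helper51.PFCycCalS
import Cfsg.Agent.Lib.Helper51.PFCycIndGen
import Cfsg.Agent.Lib.Helper16.PFNineTen
import Cfsg.Agent.Lib.Helper26.PFBookC
import Cfsg.Agent.S0148
set_option autoImplicit false
open Cfsg Cfsg.Agent.Lib.Helper24.PFCyc Cfsg.Agent.Lib.Helper4.PF Cfsg.Agent.Lib.Helper4.PFTen Cfsg.Agent.Lib.Helper58.PF9 Cfsg.Agent.Lib.Helper74.PF127
universe u

namespace Cfsg.Agent.Lib.Helper14.PFTenT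

open Cfsg.Agent.Lib.Helper51.PFCyc

/-- `classInner` is subtractive in the first variable. -/
theorem h14_classInner_sub_left {L : Type*} [Group L] [Fintype L] (f₁ f₂ ψ : L → ℂ) :
    classInner (f₁ - f₂) ψ = classInner f₁ ψ - classInner f₂ ψ := by
  simp [classInner, sub_mul, Finset.sum_sub_distrib, mul_sub]

/-- `classInner` is subtractive in the second variable. -/
theorem h14_classInner_sub_right {L : Type*} [Group L] [Fintype L] (f ψ₁ ψ₂ : L → ℂ) :
    classInner f (ψ₁ - ψ₂) = classInner f ψ₁ - classInner f ψ₂ := by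
  simp [classInner, mul_sub, Finset.sum_sub_distrib]

/-- members of `calS M` are orthogonal to the principal character -/
theorem h14_calS_inner_one {G : Type u} [Group G] [Finite G] {M : Subgroup G} [Fintype M]
    (ζ : ↥M → ℂ) (hζ : ζ ∈ calS M) : classInner ζ (fun _ => 1) = 0 := by
  classical
  have hKn := KM_normal M
  have : Fintype ↥(KM M) := Fintype.ofFinite _
  obtain ⟨θ, hθ, hθ1, rfl⟩ := (Cfsg.Agent.Lib.Helper74.mem_inducedIrrAbove_bot_iff _).mp hζ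
  rw [Cfsg.Agent.Lib.Helper75.frobenius_reciprocity (KM M) θ
    (ψ := fun _ : ↥M => (1 : ℂ)) (fun _ _ => rfl)]
  exact Cfsg.Agent.Lib.Helper78.classInner_irr_ne hθ Cfsg.Agent.Lib.Helper78.isIrrCharacter_one hθ1

/-- MODULE [TS-ALPHA] -/
theorem alpha_facts {G : Type u} [Group G] [Finite G] {M W₁ U W₂ : Subgroup G} [Fintype M]
    {mu : WChar W₁ W₂ → (↥M → ℂ)} {dl : WChar W₁ W₂ → ℂ}
    (hP : IsTypePWith M W₁ U W₂) (hodd : Odd (Nat.card M)) (md : MuData M W₁ W₂ mu dl)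
    (ψ : WChar W₁ W₂) (hψ : TrivOn W₁ ψ) (hψ1 : ψ ≠ 1)
    (ξ : ↥M → ℂ) (hξ : ξ ∈ calS M) (hξirr : IsIrrCharacter ↥M ξ) :
    (IsGeneralizedCharacter ↥M (muSum mu ψ - ξ) ∧
      classInner (muSum mu ψ - ξ) (muSum mu ψ - ξ) = (Nat.card W₁ : ℂ) + 1 ∧
      classInner (muSum mu ψ - ξ) (fun _ => 1) = 0 ∧
      ∀ m : ↥M, (m : G) ∉ ⁅M, M⁆ → (muSum mu ψ - ξ) m = 0) ∧
    (conjFun ξ ∈ calS M ∧ IsIrrCharacter ↥M (conjFun ξ) ∧
      classInner (conjFun ξ - ξ) (conjFun ξ - ξ) = 2) := by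
  classical
  have hKn := KM_normal M
  have : Fintype ↥(KM M) := Fintype.ofFinite _
  have hS : muSum mu ψ ∈ calS M := muSum_mem_calS hP hodd md ψ hψ hψ1
  have hq2 : 1 < Nat.card W₁ := (Subgroup.one_lt_card_iff_ne_bot W₁).mpr hP.W₁_ne
  have hnormS : classInner (muSum mu ψ) (muSum mu ψ) = (Nat.card W₁ : ℂ) := by
    unfold muSum
    rw [classInner_sum_irr_self (trivSet W₁ W₂ W₂) (fun φ => mu (φ * ψ)) (fun φ _ => md.irr _)
      (fun φ _ φ' _ hh => mul_right_cancel (md.inj hh)), card_trivSet_W₂ hP.selfNormalizing]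
  have hξξ : classInner ξ ξ = 1 := Cfsg.Agent.Lib.Helper78.classInner_irr_self hξirr
  have hne : muSum mu ψ ≠ ξ := by
    intro hc
    rw [hc, hξξ] at hnormS
    have : (Nat.card W₁ : ℂ) = ((1 : ℕ) : ℂ) := by rw [← hnormS]; simp
    have h2 : Nat.card W₁ = 1 := by exact_mod_cast this
    omega
  obtain ⟨θS, hθS, hθS1, hSeq⟩ := (Cfsg.Agent.Lib.Helper74.mem_inducedIrrAbove_bot_iff _).mp hS
  obtain ⟨θξ, hθξ, hθξ1, hξeq⟩ := (Cfsg.Agent.Lib.Helper74.mem_inducedIrrAbove_bot_iff _).mp hξ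
  have horth1 : classInner (muSum mu ψ) ξ = 0 := by
    rw [hSeq, hξeq]
    apply inducedIrr_orth (KM M) hθS hθξ
    rw [← hSeq, ← hξeq]; exact hne
  have horth2 : classInner ξ (muSum mu ψ) = 0 := by
    rw [hSeq, hξeq]
    apply inducedIrr_orth (KM M) hθξ hθS
    rw [← hSeq, ← hξeq]; exact hne.symm
  have hScharacter : IsCharacter ↥M (muSum mu ψ) := by
    rw [hSeq]
    exact Cfsg.Agent.S0148.result (KM M) θS
      (Cfsg.Agent.Lib.Helper78.IsIrrCharacter.isCharacter hθS)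
  refine ⟨⟨?_, ?_, ?_, ?_⟩, ?_, ?_, ?_⟩
  · exact ⟨muSum mu ψ, ξ, hScharacter, Cfsg.Agent.Lib.Helper78.IsIrrCharacter.isCharacter hξirr,
      rfl⟩
  · rw [h14_classInner_sub_left, h14_classInner_sub_right, h14_classInner_sub_right, hnormS, horth1,
      horth2, hξξ]
    ring
  · rw [h14_classInner_sub_left, h14_calS_inner_one _ hS, h14_calS_inner_one _ hξ, sub_zero]
  · intro m hm
    have hmK : m ∉ KM M := fun hc => hm (Subgroup.mem_subgroupOf.mp hc)
    show muSum mu ψ m - ξ m = 0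
    rw [hSeq, hξeq, indFun_vanish_off_normal (KM M) θS hmK,
      indFun_vanish_off_normal (KM M) θξ hmK, sub_zero]
  · exact Cfsg.Agent.Lib.Helper74.sibleyS_conj_mem (KM M) hξ
  · exact Cfsg.Agent.Lib.Helper81.isIrrCharacter_conj hξirr
  · have hc1 : IsIrrCharacter ↥M (conjFun ξ) := Cfsg.Agent.Lib.Helper81.isIrrCharacter_conj hξirr
    have hne2 : conjFun ξ ≠ ξ := by
      rw [hξeq]
      exact indFun_conj_ne_self (KM M) hodd hθξ hθξ1
    rw [h14_classInner_sub_left, h14_classInner_sub_right, h14_classInner_sub_right,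
      Cfsg.Agent.Lib.Helper78.classInner_irr_self hc1, hξξ,
      Cfsg.Agent.Lib.Helper78.classInner_irr_ne hc1 hξirr hne2,
      Cfsg.Agent.Lib.Helper78.classInner_irr_ne hξirr hc1 hne2.symm]
    ring

end Cfsg.Agent.Lib.Helper14.PFTenT
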