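import Mathlib
import Cfsg.Agent.Lib.Helper60.PFTenTDefs
import Cfsg.Agent.Lib.Helper51.PFCycCalS
import Cfsg.Agent.Lib.Helper16.PFNineTen
import Cfsg.Agent.Lib.Helper26.PFBookC
set_option autoImplicit false
open Cfsg Cfsg.Agent.Lib.Helper24.PFCyc Cfsg.Agent.Lib.Helper4.PF Cfsg.Agent.Lib.Helper4.PFTen Cfsg.Agent.Lib.Helper58.PF9 Cfsg.Agent.Lib.Helper74.PF127
universe u

namespace Cfsg.Agent.Lib.Helper14.PFTenT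

/-- MODULE [TS-LINK] -/
theorem exists_psi_of_inv {G : Type u} [Group G] [Finite G] {M W₁ U W₂ : Subgroup G} [Fintype M]
    {mu : WChar W₁ W₂ → (↥M → ℂ)} {dl : WChar W₁ W₂ → ℂ}
    (hP : IsTypePWith M W₁ U W₂) (hodd : Odd (Nat.card M)) (md : MuData M W₁ W₂ mu dl)
    (θ₀ : ↥(KM M) → ℂ) (hθ₀ : IsIrrCharacter ↥(KM M) θ₀) (hθ₀1 : θ₀ ≠ fun _ => 1)
    (hinv : Cfsg.Agent.Lib.Helper51.PFCyc.W1Inv M W₁ θ₀) :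
    ∃ ψ : WChar W₁ W₂, TrivOn W₁ ψ ∧ ψ ≠ 1 ∧ (fun k : ↥(KM M) => mu ψ (k : ↥M)) = θ₀ ∧
      muSum mu ψ = indFun (KM M) θ₀ := by
  obtain ⟨ω, hω⟩ := Cfsg.Agent.Lib.Helper51.PFCyc.exists_mu_res_eq hP hodd md θ₀ hθ₀ hinv
  obtain ⟨ψ, hψ, hψω⟩ := Cfsg.Agent.Lib.Helper51.PFCyc.exists_W₂_part hP ω
  have hres : (fun k : ↥(KM M) => mu ψ (k : ↥M)) = θ₀ := by
    rw [← hω]
    funext k
    exact Cfsg.Agent.Lib.Helper50.PFCyc.mu_res_eq hP md ψ ω hψω (k : ↥M)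
      (Subgroup.mem_subgroupOf.mp k.2)
  refine ⟨ψ, hψ, ?_, hres, ?_⟩
  · intro hc
    apply hθ₀1
    rw [← hres, hc, Cfsg.Agent.Lib.Helper50.PFCyc.mu_one hP hodd md]
  · rw [(Cfsg.Agent.Lib.Helper51.PFCyc.muSum_eq_indFun hP hodd md ψ).2, hres]

end Cfsg.Agent.Lib.Helper14.PFTenT
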