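import Mathlib
import Cfsg.Agent.Lib.Helper14.PSL2Borel
import Cfsg.Agent.Lib.Helper20.DihQuatLift
import Cfsg.Agent.Lib.Helper41.SL2NsTorusNorm
import Cfsg.Agent.Lib.Helper41.SL2NsTorusCard
import Cfsg.Agent.Lib.Helper41.SL2TorusCount
import Cfsg.Agent.Lib.Helper5.PSL2Small

set_option autoImplicit false

/-!
# Dihedral subgroups of `PSL₂(F)` (helper14)

* `dihedral_of_coset_union`: abstract recognition of a dihedral subgroup `H = C ∪ bC`.
* `splitDih F`: image of the monomial subgroup (normalizer of the split torus), dihedral of order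
  `2 (q - 1) / d`.
* `nsDih t`: image of the normalizer of a non-split torus, dihedral of order `2 (q + 1) / d`.
-/

namespace Cfsg.Agent.Lib.Helper14

open Cfsg.Agent.Lib.Helper41 Cfsg.Agent.Lib.Helper20

/-- abstract recognition of dihedral subgroups -/
theorem dihedral_of_coset_union {Q : Type*} [Group Q] (H C : Subgroup Q) [Finite C] [IsCyclic C]
    (hCH : C ≤ H) (b : Q) (hbH : b ∈ H) (hbC : b ∉ C) (hb2 : b * b = 1)
    (hinv : ∀ c ∈ C, b * c * b⁻¹ = c⁻¹) (hall : ∀ h ∈ H, h ∈ C ∨ b * h ∈ C) :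
    Nonempty (H ≃* DihedralGroup (Nat.card C)) := by
  obtain ⟨⟨a, haC⟩, hgen⟩ := IsCyclic.exists_generator (α := C)
  have ho' : orderOf (⟨a, haC⟩ : C) = Nat.card C := orderOf_eq_card_of_forall_mem_zpowers hgen
  have ho : orderOf a = Nat.card C := by
    rw [← ho']; exact (Subgroup.orderOf_mk a haC).symm
  have hm : NeZero (Nat.card C) := ⟨Nat.card_pos.ne'⟩
  have ha : a ^ Nat.card C = 1 := by rw [← ho]; exact pow_orderOf_eq_one a
  have hz : Subgroup.zpowers a = C := by
    apply le_antisymm
    · rw [Subgroup.zpowers_le]; exact haC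
    · intro c hc
      have := hgen ⟨c, hc⟩
      obtain ⟨k, hk⟩ := Subgroup.mem_zpowers_iff.mp this
      have hk' := congrArg Subtype.val hk
      simp only [Subgroup.coe_zpow] at hk'
      exact Subgroup.mem_zpowers_iff.mpr ⟨k, hk'⟩
  have hab : b * a * b⁻¹ = a⁻¹ := hinv a haC
  have hba : b ∉ Subgroup.zpowers a := by rw [hz]; exact hbC
  have hinj := dihHom_injective a b (Nat.card C) ha hb2 hab ho hba
  have hrange : (dihHom a b (Nat.card C) ha hb2 hab).range = H := by
    apply le_antisymm
    · rintro _ ⟨(i | i), rfl⟩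
      · rw [dihHom_r]
        have hi : pw a (Nat.card C) i ∈ Subgroup.zpowers a := pw_mem_zpowers i
        rw [hz] at hi
        exact hCH hi
      · rw [dihHom_sr]
        have hi : pw a (Nat.card C) i ∈ Subgroup.zpowers a := pw_mem_zpowers i
        rw [hz] at hi
        exact H.mul_mem hbH (hCH hi)
    · intro h hh
      rcases hall h hh with hc | hc
      · rw [← hz] at hc
        obtain ⟨i, hi⟩ := exists_pw_of_mem_zpowers ha hc
        exact ⟨DihedralGroup.r i, by rw [dihHom_r, hi]⟩
      · rw [← hz] at hc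
        obtain ⟨i, hi⟩ := exists_pw_of_mem_zpowers ha hc
        refine ⟨DihedralGroup.sr i, ?_⟩
        rw [dihHom_sr, ← hi, ← mul_assoc, hb2, one_mul]
  exact ⟨((MonoidHom.ofInjective hinj).trans (MulEquiv.subgroupCongr hrange)).symm⟩

variable {F : Type*} [Field F]

local notation "π" => (QuotientGroup.mk' (Subgroup.center (Matrix.SpecialLinearGroup (Fin 2) F)))

/-! ### the split case -/

/-- image of the diagonal torus -/
def splitTorusBar (F : Type*) [Field F] :
    Subgroup (Matrix.ProjectiveSpecialLinearGroup (Fin 2) F) :=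
  (diagSub F).map (QuotientGroup.mk' (Subgroup.center (Matrix.SpecialLinearGroup (Fin 2) F)))

/-- image of the monomial subgroup -/
def splitDih (F : Type*) [Field F] :
    Subgroup (Matrix.ProjectiveSpecialLinearGroup (Fin 2) F) :=
  (monoSub F).map (QuotientGroup.mk' (Subgroup.center (Matrix.SpecialLinearGroup (Fin 2) F)))

theorem center_le_diagSub :
    Subgroup.center (Matrix.SpecialLinearGroup (Fin 2) F) ≤ diagSub F := by
  intro z hz
  rw [mem_center_iff_pm] at hz
  rw [mem_diagSub]
  rcases hz with h | h <;> refine ⟨?_, ?_⟩ <;> rw [h] <;> simp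

theorem card_splitTorusBar_mul [Fintype F] :
    Nat.card (splitTorusBar F) * Nat.card (Subgroup.center (Matrix.SpecialLinearGroup (Fin 2) F))
      = Fintype.card F - 1 := by
  rw [← card_diagSub]
  exact card_map_mk_mul _ _ center_le_diagSub

instance isCyclic_diagSub [Finite F] : IsCyclic (diagSub F) := by
  rw [diagSub_eq_range]
  exact isCyclic_of_surjective (diagHom (F := F)).rangeRestrict
    (MonoidHom.rangeRestrict_surjective _)

instance isCyclic_splitTorusBar [Finite F] : IsCyclic (splitTorusBar F) := by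
  unfold splitTorusBar
  exact isCyclic_of_surjective
    ((QuotientGroup.mk' (Subgroup.center (Matrix.SpecialLinearGroup (Fin 2) F))).subgroupMap
      (diagSub F))
    (MonoidHom.subgroupMap_surjective _ _)

theorem weylW_conj_diag {t : Matrix.SpecialLinearGroup (Fin 2) F} (ht : IsDiag t) :
    weylW * t * weylW⁻¹ = t⁻¹ := by
  apply sl2_ext
  · rw [mul_apply_00, mul_apply_00, mul_apply_01, inv_apply_00, inv_apply_10, inv_apply_00]
    simp [coe_weylW, ht.1, ht.2]
  · rw [mul_apply_01, mul_apply_00, mul_apply_01, inv_apply_01, inv_apply_11, inv_apply_01]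
    simp [coe_weylW, ht.1, ht.2]
  · rw [mul_apply_10, mul_apply_10, mul_apply_11, inv_apply_00, inv_apply_10, inv_apply_10]
    simp [coe_weylW, ht.1, ht.2]
  · rw [mul_apply_11, mul_apply_10, mul_apply_11, inv_apply_01, inv_apply_11, inv_apply_11]
    simp [coe_weylW, ht.1, ht.2]

theorem weylW_mul_self_coe :
    ((weylW * weylW : Matrix.SpecialLinearGroup (Fin 2) F) : Matrix (Fin 2) (Fin 2) F) = -1 := by
  rw [Matrix.SpecialLinearGroup.coe_mul, coe_weylW]
  ext i j
  fin_cases i <;> fin_cases j <;> simp [Matrix.mul_apply, Fin.sum_univ_two]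

/-- the image of the monomial group is dihedral -/
theorem splitDih_dihedral [Finite F] :
    Nonempty (splitDih F ≃* DihedralGroup (Nat.card (splitTorusBar F))) := by
  have : Fintype F := Fintype.ofFinite F
  apply dihedral_of_coset_union (splitDih F) (splitTorusBar F)
    (Subgroup.map_mono diagSub_le_monoSub) (π weylW)
  · exact ⟨weylW, weylW_mem_monoSub, rfl⟩
  · rintro ⟨t, ht, htw⟩
    have h := mk_eq_mk_entries (A := t) (B := weylW) htw 1 0 1 0
    have ht' : IsDiag t := ht
    rw [ht'.2, coe_weylW] at h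
    simp at h
  · show (π weylW) * (π weylW) = 1
    rw [← map_mul]
    show (QuotientGroup.mk (weylW * weylW) : Matrix.ProjectiveSpecialLinearGroup (Fin 2) F) = 1
    rw [mk_eq_one_iff]
    right
    exact weylW_mul_self_coe
  · rintro _ ⟨t, ht, rfl⟩
    rw [← map_inv, ← map_mul, ← map_mul, ← map_inv, weylW_conj_diag ht]
  · rintro _ ⟨g, hg, rfl⟩
    rcases hg with hg | hg
    · left; exact ⟨g, hg, rfl⟩
    · right
      rw [← map_mul]
      exact ⟨weylW * g, isAntidiag_weylW.mul hg, rfl⟩

/-! ### the non-split case -/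

/-- the normalizer of the non-split torus `nsTorus t` (as an explicit subgroup) -/
def nsNorm (t : F) : Subgroup (Matrix.SpecialLinearGroup (Fin 2) F) where
  carrier := {g | IsQuad t g ∨ IsQuadInv t g}
  mul_mem' := by
    rintro g h (hg | hg) (hh | hh)
    · exact Or.inl (hg.mul hh)
    · exact Or.inr (hg.mul_quadInv hh)
    · exact Or.inr (hg.mul_quad hh)
    · exact Or.inl (hg.mul hh)
  one_mem' := Or.inl ((mem_nsTorus_iff t 1).mp (Subgroup.one_mem _))
  inv_mem' := by
    rintro g (hg | hg)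
    · exact Or.inl hg.inv
    · exact Or.inr hg.inv

theorem nsTorus_le_nsNorm (t : F) : nsTorus t ≤ nsNorm t :=
  fun g hg => Or.inl ((mem_nsTorus_iff t g).mp hg)

/-- image of the non-split torus -/
def nsTorusBar (t : F) : Subgroup (Matrix.ProjectiveSpecialLinearGroup (Fin 2) F) :=
  (nsTorus t).map (QuotientGroup.mk' (Subgroup.center (Matrix.SpecialLinearGroup (Fin 2) F)))

/-- image of the normalizer of the non-split torus -/
def nsDih (t : F) : Subgroup (Matrix.ProjectiveSpecialLinearGroup (Fin 2) F) :=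
  (nsNorm t).map (QuotientGroup.mk' (Subgroup.center (Matrix.SpecialLinearGroup (Fin 2) F)))

theorem center_le_nsTorus (t : F) :
    Subgroup.center (Matrix.SpecialLinearGroup (Fin 2) F) ≤ nsTorus t := by
  intro z hz
  rw [mem_nsTorus_iff_commute]
  exact (Subgroup.mem_center_iff.mp hz (companion t))

theorem card_nsTorusBar_mul [Fintype F] {t : F} (ht : ∀ r : F, r ^ 2 ≠ -1 + t * r) :
    Nat.card (nsTorusBar t) * Nat.card (Subgroup.center (Matrix.SpecialLinearGroup (Fin 2) F))
      = Fintype.card F + 1 := by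
  rw [← card_nsTorus ht]
  exact card_map_mk_mul _ _ (center_le_nsTorus t)

theorem isCyclic_nsTorusBar [Fintype F] {t : F} (ht : ∀ r : F, r ^ 2 ≠ -1 + t * r) :
    IsCyclic (nsTorusBar t) := by
  have := isCyclic_nsTorus ht
  unfold nsTorusBar
  exact isCyclic_of_surjective
    ((QuotientGroup.mk' (Subgroup.center (Matrix.SpecialLinearGroup (Fin 2) F))).subgroupMap
      (nsTorus t))
    (MonoidHom.subgroupMap_surjective _ _)

theorem sq_ne_four_of_nonsplit {t : F} (ht : ∀ r : F, r ^ 2 ≠ -1 + t * r) : t ^ 2 ≠ 4 := by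
  intro h
  by_cases h2 : (2 : F) = 0
  · apply ht 1
    have h4 : (4 : F) = 0 := by
      have : (4 : F) = 2 * 2 := by norm_num
      rw [this, h2, mul_zero]
    rw [h4] at h
    have ht0 : t = 0 := pow_eq_zero_iff (two_ne_zero) |>.mp h
    rw [ht0]
    have : (-1 : F) = 1 := by
      have : (1 : F) + 1 = 0 := by rw [one_add_one_eq_two]; exact h2
      exact neg_eq_of_add_eq_zero_left this
    rw [this]; ring
  · apply ht (t / 2)
    field_simp
    linear_combination (-1 : F) * h

theorem isQuad_of_coe_eq_neg {t : F} {g x : Matrix.SpecialLinearGroup (Fin 2) F}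
    (hx : IsQuad t x) (h : (g : Matrix (Fin 2) (Fin 2) F) = -(x : Matrix (Fin 2) (Fin 2) F)) :
    IsQuad t g := by
  obtain ⟨h1, h2⟩ := hx
  refine ⟨?_, ?_⟩
  · rw [h, Matrix.neg_apply, Matrix.neg_apply, h1]
  · rw [h, Matrix.neg_apply, Matrix.neg_apply, Matrix.neg_apply, h2]; ring

theorem isQuad_of_coe_eq {t : F} {g x : Matrix.SpecialLinearGroup (Fin 2) F}
    (hx : IsQuad t x) (h : (g : Matrix (Fin 2) (Fin 2) F) = (x : Matrix (Fin 2) (Fin 2) F)) :
    IsQuad t g := by
  have : g = x := Subtype.ext h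
  rw [this]; exact hx

/-- the image of the normalizer of a non-split torus is dihedral -/
theorem nsDih_dihedral [Fintype F] {t : F} (ht : ∀ r : F, r ^ 2 ≠ -1 + t * r) :
    Nonempty (nsDih t ≃* DihedralGroup (Nat.card (nsTorusBar t))) := by
  have hcyc := isCyclic_nsTorusBar ht
  have ht4 := sq_ne_four_of_nonsplit ht
  obtain ⟨g0, hg0⟩ := exists_isQuadInv ht4
  apply dihedral_of_coset_union (nsDih t) (nsTorusBar t)
    (Subgroup.map_mono (nsTorus_le_nsNorm t)) (π g0)
  · exact ⟨g0, Or.inr hg0, rfl⟩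
  · rintro ⟨x, hx, hxg⟩
    have hx' : IsQuad t x := (mem_nsTorus_iff t x).mp hx
    have hxg' : (QuotientGroup.mk g0 : Matrix.ProjectiveSpecialLinearGroup (Fin 2) F)
        = QuotientGroup.mk x := hxg.symm
    rcases (mk_eq_mk_iff g0 x).mp hxg' with h | h
    · exact (isQuad_of_coe_eq hx' h).not_quadInv ht4 hg0
    · exact (isQuad_of_coe_eq_neg hx' h).not_quadInv ht4 hg0
  · show (π g0) * (π g0) = 1
    rw [← map_mul]
    show (QuotientGroup.mk (g0 * g0) : Matrix.ProjectiveSpecialLinearGroup (Fin 2) F) = 1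
    rw [mk_eq_one_iff]
    right
    rw [Matrix.SpecialLinearGroup.coe_mul]
    exact hg0.mul_self
  · rintro _ ⟨x, hx, rfl⟩
    rw [← map_inv, ← map_mul, ← map_mul, ← map_inv,
      hg0.conj_quad ((mem_nsTorus_iff t x).mp hx)]
  · rintro _ ⟨g, hg, rfl⟩
    rcases hg with hg | hg
    · left; exact ⟨g, (mem_nsTorus_iff t g).mpr hg, rfl⟩
    · right
      rw [← map_mul]
      exact ⟨g0 * g, (mem_nsTorus_iff t _).mpr (hg0.mul hg), rfl⟩

end Cfsg.Agent.Lib.Helper14
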