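import Mathlib

set_option autoImplicit false

/-!
# Arithmetic lemmas for the maximality of the dihedral subgroups of `PSL₂(q)` and for its minimal
index (helper14)

Throughout `z = gcd 2 (q - 1)`, `N = |PSL₂(q)|` with `N z = q (q - 1) (q + 1)`, `m` is the order of
an overgroup and `c z = q ± 1`.
-/

namespace Cfsg.Agent.Lib.Helper14

/-- basic consequence: index bound -/
theorem idx_ge_of_card_le {q z N h idx : ℕ} (hN : N * z = q * (q - 1) * (q + 1))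
    (hidx : idx * h = N) (hh : h * z ≤ q * (q - 1)) (hq2 : 2 ≤ q) : q + 1 ≤ idx := by
  have h1 : idx * (h * z) = q * (q - 1) * (q + 1) := by rw [← hN, ← hidx]; ring
  have h2 : idx * (h * z) ≤ idx * (q * (q - 1)) := Nat.mul_le_mul_left _ hh
  rw [h1] at h2
  have hpos : 0 < q * (q - 1) := Nat.mul_pos (by omega) (by omega)
  have h3 : (q * (q - 1)) * (q + 1) ≤ (q * (q - 1)) * idx := by rw [mul_comm _ idx]; exact h2
  exact Nat.le_of_mul_le_mul_left h3 hpos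

theorem zcases_pos {q z : ℕ} (hz : (z = 1 ∧ 2 ∣ q) ∨ (z = 2 ∧ ¬ 2 ∣ q)) : 0 < z := by
  rcases hz with ⟨h, _⟩ | ⟨h, _⟩ <;> omega

/-- plus case: `2c ≠ N` -/
theorem plus_ne_top {q z N c : ℕ} (_hz : (z = 1 ∧ 2 ∣ q) ∨ (z = 2 ∧ ¬ 2 ∣ q))
    (hN : N * z = q * (q - 1) * (q + 1)) (hc : c * z = q + 1) (hq2 : 3 ≤ q) : 2 * c ≠ N := by
  intro h
  rw [← h] at hN
  have h1 : 2 * (q + 1) = q * (q - 1) * (q + 1) := by rw [← hN, ← hc]; ring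
  have h2 : 2 * (q + 1) < q * (q - 1) * (q + 1) := by
    apply Nat.mul_lt_mul_of_pos_right _ (by omega)
    have : 3 * 2 ≤ q * (q - 1) := Nat.mul_le_mul hq2 (by omega)
    omega
  omega

theorem minus_ne_top {q z N c : ℕ} (_hz : (z = 1 ∧ 2 ∣ q) ∨ (z = 2 ∧ ¬ 2 ∣ q))
    (hN : N * z = q * (q - 1) * (q + 1)) (hc : c * z = q - 1) (hq2 : 2 ≤ q) : 2 * c ≠ N := by
  intro h
  rw [← h] at hN
  have h1 : 2 * (q - 1) = q * (q - 1) * (q + 1) := by rw [← hN, ← hc]; ring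
  have h2 : 2 * (q - 1) < q * (q - 1) * (q + 1) := by
    have : q * (q - 1) * (q + 1) = (q * (q + 1)) * (q - 1) := by ring
    rw [this]
    apply Nat.mul_lt_mul_of_pos_right _ (by omega)
    have : 2 * 3 ≤ q * (q + 1) := Nat.mul_le_mul hq2 (by omega)
    omega
  omega

/-- case (a), plus -/
theorem plus_case_a {q z c k m : ℕ} (hz : (z = 1 ∧ 2 ∣ q) ∨ (z = 2 ∧ ¬ 2 ∣ q))
    (hc : c * z = q + 1) (hq2 : 2 ≤ q)
    (hk : k ∣ (q + 1) / z ∨ k ∣ (q - 1) / z) (hm : m = k ∨ m = 2 * k) (h2 : 2 * c < m) : False := by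
  have hzpos := zcases_pos hz
  have hcq : (q + 1) / z = c := Nat.div_eq_of_eq_mul_left hzpos hc.symm
  have hcpos : 0 < c := by
    rcases Nat.eq_zero_or_pos c with h | h
    · rw [h] at hc; omega
    · exact h
  have hle : (q - 1) / z ≤ c := by rw [← hcq]; exact Nat.div_le_div_right (by omega)
  have hkc : k ≤ c := by
    rcases hk with hk | hk
    · rw [hcq] at hk; exact Nat.le_of_dvd hcpos hk
    · have hzle : z ≤ q - 1 := by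
        rcases hz with ⟨rfl, _⟩ | ⟨rfl, h⟩ <;> omega
      have h0 : 0 < (q - 1) / z := Nat.div_pos hzle hzpos
      exact (Nat.le_of_dvd h0 hk).trans hle
  rcases hm with rfl | rfl <;> omega

/-- case (a), minus -/
theorem minus_case_a {q z c k m : ℕ} (hz : (z = 1 ∧ 2 ∣ q) ∨ (z = 2 ∧ ¬ 2 ∣ q))
    (hc : c * z = q - 1) (hq2 : 4 ≤ q)
    (hk : k ∣ (q + 1) / z ∨ k ∣ (q - 1) / z) (hm : m = k ∨ m = 2 * k)
    (h1 : 2 * c ∣ m) (h2 : 2 * c < m) : False := by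
  have hzpos := zcases_pos hz
  have hcq : (q - 1) / z = c := Nat.div_eq_of_eq_mul_left hzpos hc.symm
  have hcpos : 0 < c := by
    rcases Nat.eq_zero_or_pos c with h | h
    · rw [h] at hc; omega
    · exact h
  rcases hk with hk | hk
  · -- k ∣ (q+1)/z
    have hzq : z ∣ q + 1 := by
      rcases hz with ⟨rfl, _⟩ | ⟨rfl, h⟩
      · exact one_dvd _
      · omega
    obtain ⟨c2, hc2⟩ := hzq
    have hc2' : (q + 1) / z = c2 := Nat.div_eq_of_eq_mul_right hzpos hc2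
    rw [hc2'] at hk
    -- m ∣ 2 * c2
    have hm2 : m ∣ 2 * c2 := by
      rcases hm with rfl | rfl
      · exact Dvd.dvd.mul_left hk 2
      · exact Nat.mul_dvd_mul_left 2 hk
    have h3 : 2 * c ∣ 2 * c2 := h1.trans hm2
    have h4 : c ∣ c2 := Nat.dvd_of_mul_dvd_mul_left (by norm_num) h3
    have h5 : c * z ∣ c2 * z := Nat.mul_dvd_mul_right h4 z
    rw [hc, mul_comm c2 z, ← hc2] at h5
    have h6 : (q - 1) ∣ 2 := by
      have : (q - 1) ∣ (q - 1) + 2 := by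
        have e : q - 1 + 2 = q + 1 := by omega
        rw [e]; exact h5
      exact (Nat.dvd_add_right (dvd_refl _)).mp this
    have := Nat.le_of_dvd (by norm_num) h6
    omega
  · rw [hcq] at hk
    have hkc : k ≤ c := Nat.le_of_dvd hcpos hk
    rcases hm with rfl | rfl <;> omega

/-- case (b), plus -/
theorem plus_case_b {q z c m n' : ℕ} (hz : (z = 1 ∧ 2 ∣ q) ∨ (z = 2 ∧ ¬ 2 ∣ q))
    (hc : c * z = q + 1) (hq2 : 2 ≤ q) (hn : n' * z = (q - 1) * q) (hm : m ∣ n')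
    (h1 : 2 * c ∣ m) : False := by
  have h3 : 2 * c ∣ n' := h1.trans hm
  have h4 : 2 * c * z ∣ n' * z := Nat.mul_dvd_mul_right h3 z
  rw [hn, mul_assoc, hc] at h4
  have h5 : (q + 1) ∣ (q - 1) * q := (Dvd.intro_left 2 rfl).trans h4
  -- (q-1) q = (q+1)(q-2) + 2
  have e : (q - 1) * q = (q + 1) * (q - 2) + 2 := by
    obtain ⟨s, rfl⟩ : ∃ s, q = s + 2 := ⟨q - 2, by omega⟩
    simp only [Nat.add_sub_cancel]
    have : s + 2 - 1 = s + 1 := by omega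
    rw [this]; ring
  rw [e] at h5
  have h6 : (q + 1) ∣ 2 := (Nat.dvd_add_right (Dvd.intro _ rfl)).mp h5
  have := Nat.le_of_dvd (by norm_num) h6
  omega

/-- case (b), minus: forces `q` even -/
theorem minus_case_b {q z c m n' : ℕ} (_hz : (z = 1 ∧ 2 ∣ q) ∨ (z = 2 ∧ ¬ 2 ∣ q))
    (hc : c * z = q - 1) (hq2 : 2 ≤ q) (hn : n' * z = (q - 1) * q) (hm : m ∣ n')
    (h1 : 2 * c ∣ m) : 2 ∣ q := by
  have h3 : 2 * c ∣ n' := h1.trans hm
  have h4 : 2 * c * z ∣ n' * z := Nat.mul_dvd_mul_right h3 z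
  rw [hn, mul_assoc, hc, mul_comm 2 (q - 1)] at h4
  exact Nat.dvd_of_mul_dvd_mul_left (by omega) h4

theorem plus_case_c12 {q z N c : ℕ} (hz : (z = 1 ∧ 2 ∣ q) ∨ (z = 2 ∧ ¬ 2 ∣ q))
    (hN : N * z = q * (q - 1) * (q + 1)) (hc : c * z = q + 1) (hq2 : 2 ≤ q) (hq : q ≠ 2)
    (h1 : 2 * c ∣ 12) (h2 : 2 * c < 12) (h3 : 12 ∣ N) : N = 12 ∨ (q = 5 ∧ c = 3) := by
  have hqe : q = c * z - 1 := by omega
  subst hqe
  have hc5 : c ≤ 5 := by omega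
  rcases hz with ⟨rfl, hpar⟩ | ⟨rfl, hpar⟩ <;> interval_cases c <;> (try norm_num at *) <;>
    (try omega)

theorem plus_case_c24 {q z N c : ℕ} (hz : (z = 1 ∧ 2 ∣ q) ∨ (z = 2 ∧ ¬ 2 ∣ q))
    (hN : N * z = q * (q - 1) * (q + 1)) (hc : c * z = q + 1) (hq2 : 2 ≤ q) (hq : q ≠ 2)
    (hq7 : q ≠ 7)
    (h1 : 2 * c ∣ 24) (h2 : 2 * c < 24) (h3 : 24 ∣ N) : False := by
  have hqe : q = c * z - 1 := by omega
  subst hqe
  have hc5 : c ≤ 11 := by omega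
  rcases hz with ⟨rfl, hpar⟩ | ⟨rfl, hpar⟩ <;> interval_cases c <;> (try norm_num at *) <;>
    (try omega)

theorem plus_case_c60 {q z N c : ℕ} (hz : (z = 1 ∧ 2 ∣ q) ∨ (z = 2 ∧ ¬ 2 ∣ q))
    (hN : N * z = q * (q - 1) * (q + 1)) (hc : c * z = q + 1) (hq2 : 2 ≤ q) (hq : q ≠ 2)
    (hq9 : q ≠ 9)
    (hc' : c = 1 ∨ c = 2 ∨ c = 3 ∨ c = 5) (h3 : 60 ∣ N) : N = 60 := by
  have hqe : q = c * z - 1 := by omega
  subst hqe
  rcases hz with ⟨rfl, hpar⟩ | ⟨rfl, hpar⟩ <;> rcases hc' with rfl | rfl | rfl | rfl <;>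
    (try norm_num at *) <;> (try omega)

theorem minus_case_c12 {q z N c : ℕ} (hz : (z = 1 ∧ 2 ∣ q) ∨ (z = 2 ∧ ¬ 2 ∣ q))
    (hN : N * z = q * (q - 1) * (q + 1)) (hc : c * z = q - 1) (hq2 : 2 ≤ q)
    (hq : q ≠ 2 ∧ q ≠ 3 ∧ q ≠ 5 ∧ q ≠ 7)
    (h1 : 2 * c ∣ 12) (h2 : 2 * c < 12) (h3 : 12 ∣ N) : q = 4 ∧ c = 3 := by
  have hqe : q = c * z + 1 := by omega
  subst hqe
  have hc5 : c ≤ 5 := by omega
  rcases hz with ⟨rfl, hpar⟩ | ⟨rfl, hpar⟩ <;> interval_cases c <;> (try norm_num at *) <;>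
    (try omega)

theorem minus_case_c24 {q z N c : ℕ} (hz : (z = 1 ∧ 2 ∣ q) ∨ (z = 2 ∧ ¬ 2 ∣ q))
    (hN : N * z = q * (q - 1) * (q + 1)) (hc : c * z = q - 1) (hq2 : 2 ≤ q)
    (hq : q ≠ 2 ∧ q ≠ 3 ∧ q ≠ 5 ∧ q ≠ 7 ∧ q ≠ 9)
    (h1 : 2 * c ∣ 24) (h2 : 2 * c < 24) (h3 : 24 ∣ N) : False := by
  have hqe : q = c * z + 1 := by omega
  subst hqe
  have hc5 : c ≤ 11 := by omega
  rcases hz with ⟨rfl, hpar⟩ | ⟨rfl, hpar⟩ <;> interval_cases c <;> (try norm_num at *) <;>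
    (try omega)

theorem minus_case_c60 {q z N c : ℕ} (hz : (z = 1 ∧ 2 ∣ q) ∨ (z = 2 ∧ ¬ 2 ∣ q))
    (hN : N * z = q * (q - 1) * (q + 1)) (hc : c * z = q - 1) (hq2 : 2 ≤ q)
    (hq : q ≠ 2 ∧ q ≠ 3 ∧ q ≠ 5 ∧ q ≠ 7 ∧ q ≠ 11)
    (hc' : c = 1 ∨ c = 2 ∨ c = 3 ∨ c = 5) (h3 : 60 ∣ N) : N = 60 := by
  have hqe : q = c * z + 1 := by omega
  subst hqe
  rcases hz with ⟨rfl, hpar⟩ | ⟨rfl, hpar⟩ <;> rcases hc' with rfl | rfl | rfl | rfl <;>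
    (try norm_num at *) <;> (try omega)

theorem rr_add (r : ℕ) (hr : 1 ≤ r) : r * (r - 1) * (r + 1) + r = r ^ 3 := by
  obtain ⟨s, rfl⟩ : ∃ s, r = s + 1 := ⟨r - 1, by omega⟩
  simp only [Nat.add_sub_cancel]
  ring

theorem rr_add_two (r : ℕ) (hr : 1 ≤ r) : r * (r - 1) * (r + 1) + 2 * r = r * (r ^ 2 + 1) := by
  obtain ⟨s, rfl⟩ : ∃ s, r = s + 1 := ⟨r - 1, by omega⟩
  simp only [Nat.add_sub_cancel]
  ring

/-- case (d) with `m = 1`: the subgroup is everything -/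
theorem case_d_one {q z N m : ℕ} (hz : (z = 1 ∧ 2 ∣ q) ∨ (z = 2 ∧ ¬ 2 ∣ q))
    (hN : N * z = q * (q - 1) * (q + 1)) (hq2 : 2 ≤ q)
    (hm : m * z = q * (q - 1) * (q + 1) ∨ m = q * (q - 1) * (q + 1)) (h3 : m ∣ N) : m = N := by
  have hpos : 0 < q * (q - 1) * (q + 1) :=
    Nat.mul_pos (Nat.mul_pos (by omega) (by omega)) (by omega)
  have hzpos : 0 < z := by rcases hz with ⟨h, _⟩ | ⟨h, _⟩ <;> omega
  have hNpos : 0 < N := by
    rcases Nat.eq_zero_or_pos N with h | h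
    · rw [h] at hN; omega
    · exact h
  rcases hm with hm | hm
  · exact Nat.eq_of_mul_eq_mul_right hzpos (hm.trans hN.symm)
  · rw [← hN] at hm
    have h4 : m ≤ N := Nat.le_of_dvd hNpos h3
    have h5 : N * 1 ≤ N * z := Nat.mul_le_mul_left _ hzpos
    have h6 : N * z = N := by omega
    rw [hm, h6]

theorem plus_case_d_ge3 {q z c m r k : ℕ} (hz : (z = 1 ∧ 2 ∣ q) ∨ (z = 2 ∧ ¬ 2 ∣ q))
    (hc : c * z = q + 1) (hr : 2 ≤ r) (hk : 3 ≤ k) (hrk : r ^ k = q)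
    (hm : m ∣ r * (r - 1) * (r + 1)) (h2 : 2 * c < m) : False := by
  have hR := rr_add r (by omega)
  have hpow : r ^ 3 ≤ r ^ k := Nat.pow_le_pow_right (by omega) hk
  have hRpos : 0 < r * (r - 1) * (r + 1) :=
    Nat.mul_pos (Nat.mul_pos (by omega) (by omega)) (by omega)
  have hmle := Nat.le_of_dvd hRpos hm
  have hc2 : q + 1 ≤ 2 * c := by
    rcases hz with ⟨rfl, _⟩ | ⟨rfl, _⟩ <;> omega
  omega

theorem minus_case_d_ge3 {q z c m r k : ℕ} (hz : (z = 1 ∧ 2 ∣ q) ∨ (z = 2 ∧ ¬ 2 ∣ q))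
    (hc : c * z = q - 1) (hr : 2 ≤ r) (hk : 3 ≤ k) (hrk : r ^ k = q)
    (hm : m ∣ r * (r - 1) * (r + 1)) (h2 : 2 * c < m) : False := by
  have hR := rr_add r (by omega)
  have hpow : r ^ 3 ≤ r ^ k := Nat.pow_le_pow_right (by omega) hk
  have hRpos : 0 < r * (r - 1) * (r + 1) :=
    Nat.mul_pos (Nat.mul_pos (by omega) (by omega)) (by omega)
  have hmle := Nat.le_of_dvd hRpos hm
  have hc2 : q - 1 ≤ 2 * c := by
    rcases hz with ⟨rfl, _⟩ | ⟨rfl, _⟩ <;> omega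
  omega

theorem plus_case_d_two {q z c m r : ℕ} (hz : (z = 1 ∧ 2 ∣ q) ∨ (z = 2 ∧ ¬ 2 ∣ q))
    (hc : c * z = q + 1) (hr : 2 ≤ r) (hrk : r ^ 2 = q)
    (hm : m ∣ r * (r - 1) * (r + 1)) (h1 : 2 * c ∣ m) : False := by
  have hR := rr_add_two r (by omega)
  have h3 : 2 * c ∣ r * (r - 1) * (r + 1) := h1.trans hm
  have h4 : (r ^ 2 + 1) ∣ r * (r - 1) * (r + 1) := by
    rw [hrk, ← hc]
    rcases hz with ⟨rfl, _⟩ | ⟨rfl, _⟩
    · rw [mul_one]; exact (Dvd.intro_left 2 rfl).trans h3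
    · rw [mul_comm c 2]; exact h3
  have h5 : (r ^ 2 + 1) ∣ r * (r - 1) * (r + 1) + 2 * r := by
    rw [hR]; exact Dvd.intro_left r rfl
  have h6 : (r ^ 2 + 1) ∣ 2 * r := (Nat.dvd_add_right h4).mp h5
  have h7 := Nat.le_of_dvd (by omega) h6
  nlinarith

theorem minus_case_d_two {q z c m r : ℕ} (hz : (z = 1 ∧ 2 ∣ q) ∨ (z = 2 ∧ ¬ 2 ∣ q))
    (hc : c * z = q - 1) (hr : 2 ≤ r) (hrk : r ^ 2 = q) (hq9 : q ≠ 9)
    (hm : m ∣ r * (r - 1) * (r + 1)) (h2 : 2 * c < m) (hord : c ≤ r + 1) : False := by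
  have hRpos : 0 < r * (r - 1) * (r + 1) :=
    Nat.mul_pos (Nat.mul_pos (by omega) (by omega)) (by omega)
  have hmle := Nat.le_of_dvd hRpos hm
  have hz2 : z ≤ 2 := by rcases hz with ⟨rfl, _⟩ | ⟨rfl, _⟩ <;> omega
  have hr3 : r ≤ 3 := by
    by_contra hcon
    push Not at hcon
    have h1 : c * z ≤ (r + 1) * 2 := Nat.mul_le_mul hord hz2
    have h2 : r ^ 2 - 1 ≤ (r + 1) * 2 := by rw [hrk, ← hc]; exact h1
    have h3 : 4 * r ≤ r ^ 2 := by nlinarith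
    have h4 : 1 ≤ r ^ 2 := by nlinarith
    omega
  interval_cases r
  · -- r = 2
    norm_num at hrk
    subst hrk
    rcases hz with ⟨rfl, _⟩ | ⟨rfl, hpar⟩
    · norm_num at hc hmle; omega
    · omega
  · norm_num at hrk
    omega

/-! ### index bounds -/

theorem idx_case_a {q z m k : ℕ} (hz : (z = 1 ∧ 2 ∣ q) ∨ (z = 2 ∧ ¬ 2 ∣ q)) (hq4 : 4 ≤ q)
    (hk : k ∣ (q + 1) / z ∨ k ∣ (q - 1) / z) (hm : m = k ∨ m = 2 * k) :
    m * z ≤ q * (q - 1) := by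
  have hzpos := zcases_pos hz
  have hzle : z ≤ q - 1 := by
    rcases hz with ⟨rfl, _⟩ | ⟨rfl, h⟩ <;> omega
  have hkz : k * z ≤ q + 1 := by
    rcases hk with hk | hk
    · have h0 : 0 < (q + 1) / z := Nat.div_pos (by omega) hzpos
      have := Nat.le_of_dvd h0 hk
      calc k * z ≤ (q + 1) / z * z := Nat.mul_le_mul_right _ this
        _ ≤ q + 1 := Nat.div_mul_le_self _ _
    · have h0 : 0 < (q - 1) / z := Nat.div_pos hzle hzpos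
      have := Nat.le_of_dvd h0 hk
      calc k * z ≤ (q - 1) / z * z := Nat.mul_le_mul_right _ this
        _ ≤ q - 1 := Nat.div_mul_le_self _ _
        _ ≤ q + 1 := by omega
  have h4 : 4 * (q - 1) ≤ q * (q - 1) := Nat.mul_le_mul_right _ hq4
  have hmz : m * z ≤ 2 * (q + 1) := by
    rcases hm with rfl | rfl
    · omega
    · rw [mul_assoc]; omega
  omega

theorem idx_case_c {q z N m idx : ℕ} (hz : (z = 1 ∧ 2 ∣ q) ∨ (z = 2 ∧ ¬ 2 ∣ q))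
    (hN : N * z = q * (q - 1) * (q + 1)) (hq2 : 2 ≤ q)
    (hq : q ≠ 2 ∧ q ≠ 3 ∧ q ≠ 5 ∧ q ≠ 7 ∧ q ≠ 9 ∧ q ≠ 11)
    (hm : m = 12 ∨ m = 24 ∨ m = 60) (hidx : idx * m = N) (hne : m ≠ N) : q + 1 ≤ idx := by
  by_cases h12 : 12 ≤ q
  · apply idx_ge_of_card_le hN hidx _ hq2
    have h1 : 12 * 11 ≤ q * (q - 1) := Nat.mul_le_mul h12 (by omega)
    have hz2 : z ≤ 2 := by rcases hz with ⟨rfl, _⟩ | ⟨rfl, _⟩ <;> omega
    have hm60 : m ≤ 60 := by rcases hm with rfl | rfl | rfl <;> omega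
    calc m * z ≤ 60 * 2 := Nat.mul_le_mul hm60 hz2
      _ ≤ q * (q - 1) := by omega
  · push Not at h12
    obtain ⟨h2, h3, h5, h7, h9, h11⟩ := hq
    interval_cases q <;> (try omega) <;>
      (rcases hz with ⟨rfl, hpar⟩ | ⟨rfl, hpar⟩ <;> (try omega) <;>
        (rcases hm with rfl | rfl | rfl <;> norm_num at hN <;> omega))

theorem idx_case_d {q z m r k : ℕ} (hz : (z = 1 ∧ 2 ∣ q) ∨ (z = 2 ∧ ¬ 2 ∣ q))
    (hr : 2 ≤ r) (hk : 2 ≤ k) (hrk : r ^ k = q)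
    (hm : m ∣ r * (r - 1) * (r + 1)) : m * z ≤ q * (q - 1) := by
  have hRpos : 0 < r * (r - 1) * (r + 1) :=
    Nat.mul_pos (Nat.mul_pos (by omega) (by omega)) (by omega)
  have hmle := Nat.le_of_dvd hRpos hm
  have hz2 : z ≤ 2 := by rcases hz with ⟨rfl, _⟩ | ⟨rfl, _⟩ <;> omega
  have hpow : r ^ 2 ≤ q := by rw [← hrk]; exact Nat.pow_le_pow_right (by omega) hk
  have h1 : r ^ 2 * (r ^ 2 - 1) ≤ q * (q - 1) := Nat.mul_le_mul hpow (Nat.sub_le_sub_right hpow 1)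
  have h2 : r * (r - 1) * (r + 1) * 2 ≤ r ^ 2 * (r ^ 2 - 1) := by
    obtain ⟨s, rfl⟩ : ∃ s, r = s + 2 := ⟨r - 2, by omega⟩
    have e1 : s + 2 - 1 = s + 1 := by omega
    have e2 : (s + 2) ^ 2 - 1 = (s + 1) * (s + 3) := by
      have : (s + 2) ^ 2 = (s + 1) * (s + 3) + 1 := by ring
      omega
    rw [e1, e2]
    calc (s + 2) * (s + 1) * (s + 2 + 1) * 2 = 2 * ((s + 2) * (s + 1) * (s + 3)) := by ring
      _ ≤ (s + 2) * ((s + 2) * (s + 1) * (s + 3)) := Nat.mul_le_mul_right _ (by omega)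
      _ = (s + 2) ^ 2 * ((s + 1) * (s + 3)) := by ring
  calc m * z ≤ r * (r - 1) * (r + 1) * 2 := Nat.mul_le_mul hmle hz2
    _ ≤ r ^ 2 * (r ^ 2 - 1) := h2
    _ ≤ q * (q - 1) := h1

end Cfsg.Agent.Lib.Helper14
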