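import Mathlib

set_option autoImplicit false

/-!
# Group-theoretic lemmas on embedded dihedral groups (helper14)
-/

namespace Cfsg.Agent.Lib.Helper14

/-- a `p`-element normalizing a Sylow `p`-subgroup lies in it -/
theorem mem_sylow_of_mem_normalizer {G : Type*} [Group G] {p : ℕ} [Fact p.Prime] (P : Sylow p G)
    {x : G} (hx : x ∈ Subgroup.normalizer ((P : Subgroup G) : Set G))
    (hxp : ∃ k : ℕ, x ^ (p ^ k) = 1) : x ∈ (P : Subgroup G) := by
  obtain ⟨k, hk⟩ := hxp
  have h1 : IsPGroup p (Subgroup.zpowers x) := by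
    rintro ⟨y, hy⟩
    obtain ⟨j, rfl⟩ := Subgroup.mem_zpowers_iff.mp hy
    refine ⟨k, ?_⟩
    apply Subtype.ext
    simp only [Subgroup.coe_pow, Subgroup.coe_one]
    rw [← zpow_natCast, ← zpow_mul, mul_comm, zpow_mul, zpow_natCast, hk, one_zpow]
  have h2 : Subgroup.zpowers x ≤ Subgroup.normalizer ((P : Subgroup G) : Set G) := by
    rw [Subgroup.zpowers_le]; exact hx
  have h3 : IsPGroup p (Subgroup.zpowers x ⊔ (P : Subgroup G) : Subgroup G) :=
    IsPGroup.to_sup_of_normal_right' h1 P.2 h2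
  have h4 := P.is_maximal' h3 le_sup_right
  have h5 : x ∈ Subgroup.zpowers x ⊔ (P : Subgroup G) :=
    (le_sup_left : Subgroup.zpowers x ≤ _) (Subgroup.mem_zpowers x)
  rw [h4] at h5
  exact h5

/-- a dihedral group of order `2n`, `n` odd, inside the normalizer of a Sylow `2`-subgroup has
`n = 1` -/
theorem dihedral_in_sylow_two_normalizer {G : Type*} [Group G] (P : Sylow 2 G) {n : ℕ}
    (ψ : DihedralGroup n →* G) (hψ : Function.Injective ψ)
    (hrange : ∀ d, ψ d ∈ Subgroup.normalizer ((P : Subgroup G) : Set G)) (hn : Odd n) : n = 1 := by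
  have hx : ψ (DihedralGroup.sr 0) ∈ (P : Subgroup G) := by
    apply mem_sylow_of_mem_normalizer P (hrange _)
    refine ⟨1, ?_⟩
    rw [pow_one, pow_two, ← map_mul, DihedralGroup.sr_mul_self, map_one]
  have hy : ψ (DihedralGroup.sr 1) ∈ (P : Subgroup G) := by
    apply mem_sylow_of_mem_normalizer P (hrange _)
    refine ⟨1, ?_⟩
    rw [pow_one, pow_two, ← map_mul, DihedralGroup.sr_mul_self, map_one]
  have hxy : ψ (DihedralGroup.r 1) ∈ (P : Subgroup G) := by
    have : (DihedralGroup.r 1 : DihedralGroup n) = DihedralGroup.sr 0 * DihedralGroup.sr 1 := by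
      rw [DihedralGroup.sr_mul_sr, sub_zero]
    rw [this, map_mul]
    exact (P : Subgroup G).mul_mem hx hy
  obtain ⟨k, hk⟩ := P.2 ⟨_, hxy⟩
  have hk' : ψ (DihedralGroup.r 1) ^ (2 ^ k) = 1 := by
    have := congrArg Subtype.val hk
    simpa using this
  have hord : orderOf (ψ (DihedralGroup.r 1)) = n := by
    rw [orderOf_injective ψ hψ, DihedralGroup.orderOf_r_one]
  have hdvd : n ∣ 2 ^ k := by rw [← hord]; exact orderOf_dvd_of_pow_eq_one hk'
  have hcop : Nat.Coprime n (2 ^ k) := Nat.Coprime.pow_right k (Nat.Coprime.symm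
    ((Nat.Prime.coprime_iff_not_dvd Nat.prime_two).mpr (fun h => by
      rcases hn with ⟨j, rfl⟩; omega)))
  exact Nat.Coprime.eq_one_of_dvd hcop hdvd

/-- bounded element orders bound the rotation order of an embedded dihedral group -/
theorem dihedral_le_of_bounded {X : Type*} [Group X] {n B : ℕ}
    (ψ : DihedralGroup n →* X) (hψ : Function.Injective ψ)
    (hX : ∀ x : X, ∃ j : ℕ, 0 < j ∧ j ≤ B ∧ x ^ j = 1) : n ≤ B := by
  obtain ⟨j, hj0, hjB, hj⟩ := hX (ψ (DihedralGroup.r 1))
  have hord : orderOf (ψ (DihedralGroup.r 1)) = n := by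
    rw [orderOf_injective ψ hψ, DihedralGroup.orderOf_r_one]
  have hdvd : n ∣ j := by rw [← hord]; exact orderOf_dvd_of_pow_eq_one hj
  exact (Nat.le_of_dvd hj0 hdvd).trans hjB

set_option maxRecDepth 100000 in
theorem alt5_orders : ∀ x : alternatingGroup (Fin 5), x ^ 2 = 1 ∨ x ^ 3 = 1 ∨ x ^ 5 = 1 := by
  decide

set_option maxRecDepth 100000 in
theorem alt4_inversion : ∀ x y : alternatingGroup (Fin 4), x ^ 3 = 1 → y * x * y⁻¹ = x⁻¹ → x = 1 := by
  decide

theorem dihedral_in_alt5 {n : ℕ} (ψ : DihedralGroup n →* alternatingGroup (Fin 5))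
    (hψ : Function.Injective ψ) : n = 1 ∨ n = 2 ∨ n = 3 ∨ n = 5 := by
  have hord : orderOf (ψ (DihedralGroup.r 1)) = n := by
    rw [orderOf_injective ψ hψ, DihedralGroup.orderOf_r_one]
  rcases alt5_orders (ψ (DihedralGroup.r 1)) with h | h | h
  · have hdvd : n ∣ 2 := by rw [← hord]; exact orderOf_dvd_of_pow_eq_one h
    have := Nat.le_of_dvd (by norm_num) hdvd
    interval_cases n <;> simp_all
  · have hdvd : n ∣ 3 := by rw [← hord]; exact orderOf_dvd_of_pow_eq_one h
    have := Nat.le_of_dvd (by norm_num) hdvd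
    interval_cases n <;> simp_all
  · have hdvd : n ∣ 5 := by rw [← hord]; exact orderOf_dvd_of_pow_eq_one h
    have := Nat.le_of_dvd (by norm_num) hdvd
    interval_cases n <;> simp_all

theorem not_dihedral_three_in_alt4 (ψ : DihedralGroup 3 →* alternatingGroup (Fin 4))
    (hψ : Function.Injective ψ) : False := by
  have h1 : ψ (DihedralGroup.r 1) ^ 3 = 1 := by
    rw [← map_pow]
    have : (DihedralGroup.r 1 : DihedralGroup 3) ^ 3 = 1 := by decide
    rw [this, map_one]
  have h2 : ψ (DihedralGroup.sr 0) * ψ (DihedralGroup.r 1) * (ψ (DihedralGroup.sr 0))⁻¹ =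
      (ψ (DihedralGroup.r 1))⁻¹ := by
    rw [← map_inv, ← map_inv, ← map_mul, ← map_mul]
    congr 1
  have h3 := alt4_inversion _ _ h1 h2
  have h4 : (DihedralGroup.r 1 : DihedralGroup 3) = 1 := hψ (by rw [h3, map_one])
  revert h4
  decide

end Cfsg.Agent.Lib.Helper14
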