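import Mathlib
import Cfsg.Agent.Lib.Helper14.PSL2Arith
import Cfsg.Agent.Lib.Helper14.PGL2Order
import Cfsg.Agent.Lib.Helper14.PSL2Borel
import Cfsg.Agent.Lib.Helper14.PSL2MaxArith
import Cfsg.Agent.Lib.Helper14.PSL2MaxGroup

set_option autoImplicit false

/-!
# Consequences of Dickson's theorem: maximal dihedral subgroups and the minimal index of `PSL₂(q)`
(helper14)

`DicksonConcl q p H` is the conclusion of Dickson's theorem (statement S0799) for the subgroup `H`.
Assuming it for all subgroups we prove that the dihedral subgroups of order `2 (q ± 1) / d` are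
maximal (with the usual exceptions) and that proper subgroups have index at least `q + 1`.
-/

namespace Cfsg.Agent.Lib.Helper14

open scoped MatrixGroups

variable {F : Type*} [Field F] [Fintype F]

/-- the conclusion of Dickson's theorem for a subgroup `H` of `PSL₂(F)`, `|F| = q` -/
def DicksonConcl (q p : ℕ) [Fact p.Prime]
    (H : Subgroup (Matrix.ProjectiveSpecialLinearGroup (Fin 2) F)) : Prop :=
  (∃ k : ℕ, (k ∣ (q + 1) / Nat.gcd 2 (q - 1) ∨ k ∣ (q - 1) / Nat.gcd 2 (q - 1)) ∧
      ((IsCyclic H ∧ Nat.card H = k) ∨ Nonempty (H ≃* DihedralGroup k))) ∨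
  (∃ (P : Sylow p (Matrix.ProjectiveSpecialLinearGroup (Fin 2) F))
      (K : Subgroup (Matrix.ProjectiveSpecialLinearGroup (Fin 2) F)),
      K ≤ Subgroup.normalizer
        ((P : Subgroup (Matrix.ProjectiveSpecialLinearGroup (Fin 2) F)) :
          Set (Matrix.ProjectiveSpecialLinearGroup (Fin 2) F)) ∧ Nonempty (H ≃* K)) ∨
  Nonempty (H ≃* alternatingGroup (Fin 4)) ∨ Nonempty (H ≃* Equiv.Perm (Fin 4)) ∨
  Nonempty (H ≃* alternatingGroup (Fin 5)) ∨
  (∃ (K : Type) (_ : Field K) (_ : Fintype K) (m : ℕ), Fintype.card K ^ m = q ∧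
    (Nonempty (H ≃* Matrix.ProjectiveSpecialLinearGroup (Fin 2) K) ∨
      Nonempty (H ≃* Matrix.ProjGenLinGroup (Fin 2) K)))

theorem card_lt_of_lt {G : Type*} [Group G] [Finite G] {H M : Subgroup G} (h : H < M) :
    Nat.card H < Nat.card M := by
  have h1 : Nat.card H ∣ Nat.card M := Subgroup.card_dvd_of_le h.le
  have h2 : Nat.card H ≤ Nat.card M := Nat.le_of_dvd Nat.card_pos h1
  refine lt_of_le_of_ne h2 (fun heq => h.ne ?_)
  exact Subgroup.eq_of_le_of_card_ge h.le heq.ge

/-- the order data of case (d) -/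
theorem case_d_card {K : Type} [Field K] [Fintype K]
    {X : Type*} [Group X]
    (hM : Nonempty (X ≃* Matrix.ProjectiveSpecialLinearGroup (Fin 2) K) ∨
      Nonempty (X ≃* Matrix.ProjGenLinGroup (Fin 2) K)) :
    (Nat.card X * Nat.gcd 2 (Fintype.card K - 1) =
        Fintype.card K * (Fintype.card K - 1) * (Fintype.card K + 1) ∨
      Nat.card X = Fintype.card K * (Fintype.card K - 1) * (Fintype.card K + 1)) ∧
    Nat.card X ∣ Fintype.card K * (Fintype.card K - 1) * (Fintype.card K + 1) ∧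
    ∀ x : X, ∃ j : ℕ, 0 < j ∧ j ≤ Fintype.card K + 1 ∧ x ^ j = 1 := by
  rcases hM with ⟨⟨f⟩⟩ | ⟨⟨f⟩⟩
  · have h1 : Nat.card X * Nat.gcd 2 (Fintype.card K - 1) =
        Fintype.card K * (Fintype.card K - 1) * (Fintype.card K + 1) := by
      rw [Nat.card_congr f.toEquiv]; exact card_PSL2_mul_gcd
    refine ⟨Or.inl h1, Dvd.intro _ h1, fun x => ?_⟩
    obtain ⟨j, hj0, hj, hx⟩ := psl2_exists_pow_eq_one (f x)
    refine ⟨j, hj0, hj, f.injective ?_⟩
    rw [map_pow, hx, map_one]
  · have h1 : Nat.card X =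
        Fintype.card K * (Fintype.card K - 1) * (Fintype.card K + 1) := by
      rw [Nat.card_congr f.toEquiv]; exact card_PGL2
    refine ⟨Or.inr h1, h1 ▸ dvd_refl _, fun x => ?_⟩
    obtain ⟨j, hj0, hj, hx⟩ := pgl2_exists_pow_eq_one (f x)
    refine ⟨j, hj0, hj, f.injective ?_⟩
    rw [map_pow, hx, map_one]

/-- a subgroup of `PSL₂(q)` isomorphic to the dihedral group of order `2 (q + 1) / d` is maximal,
`q ∉ {2, 7, 9}` -/
theorem isCoatom_dihedral_plus (p : ℕ) [Fact p.Prime] [CharP F p]
    (hD : ∀ M : Subgroup (Matrix.ProjectiveSpecialLinearGroup (Fin 2) F),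
      DicksonConcl (Fintype.card F) p M)
    (hq : Fintype.card F ≠ 2 ∧ Fintype.card F ≠ 7 ∧ Fintype.card F ≠ 9)
    (H : Subgroup (Matrix.ProjectiveSpecialLinearGroup (Fin 2) F)) (c : ℕ)
    (hc : c * Nat.gcd 2 (Fintype.card F - 1) = Fintype.card F + 1)
    (e : H ≃* DihedralGroup c) : IsCoatom H := by
  have hq2 : 2 ≤ Fintype.card F := Fintype.one_lt_card
  have hz := gcd_two_cases (Fintype.card F) (by omega)
  have hN : Nat.card (Matrix.ProjectiveSpecialLinearGroup (Fin 2) F) *
      Nat.gcd 2 (Fintype.card F - 1) =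
      Fintype.card F * (Fintype.card F - 1) * (Fintype.card F + 1) := card_PSL2_mul_gcd
  have hH : Nat.card H = 2 * c := by rw [Nat.card_congr e.toEquiv, DihedralGroup.nat_card]
  refine ⟨?_, fun M hHM => ?_⟩
  · intro htop
    rw [htop, Subgroup.card_top] at hH
    exact plus_ne_top hz hN hc (by omega) hH.symm
  · have h1 : 2 * c ∣ Nat.card M := hH ▸ Subgroup.card_dvd_of_le hHM.le
    have h2 : 2 * c < Nat.card M := hH ▸ card_lt_of_lt hHM
    have h3 : Nat.card M ∣ Nat.card (Matrix.ProjectiveSpecialLinearGroup (Fin 2) F) :=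
      Subgroup.card_subgroup_dvd_card M
    let ψ0 : DihedralGroup c →* M := (Subgroup.inclusion hHM.le).comp e.symm.toMonoidHom
    have hψ0 : Function.Injective ψ0 :=
      (Subgroup.inclusion_injective hHM.le).comp e.symm.injective
    suffices hcard : Nat.card M = Nat.card (Matrix.ProjectiveSpecialLinearGroup (Fin 2) F) from
      (Subgroup.card_eq_iff_eq_top M).mp hcard
    rcases hD M with ⟨k, hk, hM⟩ | ⟨P, K, hK, ⟨f⟩⟩ | ⟨⟨f⟩⟩ | ⟨⟨f⟩⟩ | ⟨⟨f⟩⟩ | ⟨K, _, _, k, hk, hM⟩
    · exfalso
      have hm : Nat.card M = k ∨ Nat.card M = 2 * k := by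
        rcases hM with ⟨_, h⟩ | ⟨⟨f⟩⟩
        · exact Or.inl h
        · right; rw [Nat.card_congr f.toEquiv, DihedralGroup.nat_card]
      exact plus_case_a hz hc hq2 hk hm h2
    · exfalso
      have hn := card_normalizer_sylow_mul p P
      rw [card_center_SL2_eq_gcd] at hn
      have hm : Nat.card M ∣ Nat.card (Subgroup.normalizer
          ((P : Subgroup (Matrix.ProjectiveSpecialLinearGroup (Fin 2) F)) :
            Set (Matrix.ProjectiveSpecialLinearGroup (Fin 2) F))) := by
        rw [Nat.card_congr f.toEquiv]; exact Subgroup.card_dvd_of_le hK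
      exact plus_case_b hz hc hq2 hn hm h1
    · have hm : Nat.card M = 12 := by rw [Nat.card_congr f.toEquiv, card_alt4]
      rw [hm] at h1 h2 h3
      rcases plus_case_c12 hz hN hc hq2 hq.1 h1 h2 h3 with h | ⟨_, hc3⟩
      · rw [hm, h]
      · exfalso
        subst hc3
        exact not_dihedral_three_in_alt4 (f.toMonoidHom.comp ψ0) (f.injective.comp hψ0)
    · exfalso
      have hm : Nat.card M = 24 := by rw [Nat.card_congr f.toEquiv, card_perm4]
      rw [hm] at h1 h2 h3
      exact plus_case_c24 hz hN hc hq2 hq.1 hq.2.1 h1 h2 h3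
    · have hm : Nat.card M = 60 := by rw [Nat.card_congr f.toEquiv, card_alt5]
      rw [hm] at h1 h2 h3
      have hc' := dihedral_in_alt5 (f.toMonoidHom.comp ψ0) (f.injective.comp hψ0)
      rw [hm, plus_case_c60 hz hN hc hq2 hq.1 hq.2.2 hc' h3]
    · have hr : 2 ≤ Fintype.card K := Fintype.one_lt_card
      obtain ⟨hcard, hdvd, -⟩ := case_d_card (K := K) hM
      rcases k with _ | _ | _ | k
      · exfalso; rw [pow_zero] at hk; omega
      · rw [zero_add, pow_one] at hk
        rw [hk] at hcard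
        exact case_d_one hz hN hq2 hcard h3
      · exfalso
        exact plus_case_d_two hz hc hr hk hdvd h1
      · exfalso
        exact plus_case_d_ge3 hz hc hr (by omega) hk hdvd h2

/-- a subgroup of `PSL₂(q)` isomorphic to the dihedral group of order `2 (q - 1) / d` is maximal,
`q ∉ {2, 3, 5, 7, 9, 11}` -/
theorem isCoatom_dihedral_minus (p : ℕ) [Fact p.Prime] [CharP F p]
    (hD : ∀ M : Subgroup (Matrix.ProjectiveSpecialLinearGroup (Fin 2) F),
      DicksonConcl (Fintype.card F) p M)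
    (hq : Fintype.card F ≠ 2 ∧ Fintype.card F ≠ 3 ∧ Fintype.card F ≠ 5 ∧ Fintype.card F ≠ 7 ∧
      Fintype.card F ≠ 9 ∧ Fintype.card F ≠ 11)
    (H : Subgroup (Matrix.ProjectiveSpecialLinearGroup (Fin 2) F)) (c : ℕ)
    (hc : c * Nat.gcd 2 (Fintype.card F - 1) = Fintype.card F - 1)
    (e : H ≃* DihedralGroup c) : IsCoatom H := by
  have hq2 : 2 ≤ Fintype.card F := Fintype.one_lt_card
  obtain ⟨hq_2, hq_3, hq_5, hq_7, hq_9, hq_11⟩ := hq
  have hz := gcd_two_cases (Fintype.card F) (by omega)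
  have hN : Nat.card (Matrix.ProjectiveSpecialLinearGroup (Fin 2) F) *
      Nat.gcd 2 (Fintype.card F - 1) =
      Fintype.card F * (Fintype.card F - 1) * (Fintype.card F + 1) := card_PSL2_mul_gcd
  have hH : Nat.card H = 2 * c := by rw [Nat.card_congr e.toEquiv, DihedralGroup.nat_card]
  refine ⟨?_, fun M hHM => ?_⟩
  · intro htop
    rw [htop, Subgroup.card_top] at hH
    exact minus_ne_top hz hN hc hq2 hH.symm
  · have h1 : 2 * c ∣ Nat.card M := hH ▸ Subgroup.card_dvd_of_le hHM.le
    have h2 : 2 * c < Nat.card M := hH ▸ card_lt_of_lt hHM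
    have h3 : Nat.card M ∣ Nat.card (Matrix.ProjectiveSpecialLinearGroup (Fin 2) F) :=
      Subgroup.card_subgroup_dvd_card M
    let ψ0 : DihedralGroup c →* M := (Subgroup.inclusion hHM.le).comp e.symm.toMonoidHom
    have hψ0 : Function.Injective ψ0 :=
      (Subgroup.inclusion_injective hHM.le).comp e.symm.injective
    suffices hcard : Nat.card M = Nat.card (Matrix.ProjectiveSpecialLinearGroup (Fin 2) F) from
      (Subgroup.card_eq_iff_eq_top M).mp hcard
    rcases hD M with ⟨k, hk, hM⟩ | ⟨P, K, hK, ⟨f⟩⟩ | ⟨⟨f⟩⟩ | ⟨⟨f⟩⟩ | ⟨⟨f⟩⟩ | ⟨K, _, _, k, hk, hM⟩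
    · exfalso
      have hm : Nat.card M = k ∨ Nat.card M = 2 * k := by
        rcases hM with ⟨_, h⟩ | ⟨⟨f⟩⟩
        · exact Or.inl h
        · right; rw [Nat.card_congr f.toEquiv, DihedralGroup.nat_card]
      exact minus_case_a hz hc (by omega) hk hm h1 h2
    · exfalso
      have hn := card_normalizer_sylow_mul p P
      rw [card_center_SL2_eq_gcd] at hn
      have hm : Nat.card M ∣ Nat.card (Subgroup.normalizer
          ((P : Subgroup (Matrix.ProjectiveSpecialLinearGroup (Fin 2) F)) :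
            Set (Matrix.ProjectiveSpecialLinearGroup (Fin 2) F))) := by
        rw [Nat.card_congr f.toEquiv]; exact Subgroup.card_dvd_of_le hK
      have heven : 2 ∣ Fintype.card F := minus_case_b hz hc hq2 hn hm h1
      -- the characteristic is two
      obtain ⟨n, hpp, hn'⟩ := FiniteField.card F p
      have hp2 : 2 = p := by
        rw [hn'] at heven
        exact (Nat.prime_dvd_prime_iff_eq Nat.prime_two hpp).mp
          (Nat.Prime.dvd_of_dvd_pow Nat.prime_two heven)
      subst hp2
      have hz1 : Nat.gcd 2 (Fintype.card F - 1) = 1 := by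
        rcases hz with ⟨h, _⟩ | ⟨_, h⟩
        · exact h
        · exact absurd heven h
      rw [hz1, mul_one] at hc
      have hodd : Odd c := by
        rw [hc]
        rcases heven with ⟨j, hj⟩
        exact ⟨j - 1, by omega⟩
      let ψ : DihedralGroup c →* Matrix.ProjectiveSpecialLinearGroup (Fin 2) F :=
        (K.subtype.comp f.toMonoidHom).comp ψ0
      have hψ : Function.Injective ψ :=
        (K.subtype_injective.comp f.injective).comp hψ0
      have hc1 := dihedral_in_sylow_two_normalizer P ψ hψ (fun d => hK (f (ψ0 d)).2) hodd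
      omega
    · exfalso
      have hm : Nat.card M = 12 := by rw [Nat.card_congr f.toEquiv, card_alt4]
      rw [hm] at h1 h2 h3
      obtain ⟨_, hc3⟩ := minus_case_c12 hz hN hc hq2 ⟨hq_2, hq_3, hq_5, hq_7⟩ h1 h2 h3
      subst hc3
      exact not_dihedral_three_in_alt4 (f.toMonoidHom.comp ψ0) (f.injective.comp hψ0)
    · exfalso
      have hm : Nat.card M = 24 := by rw [Nat.card_congr f.toEquiv, card_perm4]
      rw [hm] at h1 h2 h3
      exact minus_case_c24 hz hN hc hq2 ⟨hq_2, hq_3, hq_5, hq_7, hq_9⟩ h1 h2 h3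
    · have hm : Nat.card M = 60 := by rw [Nat.card_congr f.toEquiv, card_alt5]
      rw [hm] at h1 h2 h3
      have hc' := dihedral_in_alt5 (f.toMonoidHom.comp ψ0) (f.injective.comp hψ0)
      rw [hm, minus_case_c60 hz hN hc hq2 ⟨hq_2, hq_3, hq_5, hq_7, hq_11⟩ hc' h3]
    · have hr : 2 ≤ Fintype.card K := Fintype.one_lt_card
      obtain ⟨hcard, hdvd, hord⟩ := case_d_card (K := K) hM
      rcases k with _ | _ | _ | k
      · exfalso; rw [pow_zero] at hk; omega
      · rw [zero_add, pow_one] at hk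
        rw [hk] at hcard
        exact case_d_one hz hN hq2 hcard h3
      · exfalso
        have hcle : c ≤ Fintype.card K + 1 := dihedral_le_of_bounded ψ0 hψ0 hord
        exact minus_case_d_two hz hc hr hk hq_9 hdvd h2 hcle
      · exfalso
        exact minus_case_d_ge3 hz hc hr (by omega) hk hdvd h2

/-- minimal index of `PSL₂(q)`, `q ∉ {2, 3, 5, 7, 9, 11}` -/
theorem min_index_PSL2 (p : ℕ) [Fact p.Prime] [CharP F p]
    (hD : ∀ M : Subgroup (Matrix.ProjectiveSpecialLinearGroup (Fin 2) F),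
      DicksonConcl (Fintype.card F) p M)
    (hq : Fintype.card F ≠ 2 ∧ Fintype.card F ≠ 3 ∧ Fintype.card F ≠ 5 ∧ Fintype.card F ≠ 7 ∧
      Fintype.card F ≠ 9 ∧ Fintype.card F ≠ 11) :
    (∀ H : Subgroup (Matrix.ProjectiveSpecialLinearGroup (Fin 2) F), H ≠ ⊤ →
      Fintype.card F + 1 ≤ H.index) ∧
    ∃ H : Subgroup (Matrix.ProjectiveSpecialLinearGroup (Fin 2) F),
      H.index = Fintype.card F + 1 := by
  have hq2 : 2 ≤ Fintype.card F := Fintype.one_lt_card
  have hz := gcd_two_cases (Fintype.card F) (by omega)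
  have hN : Nat.card (Matrix.ProjectiveSpecialLinearGroup (Fin 2) F) *
      Nat.gcd 2 (Fintype.card F - 1) =
      Fintype.card F * (Fintype.card F - 1) * (Fintype.card F + 1) := card_PSL2_mul_gcd
  constructor
  · intro M hMtop
    have hidx : M.index * Nat.card M =
        Nat.card (Matrix.ProjectiveSpecialLinearGroup (Fin 2) F) := M.index_mul_card
    have h3 : Nat.card M ∣ Nat.card (Matrix.ProjectiveSpecialLinearGroup (Fin 2) F) :=
      Subgroup.card_subgroup_dvd_card M
    have hne : Nat.card M ≠ Nat.card (Matrix.ProjectiveSpecialLinearGroup (Fin 2) F) :=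
      fun h => hMtop ((Subgroup.card_eq_iff_eq_top M).mp h)
    obtain ⟨hq_2, hq_3, hq_5, hq_7, hq_9, hq_11⟩ := hq
    rcases hD M with ⟨k, hk, hM⟩ | ⟨P, K, hK, ⟨f⟩⟩ | ⟨⟨f⟩⟩ | ⟨⟨f⟩⟩ | ⟨⟨f⟩⟩ | ⟨K, _, _, k, hk, hM⟩
    · have hm : Nat.card M = k ∨ Nat.card M = 2 * k := by
        rcases hM with ⟨_, h⟩ | ⟨⟨f⟩⟩
        · exact Or.inl h
        · right; rw [Nat.card_congr f.toEquiv, DihedralGroup.nat_card]
      exact idx_ge_of_card_le hN hidx (idx_case_a hz (by omega) hk hm) hq2
    · have hn := card_normalizer_sylow_mul p P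
      rw [card_center_SL2_eq_gcd] at hn
      have hm : Nat.card M ∣ Nat.card (Subgroup.normalizer
          ((P : Subgroup (Matrix.ProjectiveSpecialLinearGroup (Fin 2) F)) :
            Set (Matrix.ProjectiveSpecialLinearGroup (Fin 2) F))) := by
        rw [Nat.card_congr f.toEquiv]; exact Subgroup.card_dvd_of_le hK
      apply idx_ge_of_card_le hN hidx _ hq2
      rw [mul_comm (Fintype.card F) _, ← hn]
      exact Nat.mul_le_mul_right _ (Nat.le_of_dvd Nat.card_pos hm)
    · have hm : Nat.card M = 12 := by rw [Nat.card_congr f.toEquiv, card_alt4]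
      exact idx_case_c hz hN hq2 ⟨hq_2, hq_3, hq_5, hq_7, hq_9, hq_11⟩ (Or.inl hm) hidx hne
    · have hm : Nat.card M = 24 := by rw [Nat.card_congr f.toEquiv, card_perm4]
      exact idx_case_c hz hN hq2 ⟨hq_2, hq_3, hq_5, hq_7, hq_9, hq_11⟩ (Or.inr (Or.inl hm)) hidx hne
    · have hm : Nat.card M = 60 := by rw [Nat.card_congr f.toEquiv, card_alt5]
      exact idx_case_c hz hN hq2 ⟨hq_2, hq_3, hq_5, hq_7, hq_9, hq_11⟩ (Or.inr (Or.inr hm)) hidx hne
    · have hr : 2 ≤ Fintype.card K := Fintype.one_lt_card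
      obtain ⟨hcard, hdvd, -⟩ := case_d_card (K := K) hM
      rcases k with _ | _ | k
      · exfalso; rw [pow_zero] at hk; omega
      · exfalso
        rw [zero_add, pow_one] at hk
        rw [hk] at hcard
        exact hne (case_d_one hz hN hq2 hcard h3)
      · exact idx_ge_of_card_le hN hidx (idx_case_d hz hr (by omega) hk hdvd) hq2
  · refine ⟨borelBar F, ?_⟩
    have hB := card_borelBar_mul (F := F)
    rw [card_center_SL2_eq_gcd] at hB
    have hidx : (borelBar F).index * Nat.card (borelBar F) =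
        Nat.card (Matrix.ProjectiveSpecialLinearGroup (Fin 2) F) := (borelBar F).index_mul_card
    have h1 : (borelBar F).index * ((Fintype.card F - 1) * Fintype.card F) =
        (Fintype.card F + 1) * ((Fintype.card F - 1) * Fintype.card F) := by
      calc (borelBar F).index * ((Fintype.card F - 1) * Fintype.card F)
          = (borelBar F).index * (Nat.card (borelBar F) * Nat.gcd 2 (Fintype.card F - 1)) := by
            rw [hB]
        _ = ((borelBar F).index * Nat.card (borelBar F)) * Nat.gcd 2 (Fintype.card F - 1) := by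
            rw [mul_assoc]
        _ = Fintype.card F * (Fintype.card F - 1) * (Fintype.card F + 1) := by rw [hidx, hN]
        _ = (Fintype.card F + 1) * ((Fintype.card F - 1) * Fintype.card F) := by ring
    have hpos : 0 < (Fintype.card F - 1) * Fintype.card F := Nat.mul_pos (by omega) (by omega)
    exact Nat.eq_of_mul_eq_mul_right hpos h1

end Cfsg.Agent.Lib.Helper14
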