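/-
helper14: project PGV (= S3086), sub-project BRIDGE, part (B0):
the universe bridge.  `S3086` follows from the same statement for groups `G'` living in the
universe of the module `V` (so that the induction may pass to images of subgroups acting on
subspaces).
-/
import Mathlib
import Cfsg.Prelude.Def_Local
import Cfsg.Prelude.Def_Transfer
import Cfsg.Agent.Lib.Helper29.Iso

set_option autoImplicit false

namespace Cfsg.Agent.Lib.Helper14.Pgv

open Cfsg

universe u v

/-- Transport of the conclusion of `S3086` along a group isomorphism `e : G ≃* G'`. -/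
theorem normalizes_components_of_mulEquiv {G : Type u} {G' : Type v} [Group G] [Group G']
    (e : G ≃* G') (A : Subgroup G)
    (h' : ∀ K' : Subgroup G', Cfsg.IsComponent K' →
      A.map e.toMonoidHom ≤ Subgroup.normalizer (K' : Set G')) :
    ∀ K : Subgroup G, Cfsg.IsComponent K → A ≤ Subgroup.normalizer (K : Set G) := by
  intro K hK a ha
  have h1 := h' _ (Cfsg.Agent.Lib.Helper29.isComponent_map_mulEquiv e hK) (Subgroup.mem_map_of_mem _ ha)
  rw [Subgroup.mem_normalizer_iff] at h1 ⊢
  intro k
  have h2 := h1 (e k)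
  constructor
  · intro hk
    obtain ⟨y, hy, hy'⟩ := h2.1 (Subgroup.mem_map_of_mem _ hk)
    have : y = a * k * a⁻¹ := by
      apply e.injective
      rw [map_mul, map_mul, map_inv]
      exact hy'
    rw [← this]; exact hy
  · intro hk
    have h3 : e.toMonoidHom a * e k * (e.toMonoidHom a)⁻¹ ∈ K.map e.toMonoidHom := by
      refine ⟨a * k * a⁻¹, hk, ?_⟩
      rw [map_mul, map_mul, map_inv]; rfl
    obtain ⟨y, hy, hy'⟩ := h2.2 h3
    have : y = k := e.injective hy'
    rw [← this]; exact hy

/-- **(B0)**: `S3086` (groups and modules in arbitrary universes) from `THEOREM-GL` (the same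
statement with the group in the universe of the module). -/
theorem s3086_of_gl {G : Type u} {V : Type v} [Group G] [Finite G] [AddCommGroup V] [Finite V]
    (p : ℕ) [Fact p.Prime] [Module (ZMod p) V]
    (ρ : Representation (ZMod p) G V) (hρ : Function.Injective ρ)
    (A : Subgroup G) (hA : A ≠ ⊥) (hAel : Cfsg.IsElementaryAbelian p A)
    (hP : ∀ B : Subgroup G, B ≤ A →
      Nat.card ↥B * Nat.card {v : V // ∀ b ∈ B, ρ b v = v} ≤
        Nat.card ↥A * Nat.card {v : V // ∀ a ∈ A, ρ a v = v})
    (hGL : ∀ (G' : Type v) [Group G'] [Finite G'] (ρ' : Representation (ZMod p) G' V),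
      Function.Injective ρ' → ∀ A' : Subgroup G', A' ≠ ⊥ → Cfsg.IsElementaryAbelian p A' →
      (∀ B : Subgroup G', B ≤ A' →
        Nat.card ↥B * Nat.card {v : V // ∀ b ∈ B, ρ' b v = v} ≤
          Nat.card ↥A' * Nat.card {v : V // ∀ a ∈ A', ρ' a v = v}) →
      ∀ K' : Subgroup G', Cfsg.IsComponent K' → A' ≤ Subgroup.normalizer (K' : Set G')) :
    ∀ K : Subgroup G, Cfsg.IsComponent K → A ≤ Subgroup.normalizer (K : Set G) := by
  classical
  -- the image group inside the units of `End V`
  let f : G →* (V →ₗ[ZMod p] V)ˣ := MonoidHom.toHomUnits ρ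
  have hf : Function.Injective f := by
    intro g h hgh
    apply hρ
    have := congrArg (fun u : (V →ₗ[ZMod p] V)ˣ => (u : V →ₗ[ZMod p] V)) hgh
    simpa [f] using this
  let e : G ≃* f.range := MonoidHom.ofInjective hf
  let ρ' : Representation (ZMod p) f.range V := (Units.coeHom (V →ₗ[ZMod p] V)).comp f.range.subtype
  have he : ∀ g, ρ' (e g) = ρ g := by
    intro g
    rfl
  have hρ' : Function.Injective ρ' := by
    intro x y hxy
    obtain ⟨g, rfl⟩ := e.surjective x
    obtain ⟨h, rfl⟩ := e.surjective y
    rw [he, he] at hxy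
    rw [hρ hxy]
  have hfix : ∀ B : Subgroup G, Nat.card {v : V // ∀ b ∈ B.map e.toMonoidHom, ρ' b v = v} =
      Nat.card {v : V // ∀ b ∈ B, ρ b v = v} := by
    intro B
    apply Nat.card_congr
    apply Equiv.subtypeEquivRight
    intro v
    constructor
    · intro h b hb
      have := h _ (Subgroup.mem_map_of_mem _ hb)
      rwa [show e.toMonoidHom b = e b from rfl, he] at this
    · rintro h _ ⟨b, hb, rfl⟩
      rw [show e.toMonoidHom b = e b from rfl, he]
      exact h b hb
  have hcard : ∀ B : Subgroup G, Nat.card (B.map e.toMonoidHom) = Nat.card B := by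
    intro B
    exact Nat.card_congr (e.subgroupMap B).symm.toEquiv
  have : Finite f.range := Finite.of_equiv G e.toEquiv
  apply normalizes_components_of_mulEquiv e A
  apply hGL f.range ρ' hρ' (A.map e.toMonoidHom)
  · intro h
    apply hA
    rw [eq_bot_iff]
    intro a ha
    have : e.toMonoidHom a ∈ A.map e.toMonoidHom := Subgroup.mem_map_of_mem _ ha
    rw [h, Subgroup.mem_bot] at this
    rw [Subgroup.mem_bot]
    exact e.injective (this.trans (map_one e).symm)
  · refine ⟨⟨⟨?_⟩⟩, ?_⟩
    · rintro ⟨_, a, ha, rfl⟩ ⟨_, b, hb, rfl⟩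
      apply Subtype.ext
      show e.toMonoidHom a * e.toMonoidHom b = e.toMonoidHom b * e.toMonoidHom a
      rw [← map_mul, ← map_mul]
      congr 1
      have := hAel.1.is_comm.comm ⟨a, ha⟩ ⟨b, hb⟩
      exact congrArg Subtype.val this
    · rintro _ ⟨a, ha, rfl⟩
      rw [← map_pow, hAel.2 a ha, map_one]
  · intro B' hB'
    have hB'eq : B' = (B'.comap e.toMonoidHom).map e.toMonoidHom := by
      exact (Subgroup.map_comap_eq_self_of_surjective (f := e.toMonoidHom) e.surjective B').symm
    have hBA : B'.comap e.toMonoidHom ≤ A := by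
      intro b hb
      obtain ⟨a, ha, hab⟩ := hB' hb
      rw [← e.injective hab]; exact ha
    have := hP _ hBA
    rw [hB'eq, hfix, hfix, hcard, hcard]
    exact this

end Cfsg.Agent.Lib.Helper14.Pgv
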