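/-
helper14: project PGV (= S3086), END2 leaf [CRT] of helper26's sheet (hedge; exact statement):
noncommutative Chinese remainder counting.
-/
import Mathlib
import Cfsg.Prelude.Def_Local
import Cfsg.Prelude.Def_Transfer
import Cfsg.Agent.Lib.Helper26.PGV.End2Defs

set_option autoImplicit false

namespace Cfsg.Agent.Lib.Helper14.PgvCrt

open Cfsg Cfsg.Agent.Lib.Helper26.PGV

/-- `I` comaximal with each member of `s` is comaximal with the intersection. -/
theorem exists_add_eq_one {R : Type*} [Ring R] (I : AddSubgroup R) (hI : IsTwoSided I)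
    (s : Finset (AddSubgroup R)) (hs : ∀ J ∈ s, IsTwoSided J)
    (hco : ∀ J ∈ s, ∃ i ∈ I, ∃ j ∈ J, i + j = 1) :
    ∃ i ∈ I, ∃ d : R, (∀ J ∈ s, d ∈ J) ∧ i + d = 1 := by
  classical
  induction s using Finset.induction_on with
  | empty => exact ⟨0, I.zero_mem, 1, by simp, by simp⟩
  | insert J s hJ ih =>
    obtain ⟨i, hi, d, hd, hid⟩ := ih (fun J' h => hs J' (Finset.mem_insert_of_mem h))
      (fun J' h => hco J' (Finset.mem_insert_of_mem h))
    obtain ⟨i', hi', j, hj, hij⟩ := hco J (Finset.mem_insert_self _ _)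
    refine ⟨i * i' + i * j + d * i', ?_, d * j, ?_, ?_⟩
    · exact I.add_mem (I.add_mem ((hI i hi i').2) ((hI i hi j).2)) ((hI i' hi' d).1)
    · intro J' hJ'
      rcases Finset.mem_insert.mp hJ' with rfl | h
      · exact ((hs J' (Finset.mem_insert_self _ _)) j hj d).1
      · exact ((hs J' (Finset.mem_insert_of_mem h)) d (hd J' h) j).2
    · calc i * i' + i * j + d * i' + d * j = (i + d) * (i' + j) := by noncomm_ring
        _ = 1 := by rw [hid, hij, one_mul]

theorem index_inf_eq_of_sup_eq_top {A : Type*} [AddCommGroup A] (H K : AddSubgroup A) (h : H ⊔ K = ⊤) :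
    (H ⊓ K).index = H.index * K.index := by
  rw [← AddSubgroup.relIndex_mul_index (inf_le_right : H ⊓ K ≤ K), AddSubgroup.inf_relIndex_right,
    ← AddSubgroup.relIndex_sup_left K H, h, AddSubgroup.relIndex_top_right]

/-- the index of the intersection of pairwise comaximal two-sided ideals. -/
theorem pow_le_index_iInf {R : Type*} [Ring R] (s : Finset (AddSubgroup R))
    (hideal : ∀ I ∈ s, IsTwoSided I)
    (hco : ∀ I ∈ s, ∀ J ∈ s, I ≠ J → ∃ i ∈ I, ∃ j ∈ J, i + j = 1)
    (n : ℕ) (hn : ∀ I ∈ s, n ≤ I.index) : n ^ s.card ≤ (⨅ I ∈ s, I).index := by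
  classical
  induction s using Finset.induction_on with
  | empty => simp
  | insert I s hI ih =>
    have ih' := ih (fun J h => hideal J (Finset.mem_insert_of_mem h))
      (fun J hJ J' hJ' => hco J (Finset.mem_insert_of_mem hJ) J' (Finset.mem_insert_of_mem hJ'))
      (fun J h => hn J (Finset.mem_insert_of_mem h))
    rw [Finset.card_insert_of_notMem hI, Finset.iInf_insert]
    have hsup : I ⊔ (⨅ J ∈ s, J) = ⊤ := by
      obtain ⟨i, hi, d, hd, hid⟩ := exists_add_eq_one I (hideal I (Finset.mem_insert_self _ _)) s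
        (fun J h => hideal J (Finset.mem_insert_of_mem h))
        (fun J h => hco I (Finset.mem_insert_self _ _) J (Finset.mem_insert_of_mem h)
          (fun hIJ => hI (hIJ ▸ h)))
      rw [eq_top_iff]
      intro x _
      have hx : x = x * i + x * d := by rw [← mul_add, hid, mul_one]
      rw [hx]
      refine AddSubgroup.add_mem_sup ((hideal I (Finset.mem_insert_self _ _) i hi x).1) ?_
      simp only [AddSubgroup.mem_iInf]
      intro J hJ
      exact ((hideal J (Finset.mem_insert_of_mem hJ)) d (hd J hJ) x).1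
    rw [index_inf_eq_of_sup_eq_top _ _ hsup, pow_succ, mul_comm]
    exact Nat.mul_le_mul (hn I (Finset.mem_insert_self _ _)) ih'

/-- **[CRT]** -/
theorem crt_card {R : Type*} [Ring R] [Finite R] (s : Finset (AddSubgroup R))
    (hideal : ∀ I ∈ s, IsTwoSided I)
    (hco : ∀ I ∈ s, ∀ J ∈ s, I ≠ J → ∃ i ∈ I, ∃ j ∈ J, i + j = 1)
    (n : ℕ) (hn : ∀ I ∈ s, n ≤ I.index) : n ^ s.card ≤ Nat.card R :=
  (pow_le_index_iInf s hideal hco n hn).trans
    (Nat.le_of_dvd Nat.card_pos (AddSubgroup.index_dvd_card _))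

end Cfsg.Agent.Lib.Helper14.PgvCrt
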