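/-
helper14: project PGV (= S3086), sub-project BRIDGE, parts (B1)-(B3), dictionary part:
the semidirect product `Multiplicative V ⋊ G` attached to a representation `ρ : G → End V`,
and the translation of fixed points, commutators, orders.
-/
import Mathlib
import Cfsg.Prelude.Def_Transfer
import Cfsg.Prelude.Def_PLocal

set_option autoImplicit false

namespace Cfsg.Agent.Lib.Helper14.Pgv

open Cfsg SemidirectProduct
open scoped commutatorElement

universe u v

variable {k : Type*} [CommRing k] {G : Type u} {V : Type v} [Group G] [AddCommGroup V] [Module k V]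

/-- the automorphism of `Multiplicative V` given by `ρ g`. -/
def phiAut (ρ : Representation k G V) (g : G) : MulAut (Multiplicative V) where
  toFun x := Multiplicative.ofAdd (ρ g (Multiplicative.toAdd x))
  invFun x := Multiplicative.ofAdd (ρ g⁻¹ (Multiplicative.toAdd x))
  left_inv x := by
    show Multiplicative.ofAdd (ρ g⁻¹ (ρ g (Multiplicative.toAdd x))) = x
    rw [← Module.End.mul_apply, ← map_mul, inv_mul_cancel, map_one]; rfl
  right_inv x := by
    show Multiplicative.ofAdd (ρ g (ρ g⁻¹ (Multiplicative.toAdd x))) = x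
    rw [← Module.End.mul_apply, ← map_mul, mul_inv_cancel, map_one]; rfl
  map_mul' x y := by
    show Multiplicative.ofAdd (ρ g (Multiplicative.toAdd x + Multiplicative.toAdd y)) = _
    rw [map_add]; rfl

/-- the action of `G` on `Multiplicative V`. -/
def phi (ρ : Representation k G V) : G →* MulAut (Multiplicative V) where
  toFun := phiAut ρ
  map_one' := by
    apply MulEquiv.ext
    intro x
    show Multiplicative.ofAdd (ρ 1 (Multiplicative.toAdd x)) = x
    rw [map_one]; rfl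
  map_mul' g h := by
    apply MulEquiv.ext
    intro x
    show Multiplicative.ofAdd (ρ (g * h) (Multiplicative.toAdd x)) =
      Multiplicative.ofAdd (ρ g (ρ h (Multiplicative.toAdd x)))
    rw [map_mul]; rfl

@[simp] theorem phi_apply (ρ : Representation k G V) (g : G) (x : Multiplicative V) :
    phi ρ g x = Multiplicative.ofAdd (ρ g (Multiplicative.toAdd x)) := rfl

/-- the ambient group `V ⋊ G`. -/
abbrev Amb (ρ : Representation k G V) : Type (max u v) := Multiplicative V ⋊[phi ρ] G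

/-- `v ↦ (v, 1)`. -/
def iV (ρ : Representation k G V) (v : V) : Amb ρ := inl (Multiplicative.ofAdd v)

/-- `g ↦ (0, g)`. -/
def iG (ρ : Representation k G V) : G →* Amb ρ := inr

/-- the copy of `V`. -/
def Vs (ρ : Representation k G V) : Subgroup (Amb ρ) := (inl : Multiplicative V →* Amb ρ).range

/-- the copy of a subgroup of `G`. -/
def img (ρ : Representation k G V) (X : Subgroup G) : Subgroup (Amb ρ) := X.map (iG ρ)

variable (ρ : Representation k G V)

theorem iV_add (v w : V) : iV ρ (v + w) = iV ρ v * iV ρ w := by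
  unfold iV; rw [ofAdd_add, map_mul]

theorem iV_zero : iV ρ 0 = 1 := by
  unfold iV; rw [ofAdd_zero, map_one]

theorem iV_neg (v : V) : iV ρ (-v) = (iV ρ v)⁻¹ := by
  unfold iV; rw [ofAdd_neg, map_inv]

theorem iV_sub (v w : V) : iV ρ (v - w) = iV ρ v * (iV ρ w)⁻¹ := by
  rw [sub_eq_add_neg, iV_add, iV_neg]

theorem iV_injective : Function.Injective (iV ρ) := by
  intro v w h
  exact Multiplicative.ofAdd.injective (inl_injective h)

theorem iG_injective : Function.Injective (iG ρ) := inr_injective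

theorem iV_mem_Vs (v : V) : iV ρ v ∈ Vs ρ := ⟨_, rfl⟩

theorem mem_Vs_iff {y : Amb ρ} : y ∈ Vs ρ ↔ ∃ v, iV ρ v = y := by
  constructor
  · rintro ⟨x, rfl⟩
    exact ⟨Multiplicative.toAdd x, rfl⟩
  · rintro ⟨v, rfl⟩
    exact iV_mem_Vs ρ v

theorem mem_img_iff {X : Subgroup G} {y : Amb ρ} : y ∈ img ρ X ↔ ∃ x ∈ X, iG ρ x = y := Iff.rfl

theorem iG_mem_img {X : Subgroup G} {x : G} (hx : x ∈ X) : iG ρ x ∈ img ρ X := ⟨x, hx, rfl⟩

theorem iG_mem_img_iff {X : Subgroup G} {x : G} : iG ρ x ∈ img ρ X ↔ x ∈ X := by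
  constructor
  · rintro ⟨y, hy, hxy⟩
    rw [← iG_injective ρ hxy]; exact hy
  · exact iG_mem_img ρ

theorem img_mono {X Y : Subgroup G} (h : X ≤ Y) : img ρ X ≤ img ρ Y := Subgroup.map_mono h

theorem img_le_img_iff {X Y : Subgroup G} : img ρ X ≤ img ρ Y ↔ X ≤ Y := by
  constructor
  · intro h x hx
    exact (iG_mem_img_iff ρ).mp (h (iG_mem_img ρ hx))
  · exact img_mono ρ

/-- the basic conjugation formula `g v g⁻¹ = ρ g v`. -/
theorem iG_mul_iV (g : G) (v : V) : iG ρ g * iV ρ v = iV ρ (ρ g v) * iG ρ g := by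
  unfold iG iV
  have := inl_aut (φ := phi ρ) g (Multiplicative.ofAdd v)
  rw [phi_apply, toAdd_ofAdd] at this
  rw [this, map_inv, inv_mul_cancel_right]

theorem iG_conj_iV (g : G) (v : V) : iG ρ g * iV ρ v * (iG ρ g)⁻¹ = iV ρ (ρ g v) := by
  rw [iG_mul_iV, mul_inv_cancel_right]

instance Vs_normal : (Vs ρ).Normal := by
  unfold Vs
  rw [range_inl_eq_ker_rightHom]
  infer_instance

theorem le_normalizer_Vs (H : Subgroup (Amb ρ)) : H ≤ Subgroup.normalizer ((Vs ρ : Subgroup (Amb ρ)) : Set (Amb ρ)) := by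
  rw [Subgroup.normalizer_eq_top]
  exact le_top

instance Vs_comm : IsMulCommutative (Vs ρ) := by
  refine ⟨⟨?_⟩⟩
  rintro ⟨_, x, rfl⟩ ⟨_, y, rfl⟩
  apply Subtype.ext
  show inl x * inl y = inl y * inl x
  rw [← map_mul, ← map_mul, mul_comm]

/-- commutator of a vector and a group element. -/
theorem commutator_iV_iG (v : V) (g : G) : ⁅iV ρ v, iG ρ g⁆ = iV ρ (v - ρ g v) := by
  rw [commutatorElement_def, mul_assoc (iV ρ v), mul_assoc (iV ρ v),
    ← iV_neg, iG_conj_iV, ← iV_add, map_neg, sub_eq_add_neg]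

/-- `iG g` commutes with `iV v` iff `ρ g v = v`. -/
theorem iG_commute_iV_iff (g : G) (v : V) : iG ρ g * iV ρ v = iV ρ v * iG ρ g ↔ ρ g v = v := by
  rw [iG_mul_iV]
  constructor
  · intro h
    exact iV_injective ρ (mul_right_cancel h)
  · intro h
    rw [h]

theorem iV_mem_centralizer_img_iff (X : Subgroup G) (v : V) :
    iV ρ v ∈ Subgroup.centralizer ((img ρ X : Subgroup (Amb ρ)) : Set (Amb ρ)) ↔ ∀ x ∈ X, ρ x v = v := by
  rw [Subgroup.mem_centralizer_iff]
  constructor
  · intro h x hx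
    exact (iG_commute_iV_iff ρ x v).mp (h _ (iG_mem_img ρ hx))
  · rintro h _ ⟨x, hx, rfl⟩
    exact (iG_commute_iV_iff ρ x v).mpr (h x hx)

theorem iG_mem_centralizer_Vs_iff (g : G) :
    iG ρ g ∈ Subgroup.centralizer ((Vs ρ : Subgroup (Amb ρ)) : Set (Amb ρ)) ↔ ρ g = 1 := by
  rw [Subgroup.mem_centralizer_iff]
  constructor
  · intro h
    apply LinearMap.ext
    intro v
    exact (iG_commute_iV_iff ρ g v).mp (h _ (iV_mem_Vs ρ v)).symm
  · rintro h _ ⟨x, rfl⟩
    have := (iG_commute_iV_iff ρ g (Multiplicative.toAdd x)).mpr (by rw [h]; rfl)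
    exact this.symm

/-- fixed points: cardinalities agree. -/
theorem card_Vs_inf_centralizer_img (X : Subgroup G) :
    Nat.card ↥(Vs ρ ⊓ Subgroup.centralizer ((img ρ X : Subgroup (Amb ρ)) : Set (Amb ρ))) =
      Nat.card {v : V // ∀ x ∈ X, ρ x v = v} := by
  symm
  apply Nat.card_congr
  refine Equiv.ofBijective (fun v => ⟨iV ρ v.1, iV_mem_Vs ρ v.1,
    (iV_mem_centralizer_img_iff ρ X v.1).mpr v.2⟩) ⟨?_, ?_⟩
  · intro v w h
    apply Subtype.ext
    exact iV_injective ρ (congrArg Subtype.val h)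
  · rintro ⟨y, hy, hy'⟩
    obtain ⟨v, rfl⟩ := (mem_Vs_iff ρ).mp hy
    exact ⟨⟨v, (iV_mem_centralizer_img_iff ρ X v).mp hy'⟩, rfl⟩

theorem card_img (X : Subgroup G) : Nat.card ↥(img ρ X) = Nat.card ↥X :=
  Nat.card_congr (X.equivMapOfInjective (iG ρ) (iG_injective ρ)).symm.toEquiv

/-- `X ≃* img X`. -/
noncomputable def imgEquiv (X : Subgroup G) : X ≃* img ρ X :=
  X.equivMapOfInjective (iG ρ) (iG_injective ρ)

theorem imgEquiv_apply (X : Subgroup G) (x : X) : ((imgEquiv ρ X x : img ρ X) : Amb ρ) = iG ρ x := rfl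

theorem exists_eq_img_of_le {A : Subgroup G} {B' : Subgroup (Amb ρ)} (h : B' ≤ img ρ A) :
    ∃ B : Subgroup G, B ≤ A ∧ B' = img ρ B := by
  refine ⟨B'.comap (iG ρ), ?_, ?_⟩
  · intro b hb
    exact (iG_mem_img_iff ρ).mp (h hb)
  · apply le_antisymm
    · intro y hy
      obtain ⟨a, _, rfl⟩ := h hy
      exact ⟨a, hy, rfl⟩
    · rintro _ ⟨b, hb, rfl⟩
      exact hb

theorem img_inf_centralizer_Vs_eq_bot (hρ : Function.Injective ρ) (X : Subgroup G) :
    img ρ X ⊓ Subgroup.centralizer ((Vs ρ : Subgroup (Amb ρ)) : Set (Amb ρ)) = ⊥ := by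
  rw [eq_bot_iff]
  rintro _ ⟨⟨x, _, rfl⟩, hx2⟩
  rw [Subgroup.mem_bot]
  have h1 : ρ x = 1 := (iG_mem_centralizer_Vs_iff ρ x).mp hx2
  have : x = 1 := hρ (h1.trans (map_one ρ).symm)
  rw [this, map_one]

/-- `[V, X] = 1` in the ambient group iff `X` acts trivially. -/
theorem commutator_Vs_img_eq_bot_iff (X : Subgroup G) :
    ⁅Vs ρ, img ρ X⁆ = ⊥ ↔ ∀ x ∈ X, ρ x = 1 := by
  rw [Subgroup.commutator_eq_bot_iff_le_centralizer]
  constructor
  · intro h x hx
    apply LinearMap.ext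
    intro v
    exact (iV_mem_centralizer_img_iff ρ X v).mp (h (iV_mem_Vs ρ v)) x hx
  · rintro h _ ⟨y, rfl⟩
    have := (iV_mem_centralizer_img_iff ρ X (Multiplicative.toAdd y)).mpr
      (fun x hx => by rw [h x hx]; rfl)
    exact this

theorem img_closure (s : Set G) : img ρ (Subgroup.closure s) = Subgroup.closure ((iG ρ) '' s) :=
  MonoidHom.map_closure _ _

theorem img_zpowers (g : G) : img ρ (Subgroup.zpowers g) = Subgroup.zpowers (iG ρ g) :=
  MonoidHom.map_zpowers _ _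

theorem isMulCommutative_img {X : Subgroup G} (h : IsMulCommutative X) : IsMulCommutative (img ρ X) := by
  refine ⟨⟨?_⟩⟩
  rintro ⟨_, a, ha, rfl⟩ ⟨_, b, hb, rfl⟩
  apply Subtype.ext
  show iG ρ a * iG ρ b = iG ρ b * iG ρ a
  rw [← map_mul, ← map_mul]
  congr 1
  exact congrArg Subtype.val (h.is_comm.comm ⟨a, ha⟩ ⟨b, hb⟩)

theorem isPGroup_img_iff {p : ℕ} (X : Subgroup G) : IsPGroup p (img ρ X) ↔ IsPGroup p X :=
  ⟨fun h => h.of_equiv (imgEquiv ρ X).symm, fun h => h.of_equiv (imgEquiv ρ X)⟩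

end Cfsg.Agent.Lib.Helper14.Pgv
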