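/-
helper14: project PGV (= S3086), END2 leaf [SIMPLE-THM] of helper26's sheet, in `_of` form:
from the conclusion of `simple_struct` and helper20's `m2_count`, by transport of `B` along `φ`.
-/
import Mathlib
import Cfsg.Prelude.Def_Local
import Cfsg.Prelude.Def_Transfer
import Cfsg.Agent.Lib.Helper26.PGV.End2Defs
import Cfsg.Agent.Lib.Helper20.PGV.M2Count

set_option autoImplicit false

namespace Cfsg.Agent.Lib.Helper14.PgvSimpleThm

open Cfsg Cfsg.Agent.Lib.Helper26.PGV

universe u

/-- conjugation of ring automorphisms by a ring isomorphism. -/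
def conjAut {R S : Type*} [Ring R] [Ring S] (φ : R ≃+* S) : RingAut R →* RingAut S where
  toFun b := (φ.symm.trans b).trans φ
  map_one' := by
    apply RingEquiv.ext
    intro x
    show φ ((1 : RingAut R) (φ.symm x)) = x
    rw [RingAut.one_apply, RingEquiv.apply_symm_apply]
  map_mul' b c := by
    apply RingEquiv.ext
    intro x
    show φ ((b * c) (φ.symm x)) = φ (b (φ.symm (φ (c (φ.symm x)))))
    rw [RingEquiv.symm_apply_apply, RingAut.mul_apply]

theorem conjAut_apply {R S : Type*} [Ring R] [Ring S] (φ : R ≃+* S) (b : RingAut R) (y : S) :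
    conjAut φ b y = φ (b (φ.symm y)) := rfl

theorem conjAut_injective {R S : Type*} [Ring R] [Ring S] (φ : R ≃+* S) :
    Function.Injective (conjAut φ) := by
  intro b c h
  apply RingEquiv.ext
  intro x
  have := RingEquiv.congr_fun h (φ x)
  rw [conjAut_apply, conjAut_apply, RingEquiv.symm_apply_apply] at this
  exact φ.injective this

/-- **[SIMPLE-THM]**, `_of` form: hypothesis = the conclusion of `simple_struct`. -/
theorem simple_thm_of {R : Type u} [Ring R] [Finite R] (σ : R →+ R)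
    (hstruct : ∃ (F : Type u) (_ : Field F) (_ : Finite F) (_ : CharP F 2)
      (φ : R ≃+* Matrix (Fin 2) (Fin 2) F), 2 < Nat.card F ∧ ∀ x, σ x = x ↔ (φ x).trace = 0)
    (B : Subgroup (RingAut R)) (hB2 : ∀ b ∈ B, b * b = 1) :
    2 * Nat.card B * Nat.card {x : R // σ x = x ∧ ∀ b ∈ B, b x = x} < Nat.card R := by
  obtain ⟨F, _, _, _, φ, hq, hσ⟩ := hstruct
  have h := Cfsg.Agent.Lib.Helper20.PGV.m2_count hq (B.map (conjAut φ)) (by
    rintro _ ⟨b, hb, rfl⟩
    rw [← map_mul, hB2 b hb, map_one])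
  have h1 : Nat.card (B.map (conjAut φ)) = Nat.card B :=
    Nat.card_congr (B.equivMapOfInjective (conjAut φ) (conjAut_injective φ)).symm.toEquiv
  have h2 : Nat.card {x : Matrix (Fin 2) (Fin 2) F // x.trace = 0 ∧ ∀ b ∈ B.map (conjAut φ), b x = x} =
      Nat.card {x : R // σ x = x ∧ ∀ b ∈ B, b x = x} := by
    symm
    apply Nat.card_congr
    refine Equiv.subtypeEquiv φ.toEquiv ?_
    intro x
    show (σ x = x ∧ ∀ b ∈ B, b x = x) ↔ ((φ x).trace = 0 ∧ ∀ b' ∈ B.map (conjAut φ), b' (φ x) = φ x)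
    rw [hσ x]
    constructor
    · rintro ⟨h1, h2⟩
      refine ⟨h1, ?_⟩
      rintro _ ⟨b, hb, rfl⟩
      rw [conjAut_apply, RingEquiv.symm_apply_apply, h2 b hb]
    · rintro ⟨h1, h2⟩
      refine ⟨h1, fun b hb => ?_⟩
      have := h2 _ (Subgroup.mem_map_of_mem _ hb)
      rw [conjAut_apply, RingEquiv.symm_apply_apply] at this
      exact φ.injective this
  have h3 : Nat.card (Matrix (Fin 2) (Fin 2) F) = Nat.card R := (Nat.card_congr φ.toEquiv).symm
  rw [h1, h2, h3] at h
  exact h

end Cfsg.Agent.Lib.Helper14.PgvSimpleThm
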