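/-
helper14: project PGV (= S3086), sub-project BRIDGE, parts (B1)-(B3):
Timmesfeld replacement (S0599 / Helper97.replacement), two quadratic elements (S0593) and
Thompson's P x Q lemma (S0028) in REPRESENTATION form, via `Multiplicative V ⋊ G`.
-/
import Mathlib
import Cfsg.Prelude.Def_Transfer
import Cfsg.Prelude.Def_PLocal
import Cfsg.Agent.Lib.Helper14.PgvSemi
import Cfsg.Agent.Lib.Helper97.Replacement3
import Cfsg.Agent.S0593
import Cfsg.Agent.S0028

set_option autoImplicit false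
set_option linter.unusedSectionVars false

namespace Cfsg.Agent.Lib.Helper14.Pgv

open Cfsg SemidirectProduct
open scoped commutatorElement

universe u v

section General

variable {k : Type*} [CommRing k] {G : Type u} {V : Type v} [Group G] [AddCommGroup V] [Module k V]
variable (ρ : Representation k G V)

instance finite_Amb [Finite G] [Finite V] : Finite (Amb ρ) :=
  Finite.of_equiv (Multiplicative V × G) (SemidirectProduct.equivProd).symm

theorem rho_inv_apply_eq {g : G} {w : V} (h : ρ g w = w) : ρ g⁻¹ w = w := by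
  conv_lhs => rw [← h]
  rw [← Module.End.mul_apply, ← map_mul, inv_mul_cancel, map_one]; rfl

/-- Timmesfeld's replacement `A* = C_A([V,A])`: the elements `a` of `A` with `(a-1)(b-1) = 0` for
all `b ∈ A`. -/
def astar (A : Subgroup G) : Subgroup G where
  carrier := {a | a ∈ A ∧ ∀ b ∈ A, ∀ v, ρ a (ρ b v - v) = ρ b v - v}
  one_mem' := ⟨A.one_mem, fun b _ v => by rw [map_one]; rfl⟩
  mul_mem' := by
    rintro a a' ⟨ha, ha'⟩ ⟨hb, hb'⟩
    refine ⟨A.mul_mem ha hb, fun c hc v => ?_⟩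
    rw [map_mul, Module.End.mul_apply, hb' c hc v, ha' c hc v]
  inv_mem' := by
    rintro a ⟨ha, ha'⟩
    exact ⟨A.inv_mem ha, fun c hc v => rho_inv_apply_eq ρ (ha' c hc v)⟩

theorem mem_astar_iff {A : Subgroup G} {a : G} :
    a ∈ astar ρ A ↔ a ∈ A ∧ ∀ b ∈ A, ∀ v, ρ a (ρ b v - v) = ρ b v - v := Iff.rfl

theorem astar_le (A : Subgroup G) : astar ρ A ≤ A := fun _ h => h.1

/-- elements of `A*` are quadratic. -/
theorem astar_quadratic {A : Subgroup G} {q : G} (hq : q ∈ astar ρ A) (v : V) :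
    ρ q (ρ q v - v) = ρ q v - v := hq.2 q hq.1 v

/-- `[V, A*] ≤ C_V(A)` for commutative `A`: `(a-1)(q-1) = 0` for `q ∈ A*`, `a ∈ A`. -/
theorem apply_sub_astar {A : Subgroup G} (hAc : IsMulCommutative A) {q a : G} (hq : q ∈ astar ρ A)
    (ha : a ∈ A) (v : V) : ρ a (ρ q v - v) = ρ q v - v := by
  have h1 := hq.2 a ha v
  have hc : a * q = q * a := congrArg Subtype.val (hAc.is_comm.comm ⟨a, ha⟩ ⟨q, hq.1⟩)
  have h2 : ρ a (ρ q v) = ρ q (ρ a v) := by
    rw [← Module.End.mul_apply, ← map_mul, hc, map_mul, Module.End.mul_apply]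
  rw [map_sub] at h1 ⊢
  rw [h2]
  have h3 : ρ q (ρ a v) = ρ a v - v + ρ q v := by
    rw [← h1]; abel
  rw [h3]; abel

/-- `img A* = C_{img A}([V, img A])`. -/
theorem img_astar (A : Subgroup G) :
    img ρ (astar ρ A) =
      img ρ A ⊓ Subgroup.centralizer ((⁅Vs ρ, img ρ A⁆ : Subgroup (Amb ρ)) : Set (Amb ρ)) := by
  apply le_antisymm
  · rintro _ ⟨a, ⟨ha, ha'⟩, rfl⟩
    refine ⟨iG_mem_img ρ ha, ?_⟩
    have hle : ⁅Vs ρ, img ρ A⁆ ≤ Subgroup.centralizer ({iG ρ a} : Set (Amb ρ)) := by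
      rw [Subgroup.commutator_le]
      rintro _ ⟨x, rfl⟩ _ ⟨b, hb, rfl⟩
      rw [Subgroup.mem_centralizer_iff]
      intro y hy
      rw [Set.mem_singleton_iff] at hy
      subst hy
      have h1 : (inl x : Amb ρ) = iV ρ (Multiplicative.toAdd x) := rfl
      rw [h1, commutator_iV_iG, iG_commute_iV_iff]
      have := ha' b hb (Multiplicative.toAdd x)
      rw [← neg_sub, map_neg, this]
    refine Subgroup.mem_centralizer_iff.mpr ?_
    intro y hy
    exact ((Subgroup.mem_centralizer_iff.mp (hle hy)) _ rfl).symm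
  · rintro _ ⟨⟨a, ha, rfl⟩, ha2⟩
    refine ⟨a, ⟨ha, fun b hb v => ?_⟩, rfl⟩
    have h1 : ⁅iV ρ v, iG ρ b⁆ ∈ ⁅Vs ρ, img ρ A⁆ :=
      Subgroup.commutator_mem_commutator (iV_mem_Vs ρ v) (iG_mem_img ρ hb)
    have h2 := (Subgroup.mem_centralizer_iff.mp ha2) _ h1
    rw [commutator_iV_iG] at h2
    have h3 := (iG_commute_iV_iff ρ a _).mp h2.symm
    rw [← neg_sub, map_neg, h3]

end General

section Prime

variable {G : Type u} {V : Type v} [Group G] [AddCommGroup V] {p : ℕ} [Fact p.Prime]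
  [Module (ZMod p) V] (ρ : Representation (ZMod p) G V)

theorem isElementaryAbelian_Vs : Cfsg.IsElementaryAbelian p (Vs ρ) := by
  refine ⟨Vs_comm ρ, ?_⟩
  rintro _ ⟨x, rfl⟩
  rw [← map_pow]
  have : x ^ p = 1 := by
    have h := ZModModule.char_nsmul_eq_zero p (Multiplicative.toAdd x)
    exact congrArg Multiplicative.ofAdd h
  rw [this, map_one]

theorem isBestOffenderOn_img (A : Subgroup G) (hAel : Cfsg.IsElementaryAbelian p A)
    (hP : ∀ B : Subgroup G, B ≤ A →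
      Nat.card ↥B * Nat.card {v : V // ∀ b ∈ B, ρ b v = v} ≤
        Nat.card ↥A * Nat.card {v : V // ∀ a ∈ A, ρ a v = v}) :
    Cfsg.IsBestOffenderOn p (Vs ρ) (img ρ A) := by
  refine ⟨?_, ?_, ?_⟩
  · intro B' hB'
    obtain ⟨B, hBA, rfl⟩ := exists_eq_img_of_le ρ hB'
    rw [card_img, card_img, card_Vs_inf_centralizer_img, card_Vs_inf_centralizer_img]
    exact hP B hBA
  · have hc : IsMulCommutative (img ρ A) := isMulCommutative_img ρ hAel.1
    have : ⁅img ρ A, img ρ A⁆ = ⊥ := by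
      rw [Subgroup.commutator_eq_bot_iff_le_centralizer]
      intro x hx
      rw [Subgroup.mem_centralizer_iff]
      intro y hy
      exact congrArg Subtype.val (hc.is_comm.comm ⟨y, hy⟩ ⟨x, hx⟩)
    rw [this]
    exact bot_le
  · rintro _ ⟨a, ha, rfl⟩
    rw [← map_pow, hAel.2 a ha, map_one]
    exact Subgroup.one_mem _

/-- **(B1), numerical part**: `j(A*) = j(A)` for a best offender `A`
(`j(B) = |B| |C_V(B)|`). -/
theorem card_astar_mul [Finite G] [Finite V] (A : Subgroup G) (hAel : Cfsg.IsElementaryAbelian p A)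
    (hP : ∀ B : Subgroup G, B ≤ A →
      Nat.card ↥B * Nat.card {v : V // ∀ b ∈ B, ρ b v = v} ≤
        Nat.card ↥A * Nat.card {v : V // ∀ a ∈ A, ρ a v = v}) :
    Nat.card ↥(astar ρ A) * Nat.card {v : V // ∀ a ∈ astar ρ A, ρ a v = v} =
      Nat.card ↥A * Nat.card {v : V // ∀ a ∈ A, ρ a v = v} := by
  obtain ⟨hmax, hab, -⟩ := isBestOffenderOn_img ρ A hAel hP
  have h := (Cfsg.Agent.Lib.Helper97.replacement (V := Vs ρ) (A := img ρ A) (U := Vs ρ)
    (le_normalizer_Vs ρ _) hab le_rfl hmax).1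
  unfold Cfsg.Agent.Lib.Helper97.offProd Cfsg.Agent.Lib.Helper97.cv at h
  rw [← img_astar, card_img, card_img, card_Vs_inf_centralizer_img,
    card_Vs_inf_centralizer_img] at h
  exact h

/-- **(B1)**: `A*` is again a best offender. -/
theorem astar_best [Finite G] [Finite V] (A : Subgroup G) (hAel : Cfsg.IsElementaryAbelian p A)
    (hP : ∀ B : Subgroup G, B ≤ A →
      Nat.card ↥B * Nat.card {v : V // ∀ b ∈ B, ρ b v = v} ≤
        Nat.card ↥A * Nat.card {v : V // ∀ a ∈ A, ρ a v = v}) :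
    ∀ B : Subgroup G, B ≤ astar ρ A →
      Nat.card ↥B * Nat.card {v : V // ∀ b ∈ B, ρ b v = v} ≤
        Nat.card ↥(astar ρ A) * Nat.card {v : V // ∀ a ∈ astar ρ A, ρ a v = v} := by
  intro B hB
  rw [card_astar_mul ρ A hAel hP]
  exact hP B (hB.trans (astar_le ρ A))

theorem astar_isElementaryAbelian (A : Subgroup G) (hAel : Cfsg.IsElementaryAbelian p A) :
    Cfsg.IsElementaryAbelian p (astar ρ A) := by
  refine ⟨⟨⟨?_⟩⟩, fun a ha => hAel.2 a ha.1⟩
  rintro ⟨a, ha⟩ ⟨b, hb⟩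
  apply Subtype.ext
  show a * b = b * a
  exact congrArg Subtype.val (hAel.1.is_comm.comm ⟨a, ha.1⟩ ⟨b, hb.1⟩)

/-- **(B1)**: if `A` acts nontrivially then so does `A*`. -/
theorem astar_nontrivial [Finite G] [Finite V] (A : Subgroup G) (hAel : Cfsg.IsElementaryAbelian p A)
    (hP : ∀ B : Subgroup G, B ≤ A →
      Nat.card ↥B * Nat.card {v : V // ∀ b ∈ B, ρ b v = v} ≤
        Nat.card ↥A * Nat.card {v : V // ∀ a ∈ A, ρ a v = v})
    (hne : ∃ a ∈ A, ρ a ≠ 1) : ∃ a ∈ astar ρ A, ρ a ≠ 1 := by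
  have h := (Cfsg.Agent.Lib.Helper97.timmesfeld_replacement (p := p) (Vs ρ) (img ρ A)
    (isElementaryAbelian_Vs ρ) (le_normalizer_Vs ρ _) (isBestOffenderOn_img ρ A hAel hP)
    (Vs ρ) le_rfl).2.2
  rw [← img_astar] at h
  by_contra hcon
  push Not at hcon
  have h1 : ⁅Vs ρ, img ρ (astar ρ A)⁆ = ⊥ := (commutator_Vs_img_eq_bot_iff ρ _).mpr hcon
  refine h ?_ h1
  intro h2
  obtain ⟨a, ha, ha'⟩ := hne
  exact ha' ((commutator_Vs_img_eq_bot_iff ρ _).mp h2 a ha)

/-- **(B1)**: for faithful `ρ`, `A ≠ 1` implies `A* ≠ 1`. -/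
theorem astar_ne_bot [Finite G] [Finite V] (hρ : Function.Injective ρ) (A : Subgroup G)
    (hA : A ≠ ⊥) (hAel : Cfsg.IsElementaryAbelian p A)
    (hP : ∀ B : Subgroup G, B ≤ A →
      Nat.card ↥B * Nat.card {v : V // ∀ b ∈ B, ρ b v = v} ≤
        Nat.card ↥A * Nat.card {v : V // ∀ a ∈ A, ρ a v = v}) :
    astar ρ A ≠ ⊥ := by
  have hne : ∃ a ∈ A, ρ a ≠ 1 := by
    obtain ⟨⟨a, ha⟩, ha1⟩ := Subgroup.ne_bot_iff_exists_ne_one.mp hA
    exact ⟨a, ha, fun h => ha1 (Subtype.ext (hρ (h.trans (map_one ρ).symm)))⟩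
  obtain ⟨a, ha, ha'⟩ := astar_nontrivial ρ A hAel hP hne
  intro hbot
  rw [hbot, Subgroup.mem_bot] at ha
  exact ha' (by rw [ha, map_one])

/-- the pointwise stabilizer of a vector. -/
def fixer (w : V) : Subgroup G where
  carrier := {g | ρ g w = w}
  one_mem' := by show ρ 1 w = w; rw [map_one]; rfl
  mul_mem' := by
    intro g h hg hh
    show ρ (g * h) w = w
    rw [map_mul, Module.End.mul_apply, hh, hg]
  inv_mem' := by
    intro g hg
    exact rho_inv_apply_eq ρ hg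

theorem zpowers_apply_eq {x : G} {w : V} (h : ρ x w = w) : ∀ y ∈ Subgroup.zpowers x, ρ y w = w := by
  have : Subgroup.zpowers x ≤ fixer ρ w := (Subgroup.zpowers_le (H := fixer ρ w)).mpr h
  exact fun y hy => this hy

theorem isPGroup_Vs : IsPGroup p (Vs ρ) := by
  rintro ⟨x, hx⟩
  refine ⟨1, ?_⟩
  apply Subtype.ext
  rw [pow_one]
  exact (isElementaryAbelian_Vs ρ).2 x hx

/-- **(B3)** Thompson's `P × Q` lemma in representation form: a `p'`-element `x` commuting with a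
`p`-subgroup `D` and acting trivially on `C_V(D)` is trivial (faithful action). -/
theorem eq_one_of_pq [Finite G] [Finite V] (hρ : Function.Injective ρ) (D : Subgroup G)
    (hD : IsPGroup p D) (x : G) (hx : (orderOf x).Coprime p) (hxD : ∀ d ∈ D, d * x = x * d)
    (hfix : ∀ v, (∀ d ∈ D, ρ d v = v) → ρ x v = v) : x = 1 := by
  have h := Cfsg.Agent.S0028.result p (img ρ D) (img ρ (Subgroup.zpowers x)) (Vs ρ)
    ((isPGroup_img_iff ρ D).mpr hD)
    (by rw [card_img, Nat.card_zpowers]; exact hx)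
    (isPGroup_Vs ρ)
    (by
      rintro _ ⟨d, hd, rfl⟩
      refine Subgroup.mem_centralizer_iff.mpr ?_
      rintro _ ⟨y, hy, rfl⟩
      rw [← map_mul, ← map_mul]
      congr 1
      obtain ⟨n, rfl⟩ := Subgroup.mem_zpowers_iff.mp hy
      have hc : Commute d x := hxD d hd
      exact (hc.zpow_right n).eq.symm)
    (le_normalizer_Vs ρ _) (le_normalizer_Vs ρ _)
    (by
      rintro _ ⟨⟨w, rfl⟩, h2⟩
      have h1 : (inl w : Amb ρ) = iV ρ (Multiplicative.toAdd w) := rfl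
      rw [h1] at h2 ⊢
      have h3 := (iV_mem_centralizer_img_iff ρ D _).mp h2
      refine (iV_mem_centralizer_img_iff ρ _ _).mpr ?_
      exact zpowers_apply_eq ρ (hfix _ h3))
  have h1 : iG ρ x ∈ Subgroup.centralizer ((Vs ρ : Subgroup (Amb ρ)) : Set (Amb ρ)) :=
    h (iG_mem_img ρ (Subgroup.mem_zpowers x))
  have h2 : ρ x = 1 := (iG_mem_centralizer_Vs_iff ρ x).mp h1
  exact hρ (h2.trans (map_one ρ).symm)

/-- **(B3')**: a subgroup `N` commuting with the `p`-subgroup `D` and acting trivially on `C_V(D)`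
is a `p`-group (faithful action).  E.g. `N` = kernel of the restriction `C_G(D) → GL(C_V(D))`. -/
theorem isPGroup_of_trivial_on_fixed [Finite G] [Finite V] (hρ : Function.Injective ρ)
    (D : Subgroup G) (hD : IsPGroup p D) (N : Subgroup G)
    (hN : ∀ x ∈ N, ∀ d ∈ D, d * x = x * d)
    (hfix : ∀ x ∈ N, ∀ v, (∀ d ∈ D, ρ d v = v) → ρ x v = v) : IsPGroup p N := by
  rintro ⟨x, hx⟩
  have hpos : orderOf x ≠ 0 := (orderOf_pos x).ne'
  obtain ⟨e, m, hm, hxe⟩ := Nat.exists_eq_pow_mul_and_not_dvd hpos p (Fact.out : p.Prime).ne_one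
  refine ⟨e, ?_⟩
  apply Subtype.ext
  show x ^ p ^ e = 1
  have hy : x ^ p ^ e ∈ N := N.pow_mem hx _
  apply eq_one_of_pq ρ hρ D hD (x ^ p ^ e) ?_ (hN _ hy) (hfix _ hy)
  have : orderOf (x ^ p ^ e) = m := by
    rw [orderOf_pow' x (pow_ne_zero e (Fact.out : p.Prime).ne_zero), hxe,
      Nat.gcd_eq_right (Dvd.intro _ rfl), Nat.mul_div_cancel_left _ (pow_pos (Fact.out : p.Prime).pos e)]
  rw [this]
  exact (Nat.Coprime.symm ((Fact.out : p.Prime).coprime_iff_not_dvd.mpr hm))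

/-- elements acting trivially on `C_V(a)` and on `V / C_V(a)`. -/
def quadSub (a : G) : Subgroup G where
  carrier := {g | (∀ w, ρ a w = w → ρ g w = w) ∧ ∀ v, ρ a (ρ g v - v) = ρ g v - v}
  one_mem' := by
    refine ⟨fun w _ => by rw [map_one]; rfl, fun v => ?_⟩
    rw [map_one]
    show ρ a (v - v) = v - v
    rw [sub_self, map_zero]
  mul_mem' := by
    rintro g h ⟨hg1, hg2⟩ ⟨hh1, hh2⟩
    refine ⟨fun w hw => ?_, fun v => ?_⟩
    · rw [map_mul, Module.End.mul_apply, hh1 w hw, hg1 w hw]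
    · have e1 : ρ (g * h) v - v = (ρ h v - v) + (ρ g v - v) := by
        rw [map_mul, Module.End.mul_apply]
        have := hg1 _ (hh2 v)
        rw [map_sub] at this
        rw [← this]; abel
      rw [e1, map_add, hh2, hg2]
  inv_mem' := by
    rintro g ⟨hg1, hg2⟩
    refine ⟨fun w hw => rho_inv_apply_eq ρ (hg1 w hw), fun v => ?_⟩
    have e0 : ρ g (ρ g⁻¹ v) = v := by
      rw [← Module.End.mul_apply, ← map_mul, mul_inv_cancel, map_one]; rfl
    have e1 : ρ g⁻¹ v - v = -(ρ g (ρ g⁻¹ v) - ρ g⁻¹ v) := by rw [e0]; abel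
    rw [e1, map_neg, hg2]

theorem zpowers_le_quadSub {a : G} (ha : ∀ v, ρ a (ρ a v - v) = ρ a v - v) :
    Subgroup.zpowers a ≤ quadSub ρ a :=
  (Subgroup.zpowers_le (H := quadSub ρ a)).mpr ⟨fun _ hw => hw, ha⟩

/-- a quadratic element is quadratic in the ambient group. -/
theorem quadratic_iG {a : G} (ha : ∀ v, ρ a (ρ a v - v) = ρ a v - v) :
    ⁅⁅Vs ρ, Subgroup.zpowers (iG ρ a)⁆, Subgroup.zpowers (iG ρ a)⁆ = ⊥ := by
  rw [Subgroup.commutator_eq_bot_iff_le_centralizer, Subgroup.commutator_le, ← img_zpowers]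
  rintro _ ⟨x, rfl⟩ _ ⟨g, hg, rfl⟩
  have h1 : (inl x : Amb ρ) = iV ρ (Multiplicative.toAdd x) := rfl
  rw [h1, commutator_iV_iG]
  refine (iV_mem_centralizer_img_iff ρ _ _).mpr ?_
  intro y hy
  have hg' := zpowers_le_quadSub ρ ha hg
  have hy' := zpowers_le_quadSub ρ ha hy
  apply hy'.1
  have := hg'.2 (Multiplicative.toAdd x)
  rw [← neg_sub, map_neg, this]

/-- **(B2)** `S0593` in representation form: `p` odd, `a`, `b` quadratic on the faithful module `V`;
if a Sylow `2`-subgroup of `H = ⟨a, b⟩` is commutative then `H` is a `p`-group. -/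
theorem isPGroup_of_two_quadratic [Finite G] [Finite V] (hp : p ≠ 2) (hρ : Function.Injective ρ)
    (a b : G) (ha : ∀ v, ρ a (ρ a v - v) = ρ a v - v) (hb : ∀ v, ρ b (ρ b v - v) = ρ b v - v)
    (H : Subgroup G) (hH : H = Subgroup.closure ({a, b} : Set G))
    (T : Sylow 2 ↥H) (hT : IsMulCommutative T) : IsPGroup p ↥H := by
  by_contra hnp
  let e : H ≃* img ρ H := imgEquiv ρ H
  let T' : Sylow 2 (img ρ H) := T.mapSurjective (f := e.toMonoidHom) e.surjective
  refine Cfsg.Agent.S0593.result hp (Vs ρ) (img ρ H) (isElementaryAbelian_Vs ρ) (le_normalizer_Vs ρ _)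
    (img_inf_centralizer_Vs_eq_bot ρ hρ H) (iG ρ a) (iG ρ b) ?_ (quadratic_iG ρ ha) (quadratic_iG ρ hb)
    (fun h => hnp ((isPGroup_img_iff ρ H).mp h)) T' ?_
  · rw [hH, img_closure, Set.image_pair]
  · refine ⟨⟨?_⟩⟩
    rintro ⟨_, x, hx, rfl⟩ ⟨_, y, hy, rfl⟩
    apply Subtype.ext
    show e.toMonoidHom x * e.toMonoidHom y = e.toMonoidHom y * e.toMonoidHom x
    rw [← map_mul, ← map_mul]
    congr 1
    exact congrArg Subtype.val (hT.is_comm.comm ⟨x, hx⟩ ⟨y, hy⟩)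

end Prime

end Cfsg.Agent.Lib.Helper14.Pgv
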