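/-
helper14: project PGV (= S3086), leaf [T4-REP] of helper41's RED sheet (hedge; exact statement),
from `Cfsg.Agent.Lib.Helper14.Pgv.astar` (BRIDGE (B1), Timmesfeld replacement through `V ⋊ G`).
-/
import Mathlib
import Cfsg.Prelude.Def_Local
import Cfsg.Prelude.Def_Transfer
import Cfsg.Agent.Lib.Helper41.PGV.Defs
import Cfsg.Agent.Lib.Helper14.PgvTransport

set_option autoImplicit false

universe v

namespace Cfsg.Agent.Lib.Helper14.Pgv

open Cfsg Cfsg.Agent.Lib.Helper41.PGV

variable {p : ℕ} [Fact p.Prime] {G V : Type v} [Group G] [Finite G] [AddCommGroup V] [Finite V] [Module (ZMod p) V]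
  {ρ : Representation (ZMod p) G V} {A K1 : Subgroup G} {a : G}

omit [Finite G] [Finite V] in
theorem card_fix_eq (B : Subgroup G) :
    Nat.card (fix ρ (B : Set G)) = Nat.card {v : V // ∀ b ∈ B, ρ b v = v} :=
  Nat.card_congr (Equiv.subtypeEquivRight (fun _ => Iff.rfl))

omit [Finite G] [Finite V] in
theorem bestOffender_iff (A : Subgroup G) : BestOffender ρ A ↔
    ∀ B : Subgroup G, B ≤ A →
      Nat.card ↥B * Nat.card {v : V // ∀ b ∈ B, ρ b v = v} ≤
        Nat.card ↥A * Nat.card {v : V // ∀ a ∈ A, ρ a v = v} := by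
  unfold BestOffender jj
  simp only [card_fix_eq]

omit [Finite G] [Finite V] in
theorem quadOn_iff (A : Subgroup G) (q : G) :
    QuadOn ρ A q ↔ ∀ b ∈ A, ∀ v, ρ q (ρ b v - v) = ρ b v - v := by
  unfold QuadOn
  constructor
  · intro h b hb v
    have := LinearMap.congr_fun (h b hb) v
    simp only [Module.End.mul_apply, LinearMap.sub_apply, Module.End.one_apply,
      LinearMap.zero_apply] at this
    exact sub_eq_zero.mp this
  · intro h b hb
    apply LinearMap.ext
    intro v
    simp only [Module.End.mul_apply, LinearMap.sub_apply, Module.End.one_apply,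
      LinearMap.zero_apply]
    exact sub_eq_zero.mpr (h b hb v)

/-- **[T4-REP]** (Timmesfeld replacement, S0599 with `U = V`): `A* = {q ∈ A | QuadOn ρ A q}` is a subgroup, non-trivial, and a best offender. -/
theorem timmesfeld_rep (hinj : Function.Injective ρ) (hel : IsElementaryAbelian p A) (hoff : BestOffender ρ A) (hA : A ≠ ⊥) :
    ∃ Q : Subgroup G, (∀ q, q ∈ Q ↔ q ∈ A ∧ QuadOn ρ A q) ∧ Q ≠ ⊥ ∧ BestOffender ρ Q := by
  have hP := (bestOffender_iff A).mp hoff
  refine ⟨astar ρ A, ?_, astar_ne_bot ρ hinj A hA hel hP, ?_⟩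
  · intro q
    rw [mem_astar_iff, quadOn_iff]
  · rw [bestOffender_iff]
    exact astar_best ρ A hel hP

/-- the same with the extra information `j(A*) = j(A)`. -/
theorem timmesfeld_rep' (hinj : Function.Injective ρ) (hel : IsElementaryAbelian p A) (hoff : BestOffender ρ A) (hA : A ≠ ⊥) :
    ∃ Q : Subgroup G, (∀ q, q ∈ Q ↔ q ∈ A ∧ QuadOn ρ A q) ∧ Q ≠ ⊥ ∧ BestOffender ρ Q ∧ jj ρ Q = jj ρ A ∧
      IsElementaryAbelian p Q := by
  have hP := (bestOffender_iff A).mp hoff
  refine ⟨astar ρ A, ?_, astar_ne_bot ρ hinj A hA hel hP, ?_, ?_, astar_isElementaryAbelian ρ A hel⟩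
  · intro q
    rw [mem_astar_iff, quadOn_iff]
  · rw [bestOffender_iff]
    exact astar_best ρ A hel hP
  · unfold jj
    rw [card_fix_eq, card_fix_eq]
    exact card_astar_mul ρ A hel hP

end Cfsg.Agent.Lib.Helper14.Pgv
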