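import Mathlib
import Cfsg.Agent.Lib.Helper70.RkRes.NF2

set_option autoImplicit false
set_option linter.unusedSectionVars false

/-!
# S5289 (helper70's project): computations in `G(p,n;ε)` (`δ = 1`)

Conjugation by `x⁻¹` on the abelian normal subgroup `A₀ = ⟨y, z⟩`, and uniqueness of the exponents
of `y^a z^b`.
-/

namespace Cfsg.Agent.Lib.Helper14.RkRes

open Cfsg Cfsg.Agent.Lib.Helper70.RkRes

/-- The automorphism `g ↦ x⁻¹ g x`. -/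
noncomputable def tau {Ω : Type*} [Group Ω] (x : Ω) : MulAut Ω := MulAut.conj x⁻¹

theorem tau_apply {Ω : Type*} [Group Ω] (x g : Ω) : tau x g = x⁻¹ * g * x := by
  simp [tau]

theorem tau_pow_apply {Ω : Type*} [Group Ω] (x : Ω) (i : ℕ) (g : Ω) :
    (tau x ^ i) g = (x ^ i)⁻¹ * g * x ^ i := by
  rw [tau, ← map_pow, MulAut.conj_apply, inv_pow, inv_inv]

variable {Ω : Type*} [Group Ω] {p n : ℕ} [hp : Fact p.Prime] {S : Subgroup Ω} {x y z : Ω} {e : ℕ}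

section
variable (D : RData p n S x y z 1 e)
include D

theorem x_mem : x ∈ S := by rw [← D.gen]; exact Subgroup.subset_closure (by simp)
theorem y_mem : y ∈ S := by rw [← D.gen]; exact Subgroup.subset_closure (by simp)
theorem z_mem : z ∈ S := by rw [← D.gen]; exact Subgroup.subset_closure (by simp)

theorem hyz : Commute y z := D.yz

theorem pow_n_sub_three : p ^ (n - 3) = p * p ^ (n - 4) := by
  have := D.hn
  rw [← pow_succ']; congr 1; omega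

theorem pow_n_sub_two : p ^ (n - 2) = p * p ^ (n - 3) := by
  have := D.hn
  rw [← pow_succ']; congr 1; omega

/-- `z^(p m)` is central in `S`. -/
theorem zpow_mul_central (s : Ω) (hs : s ∈ S) (m : ℤ) : Commute s (z ^ ((p : ℤ) * m)) := by
  have h : Commute s (z ^ p) := zpow_p_central D s hs
  rw [zpow_mul, zpow_natCast]
  exact h.zpow_right m

theorem zpowP_central (s : Ω) (hs : s ∈ S) (m : ℤ) :
    Commute s (z ^ (((p ^ (n - 3) : ℕ) : ℤ) * m)) := by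
  rw [pow_n_sub_three D]
  push_cast
  rw [mul_assoc]
  exact zpow_mul_central D s hs _

/-- `y^a z^b = y^a' z^b'` forces `p ∣ a - a'` and `p^(n-2) ∣ b - b'`. -/
theorem yz_unique {a b a' b' : ℤ} (h : y ^ a * z ^ b = y ^ a' * z ^ b') :
    (p : ℤ) ∣ a - a' ∧ ((p ^ (n - 2) : ℕ) : ℤ) ∣ b - b' := by
  have hc := hyz D
  have h1 : x ^ (0 : ℤ) * y ^ (a - a') * z ^ (b - b') = 1 := by
    rw [zpow_zero, one_mul, zpow_sub, zpow_sub]
    have e1 : y ^ a * (y ^ a')⁻¹ * (z ^ b * (z ^ b')⁻¹) =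
        (y ^ a * z ^ b) * (y ^ a' * z ^ b')⁻¹ := by
      rw [mul_inv_rev]
      have c1 : Commute (z ^ b) (y ^ a')⁻¹ := ((hc.zpow_zpow a' b).symm).inv_right
      have c2 : Commute (z ^ b') (y ^ a') := (hc.zpow_zpow a' b').symm
      calc y ^ a * (y ^ a')⁻¹ * (z ^ b * (z ^ b')⁻¹)
          = y ^ a * ((y ^ a')⁻¹ * z ^ b) * (z ^ b')⁻¹ := by group
        _ = y ^ a * (z ^ b * (y ^ a')⁻¹) * (z ^ b')⁻¹ := by rw [c1.eq]
        _ = y ^ a * z ^ b * ((y ^ a')⁻¹ * (z ^ b')⁻¹) := by group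
        _ = y ^ a * z ^ b * ((z ^ b')⁻¹ * (y ^ a')⁻¹) := by
            rw [(c2.inv_inv).eq]
    rw [e1, h, mul_inv_cancel]
  obtain ⟨-, h2, h3⟩ := indep D 0 (a - a') (b - b') h1
  exact ⟨h2, h3⟩

/-- Elements `y^a z^b` commute with each other. -/
theorem comm_yz (a b a' b' : ℤ) : Commute (y ^ a * z ^ b) (y ^ a' * z ^ b') := by
  have hc := hyz D
  exact ((Commute.refl y).zpow_zpow a a' |>.mul_right (hc.zpow_zpow a b')).mul_left
    (((hc.zpow_zpow a' b).symm).mul_right ((Commute.refl z).zpow_zpow b b'))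

theorem tau_y : tau x y = y * z ^ (((p ^ (n - 3) : ℕ) : ℤ) * e) := by
  rw [tau_apply, D.xy, ← zpow_natCast]
  congr 1
  push_cast; ring

theorem tau_z : tau x z = y * z := by
  rw [tau_apply, D.xz, pow_one]

/-- `τ` fixes the central powers `z^(P m)`. -/
theorem tau_zP (m : ℤ) : tau x (z ^ (((p ^ (n - 3) : ℕ) : ℤ) * m)) =
    z ^ (((p ^ (n - 3) : ℕ) : ℤ) * m) := by
  rw [tau_apply]
  have h := zpowP_central D x (x_mem D) m
  rw [mul_assoc, ← h.eq, ← mul_assoc, inv_mul_cancel, one_mul]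

theorem tau_pow_y (i : ℕ) :
    (tau x ^ i) y = y * z ^ (((p ^ (n - 3) : ℕ) : ℤ) * (e * i)) := by
  induction i with
  | zero => simp
  | succ i ih =>
    rw [pow_succ', MulAut.mul_apply, ih, map_mul, tau_y D, tau_zP D, mul_assoc, ← zpow_add]
    congr 2
    push_cast; ring

theorem tau_pow_z (i : ℕ) : ∃ t : ℤ,
    (tau x ^ i) z = y ^ (i : ℤ) * z ^ (1 + ((p ^ (n - 3) : ℕ) : ℤ) * t) := by
  induction i with
  | zero => exact ⟨0, by simp⟩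
  | succ i ih =>
    obtain ⟨t, ht⟩ := ih
    refine ⟨e * i + t, ?_⟩
    have hc := hyz D
    rw [pow_succ', MulAut.mul_apply, ht, map_mul, map_zpow, map_zpow, tau_y D, tau_z D]
    -- (y z^{Pe})^i * (y z)^(1+Pt)
    have c1 : Commute y (z ^ (((p ^ (n - 3) : ℕ) : ℤ) * e)) := hc.zpow_right _
    rw [c1.mul_zpow, hc.mul_zpow, ← zpow_mul]
    have c2 : Commute (z ^ (((p ^ (n - 3) : ℕ) : ℤ) * e * (i : ℤ)))
        (y ^ (1 + ((p ^ (n - 3) : ℕ) : ℤ) * t)) := (hc.zpow_zpow _ _).symm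
    calc y ^ (i : ℤ) * z ^ (((p ^ (n - 3) : ℕ) : ℤ) * e * (i : ℤ)) *
          (y ^ (1 + ((p ^ (n - 3) : ℕ) : ℤ) * t) * z ^ (1 + ((p ^ (n - 3) : ℕ) : ℤ) * t))
        = y ^ (i : ℤ) * (z ^ (((p ^ (n - 3) : ℕ) : ℤ) * e * (i : ℤ)) *
          y ^ (1 + ((p ^ (n - 3) : ℕ) : ℤ) * t)) * z ^ (1 + ((p ^ (n - 3) : ℕ) : ℤ) * t) := by
          group
      _ = y ^ (i : ℤ) * (y ^ (1 + ((p ^ (n - 3) : ℕ) : ℤ) * t) *
          z ^ (((p ^ (n - 3) : ℕ) : ℤ) * e * (i : ℤ))) * z ^ (1 + ((p ^ (n - 3) : ℕ) : ℤ) * t) := by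
          rw [c2.eq]
      _ = (y ^ (i : ℤ) * y ^ (1 + ((p ^ (n - 3) : ℕ) : ℤ) * t)) *
          (z ^ (((p ^ (n - 3) : ℕ) : ℤ) * e * (i : ℤ)) *
            z ^ (1 + ((p ^ (n - 3) : ℕ) : ℤ) * t)) := by group
      _ = _ := by
          rw [← zpow_add, ← zpow_add]
          have hyP : y ^ (((p ^ (n - 3) : ℕ) : ℤ) * t) = 1 := by
            rw [pow_n_sub_three D]; push_cast
            rw [mul_assoc, zpow_mul, zpow_natCast, D.yp, one_zpow]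
          have e1 : y ^ ((i : ℤ) + (1 + ((p ^ (n - 3) : ℕ) : ℤ) * t)) = y ^ (((i + 1 : ℕ) : ℤ)) := by
            rw [show (i : ℤ) + (1 + ((p ^ (n - 3) : ℕ) : ℤ) * t) =
              ((i + 1 : ℕ) : ℤ) + ((p ^ (n - 3) : ℕ) : ℤ) * t by push_cast; ring, zpow_add, hyP,
              mul_one]
          rw [e1]
          congr 2
          push_cast; ring

/-- `τ^i (y^a z^b) = y^(a + i b) z^(b + P (e i a + t b))`. -/
theorem tau_pow_yz (i : ℕ) : ∃ t : ℤ, ∀ a b : ℤ,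
    (tau x ^ i) (y ^ a * z ^ b) =
      y ^ (a + i * b) * z ^ (b + ((p ^ (n - 3) : ℕ) : ℤ) * (e * i * a + t * b)) := by
  obtain ⟨t, ht⟩ := tau_pow_z D i
  refine ⟨t, fun a b => ?_⟩
  have hc := hyz D
  rw [map_mul, map_zpow, map_zpow, tau_pow_y D, ht]
  have c1 : Commute y (z ^ (((p ^ (n - 3) : ℕ) : ℤ) * (e * i))) := hc.zpow_right _
  have c3 : Commute (y ^ (i : ℤ)) (z ^ (1 + ((p ^ (n - 3) : ℕ) : ℤ) * t)) := hc.zpow_zpow _ _
  rw [c1.mul_zpow, c3.mul_zpow, ← zpow_mul, ← zpow_mul, ← zpow_mul]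
  have c2 : Commute (z ^ (((p ^ (n - 3) : ℕ) : ℤ) * (e * i) * a)) (y ^ ((i : ℤ) * b)) :=
    (hc.zpow_zpow _ _).symm
  calc y ^ a * z ^ (((p ^ (n - 3) : ℕ) : ℤ) * (e * i) * a) *
        (y ^ ((i : ℤ) * b) * z ^ ((1 + ((p ^ (n - 3) : ℕ) : ℤ) * t) * b))
      = y ^ a * (z ^ (((p ^ (n - 3) : ℕ) : ℤ) * (e * i) * a) * y ^ ((i : ℤ) * b)) *
        z ^ ((1 + ((p ^ (n - 3) : ℕ) : ℤ) * t) * b) := by group
    _ = y ^ a * (y ^ ((i : ℤ) * b) * z ^ (((p ^ (n - 3) : ℕ) : ℤ) * (e * i) * a)) *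
        z ^ ((1 + ((p ^ (n - 3) : ℕ) : ℤ) * t) * b) := by rw [c2.eq]
    _ = (y ^ a * y ^ ((i : ℤ) * b)) * (z ^ (((p ^ (n - 3) : ℕ) : ℤ) * (e * i) * a) *
        z ^ ((1 + ((p ^ (n - 3) : ℕ) : ℤ) * t) * b)) := by group
    _ = _ := by
        rw [← zpow_add, ← zpow_add]
        congr 2
        ring

/-- Conjugating `y^a z^b` by `(x^i y^j z^k)⁻¹`. -/
theorem conj_normal_form (i : ℕ) (j k : ℤ) : ∃ t : ℤ, ∀ a b : ℤ,
    (x ^ i * (y ^ j * z ^ k))⁻¹ * (y ^ a * z ^ b) * (x ^ i * (y ^ j * z ^ k)) =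
      y ^ (a + i * b) * z ^ (b + ((p ^ (n - 3) : ℕ) : ℤ) * (e * i * a + t * b)) := by
  obtain ⟨t, ht⟩ := tau_pow_yz D i
  refine ⟨t, fun a b => ?_⟩
  have h1 := ht a b
  rw [tau_pow_apply] at h1
  have c := comm_yz D j k (a + i * b) (b + ((p ^ (n - 3) : ℕ) : ℤ) * (e * i * a + t * b))
  calc (x ^ i * (y ^ j * z ^ k))⁻¹ * (y ^ a * z ^ b) * (x ^ i * (y ^ j * z ^ k))
      = (y ^ j * z ^ k)⁻¹ * ((x ^ i)⁻¹ * (y ^ a * z ^ b) * x ^ i) * (y ^ j * z ^ k) := by group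
    _ = (y ^ j * z ^ k)⁻¹ * (y ^ (a + i * b) *
          z ^ (b + ((p ^ (n - 3) : ℕ) : ℤ) * (e * i * a + t * b))) * (y ^ j * z ^ k) := by rw [h1]
    _ = _ := by
        rw [mul_assoc, ← c.eq, ← mul_assoc, inv_mul_cancel, one_mul]

/-- `z^(P m) = 1` iff `p ∣ m`. -/
theorem zpowP_eq_one {m : ℤ} (h : z ^ (((p ^ (n - 3) : ℕ) : ℤ) * m) = 1) : (p : ℤ) ∣ m := by
  have h1 : y ^ (0 : ℤ) * z ^ (((p ^ (n - 3) : ℕ) : ℤ) * m) = y ^ (0 : ℤ) * z ^ (0 : ℤ) := by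
    rw [h]; simp
  obtain ⟨-, h2⟩ := yz_unique D h1
  rw [sub_zero, pow_n_sub_two D] at h2
  have hP : ((p ^ (n - 3) : ℕ) : ℤ) ≠ 0 := by
    have := hp.out.pos
    positivity
  have h3 : ((p ^ (n - 3) : ℕ) : ℤ) * (p : ℤ) ∣ ((p ^ (n - 3) : ℕ) : ℤ) * m := by
    convert h2 using 1
    push_cast; ring
  exact (mul_dvd_mul_iff_left hP).1 h3

end

end Cfsg.Agent.Lib.Helper14.RkRes
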