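import Mathlib
import Cfsg.Agent.Lib.Helper14.RkResBase

set_option autoImplicit false
set_option linter.unusedSectionVars false

/-!
# S5289 module [AUTS] (helper70's project): rigidity of the automorphisms of `G(p,n;ε)`

Every injective endomorphism `ψ` of `S = G(p,n;ε)` acts on `S/A₀` as `±1`.
-/

namespace Cfsg.Agent.Lib.Helper14.RkRes

open Cfsg Cfsg.Agent.Lib.Helper70.RkRes

variable {Ω : Type*} [Group Ω] {p n : ℕ} [hp : Fact p.Prime] {S : Subgroup Ω} {x y z : Ω} {e : ℕ}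

section
variable (D : RData p n S x y z 1 e)
include D

/-- Normal form with the `A₀`-part bracketed. -/
theorem normal_form' (s : Ω) (hs : s ∈ S) : ∃ (i : ℕ) (j k : ℤ), s = x ^ i * (y ^ j * z ^ k) := by
  obtain ⟨i, j, k, h⟩ := mem_normal_form D s hs
  exact ⟨i, j, k, by rw [h, zpow_natCast, zpow_natCast, mul_assoc]⟩

theorem x_pow_eq_one_of_dvd {i : ℕ} (h : (p : ℤ) ∣ (i : ℤ)) : x ^ i = 1 := by
  obtain ⟨m, hm⟩ := Int.natCast_dvd_natCast.1 h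
  rw [hm, pow_mul, D.xp, one_pow]

theorem y_zpow_eq_one_of_dvd {j : ℤ} (h : (p : ℤ) ∣ j) : y ^ j = 1 := by
  obtain ⟨m, hm⟩ := h
  rw [hm, zpow_mul, zpow_natCast, D.yp, one_zpow]

theorem z_zpow_eq_one_of_dvd {k : ℤ} (h : ((p ^ (n - 2) : ℕ) : ℤ) ∣ k) : z ^ k = 1 := by
  obtain ⟨m, hm⟩ := h
  rw [hm, zpow_mul, zpow_natCast, D.zp, one_zpow]

/-- The centre of `S` consists of powers of `z^p`. -/
theorem central_form (s : Ω) (hs : s ∈ S) (hc : ∀ t ∈ S, s * t = t * s) :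
    ∃ l : ℤ, s = z ^ ((p : ℤ) * l) := by
  obtain ⟨k, hk⟩ := centralizer_xy D s hs (hc x (x_mem D)) (hc y (y_mem D))
  -- x⁻¹ z^k x = y^k z^k
  have h1 : tau x (z ^ k) = y ^ k * z ^ k := by
    rw [map_zpow, tau_z D, (hyz D).mul_zpow]
  have h2 : tau x (z ^ k) = z ^ k := by
    rw [tau_apply, ← hk, mul_assoc, hc x (x_mem D), ← mul_assoc, inv_mul_cancel, one_mul]
  rw [h2] at h1
  have h3 : y ^ (0 : ℤ) * z ^ k = y ^ k * z ^ k := by rw [zpow_zero, one_mul]; exact h1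
  obtain ⟨h4, -⟩ := yz_unique D h3
  have h5 : (p : ℤ) ∣ k := by
    have := (dvd_neg (a := (p : ℤ))).2 h4
    simpa using this
  obtain ⟨l, hl⟩ := h5
  exact ⟨l, by rw [hk, hl]⟩

/-- An element commuting with `y` has no `x`-part. -/
theorem form_of_commute_y (s : Ω) (hs : s ∈ S) (hc : s * y = y * s) :
    ∃ j k : ℤ, s = y ^ j * z ^ k := by
  obtain ⟨i, j, k, rfl⟩ := normal_form' D s hs
  obtain ⟨t, ht⟩ := conj_normal_form D i j k
  have h1 := ht 1 0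
  simp only [zpow_one, zpow_zero, mul_one, mul_zero, add_zero, zero_add] at h1
  have h2 : (x ^ i * (y ^ j * z ^ k))⁻¹ * y * (x ^ i * (y ^ j * z ^ k)) = y := by
    rw [mul_assoc, ← hc, ← mul_assoc, inv_mul_cancel, one_mul]
  rw [h2] at h1
  have h3 : y ^ (1 : ℤ) * z ^ (0 : ℤ) = y ^ (1 : ℤ) * z ^ (((p ^ (n - 3) : ℕ) : ℤ) * (e * i)) := by
    rw [zpow_one, zpow_zero, mul_one]
    convert h1 using 3
  obtain ⟨-, h4⟩ := yz_unique D h3
  have h5 : z ^ (((p ^ (n - 3) : ℕ) : ℤ) * (e * i)) = 1 := by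
    apply z_zpow_eq_one_of_dvd D
    have := (dvd_neg (a := ((p ^ (n - 2) : ℕ) : ℤ))).2 h4
    simpa using this
  have h6 := zpowP_eq_one D h5
  have h7 : (p : ℤ) ∣ (i : ℤ) := by
    have hpr : Prime (p : ℤ) := Nat.prime_iff_prime_int.1 hp.out
    rcases hpr.dvd_or_dvd h6 with h | h
    · exact absurd (Int.natCast_dvd_natCast.1 h) D.he
    · exact h
  exact ⟨j, k, by rw [x_pow_eq_one_of_dvd D h7, one_mul]⟩

/-- Elements of the second centre have the form `y^j z^(p l)`. -/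
theorem second_center_form (s : Ω) (hs : s ∈ S)
    (h : ∀ t ∈ S, ∃ l : ℤ, s⁻¹ * t * s * t⁻¹ = z ^ ((p : ℤ) * l)) :
    ∃ j l : ℤ, s = y ^ j * z ^ ((p : ℤ) * l) := by
  obtain ⟨i, j, k, rfl⟩ := normal_form' D s hs
  obtain ⟨t, ht⟩ := conj_normal_form D i j k
  -- t = z
  obtain ⟨l1, hl1⟩ := h z (z_mem D)
  have h1 := ht 0 1
  simp only [zpow_one, zpow_zero, one_mul, mul_one, mul_zero, zero_add] at h1
  rw [h1] at hl1
  have h2 : y ^ (i : ℤ) * z ^ (((p ^ (n - 3) : ℕ) : ℤ) * t) =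
      y ^ (0 : ℤ) * z ^ ((p : ℤ) * l1) := by
    rw [zpow_zero, one_mul, ← hl1, mul_assoc, ← zpow_neg_one, ← zpow_add]
    congr 2; ring
  obtain ⟨h3, -⟩ := yz_unique D h2
  rw [sub_zero] at h3
  have hxi := x_pow_eq_one_of_dvd D h3
  -- t = x⁻¹
  obtain ⟨l2, hl2⟩ := h x⁻¹ (S.inv_mem (x_mem D))
  rw [hxi, one_mul] at hl2 ⊢
  have h4 : (y ^ j * z ^ k)⁻¹ * x⁻¹ * (y ^ j * z ^ k) * x⁻¹⁻¹ =
      (y ^ j * z ^ k)⁻¹ * tau x (y ^ j * z ^ k) := by
    rw [tau_apply]; group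
  obtain ⟨t1, ht1⟩ := tau_pow_yz D 1
  have h5 := ht1 j k
  rw [pow_one] at h5
  rw [h4, h5] at hl2
  have c := comm_yz D j k ((-j) + (j + ((1 : ℕ) : ℤ) * k))
    ((-k) + (k + ((p ^ (n - 3) : ℕ) : ℤ) * (e * ((1 : ℕ) : ℤ) * j + t1 * k)))
  have h6 : (y ^ j * z ^ k)⁻¹ * (y ^ (j + ((1 : ℕ) : ℤ) * k) *
      z ^ (k + ((p ^ (n - 3) : ℕ) : ℤ) * (e * ((1 : ℕ) : ℤ) * j + t1 * k))) =
      y ^ k * z ^ (((p ^ (n - 3) : ℕ) : ℤ) * (e * j + t1 * k)) := by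
    have hc := hyz D
    have c1 : Commute (z ^ k)⁻¹ (y ^ (j + ((1 : ℕ) : ℤ) * k)) :=
      ((hc.zpow_zpow _ _).symm).inv_left
    have c2 : Commute (y ^ j) (z ^ k) := hc.zpow_zpow _ _
    calc (y ^ j * z ^ k)⁻¹ * (y ^ (j + ((1 : ℕ) : ℤ) * k) *
          z ^ (k + ((p ^ (n - 3) : ℕ) : ℤ) * (e * ((1 : ℕ) : ℤ) * j + t1 * k)))
        = (y ^ j)⁻¹ * ((z ^ k)⁻¹ * y ^ (j + ((1 : ℕ) : ℤ) * k)) *
          z ^ (k + ((p ^ (n - 3) : ℕ) : ℤ) * (e * ((1 : ℕ) : ℤ) * j + t1 * k)) := by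
          rw [c2.eq]; group
      _ = (y ^ j)⁻¹ * (y ^ (j + ((1 : ℕ) : ℤ) * k) * (z ^ k)⁻¹) *
          z ^ (k + ((p ^ (n - 3) : ℕ) : ℤ) * (e * ((1 : ℕ) : ℤ) * j + t1 * k)) := by rw [c1.eq]
      _ = ((y ^ j)⁻¹ * y ^ (j + ((1 : ℕ) : ℤ) * k)) * ((z ^ k)⁻¹ *
          z ^ (k + ((p ^ (n - 3) : ℕ) : ℤ) * (e * ((1 : ℕ) : ℤ) * j + t1 * k))) := by group
      _ = _ := by
          rw [← zpow_neg, ← zpow_neg, ← zpow_add, ← zpow_add]
          congr 2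
          · push_cast; ring
          · push_cast; ring
  rw [h6] at hl2
  have h7 : y ^ k * z ^ (((p ^ (n - 3) : ℕ) : ℤ) * (e * j + t1 * k)) =
      y ^ (0 : ℤ) * z ^ ((p : ℤ) * l2) := by rw [zpow_zero, one_mul]; exact hl2
  obtain ⟨h8, -⟩ := yz_unique D h7
  rw [sub_zero] at h8
  obtain ⟨l, hl⟩ := h8
  exact ⟨j, l, by rw [hl]⟩

/-- `y⁻¹ t y t⁻¹` is a central power of `z`. -/
theorem y_comm_form (t : Ω) (ht : t ∈ S) : ∃ m : ℤ,
    y⁻¹ * t * y * t⁻¹ = z ^ (((p ^ (n - 3) : ℕ) : ℤ) * m) := by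
  obtain ⟨k, hk⟩ := conj_y D (y⁻¹ * t * y) (S.mul_mem (S.mul_mem (S.inv_mem (y_mem D)) ht) (y_mem D))
  have h1 : y * (y⁻¹ * t * y) * y⁻¹ = t := by group
  rw [h1] at hk
  refine ⟨-k, ?_⟩
  have h2 : (z ^ p ^ (n - 3)) ^ k = z ^ (((p ^ (n - 3) : ℕ) : ℤ) * k) := by
    rw [zpow_mul, zpow_natCast]
  rw [h2] at hk
  have hcen := zpowP_central D (y⁻¹ * t * y)
    (S.mul_mem (S.mul_mem (S.inv_mem (y_mem D)) ht) (y_mem D)) k
  -- t = (y⁻¹ t y) * w  ⇒  y⁻¹ t y t⁻¹ = w⁻¹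
  have h3 : y⁻¹ * t * y * t⁻¹ = (z ^ (((p ^ (n - 3) : ℕ) : ℤ) * k))⁻¹ := by
    have h4 : (y⁻¹ * t * y) * (y⁻¹ * t * y * z ^ (((p ^ (n - 3) : ℕ) : ℤ) * k))⁻¹ =
        (z ^ (((p ^ (n - 3) : ℕ) : ℤ) * k))⁻¹ := by
      rw [mul_inv_rev, ← mul_assoc, (hcen.inv_right).eq, mul_assoc, mul_inv_cancel, mul_one]
    rw [← hk] at h4
    exact h4
  rw [h3, ← zpow_neg]
  congr 1; ring

end

/-- **Module [AUTS].** -/
theorem aut_rigid (D : RData p n S x y z 1 e) (χ : S →* Multiplicative (ZMod p))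
    (hχ : ∀ (s : S) (i j k : ℤ), (s : Ω) = x ^ i * y ^ j * z ^ k →
      χ s = Multiplicative.ofAdd ((i : ZMod p)))
    (ψ : S →* Ω) (hψS : ∀ s, ψ s ∈ S) (hψi : Function.Injective ψ) :
    (∀ s : S, χ ⟨ψ s, hψS s⟩ = χ s) ∨ (∀ s : S, χ ⟨ψ s, hψS s⟩ = (χ s)⁻¹) := by
  classical
  have hfin : Finite S := Nat.finite_of_card_ne_zero (by
    rw [D.card]; exact pow_ne_zero _ hp.out.ne_zero)
  -- ψ as an endomorphism of S
  let ψ' : S →* S := ψ.codRestrict S hψS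
  have hψ'i : Function.Injective ψ' := by
    intro a b hab
    apply hψi
    have := congrArg Subtype.val hab
    exact this
  have hψ's : Function.Surjective ψ' := Finite.injective_iff_surjective.1 hψ'i
  have hsurj : ∀ t ∈ S, ∃ t0 : S, ψ t0 = t := by
    intro t ht
    obtain ⟨t0, h0⟩ := hψ's ⟨t, ht⟩
    exact ⟨t0, congrArg Subtype.val h0⟩
  set xS : S := ⟨x, x_mem D⟩ with hxS
  set yS : S := ⟨y, y_mem D⟩ with hyS
  set zS : S := ⟨z, z_mem D⟩ with hzS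
  have hP3 := pow_n_sub_three D
  have hP2 := pow_n_sub_two D
  have hyzc := hyz D
  -- images of central elements are central
  have hcent : ∀ s : S, (∀ t ∈ S, (s : Ω) * t = t * s) → ∀ t ∈ S, ψ s * t = t * ψ s := by
    intro s hs t ht
    obtain ⟨t0, rfl⟩ := hsurj t ht
    rw [← map_mul, ← map_mul]
    congr 1
    exact Subtype.ext (hs t0 t0.2)
  -- ψ(c)
  set cS : S := zS ^ p ^ (n - 3) with hcS
  have hcval : (cS : Ω) = z ^ p ^ (n - 3) := rfl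
  have hccent : ∀ t ∈ S, (cS : Ω) * t = t * cS := by
    intro t ht
    have := zpowP_central D t ht 1
    rw [mul_one, zpow_natCast] at this
    rw [hcval]; exact this.eq.symm
  obtain ⟨l0, hl0⟩ := central_form D (ψ cS) (hψS cS) (hcent cS hccent)
  -- ψ(y) is in the second centre
  have hy2 : ∀ t ∈ S, ∃ l : ℤ, (ψ yS)⁻¹ * t * ψ yS * t⁻¹ = z ^ ((p : ℤ) * l) := by
    intro t ht
    obtain ⟨t0, rfl⟩ := hsurj t ht
    obtain ⟨m, hm⟩ := y_comm_form D (t0 : Ω) t0.2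
    have h1 : (ψ yS)⁻¹ * ψ t0 * ψ yS * (ψ t0)⁻¹ = ψ (yS⁻¹ * t0 * yS * t0⁻¹) := by
      simp only [map_mul, map_inv]
    have h2 : yS⁻¹ * t0 * yS * t0⁻¹ = cS ^ m := by
      apply Subtype.ext
      simp only [Subgroup.coe_mul, Subgroup.coe_inv, Subgroup.coe_zpow]
      rw [hm, hcval, zpow_mul, zpow_natCast]
    rw [h1, h2, map_zpow, hl0, ← zpow_mul]
    exact ⟨l0 * m, by rw [mul_assoc]⟩
  obtain ⟨dd, l, hψy⟩ := second_center_form D (ψ yS) (hψS yS) hy2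
  -- p ∤ dd since ψ(y) is not central
  have hdd : ¬ (p : ℤ) ∣ dd := by
    intro hdvd
    rw [y_zpow_eq_one_of_dvd D hdvd, one_mul] at hψy
    have h1 : ψ yS * ψ xS = ψ xS * ψ yS := by
      rw [hψy]
      exact ((zpow_mul_central D (ψ xS) (hψS xS) l).eq).symm
    have h2 : yS * xS = xS * yS := by
      apply hψi; rw [map_mul, map_mul, h1]
    have h3 : y * x = x * y := congrArg Subtype.val h2
    have h4 : tau x y = y := by rw [tau_apply, mul_assoc, h3, ← mul_assoc, inv_mul_cancel, one_mul]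
    rw [tau_y D] at h4
    have h5 : z ^ (((p ^ (n - 3) : ℕ) : ℤ) * e) = 1 := by
      have := congrArg (fun g => y⁻¹ * g) h4
      simpa using this
    have h6 := zpowP_eq_one D h5
    exact D.he (Int.natCast_dvd_natCast.1 h6)
  -- elements commuting with ψ(y) commute with y
  have hcy : ∀ s ∈ S, s * ψ yS = ψ yS * s → s * y = y * s := by
    intro s hs hc
    have h1 : Commute s (y ^ dd) := by
      have hz := zpow_mul_central D s hs l
      have : s * (y ^ dd * z ^ ((p : ℤ) * l)) = (y ^ dd * z ^ ((p : ℤ) * l)) * s := by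
        rw [← hψy]; exact hc
      have h2 : s * y ^ dd * z ^ ((p : ℤ) * l) = y ^ dd * s * z ^ ((p : ℤ) * l) := by
        rw [mul_assoc, this, mul_assoc, mul_assoc, hz.eq]
      exact mul_right_cancel h2
    -- y is a power of y^dd
    have hcop : IsCoprime dd (p : ℤ) := by
      have hpr : Prime (p : ℤ) := Nat.prime_iff_prime_int.1 hp.out
      exact ((hpr.coprime_iff_not_dvd).2 hdd).symm
    obtain ⟨a, b, hab⟩ := hcop
    have h3 : y = (y ^ dd) ^ a := by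
      rw [← zpow_mul]
      have h5 : dd * a = 1 - b * p := by linarith
      have h6 : y ^ (b * (p : ℤ)) = 1 := by
        rw [mul_comm, zpow_mul, zpow_natCast, D.yp, one_zpow]
      rw [h5, zpow_sub, zpow_one, h6, inv_one, mul_one]
    have h4 : Commute s y := by rw [h3]; exact h1.zpow_right a
    exact h4.eq
  -- ψ(z) ∈ A₀
  have hψz : ∃ j2 μ : ℤ, ψ zS = y ^ j2 * z ^ μ := by
    apply form_of_commute_y D (ψ zS) (hψS zS)
    apply hcy (ψ zS) (hψS zS)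
    rw [← map_mul, ← map_mul]
    congr 1
    exact Subtype.ext hyzc.eq.symm
  obtain ⟨j2, μ, hψz⟩ := hψz
  -- ψ(x) in normal form
  obtain ⟨i1, j1, k1, hψx⟩ := normal_form' D (ψ xS) (hψS xS)
  -- ψ(c) = z^(P μ)
  have hψc : ψ cS = z ^ (((p ^ (n - 3) : ℕ) : ℤ) * μ) := by
    rw [hcS, map_pow, hψz, ← zpow_natCast, (hyzc.zpow_zpow j2 μ).mul_zpow, ← zpow_mul, ← zpow_mul]
    have : y ^ (j2 * ((p ^ (n - 3) : ℕ) : ℤ)) = 1 := by
      apply y_zpow_eq_one_of_dvd D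
      rw [hP3]; push_cast
      exact Dvd.intro _ (by ring : (p : ℤ) * (j2 * (p : ℤ) ^ (n - 4)) = j2 * ((p : ℤ) * (p : ℤ) ^ (n - 4)))
    rw [this, one_mul, mul_comm]
  -- μ is prime to p
  have hμ : ¬ (p : ℤ) ∣ μ := by
    intro hdvd
    have h1 : ψ cS = 1 := by
      rw [hψc]
      apply z_zpow_eq_one_of_dvd D
      rw [hP2]
      obtain ⟨m, hm⟩ := hdvd
      exact ⟨m, by rw [hm]; push_cast; ring⟩
    have h2 : cS = 1 := hψi (by rw [h1, map_one])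
    have h3 : z ^ p ^ (n - 3) = 1 := by
      have := congrArg Subtype.val h2
      simpa [hcval] using this
    have h4 := orderOf_dvd_of_pow_eq_one h3
    rw [orderOf_z D, hP2] at h4
    have h5 : p * p ^ (n - 3) ≤ p ^ (n - 3) := Nat.le_of_dvd (pow_pos hp.out.pos _) h4
    have h6 : 0 < p ^ (n - 3) := pow_pos hp.out.pos _
    have h7 := hp.out.two_le
    nlinarith
  -- the two relations
  obtain ⟨t, ht⟩ := conj_normal_form D i1 j1 k1
  -- relation x⁻¹ z x = y z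
  have hr1 : (ψ xS)⁻¹ * ψ zS * ψ xS = ψ yS * ψ zS := by
    rw [← map_inv, ← map_mul, ← map_mul, ← map_mul]
    congr 1
    apply Subtype.ext
    simp only [Subgroup.coe_mul, Subgroup.coe_inv, hxS, hyS, hzS]
    rw [D.xz, pow_one]
  rw [hψx, hψz, ht j2 μ, hψy] at hr1
  have hr1' : y ^ (j2 + (i1 : ℤ) * μ) *
      z ^ (μ + ((p ^ (n - 3) : ℕ) : ℤ) * ((e : ℤ) * (i1 : ℤ) * j2 + t * μ)) =
      y ^ (dd + j2) * z ^ ((p : ℤ) * l + μ) := by
    rw [hr1]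
    have c1 : Commute (z ^ ((p : ℤ) * l)) (y ^ j2) := (hyzc.zpow_zpow _ _).symm
    calc y ^ dd * z ^ ((p : ℤ) * l) * (y ^ j2 * z ^ μ)
        = y ^ dd * (z ^ ((p : ℤ) * l) * y ^ j2) * z ^ μ := by group
      _ = y ^ dd * (y ^ j2 * z ^ ((p : ℤ) * l)) * z ^ μ := by rw [c1.eq]
      _ = (y ^ dd * y ^ j2) * (z ^ ((p : ℤ) * l) * z ^ μ) := by group
      _ = _ := by rw [← zpow_add, ← zpow_add]
  obtain ⟨hA, -⟩ := yz_unique D hr1'
  -- relation x⁻¹ y x = y c^e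
  have hr2 : (ψ xS)⁻¹ * ψ yS * ψ xS = ψ yS * (ψ cS) ^ e := by
    rw [← map_inv, ← map_mul, ← map_mul, ← map_pow, ← map_mul]
    congr 1
    apply Subtype.ext
    simp only [Subgroup.coe_mul, Subgroup.coe_inv, Subgroup.coe_pow, hxS, hyS, hcval]
    rw [D.xy, ← pow_mul, mul_comm]
  rw [hψx, hψy, ht dd ((p : ℤ) * l), hψc] at hr2
  have hr2' : y ^ (dd + (i1 : ℤ) * ((p : ℤ) * l)) *
      z ^ ((p : ℤ) * l + ((p ^ (n - 3) : ℕ) : ℤ) * ((e : ℤ) * (i1 : ℤ) * dd + t * ((p : ℤ) * l))) =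
      y ^ dd * z ^ ((p : ℤ) * l + ((p ^ (n - 3) : ℕ) : ℤ) * μ * e) := by
    rw [hr2, mul_assoc, ← zpow_natCast, ← zpow_mul, ← zpow_add]
  obtain ⟨-, hB⟩ := yz_unique D hr2'
  -- arithmetic
  have hB' : (p : ℤ) ∣ (e : ℤ) * ((i1 : ℤ) * dd - μ) := by
    rw [hP2] at hB
    have hP : ((p ^ (n - 3) : ℕ) : ℤ) ≠ 0 := by
      have := hp.out.pos
      positivity
    have h3 : ((p ^ (n - 3) : ℕ) : ℤ) * (p : ℤ) ∣
        ((p ^ (n - 3) : ℕ) : ℤ) * ((e : ℤ) * ((i1 : ℤ) * dd - μ) + t * l * (p : ℤ)) := by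
      convert hB using 1
      · push_cast; ring
      · push_cast; ring
    have h4 := (mul_dvd_mul_iff_left hP).1 h3
    exact (dvd_add_left (Dvd.intro_left _ rfl)).1 h4
  have hpr : Prime (p : ℤ) := Nat.prime_iff_prime_int.1 hp.out
  have hB'' : (p : ℤ) ∣ (i1 : ℤ) * dd - μ := by
    rcases hpr.dvd_or_dvd hB' with h | h
    · exact absurd (Int.natCast_dvd_natCast.1 h) D.he
    · exact h
  have hA' : (p : ℤ) ∣ (i1 : ℤ) * μ - dd := by
    have : j2 + (i1 : ℤ) * μ - (dd + j2) = (i1 : ℤ) * μ - dd := by ring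
    rwa [this] at hA
  -- i1² ≡ 1
  have hsq : (p : ℤ) ∣ ((i1 : ℤ) * (i1 : ℤ) - 1) * μ := by
    have : ((i1 : ℤ) * (i1 : ℤ) - 1) * μ =
        (i1 : ℤ) * ((i1 : ℤ) * μ - dd) + ((i1 : ℤ) * dd - μ) := by ring
    rw [this]
    exact dvd_add (Dvd.dvd.mul_left hA' _) hB''
  have hsq' : (p : ℤ) ∣ (i1 : ℤ) * (i1 : ℤ) - 1 := by
    rcases hpr.dvd_or_dvd hsq with h | h
    · exact h
    · exact absurd h hμ
  have hκ : ((i1 : ℤ) : ZMod p) * ((i1 : ℤ) : ZMod p) = 1 := by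
    have := (ZMod.intCast_zmod_eq_zero_iff_dvd _ p).2 hsq'
    push_cast at this
    have h2 : ((i1 : ℕ) : ZMod p) * ((i1 : ℕ) : ZMod p) - 1 = 0 := by exact_mod_cast this
    push_cast
    exact sub_eq_zero.1 h2
  have hκ' : ((i1 : ℤ) : ZMod p) = 1 ∨ ((i1 : ℤ) : ZMod p) = -1 := mul_self_eq_one_iff.1 hκ
  -- values of χ ∘ ψ on generators
  have hχx : χ ⟨ψ xS, hψS xS⟩ = Multiplicative.ofAdd (((i1 : ℤ) : ZMod p)) := by
    apply hχ _ (i1 : ℤ) j1 k1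
    show ψ xS = _
    rw [hψx, zpow_natCast, mul_assoc]
  have hχy : χ ⟨ψ yS, hψS yS⟩ = 1 := by
    have := hχ ⟨ψ yS, hψS yS⟩ 0 dd ((p : ℤ) * l) (by
      show ψ yS = _
      rw [hψy, zpow_zero, one_mul])
    rw [this]; simp
  have hχz : χ ⟨ψ zS, hψS zS⟩ = 1 := by
    have := hχ ⟨ψ zS, hψS zS⟩ 0 j2 μ (by
      show ψ zS = _
      rw [hψz, zpow_zero, one_mul])
    rw [this]; simp
  -- general element
  have hgen : ∀ s : S, χ ⟨ψ s, hψS s⟩ = (χ s) ^ (i1 : ℤ) := by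
    intro s
    obtain ⟨i, j, k, hs⟩ := mem_normal_form D (s : Ω) s.2
    have hs' : s = xS ^ i * yS ^ j * zS ^ k := Subtype.ext (by
      rw [hs]; simp [hxS, hyS, hzS])
    have h1 : (⟨ψ s, hψS s⟩ : S) = ψ' s := rfl
    have hx1 : ψ' xS = ⟨ψ xS, hψS xS⟩ := rfl
    have hy1 : ψ' yS = ⟨ψ yS, hψS yS⟩ := rfl
    have hz1 : ψ' zS = ⟨ψ zS, hψS zS⟩ := rfl
    have hA1 : χ (ψ' s) = χ (ψ' xS) ^ i * χ (ψ' yS) ^ j * χ (ψ' zS) ^ k := by
      rw [hs']; simp only [map_mul, map_pow]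
    have hA2 : χ s = χ xS ^ i * χ yS ^ j * χ zS ^ k := by
      rw [hs']; simp only [map_mul, map_pow]
    rw [h1, hA1, hA2, hx1, hy1, hz1, hχx, hχy, hχz]
    have e1 : χ xS = Multiplicative.ofAdd ((1 : ZMod p)) := by
      have := hχ xS 1 0 0 (by simp [hxS])
      rw [this]; simp
    have e2 : χ yS = 1 := by
      have := hχ yS 0 1 0 (by simp [hyS])
      rw [this]; simp
    have e3 : χ zS = 1 := by
      have := hχ zS 0 0 1 (by simp [hzS])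
      rw [this]; simp
    rw [e1, e2, e3]
    simp only [one_pow, mul_one]
    apply Multiplicative.toAdd.injective
    simp only [toAdd_pow, toAdd_zpow, toAdd_ofAdd]
    simp only [nsmul_eq_mul, zsmul_eq_mul, mul_one]
    push_cast
    ring
  rcases hκ' with h | h
  · left
    intro s
    rw [hgen s]
    apply Multiplicative.toAdd.injective
    simp only [toAdd_zpow, zsmul_eq_mul]
    rw [h, one_mul]
  · right
    intro s
    rw [hgen s]
    apply Multiplicative.toAdd.injective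
    simp only [toAdd_zpow, zsmul_eq_mul, toAdd_inv]
    rw [h]; ring

end Cfsg.Agent.Lib.Helper14.RkRes
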