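import Mathlib
import Cfsg.Agent.Lib.Helper14.RkResAutS
import Cfsg.Agent.Lib.Helper70.RkRes.DiagQ
import Cfsg.Agent.Lib.Helper87.FusionNormal

set_option autoImplicit false
set_option linter.unusedSectionVars false

/-!
# S5289 module [H1PURE] (helper70's project): the maximal subgroup `R = ⟨x, y, z^p⟩` of `G(p,n;ε)`

`h1_pure` is the exact statement of `Cfsg/Agent/Lib/Helper70/RkRes/H1Pure.lean`.
-/

namespace Cfsg.Agent.Lib.Helper14.RkRes

open Cfsg Cfsg.Agent.Lib.Helper70.RkRes Cfsg.Agent.Lib.Helper87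

variable {Ω : Type*} [Group Ω] {p n : ℕ} [hp : Fact p.Prime] {S : Subgroup Ω} {x y z : Ω} {e : ℕ}

section
variable (D : RData p n S x y z 1 e)
include D

/-- Uniqueness of the `x`- and `y`-exponents in the normal form. -/
theorem nf_unique {i i' j j' k k' : ℤ}
    (h : x ^ i * (y ^ j * z ^ k) = x ^ i' * (y ^ j' * z ^ k')) :
    (p : ℤ) ∣ i - i' ∧ (p : ℤ) ∣ j - j' := by
  have hc := hyz D
  have h1 : x ^ (i - i') * y ^ (j - j') * z ^ (k - k') = 1 := by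
    have e1 : y ^ (j - j') * z ^ (k - k') = (y ^ j * z ^ k) * (y ^ j' * z ^ k')⁻¹ := by
      rw [zpow_sub, zpow_sub, mul_inv_rev]
      have c1 : Commute (z ^ k) (y ^ j')⁻¹ := ((hc.zpow_zpow j' k).symm).inv_right
      have c2 : Commute (z ^ k') (y ^ j') := (hc.zpow_zpow j' k').symm
      calc y ^ j * (y ^ j')⁻¹ * (z ^ k * (z ^ k')⁻¹)
          = y ^ j * ((y ^ j')⁻¹ * z ^ k) * (z ^ k')⁻¹ := by group
        _ = y ^ j * (z ^ k * (y ^ j')⁻¹) * (z ^ k')⁻¹ := by rw [c1.eq]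
        _ = y ^ j * z ^ k * ((y ^ j')⁻¹ * (z ^ k')⁻¹) := by group
        _ = y ^ j * z ^ k * ((z ^ k')⁻¹ * (y ^ j')⁻¹) := by rw [(c2.inv_inv).eq]
    rw [mul_assoc, e1]
    have e2 : x ^ (i - i') = (x ^ i')⁻¹ * x ^ i := by
      rw [sub_eq_neg_add, zpow_add, zpow_neg]
    rw [e2]
    calc (x ^ i')⁻¹ * x ^ i * (y ^ j * z ^ k * (y ^ j' * z ^ k')⁻¹)
        = (x ^ i')⁻¹ * (x ^ i * (y ^ j * z ^ k)) * (y ^ j' * z ^ k')⁻¹ := by group
      _ = 1 := by rw [h]; group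
  obtain ⟨h2, h3, -⟩ := indep D _ _ _ h1
  exact ⟨h2, h3⟩

/-- An element of `S` commuting with `x` and `y` is a power of `z^p`. -/
theorem central_form' (s : Ω) (hs : s ∈ S) (hx : s * x = x * s) (hy : s * y = y * s) :
    ∃ l : ℤ, s = z ^ ((p : ℤ) * l) := by
  obtain ⟨k, hk⟩ := centralizer_xy D s hs hx hy
  have h1 : tau x (z ^ k) = y ^ k * z ^ k := by
    rw [map_zpow, tau_z D, (hyz D).mul_zpow]
  have h2 : tau x (z ^ k) = z ^ k := by
    rw [tau_apply, ← hk, mul_assoc, hx, ← mul_assoc, inv_mul_cancel, one_mul]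
  rw [h2] at h1
  have h3 : y ^ (0 : ℤ) * z ^ k = y ^ k * z ^ k := by rw [zpow_zero, one_mul]; exact h1
  obtain ⟨h4, -⟩ := yz_unique D h3
  have h5 : (p : ℤ) ∣ k := by
    have := (dvd_neg (a := (p : ℤ))).2 h4
    simpa using this
  obtain ⟨l, hl⟩ := h5
  exact ⟨l, by rw [hk, hl]⟩

/-- `z x z⁻¹ = x y`. -/
theorem z_conj_x : z * x * z⁻¹ = x * y := by
  have h := D.xz
  rw [pow_one] at h
  -- x⁻¹ z x = y z  ⇒  z x = x y z
  have h1 : z * x = x * (y * z) := by rw [← h]; group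
  rw [h1]; group

theorem z_conj_y : z * y * z⁻¹ = y := by
  rw [← D.yz]; group

theorem y_ne_zpow (l : ℤ) : y ≠ z ^ ((p : ℤ) * l) := by
  intro h
  have h1 : y ^ (1 : ℤ) * z ^ (0 : ℤ) = y ^ (0 : ℤ) * z ^ ((p : ℤ) * l) := by
    rw [zpow_one, zpow_zero, zpow_zero, mul_one, one_mul]; exact h
  obtain ⟨h2, -⟩ := yz_unique D h1
  rw [sub_zero] at h2
  have := Int.natCast_dvd_natCast.1 (by simpa using h2 : ((p : ℕ) : ℤ) ∣ ((1 : ℕ) : ℤ))
  exact hp.out.one_lt.ne' (Nat.dvd_one.1 this)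

end

/-- `Z₀ = ⟨z^p⟩` as a subgroup of `R`. -/
def Zsub (R : Subgroup Ω) (z : Ω) (p : ℕ) : Subgroup R where
  carrier := {r | ∃ l : ℤ, (r : Ω) = z ^ ((p : ℤ) * l)}
  one_mem' := ⟨0, by simp⟩
  mul_mem' := by
    rintro a b ⟨l, hl⟩ ⟨l', hl'⟩
    exact ⟨l + l', by rw [Subgroup.coe_mul, hl, hl', ← zpow_add, mul_add]⟩
  inv_mem' := by
    rintro a ⟨l, hl⟩
    exact ⟨-l, by rw [Subgroup.coe_inv, hl, ← zpow_neg, mul_neg]⟩

theorem mem_Zsub {R : Subgroup Ω} {z : Ω} {p : ℕ} {r : R} :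
    r ∈ Zsub R z p ↔ ∃ l : ℤ, (r : Ω) = z ^ ((p : ℤ) * l) := Iff.rfl

/-- `Y = ⟨y, z^p⟩` as a subgroup of `R`. -/
def Ysub (R : Subgroup Ω) {y z : Ω} (hyz : Commute y z) (p : ℕ) : Subgroup R where
  carrier := {r | ∃ j l : ℤ, (r : Ω) = y ^ j * z ^ ((p : ℤ) * l)}
  one_mem' := ⟨0, 0, by simp⟩
  mul_mem' := by
    rintro a b ⟨j, l, hl⟩ ⟨j', l', hl'⟩
    refine ⟨j + j', l + l', ?_⟩
    rw [Subgroup.coe_mul, hl, hl', mul_add, zpow_add, zpow_add]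
    have c : Commute (z ^ ((p : ℤ) * l)) (y ^ j') := (hyz.zpow_zpow _ _).symm
    calc y ^ j * z ^ ((p : ℤ) * l) * (y ^ j' * z ^ ((p : ℤ) * l'))
        = y ^ j * (z ^ ((p : ℤ) * l) * y ^ j') * z ^ ((p : ℤ) * l') := by group
      _ = y ^ j * (y ^ j' * z ^ ((p : ℤ) * l)) * z ^ ((p : ℤ) * l') := by rw [c.eq]
      _ = _ := by group
  inv_mem' := by
    rintro a ⟨j, l, hl⟩
    refine ⟨-j, -l, ?_⟩
    rw [Subgroup.coe_inv, hl, mul_inv_rev, mul_neg, zpow_neg, zpow_neg]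
    exact ((hyz.zpow_zpow _ _).symm.inv_inv).eq

theorem mem_Ysub {R : Subgroup Ω} {y z : Ω} {hyz : Commute y z} {p : ℕ} {r : R} :
    r ∈ Ysub R hyz p ↔ ∃ j l : ℤ, (r : Ω) = y ^ j * z ^ ((p : ℤ) * l) := Iff.rfl

theorem Zsub_le_Ysub (R : Subgroup Ω) {y z : Ω} (hyz : Commute y z) (p : ℕ) :
    Zsub R z p ≤ Ysub R hyz p := by
  rintro r ⟨l, hl⟩
  exact ⟨0, l, by rw [hl, zpow_zero, one_mul]⟩

section
variable (D : RData p n S x y z 1 e) (R : Subgroup Ω) (hRS : R ≤ S) (hxR : x ∈ R) (hyR : y ∈ R)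
  (hzpR : z ^ p ∈ R) (hzR : z ∉ R)
include D hRS hxR hyR hzpR hzR

/-- Elements of `R = ⟨x, y, z^p⟩`. -/
theorem memR_form (r : Ω) (hr : r ∈ R) :
    ∃ (i : ℕ) (j l : ℤ), r = x ^ i * (y ^ j * z ^ ((p : ℤ) * l)) := by
  obtain ⟨i, j, k, h⟩ := normal_form' D r (hRS hr)
  have hzk : z ^ k ∈ R := by
    have : z ^ k = (y ^ j)⁻¹ * ((x ^ i)⁻¹ * r) := by rw [h]; group
    rw [this]
    exact R.mul_mem (R.inv_mem (R.zpow_mem hyR j)) (R.mul_mem (R.inv_mem (R.pow_mem hxR i)) hr)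
  have hk : (p : ℤ) ∣ k := by
    by_contra hnd
    have hpr : Prime (p : ℤ) := Nat.prime_iff_prime_int.1 hp.out
    have hcop : IsCoprime k (p : ℤ) := ((hpr.coprime_iff_not_dvd).2 hnd).symm
    obtain ⟨a, b, hab⟩ := hcop
    apply hzR
    have : z = (z ^ k) ^ a * (z ^ p) ^ b := by
      rw [← zpow_mul, ← zpow_natCast z p, ← zpow_mul, ← zpow_add]
      have : k * a + (p : ℤ) * b = 1 := by linarith
      rw [this, zpow_one]
    rw [this]
    exact R.mul_mem (R.zpow_mem hzk a) (R.zpow_mem hzpR b)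
  obtain ⟨l, hl⟩ := hk
  exact ⟨i, j, l, by rw [h, hl]⟩

theorem Zsub_central (w : R) (hw : w ∈ Zsub R z p) (r : R) : w * r = r * w := by
  obtain ⟨l, hl⟩ := hw
  apply Subtype.ext
  rw [Subgroup.coe_mul, Subgroup.coe_mul, hl]
  exact ((zpow_mul_central D (r : Ω) (hRS r.2) l).eq).symm

theorem mem_Zsub_of_central (w : R) (hw : ∀ r : R, w * r = r * w) : w ∈ Zsub R z p := by
  have h1 := congrArg Subtype.val (hw ⟨x, hxR⟩)
  have h2 := congrArg Subtype.val (hw ⟨y, hyR⟩)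
  simp only [Subgroup.coe_mul] at h1 h2
  exact central_form' D (w : Ω) (hRS w.2) h1 h2

theorem Zsub_aut_mem (α : MulAut R) (w : R) (hw : w ∈ Zsub R z p) : α w ∈ Zsub R z p := by
  apply mem_Zsub_of_central D R hRS hxR hyR hzpR hzR
  intro r
  have h := Zsub_central D R hRS hxR hyR hzpR hzR w hw (α⁻¹ r)
  have h2 := congrArg α h
  rw [map_mul, map_mul, MulAut.apply_inv_self] at h2
  exact h2

theorem Zsub_normal : (Zsub R z p).Normal := ⟨fun w hw r => by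
  have h := Zsub_central D R hRS hxR hyR hzpR hzR w hw r
  rw [← h, mul_inv_cancel_right]
  exact hw⟩

theorem zpl_mem (l : ℤ) : z ^ ((p : ℤ) * l) ∈ R := by
  rw [zpow_mul, zpow_natCast]
  exact R.zpow_mem hzpR l

/-- The images of `x` and `y` commute in `R ⧸ Z₀`. -/
theorem quot_comm (hN : (Zsub R z p).Normal) :
    Commute (QuotientGroup.mk (⟨x, hxR⟩ : R) : R ⧸ Zsub R z p) (QuotientGroup.mk (⟨y, hyR⟩ : R)) := by
  have hP3 := pow_n_sub_three D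
  set c : R := ⟨z ^ ((p : ℤ) * ((e : ℤ) * ((p ^ (n - 4) : ℕ) : ℤ))),
    zpl_mem D R hRS hxR hyR hzpR hzR _⟩ with hc
  have hcZ : c ∈ Zsub R z p := ⟨_, rfl⟩
  have h1 : (⟨x, hxR⟩ : R)⁻¹ * ⟨y, hyR⟩ * ⟨x, hxR⟩ = ⟨y, hyR⟩ * c := by
    apply Subtype.ext
    simp only [Subgroup.coe_mul, Subgroup.coe_inv, hc]
    rw [D.xy, ← zpow_natCast, hP3]
    congr 2
    push_cast; ring
  have h2 := congrArg (QuotientGroup.mk : R → R ⧸ Zsub R z p) h1
  simp only [QuotientGroup.mk_mul, QuotientGroup.mk_inv] at h2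
  rw [(QuotientGroup.eq_one_iff c).2 hcZ, mul_one] at h2
  -- X⁻¹ Y X = Y
  have h3 : (QuotientGroup.mk (⟨y, hyR⟩ : R) : R ⧸ Zsub R z p) * QuotientGroup.mk (⟨x, hxR⟩ : R) =
      QuotientGroup.mk (⟨x, hxR⟩ : R) *
        ((QuotientGroup.mk (⟨x, hxR⟩ : R))⁻¹ * QuotientGroup.mk (⟨y, hyR⟩ : R) *
          QuotientGroup.mk (⟨x, hxR⟩ : R)) := by group
  rw [h2] at h3
  exact h3.symm

/-- Every element of `R ⧸ Z₀` is `X^i Y^j`. -/
theorem quot_form (hN : (Zsub R z p).Normal) (r : R) : ∃ i j : ℤ,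
    (QuotientGroup.mk r : R ⧸ Zsub R z p) =
      (QuotientGroup.mk (⟨x, hxR⟩ : R)) ^ i * (QuotientGroup.mk (⟨y, hyR⟩ : R)) ^ j := by
  obtain ⟨i, j, l, h⟩ := memR_form D R hRS hxR hyR hzpR hzR (r : Ω) r.2
  set w : R := ⟨z ^ ((p : ℤ) * l), zpl_mem D R hRS hxR hyR hzpR hzR l⟩ with hw
  have hwZ : w ∈ Zsub R z p := ⟨l, rfl⟩
  have h1 : r = (⟨x, hxR⟩ : R) ^ (i : ℤ) * ((⟨y, hyR⟩ : R) ^ j * w) := by
    apply Subtype.ext
    simp only [Subgroup.coe_mul, Subgroup.coe_zpow, hw]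
    rw [h, zpow_natCast]
  refine ⟨i, j, ?_⟩
  rw [h1]
  simp only [QuotientGroup.mk_mul, QuotientGroup.mk_zpow]
  rw [(QuotientGroup.eq_one_iff w).2 hwZ, mul_one]

theorem quot_commute (hN : (Zsub R z p).Normal) (a b : R ⧸ Zsub R z p) : Commute a b := by
  obtain ⟨a, rfl⟩ := QuotientGroup.mk_surjective a
  obtain ⟨b, rfl⟩ := QuotientGroup.mk_surjective b
  obtain ⟨i, j, ha⟩ := quot_form D R hRS hxR hyR hzpR hzR hN a
  obtain ⟨i', j', hb⟩ := quot_form D R hRS hxR hyR hzpR hzR hN b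
  have hXY := quot_comm D R hRS hxR hyR hzpR hzR hN
  rw [ha, hb]
  exact (((Commute.refl _).zpow_zpow i i').mul_right (hXY.zpow_zpow i j')).mul_left
    (((hXY.symm.zpow_zpow j i')).mul_right ((Commute.refl _).zpow_zpow j j'))

theorem comm_mem_Zsub (r s : R) : r * s * r⁻¹ * s⁻¹ ∈ Zsub R z p := by
  have hN := Zsub_normal D R hRS hxR hyR hzpR hzR
  rw [← QuotientGroup.eq_one_iff]
  simp only [QuotientGroup.mk_mul, QuotientGroup.mk_inv]
  have h := quot_commute D R hRS hxR hyR hzpR hzR hN (QuotientGroup.mk r) (QuotientGroup.mk s)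
  rw [h.eq]
  group

theorem pow_p_mem_Zsub (r : R) : r ^ p ∈ Zsub R z p := by
  have hN := Zsub_normal D R hRS hxR hyR hzpR hzR
  rw [← QuotientGroup.eq_one_iff]
  obtain ⟨i, j, h⟩ := quot_form D R hRS hxR hyR hzpR hzR hN r
  have hXY := quot_comm D R hRS hxR hyR hzpR hzR hN
  rw [QuotientGroup.mk_pow, h, (hXY.zpow_zpow i j).mul_pow]
  have hX : (QuotientGroup.mk (⟨x, hxR⟩ : R) : R ⧸ Zsub R z p) ^ p = 1 := by
    rw [← QuotientGroup.mk_pow]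
    have : (⟨x, hxR⟩ : R) ^ p = 1 := Subtype.ext (by simp [D.xp])
    rw [this]; rfl
  have hY : (QuotientGroup.mk (⟨y, hyR⟩ : R) : R ⧸ Zsub R z p) ^ p = 1 := by
    rw [← QuotientGroup.mk_pow]
    have : (⟨y, hyR⟩ : R) ^ p = 1 := Subtype.ext (by simp [D.yp])
    rw [this]; rfl
  rw [← zpow_natCast, ← zpow_natCast, ← zpow_mul, ← zpow_mul, mul_comm i, mul_comm j, zpow_mul,
    zpow_mul, zpow_natCast, zpow_natCast, hX, hY, one_zpow, one_zpow, one_mul]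

theorem card_R : Nat.card R = p ^ 2 * Nat.card (Zsub R z p) := by
  classical
  have hppos : 0 < p := hp.out.pos
  let f : Fin p × Fin p × (Zsub R z p) → R := fun a =>
    (⟨x, hxR⟩ : R) ^ (a.1 : ℕ) * ((⟨y, hyR⟩ : R) ^ (a.2.1 : ℕ) * (a.2.2 : R))
  have hinj : Function.Injective f := by
    rintro ⟨i, j, w⟩ ⟨i', j', w'⟩ hab
    obtain ⟨l, hl⟩ := w.2
    obtain ⟨l', hl'⟩ := w'.2
    have h1 := congrArg Subtype.val hab
    simp only [f, Subgroup.coe_mul, Subgroup.coe_pow] at h1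
    rw [hl, hl', ← zpow_natCast, ← zpow_natCast, ← zpow_natCast x, ← zpow_natCast y] at h1
    obtain ⟨h2, h3⟩ := nf_unique D h1
    have hi : (i : ℕ) = (i' : ℕ) := by
      have := (Int.modEq_iff_dvd.2 h2)
      have h4 := (Int.natCast_modEq_iff.1 this)
      exact (Nat.ModEq.eq_of_lt_of_lt h4 i'.2 i.2).symm
    have hj : (j : ℕ) = (j' : ℕ) := by
      have := (Int.modEq_iff_dvd.2 h3)
      have h4 := (Int.natCast_modEq_iff.1 this)
      exact (Nat.ModEq.eq_of_lt_of_lt h4 j'.2 j.2).symm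
    have hi' : i = i' := Fin.ext hi
    have hj' : j = j' := Fin.ext hj
    subst hi' hj'
    simp only [f] at hab
    have hw : (w : R) = (w' : R) := mul_left_cancel (mul_left_cancel hab)
    have hw' : w = w' := Subtype.ext hw
    rw [hw']
  have hsurj : Function.Surjective f := by
    intro r
    obtain ⟨i, j, l, h⟩ := memR_form D R hRS hxR hyR hzpR hzR (r : Ω) r.2
    have hj0 : 0 ≤ j % (p : ℤ) := Int.emod_nonneg _ (by exact_mod_cast hppos.ne')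
    have hj1 : j % (p : ℤ) < p := Int.emod_lt_of_pos _ (by exact_mod_cast hppos)
    refine ⟨(⟨i % p, Nat.mod_lt _ hppos⟩, ⟨(j % (p : ℤ)).toNat, (Int.toNat_lt hj0).2 hj1⟩,
      ⟨⟨z ^ ((p : ℤ) * l), zpl_mem D R hRS hxR hyR hzpR hzR l⟩, ⟨l, rfl⟩⟩), ?_⟩
    apply Subtype.ext
    simp only [f, Subgroup.coe_mul, Subgroup.coe_pow]
    rw [h, ← pow_eq_pow_mod i D.xp, ← zpow_natCast y, Int.toNat_of_nonneg hj0,
      ← zpow_eq_zpow_emod' j D.yp]
  rw [← Nat.card_congr (Equiv.ofBijective f ⟨hinj, hsurj⟩), Nat.card_prod, Nat.card_prod,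
    Nat.card_fin]
  ring

theorem not_y_mem_Zsub : (⟨y, hyR⟩ : R) ∉ Zsub R z p := by
  rintro ⟨l, hl⟩
  exact y_ne_zpow D l hl

end

section
variable (D : RData p n S x y z 1 e) (R : Subgroup Ω) (hzN : z ∈ Subgroup.normalizer (R : Set Ω))
include D

theorem conjAut_pow_apply (m : ℕ) (r : R) :
    (((conjAut R z hzN ^ m) r : R) : Ω) = z ^ m * r * (z ^ m)⁻¹ := by
  induction m with
  | zero => simp
  | succ m ih =>
    rw [pow_succ', MulAut.mul_apply, conjAut_apply, ih, pow_succ']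
    group

theorem conjAut_pow_eq_one : conjAut R z hzN ^ p ^ (n - 2) = 1 := by
  ext r
  rw [conjAut_pow_apply D R hzN, D.zp]
  simp

theorem conjAut_x (hxR : x ∈ R) (hyR : y ∈ R) :
    conjAut R z hzN ⟨x, hxR⟩ = ⟨x, hxR⟩ * ⟨y, hyR⟩ := by
  apply Subtype.ext
  rw [conjAut_apply, Subgroup.coe_mul]
  exact z_conj_x D

theorem conjAut_Ysub (r : R) (hr : r ∈ Ysub R (hyz D) p) : conjAut R z hzN r = r := by
  obtain ⟨j, l, h⟩ := hr
  apply Subtype.ext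
  rw [conjAut_apply, h]
  have c1 : Commute z (y ^ j) := ((hyz D).symm).zpow_right j
  have c2 : Commute z (z ^ ((p : ℤ) * l)) := (Commute.refl z).zpow_right _
  have c3 : Commute z (y ^ j * z ^ ((p : ℤ) * l)) := c1.mul_right c2
  rw [c3.eq, mul_inv_cancel_right]

theorem conjAut_Zsub (r : R) (hr : r ∈ Zsub R z p) : conjAut R z hzN r = r :=
  conjAut_Ysub D R hzN r (Zsub_le_Ysub R (hyz D) p hr)

theorem conjAut_pow_Zsub (m : ℕ) (r : R) (hr : r ∈ Zsub R z p) : (conjAut R z hzN ^ m) r = r := by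
  induction m with
  | zero => simp
  | succ m ih => rw [pow_succ', MulAut.mul_apply, ih, conjAut_Zsub D R hzN r hr]

end

/-- A chain `⊤ ≥ Y ≥ Z ≥ ⊥`. -/
def chain3 {G : Type*} [Group G] (Y Z : Subgroup G) : ℕ → Subgroup G
  | 0 => ⊤
  | 1 => Y
  | 2 => Z
  | _ => ⊥

/-- A chain `⊤ ≥ Z ≥ ⊥`. -/
def chain2 {G : Type*} [Group G] (Z : Subgroup G) : ℕ → Subgroup G
  | 0 => ⊤
  | 1 => Z
  | _ => ⊥

/-- **Module [H1PURE].** -/
theorem h1_pure (D : RData p n S x y z 1 e) (R : Subgroup Ω) (hRS : R ≤ S) (hxR : x ∈ R) (hyR : y ∈ R)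
    (hzpR : z ^ p ∈ R) (hzR : z ∉ R) (hzN : z ∈ Subgroup.normalizer (R : Set Ω))
    (A : Subgroup (MulAut R)) (hcz : conjAut R z hzN ∈ A) :
    ∃ N : Subgroup (MulAut R), N ≤ A ∧ (∀ α ∈ A, ∀ β ∈ N, α * β * α⁻¹ ∈ N) ∧ IsPGroup p N ∧
      (conjAut R z hzN ∈ N ∨
        ∃ τ ∈ A, ∃ ν ∈ N, ∃ k : ℕ, τ * conjAut R z hzN * τ⁻¹ = ν * (conjAut R z hzN) ^ k ∧
          ∃ j l : ℤ, ((τ ⟨x, hxR⟩ : R) : Ω) = x ^ 2 * y ^ j * (z ^ p) ^ l) := by
  classical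
  have hfinS : Finite S := Nat.finite_of_card_ne_zero (by
    rw [D.card]; exact pow_ne_zero _ hp.out.ne_zero)
  have : Finite R := Finite.of_injective (Subgroup.inclusion hRS) (Subgroup.inclusion_injective hRS)
  have hRp : IsPGroup p R := (IsPGroup.of_card D.card).to_le hRS
  set t := conjAut R z hzN with ht
  set Z0 : Subgroup R := Zsub R z p with hZ0
  set Y : Subgroup R := Ysub R (hyz D) p with hY
  have hZY : Z0 ≤ Y := Zsub_le_Ysub R (hyz D) p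
  have hZinv : ∀ α : MulAut R, ∀ w ∈ Z0, α w ∈ Z0 := Zsub_aut_mem D R hRS hxR hyR hzpR hzR
  have hyY : (⟨y, hyR⟩ : R) ∈ Y := ⟨1, 0, by simp⟩
  by_cases hcase : ∀ α ∈ A, α ⟨y, hyR⟩ ∈ Y
  · -- case (d): the chain `R > Y > Z₀ > 1` is `A`-invariant
    have hYinv : ∀ α ∈ A, ∀ r ∈ Y, α r ∈ Y := by
      intro α hα r hr
      obtain ⟨j, l, h⟩ := hr
      have h1 : r = (⟨y, hyR⟩ : R) ^ j *
          ⟨z ^ ((p : ℤ) * l), zpl_mem D R hRS hxR hyR hzpR hzR l⟩ := Subtype.ext (by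
        rw [h]; simp)
      rw [h1, map_mul, map_zpow]
      exact Y.mul_mem (Y.zpow_mem (hcase α hα) j) (hZY (hZinv α _ ⟨l, rfl⟩))
    have hinv : ∀ j ≤ 3, ∀ α ∈ A, ∀ r ∈ chain3 Y Z0 j, α r ∈ chain3 Y Z0 j := by
      intro j hj α hα r hr
      interval_cases j
      · exact Subgroup.mem_top _
      · exact hYinv α hα r hr
      · exact hZinv α r hr
      · have h1 : r = 1 := Subgroup.mem_bot.1 hr
        rw [h1, map_one]
        exact Subgroup.one_mem _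
    refine ⟨chainStab A 3 (chain3 Y Z0) hinv, chainStab_le _ _ _ _,
      fun α hα β hβ => chainStab_conj_mem _ _ _ hinv hα hβ,
      chainStab_isPGroup hRp A 3 _ rfl rfl hinv, Or.inl ?_⟩
    refine ⟨hcz, fun j hj r hr => ?_⟩
    interval_cases j
    · show r⁻¹ * t r ∈ Y
      obtain ⟨j, k, h⟩ := comm_mem D ((r : Ω)⁻¹) (S.inv_mem (hRS r.2)) z (z_mem D)
      refine ⟨j, ((p ^ (n - 4) : ℕ) : ℤ) * k, ?_⟩
      rw [Subgroup.coe_mul, Subgroup.coe_inv, ht, conjAut_apply]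
      rw [inv_inv] at h
      have h2 : (r : Ω)⁻¹ * (z * (r : Ω) * z⁻¹) = (r : Ω)⁻¹ * z * r * z⁻¹ := by group
      rw [h2, h, ← zpow_natCast z, ← zpow_mul, pow_n_sub_three D]
      congr 2
      push_cast; ring
    · show r⁻¹ * t r ∈ Z0
      rw [ht, conjAut_Ysub D R hzN r hr, inv_mul_cancel]
      exact Z0.one_mem
    · show r⁻¹ * t r ∈ (⊥ : Subgroup R)
      rw [ht, conjAut_Zsub D R hzN r hr, inv_mul_cancel]
      exact Subgroup.one_mem _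
  · -- case (e): some `α ∈ A` moves `y` out of `Y`
    push Not at hcase
    obtain ⟨α, hα, hαy⟩ := hcase
    have hinv : ∀ j ≤ 2, ∀ α ∈ A, ∀ r ∈ chain2 Z0 j, α r ∈ chain2 Z0 j := by
      intro j hj α hα r hr
      interval_cases j
      · exact Subgroup.mem_top _
      · exact hZinv α r hr
      · have h1 : r = 1 := Subgroup.mem_bot.1 hr
        rw [h1, map_one]
        exact Subgroup.one_mem _
    have hp2 : p ≠ 2 := by have := D.hp5; omega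
    have hty : conjAut R z hzN ⟨y, hyR⟩ = ⟨y, hyR⟩ := conjAut_Ysub D R hzN _ hyY
    obtain ⟨τ, hτ, ⟨k, hk⟩, hτr⟩ := exists_diag_quot (p := p) hp2 A Z0
      (fun α _ w hw => hZinv α w hw)
      (comm_mem_Zsub D R hRS hxR hyR hzpR hzR) (pow_p_mem_Zsub D R hRS hxR hyR hzpR hzR)
      (card_R D R hRS hxR hyR hzpR hzR) t hcz (n - 2) (conjAut_pow_eq_one D R hzN)
      ⟨⟨x, hxR⟩, by
        rw [ht, conjAut_x D R hzN hxR hyR, inv_mul_cancel_left]
        exact not_y_mem_Zsub D R hRS hxR hyR hzpR hzR⟩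
      ⟨y, hyR⟩ (not_y_mem_Zsub D R hRS hxR hyR hzpR hzR)
      (by rw [ht, hty, inv_mul_cancel]; exact Z0.one_mem)
      α hα (by
        intro k hmem
        apply hαy
        have h1 : α ⟨y, hyR⟩ = (⟨y, hyR⟩ : R) ^ k * (((⟨y, hyR⟩ : R) ^ k)⁻¹ * α ⟨y, hyR⟩) := by
          group
        rw [h1]
        exact Y.mul_mem (Y.zpow_mem hyY k) (hZY hmem))
    set ν : MulAut R := τ * t * τ⁻¹ * (t ^ k)⁻¹ with hν
    refine ⟨chainStab A 2 (chain2 Z0) hinv, chainStab_le _ _ _ _,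
      fun α hα β hβ => chainStab_conj_mem _ _ _ hinv hα hβ,
      chainStab_isPGroup hRp A 2 _ rfl rfl hinv, Or.inr ⟨τ, hτ, ν, ?_, k, ?_, ?_⟩⟩
    · refine ⟨A.mul_mem (A.mul_mem (A.mul_mem hτ hcz) (A.inv_mem hτ)) (A.inv_mem (A.pow_mem hcz k)),
        fun j hj r hr => ?_⟩
      interval_cases j
      · show r⁻¹ * ν r ∈ Z0
        have h1 := hk ((t ^ k)⁻¹ r)
        rw [MulAut.apply_inv_self] at h1
        exact h1
      · show r⁻¹ * ν r ∈ (⊥ : Subgroup R)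
        have hr' : r ∈ Z0 := hr
        have h1 : (t ^ k)⁻¹ r = r := by
          have h2 : (t ^ k) r = r := conjAut_pow_Zsub D R hzN k r hr'
          conv_lhs => rw [← h2]
          rw [MulAut.inv_apply_self]
        have h3 : t (τ⁻¹ r) = τ⁻¹ r := conjAut_Zsub D R hzN _ (hZinv τ⁻¹ r hr')
        have h4 : ν r = r := by
          rw [hν, MulAut.mul_apply, h1, MulAut.mul_apply, MulAut.mul_apply, h3,
            MulAut.apply_inv_self]
        rw [h4, inv_mul_cancel]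
        exact Subgroup.one_mem _
    · rw [hν, inv_mul_cancel_right]
    · obtain ⟨j, hj⟩ := hτr ⟨x, hxR⟩
      obtain ⟨l, hl⟩ := hj
      refine ⟨j, l, ?_⟩
      have h1 : ((τ ⟨x, hxR⟩ : R) : Ω) = (x ^ 2 * y ^ j) * ((x ^ 2 * y ^ j)⁻¹ * (τ ⟨x, hxR⟩ : R)) := by
        group
      have h2 : (((⟨x, hxR⟩ : R) ^ 2 * (⟨y, hyR⟩ : R) ^ j)⁻¹ * τ ⟨x, hxR⟩ : R) =
          (x ^ 2 * y ^ j)⁻¹ * ((τ ⟨x, hxR⟩ : R) : Ω) := by
        simp
      rw [h2] at hl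
      rw [h1, hl, zpow_mul, zpow_natCast]

end Cfsg.Agent.Lib.Helper14.RkRes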