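/-
helper14, project S2924 (owner helper55): module [BAL] `balance`:
`O(C_X(a)) ∩ C_X(b) ≤ O(C_X(b))` when `E(C_X(b)) = 1` and `z` inverts `O(C_X(a))`, `O(C_X(b))`.
All declarations live in `Cfsg.Agent.Lib.Helper14.S2924`.
-/
import Mathlib
import Cfsg.Prelude.Def_Local
import Cfsg.Prelude.Def_CaseTheorems
import Cfsg.Agent.Lib.Helper55.S2924.Defs
import Cfsg.Agent.Lib.Helper49.CharP
import Cfsg.Agent.Lib.Helper49.CharP2
import Cfsg.Agent.Lib.Helper22.FStar
import Cfsg.Agent.Lib.Helper1.Fitting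
import Cfsg.Agent.Lib.Helper29.Iso

set_option autoImplicit false
set_option linter.style.haveILetI false
set_option linter.unusedVariables false

namespace Cfsg.Agent.Lib.Helper14.S2924

open Cfsg Cfsg.Agent.Lib.Helper55.S2924

variable {X : Type*} [Group X]

/-! ### basic facts on `th` (local copies, independent of the [API] module) -/

theorem th_le_cent (y : X) : th y ≤ Subgroup.centralizer ({y} : Set X) :=
  Subgroup.map_subtype_le _

theorem oddCore_normal' (H : Type*) [Group H] : (oddCore H).Normal :=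
  Subgroup.sSup_normal _ (fun _ h => h.1)

theorem th_card_coprime_two [Finite X] (y : X) : (Nat.card ↥(th y)).Coprime 2 := by
  unfold th
  rw [Subgroup.card_map_of_injective (Subgroup.subtype_injective _)]
  exact Cfsg.Agent.Lib.Helper1.pPrimeCore_card_coprime 2

theorem orderOf_coprime_of_mem_th [Finite X] {y w : X} (hw : w ∈ th y) :
    (orderOf w).Coprime 2 :=
  Nat.Coprime.coprime_dvd_left ((th y).orderOf_dvd_natCard hw) (th_card_coprime_two y)

theorem conj_mem_th {y l v : X} (hl : l ∈ Subgroup.centralizer ({y} : Set X)) (hv : v ∈ th y) :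
    l * v * l⁻¹ ∈ th y := by
  obtain ⟨v', hv', rfl⟩ := hv
  have hn := oddCore_normal' ↥(Subgroup.centralizer ({y} : Set X))
  exact ⟨⟨l, hl⟩ * v' * ⟨l, hl⟩⁻¹, hn.conj_mem v' hv' ⟨l, hl⟩, by simp⟩

theorem mem_centralizer_singleton {y g : X} :
    g ∈ Subgroup.centralizer ({y} : Set X) ↔ Commute g y := by
  rw [Subgroup.mem_centralizer_iff]
  constructor
  · intro h; exact (h y rfl).symm
  · intro h k hk
    rw [Set.mem_singleton_iff] at hk
    subst hk
    exact h.symm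

/-! ### step (ii) -/

theorem commute_of_both_inverted {z w d : X} (hw : z * w * z⁻¹ = w⁻¹) (hd : z * d * z⁻¹ = d⁻¹)
    (hwd : z * (w * d * w⁻¹) * z⁻¹ = (w * d * w⁻¹)⁻¹) (hodd : (orderOf w).Coprime 2) :
    Commute w d := by
  have e1 : z * (w * d * w⁻¹) * z⁻¹ = (z * w * z⁻¹) * (z * d * z⁻¹) * (z * w * z⁻¹)⁻¹ := by group
  rw [hw, hd, inv_inv] at e1
  -- e1 : z (w d w⁻¹) z⁻¹ = w⁻¹ d⁻¹ w
  have e2 : (w * d * w⁻¹)⁻¹ = w * d⁻¹ * w⁻¹ := by group
  rw [hwd, e2] at e1
  -- e1 : w d⁻¹ w⁻¹ = w⁻¹ d⁻¹ w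
  have h2 : Commute (w ^ 2) d⁻¹ := by
    show w ^ 2 * d⁻¹ = d⁻¹ * w ^ 2
    rw [pow_two]
    calc w * w * d⁻¹ = w * (w * d⁻¹ * w⁻¹) * w := by
          simp only [mul_assoc, inv_mul_cancel, mul_one]
      _ = w * (w⁻¹ * d⁻¹ * w) * w := by rw [e1]
      _ = d⁻¹ * (w * w) := by
          simp only [mul_assoc, mul_inv_cancel_left]
  have h3 : Commute (w ^ 2) d := by
    have := h2.inv_right
    rwa [inv_inv] at this
  obtain ⟨m, hm⟩ := exists_pow_eq_self_of_coprime (x := w) (n := 2) hodd.symm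
  rw [← hm]
  exact h3.pow_left m

/-! ### step (i) -/

theorem eq_one_of_mem_th_of_two_pow [Finite X] {y c : X} (hc : c ∈ th y) {k : ℕ}
    (hk : c ^ (2 ^ k) = 1) : c = 1 := by
  have h1 : (orderOf c).Coprime (2 ^ k) := (orderOf_coprime_of_mem_th hc).pow_right k
  have h2 : orderOf c ∣ 2 ^ k := orderOf_dvd_of_pow_eq_one hk
  have h3 : orderOf c = 1 := Nat.Coprime.eq_one_of_dvd h1 h2
  exact orderOf_eq_one_iff.mp h3

theorem commute_pCoreIn [Finite X] {a b : X} (ha : a ^ 2 = 1) (hab : Commute a b) :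
    ∀ w ∈ th a ⊓ Subgroup.centralizer ({b} : Set X),
      ∀ r ∈ Cfsg.Agent.Lib.Helper49.pCoreIn 2 (Subgroup.centralizer ({b} : Set X)),
        Commute w r := by
  haveI : Fact (Nat.Prime 2) := ⟨Nat.prime_two⟩
  intro w hw
  rw [Subgroup.mem_inf] at hw
  obtain ⟨hwa, hwK⟩ := hw
  have haK : a ∈ Subgroup.centralizer ({b} : Set X) := mem_centralizer_singleton.mpr hab
  have hKR := Cfsg.Agent.Lib.Helper49.le_normalizer_pCoreIn 2 (Subgroup.centralizer ({b} : Set X))
  have hQR : Subgroup.zpowers a ≤ Subgroup.normalizer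
      ((Cfsg.Agent.Lib.Helper49.pCoreIn 2 (Subgroup.centralizer ({b} : Set X)) : Subgroup X) :
        Set X) := by
    rw [Subgroup.zpowers_le]; exact hKR haK
  have hR2 : IsPGroup 2 (Cfsg.Agent.Lib.Helper49.pCoreIn 2 (Subgroup.centralizer ({b} : Set X))) :=
    (Cfsg.Agent.Lib.Helper49.isPGroup_pCore 2 ↥(Subgroup.centralizer ({b} : Set X))).map _
  have hQ2 : IsPGroup 2 (Subgroup.zpowers a) := by
    intro g
    refine ⟨1, ?_⟩
    obtain ⟨g, ⟨j, rfl⟩⟩ := g
    apply Subtype.ext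
    show (a ^ j) ^ 2 ^ 1 = 1
    rw [pow_one, ← zpow_natCast, ← zpow_mul, mul_comm, zpow_mul, zpow_natCast, ha, one_zpow]
  have hT : IsPGroup 2 (Subgroup.zpowers a ⊔
      Cfsg.Agent.Lib.Helper49.pCoreIn 2 (Subgroup.centralizer ({b} : Set X)) : Subgroup X) :=
    hQ2.to_sup_of_normal_right' hR2 hQR
  have hwa' : Commute w a := mem_centralizer_singleton.mp (th_le_cent a hwa)
  refine Cfsg.Agent.Lib.Helper49.commute_of_AxB (p := 2) hT le_sup_right le_sup_left hQR
    (hKR hwK) (orderOf_coprime_of_mem_th hwa) ?_ ?_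
  · rintro q ⟨j, rfl⟩
    exact hwa'.zpow_right j
  · intro r hr hrq
    have hra : Commute r a := hrq a (Subgroup.mem_zpowers a)
    have hraK : r ∈ Subgroup.centralizer ({a} : Set X) := mem_centralizer_singleton.mpr hra
    have h1 : w * r * w⁻¹ * r⁻¹ ∈
        Cfsg.Agent.Lib.Helper49.pCoreIn 2 (Subgroup.centralizer ({b} : Set X)) := by
      have := (Subgroup.mem_normalizer_iff.mp (hKR hwK) r).mp hr
      exact Subgroup.mul_mem _ this (Subgroup.inv_mem _ hr)
    have h2 : w * r * w⁻¹ * r⁻¹ ∈ th a := by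
      have e : w * r * w⁻¹ * r⁻¹ = w * (r * w⁻¹ * r⁻¹) := by group
      rw [e]
      exact Subgroup.mul_mem _ hwa (conj_mem_th hraK (Subgroup.inv_mem _ hwa))
    obtain ⟨k, hk⟩ := Cfsg.Agent.Lib.Helper49.pow_eq_one_of_mem_pCoreIn h1
    have h3 := eq_one_of_mem_th_of_two_pow h2 hk
    show w * r = r * w
    calc w * r = (w * r * w⁻¹ * r⁻¹) * (r * w) := by group
      _ = r * w := by rw [h3, one_mul]

/-! ### steps (iii), (iv): inside a finite group `H` with `E(H) = 1` -/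

theorem pCore_le_oddCore {H : Type*} [Group H] [Finite H] {p : ℕ} [Fact p.Prime] (hp : p ≠ 2) :
    pCore p H ≤ oddCore H := by
  apply le_sSup
  refine ⟨Cfsg.Agent.Lib.Helper1.pCore_normal p, ?_⟩
  obtain ⟨k, hk⟩ := (Cfsg.Agent.Lib.Helper49.isPGroup_pCore p H).exists_card_eq
  rw [hk]
  apply Nat.Coprime.pow_left
  exact (Nat.coprime_primes (Fact.out : p.Prime) Nat.prime_two).mpr hp

theorem le_oddCore_of_centralizes {H : Type*} [Group H] [Finite H] (hE : layer H = ⊥)
    (W : Subgroup H)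
    (h2 : ∀ w ∈ W, ∀ r ∈ pCore 2 H, Commute w r)
    (hO : ∀ w ∈ W, ∀ d ∈ oddCore H, Commute w d)
    (hodd : ∀ w ∈ W, (orderOf w).Coprime 2) : W ≤ oddCore H := by
  classical
  -- Step A: `W` centralizes `F(H)`
  have hA : W ≤ Subgroup.centralizer ((fittingSubgroup H : Subgroup H) : Set H) := by
    rw [Subgroup.le_centralizer_iff, Cfsg.Agent.Lib.Helper1.fittingSubgroup_eq_iSup_pCore]
    apply iSup_le
    intro p
    haveI : Fact (Nat.Prime (p : ℕ)) := ⟨p.2⟩
    intro r hr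
    rw [Subgroup.mem_centralizer_iff]
    intro w hw
    by_cases hp : (p : ℕ) = 2
    · rw [hp] at hr
      exact (h2 w hw r hr).eq
    · exact (hO w hw r (pCore_le_oddCore hp hr)).eq
  -- Step B: `W ≤ F(H)`
  have hFs : generalizedFittingSubgroup H = fittingSubgroup H := by
    unfold generalizedFittingSubgroup
    rw [hE, bot_sup_eq]
  have hB : W ≤ fittingSubgroup H := by
    have := Cfsg.Agent.Lib.Helper22.centralizer_generalizedFittingSubgroup_le (G := H)
    rw [hFs] at this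
    exact hA.trans this
  -- Step C/D: the odd part of `Z(F(H))`
  haveI hFn : (fittingSubgroup H).Normal := Cfsg.Agent.Lib.Helper29.fittingSubgroup_normal H
  have hCn : (Subgroup.centralizer ((fittingSubgroup H : Subgroup H) : Set H)).Normal :=
    Subgroup.normal_centralizer
  set m : ℕ := ordCompl[2] (Nat.card H) with hm
  have hcard_ne : Nat.card H ≠ 0 := Nat.card_pos.ne'
  have hm_odd : Nat.Coprime 2 m := Nat.coprime_ordCompl Nat.prime_two hcard_ne
  have hZcomm : ∀ x ∈ fittingSubgroup H ⊓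
      Subgroup.centralizer ((fittingSubgroup H : Subgroup H) : Set H),
      ∀ y ∈ fittingSubgroup H ⊓
      Subgroup.centralizer ((fittingSubgroup H : Subgroup H) : Set H), Commute x y := by
    intro x hx y hy
    rw [Subgroup.mem_inf] at hx hy
    exact (Subgroup.mem_centralizer_iff.mp hx.2 y hy.1).symm
  let N : Subgroup H :=
    { carrier := {x | x ∈ fittingSubgroup H ⊓
        Subgroup.centralizer ((fittingSubgroup H : Subgroup H) : Set H) ∧ x ^ m = 1}
      one_mem' := ⟨Subgroup.one_mem _, one_pow m⟩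
      mul_mem' := by
        rintro x y ⟨hx, hxm⟩ ⟨hy, hym⟩
        refine ⟨Subgroup.mul_mem _ hx hy, ?_⟩
        rw [(hZcomm x hx y hy).mul_pow, hxm, hym, one_mul]
      inv_mem' := by
        rintro x ⟨hx, hxm⟩
        exact ⟨Subgroup.inv_mem _ hx, by rw [inv_pow, hxm, inv_one]⟩ }
  have hNmem : ∀ x, x ∈ N ↔ x ∈ fittingSubgroup H ⊓
        Subgroup.centralizer ((fittingSubgroup H : Subgroup H) : Set H) ∧ x ^ m = 1 :=
    fun _ => Iff.rfl
  have hNn : N.Normal := by
    constructor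
    intro x hx g
    rw [hNmem] at hx ⊢
    obtain ⟨hx1, hxm⟩ := hx
    rw [Subgroup.mem_inf] at hx1 ⊢
    refine ⟨⟨hFn.conj_mem x hx1.1 g, hCn.conj_mem x hx1.2 g⟩, ?_⟩
    rw [conj_pow, hxm, mul_one, mul_inv_cancel]
  have hNodd : (Nat.card N).Coprime 2 := by
    haveI : Fact (Nat.Prime 2) := ⟨Nat.prime_two⟩
    rw [Nat.coprime_comm, Nat.Prime.coprime_iff_not_dvd Nat.prime_two]
    intro hdvd
    obtain ⟨x, hx⟩ := exists_prime_orderOf_dvd_card' (G := ↥N) 2 hdvd
    have hxm : (x : H) ^ m = 1 := ((hNmem x).mp x.2).2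
    have h1 : orderOf (x : H) = 2 := by rw [Subgroup.orderOf_coe]; exact hx
    have h2 : 2 ∣ m := by
      rw [← h1]; exact orderOf_dvd_of_pow_eq_one hxm
    have := Nat.Coprime.eq_one_of_dvd hm_odd h2
    omega
  -- Step E: `W ≤ N`
  have hE' : W ≤ N := by
    intro w hw
    rw [hNmem]
    refine ⟨Subgroup.mem_inf.mpr ⟨hB hw, hA hw⟩, ?_⟩
    have h1 : orderOf w ∣ Nat.card H := orderOf_dvd_natCard w
    have h2 : ordProj[2] (Nat.card H) * m = Nat.card H := Nat.ordProj_mul_ordCompl_eq_self _ _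
    rw [← h2] at h1
    have h3 : (orderOf w).Coprime (ordProj[2] (Nat.card H)) := (hodd w hw).pow_right _
    have h4 : orderOf w ∣ m := h3.dvd_of_dvd_mul_left h1
    exact orderOf_dvd_iff_pow_eq_one.mp h4
  -- Step F
  exact hE'.trans (le_sSup ⟨hNn, hNodd⟩)

/-! ### [BAL] -/

theorem balance [Finite X] {a b z : X} (ha : a ^ 2 = 1) (hab : Commute a b)
    (hzb : Commute z b)
    (hE : Cfsg.layer ↥(Subgroup.centralizer ({b} : Set X)) = ⊥)
    (hia : ∀ v ∈ th a, z * v * z⁻¹ = v⁻¹) (hib : ∀ v ∈ th b, z * v * z⁻¹ = v⁻¹) :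
    th a ⊓ Subgroup.centralizer ({b} : Set X) ≤ th b := by
  have key := le_oddCore_of_centralizes hE
    ((th a ⊓ Subgroup.centralizer ({b} : Set X)).subgroupOf (Subgroup.centralizer ({b} : Set X)))
    ?_ ?_ ?_
  · intro v hv
    have hvK : v ∈ Subgroup.centralizer ({b} : Set X) := (Subgroup.mem_inf.mp hv).2
    have : (⟨v, hvK⟩ : ↥(Subgroup.centralizer ({b} : Set X))) ∈
        oddCore ↥(Subgroup.centralizer ({b} : Set X)) :=
      key (Subgroup.mem_subgroupOf.mpr hv)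
    exact ⟨⟨v, hvK⟩, this, rfl⟩
  · intro w hw r hr
    rw [Subgroup.mem_subgroupOf] at hw
    have := commute_pCoreIn ha hab (w : X) hw (r : X) ⟨r, hr, rfl⟩
    exact Subtype.ext this
  · intro w hw d hd
    rw [Subgroup.mem_subgroupOf] at hw
    have hwa : (w : X) ∈ th a := (Subgroup.mem_inf.mp hw).1
    have hdb : (d : X) ∈ th b := ⟨d, hd, rfl⟩
    have hwdb : (w : X) * (d : X) * (w : X)⁻¹ ∈ th b := conj_mem_th w.2 hdb
    have := commute_of_both_inverted (hia _ hwa) (hib _ hdb) (hib _ hwdb)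
      (orderOf_coprime_of_mem_th hwa)
    exact Subtype.ext this
  · intro w hw
    rw [Subgroup.mem_subgroupOf] at hw
    rw [← Subgroup.orderOf_coe]
    exact orderOf_coprime_of_mem_th (Subgroup.mem_inf.mp hw).1

end Cfsg.Agent.Lib.Helper14.S2924
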