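/-
helper14, project S2283 (owner helper13): module [INST-8] `good_eight` (the pair for `q = 8`).
All declarations live in `Cfsg.Agent.Lib.Helper14.SU3G`.
-/
import Mathlib
import Cfsg.Prelude.Def_Classical
import Cfsg.Agent.Lib.Helper13.SU3GDefs
import Cfsg.Agent.Lib.Helper23.SU3GFG
import Cfsg.Agent.Lib.Helper80.SU3GMul

set_option autoImplicit false
set_option linter.unusedVariables false
set_option linter.unusedSimpArgs false
set_option linter.unnecessarySeqFocus false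
set_option maxHeartbeats 1000000

namespace Cfsg.Agent.Lib.Helper14.SU3G

open Matrix Cfsg.Agent.Lib.Helper13.SU3G

variable {F : Type*} [Field F]

local notation "SL3" => Matrix.SpecialLinearGroup (Fin 3) F

theorem uM_mulVec3 (σ : F →+* F) (a b x0 x1 x2 : F) :
    uM σ a b *ᵥ ![x0, x1, x2] = ![x0 + a * x1 + b * x2, x1 - σ a * x2, x2] := by
  ext i
  fin_cases i <;> simp [uM, Matrix.mulVec, dotProduct, Fin.sum_univ_three] <;> ring

theorem lM_mulVec3 (σ : F →+* F) (c d x0 x1 x2 : F) :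
    lM σ c d *ᵥ ![x0, x1, x2] = ![x0, σ c * x0 + x1, d * x0 - c * x1 + x2] := by
  ext i
  fin_cases i <;> simp [lM, Matrix.mulVec, dotProduct, Fin.sum_univ_three] <;> ring

theorem entry_col0 (M : Matrix (Fin 3) (Fin 3) F) (i : Fin 3) : M i 0 = (M *ᵥ ![1, 0, 0]) i := by
  simp [Matrix.mulVec, dotProduct, Fin.sum_univ_three]

/-- the first column of `v u v u u v⁻¹`, `u = uS a b`, `v = lS 1 d`. -/
theorem col_vuvuuv (σ : F →+* F) (a b d : F) (i : Fin 3) :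
    ((lS σ 1 d * uS σ a b * lS σ 1 d * uS σ a b * uS σ a b * (lS σ 1 d)⁻¹ : SL3) :
      Matrix (Fin 3) (Fin 3) F) i 0 =
    (lM σ 1 d *ᵥ (uM σ a b *ᵥ (lM σ 1 d *ᵥ (uM σ a b *ᵥ (uM σ a b *ᵥ
      (lM σ (-1) (-d - 1 * σ 1) *ᵥ ![1, 0, 0])))))) i := by
  rw [Cfsg.Agent.Lib.Helper80.SU3G.lS_inv]
  refine (entry_col0 _ i).trans ?_
  show ((lM σ 1 d * uM σ a b * lM σ 1 d * uM σ a b * uM σ a b * lM σ (-1) (-d - 1 * σ 1)) *ᵥ
    ![1, 0, 0]) i = _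
  simp only [← Matrix.mulVec_mulVec]

/-- a primitive ninth root of unity in the field with `64` elements. -/
theorem exists_e_64 [Fintype F] (hF : Fintype.card F = 8 ^ 2) :
    ∃ e : F, e ^ 6 + e ^ 3 + 1 = 0 := by
  classical
  obtain ⟨g, hg⟩ := IsCyclic.exists_generator (α := Fˣ)
  have hord : orderOf g = 63 := by
    rw [orderOf_eq_card_of_forall_mem_zpowers hg, Nat.card_eq_fintype_card, Fintype.card_units, hF]
    norm_num
  have h9 : ((g ^ 7 : Fˣ) : F) ^ 9 = 1 := by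
    rw [← Units.val_pow_eq_pow_val, ← pow_mul, show 7 * 9 = 63 from rfl, ← hord,
      pow_orderOf_eq_one, Units.val_one]
  have h3 : ((g ^ 7 : Fˣ) : F) ^ 3 ≠ 1 := by
    intro h
    have h21 : g ^ 21 = 1 := by
      apply Units.ext
      rw [show 21 = 7 * 3 from rfl, pow_mul, Units.val_pow_eq_pow_val, h, Units.val_one]
    have := orderOf_dvd_of_pow_eq_one h21
    rw [hord] at this
    omega
  refine ⟨((g ^ 7 : Fˣ) : F), ?_⟩
  have hne : ((g ^ 7 : Fˣ) : F) ^ 3 - 1 ≠ 0 := sub_ne_zero.mpr h3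
  apply mul_left_cancel₀ hne
  rw [mul_zero]
  linear_combination h9

theorem two_eq_zero_64 [Fintype F] (hF : Fintype.card F = 8 ^ 2) : (2 : F) = 0 := by
  have h := Nat.cast_card_eq_zero F
  rw [hF] at h
  have h64 : (2 : F) ^ 6 = 0 := by
    have : ((8 ^ 2 : ℕ) : F) = 2 ^ 6 := by push_cast; norm_num
    rw [← this]; exact h
  exact pow_eq_zero_iff (by norm_num) |>.mp h64

theorem good_eight [Fintype F] (hF : Fintype.card F = 8 ^ 2) (σ : F →+* F)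
    (hσq : ∀ x, σ x = x ^ 8) (hσ2 : ∀ x, σ (σ x) = x) : Good σ := by
  classical
  have h2 : (2 : F) = 0 := two_eq_zero_64 hF
  obtain ⟨e, he⟩ := exists_e_64 hF
  have hσe : σ e = e ^ 2 + e ^ 5 := by
    rw [hσq]
    linear_combination ((1) * e ^ 2) * he + ((-1) * e ^ 2 + (-1) * e ^ 5) * h2
  have hσa : σ (e + e ^ 2 + e ^ 5) = e + e ^ 2 + e ^ 5 := by
    simp only [map_add, map_pow, hσe]
    linear_combination ((1) * e + (2) * e ^ 4 + (-1) * e ^ 7 + (1) * e ^ 10 + (5) * e ^ 13 + (4) * e ^ 16 + (1) * e ^ 19) * he + ((-1) * e + (-1) * e ^ 4) * h2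
  have ha0 : (e + e ^ 2 + e ^ 5 : F) ≠ 0 := by
    intro h
    have : (e + e ^ 2 + e ^ 5) * ((1) + (1) * e + (1) * e ^ 2 + (1) * e ^ 4) = 1 := by
      linear_combination ((1) + (1) * e + (1) * e ^ 3) * he + ((-1) + (1) * e ^ 2 + (1) * e ^ 5) * h2
    rw [h, zero_mul] at this; exact zero_ne_one this
  have hd0 : (1 + e ^ 3 + e ^ 4 + e ^ 5 : F) ≠ 0 := by
    intro h
    have : (1 + e ^ 3 + e ^ 4 + e ^ 5) * ((1) + (1) * e ^ 2 + (1) * e ^ 5) = 1 := by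
      linear_combination ((1) * e ^ 2 + (1) * e ^ 3 + (1) * e ^ 4) * he + ((1) * e ^ 5) * h2
    rw [h, zero_mul] at this; exact zero_ne_one this
  have hcol := col_vuvuuv σ (e + e ^ 2 + e ^ 5) (e ^ 2) (1 + e ^ 3 + e ^ 4 + e ^ 5)
  simp only [lM_mulVec3, uM_mulVec3, hσa, map_one, map_neg] at hcol
  have hs00 : ((lS σ 1 (1 + e ^ 3 + e ^ 4 + e ^ 5) * uS σ (e + e ^ 2 + e ^ 5) (e ^ 2) *
      lS σ 1 (1 + e ^ 3 + e ^ 4 + e ^ 5) * uS σ (e + e ^ 2 + e ^ 5) (e ^ 2) *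
      uS σ (e + e ^ 2 + e ^ 5) (e ^ 2) * (lS σ 1 (1 + e ^ 3 + e ^ 4 + e ^ 5))⁻¹ : SL3) :
      Matrix (Fin 3) (Fin 3) F) 0 0 = 1 + e + e ^ 5 := by
    rw [hcol 0]
    simp only [Matrix.cons_val_zero]
    linear_combination ((4) + (-7) * e + (4) * e ^ 2 + (-2) * e ^ 3 + (-1) * e ^ 4 + (12) * e ^ 5 + (12) * e ^ 6 + (11) * e ^ 7 + (7) * e ^ 8 + (16) * e ^ 9 + (15) * e ^ 10 + (12) * e ^ 11 + (6) * e ^ 12 + (4) * e ^ 13 + (4) * e ^ 14 + (2) * e ^ 15 + (1) * e ^ 16) * he + ((-2) + (2) * e + (-3) * e ^ 2 + (-1) * e ^ 3 + (3) * e ^ 4 + (-4) * e ^ 5) * h2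
  refine ⟨e + e ^ 2 + e ^ 5, e ^ 2, 1, 1 + e ^ 3 + e ^ 4 + e ^ 5, e + e ^ 2 + e ^ 5,
    lS σ 1 (1 + e ^ 3 + e ^ 4 + e ^ 5) * uS σ (e + e ^ 2 + e ^ 5) (e ^ 2) *
      lS σ 1 (1 + e ^ 3 + e ^ 4 + e ^ 5) * uS σ (e + e ^ 2 + e ^ 5) (e ^ 2) *
      uS σ (e + e ^ 2 + e ^ 5) (e ^ 2) * (lS σ 1 (1 + e ^ 3 + e ^ 4 + e ^ 5))⁻¹,
    ha0, one_ne_zero, ?_, ?_, ?_, hd0, ?_, ?_, ?_, ?_⟩
  · rw [hσa, mul_one, eq_div_iff ha0]
    ring
  · rw [hσa]
    simp only [map_pow, hσe]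
    linear_combination ((2) + (2) * e + (2) * e ^ 4) * he + ((-1) + (-1) * e + (1) * e ^ 2 + (-1) * e ^ 4) * h2
  · simp only [map_add, map_pow, map_one, hσe]
    linear_combination ((-1) + (1) * e ^ 4 + (-1) * e ^ 5 + (2) * e ^ 6 + (-1) * e ^ 7 + (2) * e ^ 8 + (1) * e ^ 9 + (1) * e ^ 10 + (3) * e ^ 11 + (5) * e ^ 13 + (1) * e ^ 14 + (4) * e ^ 16 + (1) * e ^ 19) * he + ((2) + (1) * e ^ 3 + (1) * e ^ 5) * h2
  · have hu : uS σ (e + e ^ 2 + e ^ 5) (e ^ 2) ∈ Subgroup.closure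
        ({uS σ (e + e ^ 2 + e ^ 5) (e ^ 2), lS σ 1 (1 + e ^ 3 + e ^ 4 + e ^ 5)} : Set SL3) :=
      Subgroup.subset_closure (by simp)
    have hv : lS σ 1 (1 + e ^ 3 + e ^ 4 + e ^ 5) ∈ Subgroup.closure
        ({uS σ (e + e ^ 2 + e ^ 5) (e ^ 2), lS σ 1 (1 + e ^ 3 + e ^ 4 + e ^ 5)} : Set SL3) :=
      Subgroup.subset_closure (by simp)
    exact Subgroup.mul_mem _ (Subgroup.mul_mem _ (Subgroup.mul_mem _ (Subgroup.mul_mem _
      (Subgroup.mul_mem _ hv hu) hv) hu) hu) (Subgroup.inv_mem _ hv)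
  · rw [hcol 1]
    simp only [Matrix.cons_val_one, Matrix.cons_val_zero]
    linear_combination ((25) + (-14) * e + (-4) * e ^ 2 + (15) * e ^ 3 + (34) * e ^ 4 + (16) * e ^ 5 + (8) * e ^ 6 + (17) * e ^ 7 + (7) * e ^ 8 + (-10) * e ^ 10 + (-4) * e ^ 11 + (-8) * e ^ 12 + (-12) * e ^ 13 + (-11) * e ^ 14 + (-6) * e ^ 15 + (-3) * e ^ 16 + (-3) * e ^ 17 + (-2) * e ^ 18 + (-1) * e ^ 19) * he + ((-12) + (7) * e + (4) * e ^ 2 + (-11) * e ^ 3 + (-7) * e ^ 4) * h2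
  · rw [hcol 2]
    simp only [Matrix.cons_val_two, Matrix.cons_val_one, Matrix.cons_val_zero, Matrix.tail_cons,
      Matrix.head_cons]
    linear_combination ((-15) + (4) * e + (-2) * e ^ 2 + (-22) * e ^ 3 + (-45) * e ^ 4 + (14) * e ^ 5 + (12) * e ^ 6 + (12) * e ^ 7 + (26) * e ^ 8 + (65) * e ^ 9 + (80) * e ^ 10 + (61) * e ^ 11 + (57) * e ^ 12 + (60) * e ^ 13 + (63) * e ^ 14 + (43) * e ^ 15 + (27) * e ^ 16 + (17) * e ^ 17 + (12) * e ^ 18 + (8) * e ^ 19 + (3) * e ^ 20 + (1) * e ^ 21) * he + ((8) + (-7) * e + (-7) * e ^ 2 + (12) * e ^ 3 + (14) * e ^ 4 + (-13) * e ^ 5) * h2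
  · rw [hs00]
    have hσμ : σ (1 + e + e ^ 5) ≠ 0 := by
      intro h
      have : σ (1 + e + e ^ 5) * ((1) * e + (1) * e ^ 3 + (1) * e ^ 4) = 1 := by
        simp only [map_add, map_pow, map_one, hσe]
        linear_combination ((1) + (-1) * e + (1) * e ^ 3 + (1) * e ^ 5 + (1) * e ^ 7 + (-1) * e ^ 10 + (1) * e ^ 13 + (6) * e ^ 14 + (5) * e ^ 16 + (9) * e ^ 17 + (4) * e ^ 19 + (5) * e ^ 20 + (1) * e ^ 22 + (1) * e ^ 23) * he + ((-1) + (1) * e + (1) * e ^ 4) * h2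
      rw [h, zero_mul] at this; exact zero_ne_one this
    have hκ : (1 + e + e ^ 5) ^ 2 / σ (1 + e + e ^ 5) = 1 + e + e ^ 2 + e ^ 3 := by
      rw [div_eq_iff hσμ]
      simp only [map_add, map_pow, map_one, hσe]
      linear_combination ((2) + (-1) * e + (-1) * e ^ 2 + (-1) * e ^ 5 + (-1) * e ^ 6 + (1) * e ^ 8 + (1) * e ^ 9 + (-1) * e ^ 11 + (-1) * e ^ 12 + (-6) * e ^ 13 + (-5) * e ^ 14 + (-5) * e ^ 15 + (-9) * e ^ 16 + (-4) * e ^ 17 + (-4) * e ^ 18 + (-5) * e ^ 19 + (-1) * e ^ 20 + (-1) * e ^ 21 + (-1) * e ^ 22) * he + ((-1) + (1) * e + (-2) * e ^ 3 + (1) * e ^ 5) * h2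
    rw [hκ]
    apply Cfsg.Agent.Lib.Helper23.SU3G.closure_eq_top_of_pow_ne
    intro c m hc hm hcm
    rw [hF] at hcm
    have hm7 : m < 7 := by
      by_contra hcon
      have h1 : 2 ^ 7 ≤ c ^ m :=
        (Nat.pow_le_pow_left hc 7).trans (Nat.pow_le_pow_right (by omega) (not_lt.mp hcon))
      omega
    have hc8 : c ≤ 8 := by
      by_contra hcon
      have h1 : 9 ^ 2 ≤ c ^ m :=
        (Nat.pow_le_pow_left (by omega : 9 ≤ c) 2).trans (Nat.pow_le_pow_right (by omega) hm)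
      omega
    have hc248 : c = 2 ∨ c = 4 ∨ c = 8 := by
      interval_cases m <;> interval_cases c <;> simp_all
    intro h
    rcases hc248 with rfl | rfl | rfl
    · have : ((1 + e + e ^ 2 + e ^ 3) ^ 2 - (1 + e + e ^ 2 + e ^ 3)) * ((1) * e + (1) * e ^ 2 + (1) * e ^ 3 + (1) * e ^ 5) = 1 := by
        linear_combination ((5) + (6) * e + (5) * e ^ 2 + (4) * e ^ 3 + (2) * e ^ 4 + (1) * e ^ 5) * he + ((-3) + (-3) * e + (-2) * e ^ 2 + (-3) * e ^ 3 + (-1) * e ^ 4 + (1) * e ^ 5) * h2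
      rw [h, sub_self, zero_mul] at this; exact zero_ne_one this
    · have : ((1 + e + e ^ 2 + e ^ 3) ^ 4 - (1 + e + e ^ 2 + e ^ 3)) * ((1) * e + (1) * e ^ 3 + (1) * e ^ 5) = 1 := by
        linear_combination ((-33) + (-12) * e + (15) * e ^ 2 + (42) * e ^ 3 + (58) * e ^ 4 + (61) * e ^ 5 + (53) * e ^ 6 + (38) * e ^ 7 + (23) * e ^ 8 + (11) * e ^ 9 + (4) * e ^ 10 + (1) * e ^ 11) * he + ((16) + (6) * e + (-6) * e ^ 2 + (-12) * e ^ 4 + (-18) * e ^ 5) * h2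
      rw [h, sub_self, zero_mul] at this; exact zero_ne_one this
    · have : ((1 + e + e ^ 2 + e ^ 3) ^ 8 - (1 + e + e ^ 2 + e ^ 3)) * ((1) * e + (1) * e ^ 2 + (1) * e ^ 4) = 1 := by
        linear_combination ((3581) + (2744) * e + (631) * e ^ 2 + (-1747) * e ^ 3 + (-3210) * e ^ 4 + (-2925) * e ^ 5 + (-749) * e ^ 6 + (2741) * e ^ 7 + (6516) * e ^ 8 + (9519) * e ^ 9 + (11048) * e ^ 10 + (10937) * e ^ 11 + (9509) * e ^ 12 + (7359) * e ^ 13 + (5095) * e ^ 14 + (3156) * e ^ 15 + (1741) * e ^ 16 + (847) * e ^ 17 + (358) * e ^ 18 + (128) * e ^ 19 + (37) * e ^ 20 + (8) * e ^ 21 + (1) * e ^ 22) * he + ((-1791) + (-1372) * e + (-312) * e ^ 2 + (-896) * e ^ 3 + (310) * e ^ 4 + (1371) * e ^ 5) * h2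
      rw [h, sub_self, zero_mul] at this; exact zero_ne_one this

end Cfsg.Agent.Lib.Helper14.SU3G
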