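/-
helper14, project SAF (S4025, owner helper2): module [AFF2] `exists_affPkg`
(core version `exists_affPkg_of`, taking the output of [AFF1] as hypotheses).
All declarations live in `Cfsg.Agent.Lib.Helper14.SafAff2`.
-/
import Mathlib
import Cfsg.Prelude.Def_Transfer
import Cfsg.Prelude.Def_CaseTheorems
import Cfsg.Prelude.Def_Perm
import Cfsg.Agent.Lib.Helper2.SafDefs

set_option autoImplicit false
set_option linter.style.haveILetI false
set_option linter.unusedVariables false
set_option linter.unusedSectionVars false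

namespace Cfsg.Agent.Lib.Helper14.SafAff2

open Cfsg Cfsg.Agent.Lib.Helper2.Saf

universe u

variable {Q : Type u} [Group Q]

/-- the commutative group structure on an abelian subgroup -/
@[reducible] def commGroupOf (V : Subgroup Q) (hc : ∀ x ∈ V, ∀ y ∈ V, x * y = y * x) :
    CommGroup V :=
  { (inferInstance : Group V) with
    mul_comm := fun a b => Subtype.ext (hc a a.2 b b.2) }

/-- an abelian subgroup of exponent `p` has an additive `ZMod p`-module model. -/
theorem exists_addModel {p : ℕ} [Fact p.Prime] (V : Subgroup Q)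
    (hc : ∀ x ∈ V, ∀ y ∈ V, x * y = y * x) (hexp : ∀ x ∈ V, x ^ p = 1) :
    ∃ (W : Type u) (_ : AddCommGroup W) (_ : Module (ZMod p) W) (e : W ≃ V),
      ∀ x y : W, e (x + y) = e x * e y := by
  letI cg : CommGroup V := commGroupOf V hc
  letI acg : AddCommGroup (Additive V) := Additive.addCommGroup
  have hexp' : ∀ x : Additive V, p • x = 0 := by
    intro x
    have : (Additive.toMul x) ^ p = 1 := Subtype.ext (by
      rw [Subgroup.coe_pow]; exact hexp _ (Additive.toMul x).2)
    exact congrArg Additive.ofMul this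
  exact ⟨Additive V, acg, AddCommGroup.zmodModule hexp', Additive.toMul, fun x y => rfl⟩

section Core

variable {p : ℕ} [Fact p.Prime] {V : Subgroup Q} [hVn : V.Normal]
  {W : Type u} [AddCommGroup W] [Module (ZMod p) W] (e : W ≃ V)
  (he : ∀ x y : W, e (x + y) = e x * e y)

include he in
theorem e_zero : e 0 = 1 := by
  have := he 0 0
  rw [add_zero] at this
  exact (mul_eq_left.mp this.symm)

/-- `e` as an additive equivalence onto `Additive V`. -/
def eAdd : W ≃+ Additive V where
  toFun x := Additive.ofMul (e x)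
  invFun y := e.symm (Additive.toMul y)
  left_inv x := by simp
  right_inv y := by simp
  map_add' x y := congrArg Additive.ofMul (he x y)

/-- conjugation by `q`, as a linear automorphism of the model `W`. -/
def conjL (q : Q) : W ≃ₗ[ZMod p] W :=
  { ((eAdd e he).trans ((MulEquiv.toAdditive (MulAut.conjNormal (H := V) q)).trans
      (eAdd e he).symm)) with
    map_smul' := fun r x => ZMod.map_smul ((eAdd e he).trans
      ((MulEquiv.toAdditive (MulAut.conjNormal (H := V) q)).trans (eAdd e he).symm)) r x }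

theorem conjL_val (q : Q) (x : W) : ((e (conjL (p := p) e he q x) : V) : Q) = q * e x * q⁻¹ := by
  show ((e (e.symm (MulAut.conjNormal (H := V) q (e x))) : V) : Q) = _
  rw [Equiv.apply_symm_apply]
  rfl

theorem eQ_injective : Function.Injective (fun x : W => ((e x : V) : Q)) :=
  Subtype.coe_injective.comp e.injective

/-- the representation of `Q` on `W` by conjugation. -/
def conjRep : Q →* (W ≃ₗ[ZMod p] W) where
  toFun q := conjL e he q
  map_one' := by
    ext x
    apply eQ_injective e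
    show ((e (conjL (p := p) e he 1 x) : V) : Q) = ((e x : V) : Q)
    rw [conjL_val]; group
  map_mul' a b := by
    ext x
    apply eQ_injective e
    show ((e (conjL (p := p) e he (a * b) x) : V) : Q) =
      ((e (conjL (p := p) e he a (conjL (p := p) e he b x)) : V) : Q)
    rw [conjL_val, conjL_val, conjL_val]; group

theorem conjRep_val (q : Q) (x : W) :
    ((e (conjRep (p := p) e he q x) : V) : Q) = q * e x * q⁻¹ :=
  conjL_val e he q x

/-- the image in `Q` of an additive subgroup of the model. -/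
def imgSub (U : AddSubgroup W) : Subgroup Q where
  carrier := (fun x : W => ((e x : V) : Q)) '' (U : Set W)
  one_mem' := ⟨0, U.zero_mem, by show ((e 0 : V) : Q) = 1; rw [e_zero e he]; rfl⟩
  mul_mem' := by
    rintro _ _ ⟨x, hx, rfl⟩ ⟨y, hy, rfl⟩
    exact ⟨x + y, U.add_mem hx hy, by show ((e (x + y) : V) : Q) = _; rw [he]; rfl⟩
  inv_mem' := by
    rintro _ ⟨x, hx, rfl⟩
    refine ⟨-x, U.neg_mem hx, ?_⟩
    show ((e (-x) : V) : Q) = ((e x : V) : Q)⁻¹
    have h1 := he (-x) x
    rw [neg_add_cancel, e_zero e he] at h1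
    have h2 : ((e (-x) : V) : Q) * ((e x : V) : Q) = 1 := by
      rw [← Subgroup.coe_mul, ← h1]; rfl
    exact eq_inv_of_mul_eq_one_left h2

theorem mem_imgSub (U : AddSubgroup W) (g : Q) :
    g ∈ imgSub e he U ↔ ∃ x ∈ U, ((e x : V) : Q) = g := Iff.rfl

theorem eQ_mem_imgSub (U : AddSubgroup W) (x : W) :
    ((e x : V) : Q) ∈ imgSub e he U ↔ x ∈ U := by
  constructor
  · rintro ⟨y, hy, hyx⟩
    have := eQ_injective e hyx
    rwa [← this]
  · intro hx; exact ⟨x, hx, rfl⟩

theorem imgSub_le (U : AddSubgroup W) : imgSub e he U ≤ V := by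
  rintro _ ⟨x, _, rfl⟩
  exact (e x).2

theorem card_imgSub (U : AddSubgroup W) : Nat.card (imgSub e he U) = Nat.card U := by
  show Nat.card ↥((fun x : W => ((e x : V) : Q)) '' (U : Set W)) = Nat.card ↥(U : Set W)
  exact Nat.card_image_of_injective (eQ_injective e) _

end Core

theorem exists_affPkg_of [Finite Q] {p n : ℕ} [Fact p.Prime]
    (V : Subgroup Q) (h : NormalEA p n V) (hsol : Group.IsSolvable Q)
    (C : Subgroup Q) (π : Q →* Equiv.Perm V)
    (hVC : ∀ q : Q, ∃ v ∈ V, ∃ c ∈ C, q = v * c) (hCV : C ⊓ V = ⊥)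
    (hπ : Function.Injective π)
    (hform : ∀ (v : V) (c : Q), c ∈ C → ∀ y : V,
      ((π ((v : Q) * c) y : V) : Q) = v * (c * y * c⁻¹)) :
    ∃ (W : Type u) (_ : AddCommGroup W) (_ : Module (ZMod p) W) (_ : Finite W)
      (A : Type u) (_ : Group A) (_ : Finite A) (pk : AffPkg p Q W A),
      Nat.card W = p ^ n ∧ Nat.card Q = Nat.card W * Nat.card A ∧ Group.IsSolvable A ∧
      ¬ p ∣ Nat.card A ∧
      (∀ U₁ U₂ : Submodule (ZMod p) W, Nat.card U₁ = Nat.card U₂ →
        ∃ a : A, U₂ = U₁.map (pk.ρ a).toLinearMap) := by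
  classical
  haveI hVn : V.Normal := h.normal
  obtain ⟨W, iacg, imd, e, he⟩ := exists_addModel (p := p) V h.comm h.exp
  haveI hWfin : Finite W := Finite.of_equiv V e.symm
  -- the linear action of `C`
  let ρ : C →* (W ≃ₗ[ZMod p] W) := (conjRep (p := p) e he).comp C.subtype
  have hρ : ∀ (c : C) (x : W), ((e (ρ c x) : V) : Q) = c * e x * (c : Q)⁻¹ :=
    fun c x => conjRep_val e he c x
  -- `ρ` is injective
  have hρinj : Function.Injective ρ := by
    intro c d hcd
    have h1 : ((d⁻¹ * c : C) : Q) ∈ Subgroup.centralizer (V : Set Q) := by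
      rw [Subgroup.mem_centralizer_iff]
      intro y hy
      have h2 : ρ c (e.symm ⟨y, hy⟩) = ρ d (e.symm ⟨y, hy⟩) := by rw [hcd]
      have h3 := congrArg (fun t : W => ((e t : V) : Q)) h2
      simp only [hρ, Equiv.apply_symm_apply] at h3
      -- c y c⁻¹ = d y d⁻¹
      show y * ((d⁻¹ * c : C) : Q) = ((d⁻¹ * c : C) : Q) * y
      rw [Subgroup.coe_mul, Subgroup.coe_inv]
      calc y * ((d : Q)⁻¹ * c) = (d : Q)⁻¹ * (d * y * (d : Q)⁻¹) * c := by group
        _ = (d : Q)⁻¹ * (c * y * (c : Q)⁻¹) * c := by rw [h3]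
        _ = (d : Q)⁻¹ * c * y := by group
    have h4 : ((d⁻¹ * c : C) : Q) ∈ C ⊓ V := ⟨(d⁻¹ * c).2, h.cent h1⟩
    rw [hCV, Subgroup.mem_bot] at h4
    have h5 : d⁻¹ * c = 1 := Subtype.ext h4
    exact (inv_mul_eq_one.mp h5).symm
  -- the permutation action on `W`
  let π' : Q →* Equiv.Perm W := (Equiv.permCongrHom e.symm).toMonoidHom.comp π
  have hπ' : ∀ (q : Q) (x : W), π' q x = e.symm (π q (e x)) := fun q x => rfl
  have hπ'inj : Function.Injective π' := (Equiv.permCongrHom e.symm).injective.comp hπ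
  -- the affine formula
  have haff : ∀ (v : V) (c : C) (x : W), π' ((v : Q) * c) x = ρ c x + e.symm v := by
    intro v c x
    apply eQ_injective e
    show ((e (π' ((v : Q) * c) x) : V) : Q) = ((e (ρ c x + e.symm v) : V) : Q)
    rw [hπ', Equiv.apply_symm_apply, hform v c c.2, he, Subgroup.coe_mul, hρ,
      Equiv.apply_symm_apply]
    have hm : (c : Q) * e x * (c : Q)⁻¹ ∈ V := by rw [← hρ]; exact (e (ρ c x)).2
    exact h.comm _ v.2 _ hm
  let pk : AffPkg p Q W C :=
    { ρ := ρ
      ρ_inj := hρinj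
      π := π'
      π_inj := hπ'inj
      π_mem := by
        intro q
        obtain ⟨v, hv, c, hc, rfl⟩ := hVC q
        exact ⟨⟨c, hc⟩, e.symm ⟨v, hv⟩, fun x => haff ⟨v, hv⟩ ⟨c, hc⟩ x⟩
      π_surj := by
        intro a w
        refine ⟨((e w : V) : Q) * a, fun x => ?_⟩
        rw [haff (e w) a x, Equiv.symm_apply_apply] }
  -- cardinalities
  have hcardW : Nat.card W = p ^ n := by rw [Nat.card_congr e, h.card]
  have hcompl : Subgroup.IsComplement' V C := by
    apply Subgroup.isComplement'_of_disjoint_and_mul_eq_univ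
    · rw [disjoint_iff, inf_comm]; exact hCV
    · rw [Set.eq_univ_iff_forall]
      intro q
      obtain ⟨v, hv, c, hc, rfl⟩ := hVC q
      exact Set.mul_mem_mul hv hc
  have hcardQ : Nat.card Q = Nat.card W * Nat.card C := by
    rw [Nat.card_congr e]; exact hcompl.card_mul_card.symm
  have hpC : ¬ p ∣ Nat.card C := by
    have h1 : Nat.card V * Nat.card C = Nat.card V * V.index := by
      rw [hcompl.card_mul_card, Subgroup.card_mul_index]
    have h2 : Nat.card C = V.index := Nat.eq_of_mul_eq_mul_left Nat.card_pos h1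
    rw [h2]; exact h.cop
  refine ⟨W, iacg, imd, hWfin, C, inferInstance, inferInstance, pk, hcardW, hcardQ,
    inferInstance, hpC, ?_⟩
  -- transitivity on subspaces
  intro U₁ U₂ hU
  have hcard : Nat.card (imgSub e he U₁.toAddSubgroup) = Nat.card (imgSub e he U₂.toAddSubgroup) := by
    rw [card_imgSub, card_imgSub]; exact hU
  obtain ⟨q, hq⟩ := h.trans _ _ (imgSub_le e he U₁.toAddSubgroup) (imgSub_le e he U₂.toAddSubgroup)
    hcard
  obtain ⟨v, hv, c, hc, rfl⟩ := hVC q
  refine ⟨⟨c, hc⟩, ?_⟩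
  have hconj : ∀ x : W, (v * c) * ((e x : V) : Q) * (v * c)⁻¹ = ((e (ρ ⟨c, hc⟩ x) : V) : Q) := by
    intro x
    rw [hρ]
    have hm : c * ((e x : V) : Q) * c⁻¹ ∈ V := by
      have := (e (ρ ⟨c, hc⟩ x)).2
      rwa [hρ] at this
    have hcm := h.comm _ hv _ hm
    calc (v * c) * ((e x : V) : Q) * (v * c)⁻¹ = (v * (c * ((e x : V) : Q) * c⁻¹)) * v⁻¹ := by group
      _ = ((c * ((e x : V) : Q) * c⁻¹) * v) * v⁻¹ := by rw [hcm]
      _ = c * ((e x : V) : Q) * c⁻¹ := by group
  ext y
  rw [Submodule.mem_map]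
  have hy1 : y ∈ U₂ ↔ ((e y : V) : Q) ∈ imgSub e he U₂.toAddSubgroup :=
    (eQ_mem_imgSub e he U₂.toAddSubgroup y).symm
  rw [hy1, hq, Subgroup.mem_map]
  constructor
  · rintro ⟨g, ⟨x, hx, rfl⟩, hg⟩
    refine ⟨x, hx, ?_⟩
    apply eQ_injective e
    show ((e (ρ ⟨c, hc⟩ x) : V) : Q) = ((e y : V) : Q)
    rw [← hconj, ← hg]; rfl
  · rintro ⟨x, hx, hxy⟩
    refine ⟨((e x : V) : Q), ⟨x, hx, rfl⟩, ?_⟩
    show (v * c) * ((e x : V) : Q) * (v * c)⁻¹ = ((e y : V) : Q)
    rw [hconj, ← hxy]; rfl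

end Cfsg.Agent.Lib.Helper14.SafAff2
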