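/-
helper14, project SAF (S4025, owner helper2): module [FIELD1]
`semiaffineCongr`, `affineCongr`: transport of the (semi)affine group along a ring isomorphism.
All declarations live in `Cfsg.Agent.Lib.Helper14.SafField1`.
-/
import Mathlib
import Cfsg.Prelude.Def_Perm

set_option autoImplicit false

namespace Cfsg.Agent.Lib.Helper14.SafField1

open Cfsg

/-- conjugation by `φ` maps the semiaffine group of `F` onto the one of `F'`. -/
theorem map_semiaffineGroup {F F' : Type*} [Field F] [Field F'] (φ : F ≃+* F') :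
    (semiaffineGroup F).map (Equiv.permCongrHom φ.toEquiv).toMonoidHom = semiaffineGroup F' := by
  ext τ
  constructor
  · rintro ⟨σ, ⟨a, b, ψ, hσ⟩, rfl⟩
    refine ⟨Units.map (φ : F →* F') a, φ b, (φ.symm.trans ψ).trans φ, fun x => ?_⟩
    show φ (σ (φ.symm x)) = _
    rw [hσ]
    simp
  · rintro ⟨a, b, ψ, hτ⟩
    refine ⟨(Equiv.permCongrHom φ.toEquiv).symm τ,
      ⟨Units.map (φ.symm : F' →* F) a, φ.symm b, (φ.trans ψ).trans φ.symm, fun x => ?_⟩, ?_⟩
    · show φ.symm (τ (φ x)) = _
      rw [hτ]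
      simp
    · exact (Equiv.permCongrHom φ.toEquiv).apply_symm_apply τ

/-- conjugation by `φ` maps the affine group of `F` onto the one of `F'`. -/
theorem map_affineGroup {F F' : Type*} [Field F] [Field F'] (φ : F ≃+* F') :
    (affineGroup F).map (Equiv.permCongrHom φ.toEquiv).toMonoidHom = affineGroup F' := by
  ext τ
  constructor
  · rintro ⟨σ, ⟨a, b, hσ⟩, rfl⟩
    refine ⟨Units.map (φ : F →* F') a, φ b, fun x => ?_⟩
    show φ (σ (φ.symm x)) = _
    rw [hσ]
    simp
  · rintro ⟨a, b, hτ⟩
    refine ⟨(Equiv.permCongrHom φ.toEquiv).symm τ,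
      ⟨Units.map (φ.symm : F' →* F) a, φ.symm b, fun x => ?_⟩, ?_⟩
    · show φ.symm (τ (φ x)) = _
      rw [hτ]
      simp
    · exact (Equiv.permCongrHom φ.toEquiv).apply_symm_apply τ

noncomputable def semiaffineCongr {F F' : Type*} [Field F] [Field F'] (φ : F ≃+* F') :
    semiaffineGroup F ≃* semiaffineGroup F' :=
  ((Equiv.permCongrHom φ.toEquiv).subgroupMap (semiaffineGroup F)).trans
    (MulEquiv.subgroupCongr (map_semiaffineGroup φ))

noncomputable def affineCongr {F F' : Type*} [Field F] [Field F'] (φ : F ≃+* F') :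
    affineGroup F ≃* affineGroup F' :=
  ((Equiv.permCongrHom φ.toEquiv).subgroupMap (affineGroup F)).trans
    (MulEquiv.subgroupCongr (map_affineGroup φ))

theorem semiaffineCongr_apply {F F' : Type*} [Field F] [Field F'] (φ : F ≃+* F')
    (σ : semiaffineGroup F) (x : F') :
    ((semiaffineCongr φ σ : semiaffineGroup F') : Equiv.Perm F') x = φ ((σ : Equiv.Perm F) (φ.symm x)) :=
  rfl

theorem affineCongr_apply {F F' : Type*} [Field F] [Field F'] (φ : F ≃+* F')
    (σ : affineGroup F) (x : F') :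
    ((affineCongr φ σ : affineGroup F') : Equiv.Perm F') x = φ ((σ : Equiv.Perm F) (φ.symm x)) :=
  rfl

end Cfsg.Agent.Lib.Helper14.SafField1
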