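import Mathlib
import Cfsg.Agent.Lib.Helper14.BrauerKill

set_option autoImplicit false

/-!
# There is no simple group of order 1040

`1040 = 2^4 * 5 * 13`.  `n_13 = 40`, `|N(P)| = 26`, `C(P) = P` (Burnside transfer), `e = 2`.  Brauer:
the principal 13-block has `1, χ` and six exceptional characters of degree `t`; `χ(1) ∣ 80`,
`χ(1) ≡ ±1 (mod 13)`, `χ(1) ≠ 1` force `χ(1) = 40`, then `t = 41` does not divide `80`.
-/

namespace Cfsg.Agent.Lib.Helper14.Simple1040

open Cfsg Cfsg.Agent.Lib.Helper14.BrauerKill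

theorem fact13 : Fact (Nat.Prime 13) := ⟨by norm_num⟩

attribute [local instance] fact13

theorem mem_divisors80 {d : ℕ} (hd : d ∣ 80) :
    d = 1 ∨ d = 2 ∨ d = 4 ∨ d = 5 ∨ d = 8 ∨ d = 10 ∨ d = 16 ∨ d = 20 ∨ d = 40 ∨ d = 80 := by
  have h1 : d ∈ Nat.divisors 80 := Nat.mem_divisors.2 ⟨hd, by norm_num⟩
  have h2 : Nat.divisors 80 = {1, 2, 4, 5, 8, 10, 16, 20, 40, 80} := by decide
  rw [h2] at h1
  simpa using h1

theorem sylow_count (n : ℕ) (h1 : n ∣ 80) (h2 : n % 13 = 1) (h3 : n ≠ 1) : n * 2 = 80 := by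
  rcases mem_divisors80 h1 with h | h | h | h | h | h | h | h | h | h <;> subst h <;> omega

theorem arith (s ε : ℤ) (d t : ℕ) (hs : s = 1 ∨ s = -1) (hd : d ∣ 80) (hd1 : d ≠ 1)
    (hmod : (d : ℤ) ≡ s [ZMOD ((13 : ℕ) : ℤ)]) (hε : ε = 1 ∨ ε = -1) (ht : t ∣ 80)
    (heq : ε * (t : ℤ) = 1 + s * (d : ℤ)) : False := by
  unfold Int.ModEq at hmod
  have hd40 : s = 1 ∧ d = 40 := by
    rcases mem_divisors80 hd with h | h | h | h | h | h | h | h | h | h <;> subst h <;>
      rcases hs with h' | h' <;> subst h' <;> omega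
  obtain ⟨rfl, rfl⟩ := hd40
  rcases mem_divisors80 ht with h | h | h | h | h | h | h | h | h | h <;> subst h <;>
    rcases hε with h' | h' <;> subst h' <;> omega

/-- **There is no simple group of order 1040.** -/
theorem not_simple_of_card_1040 {G : Type*} [Group G] [Finite G] [IsSimpleGroup G]
    (h : Nat.card G = 1040) : False := by
  have hG : Nat.card G = 13 * 80 := by rw [h]
  have hm : ¬ 13 ∣ 80 := by norm_num
  have hm1 : (80 : ℕ) ≠ 1 := by norm_num
  have hdata := fun Q : Sylow 13 G =>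
    selfcent_data (p := 13) (m := 80) (e := 2) hG hm hm1 Nat.prime_two sylow_count Q
  obtain ⟨l, ε, t, hlen, hl, hε, ht, -, heq, -⟩ :=
    exists_degree_list (p := 13) (m := 80) (e := 2) (by norm_num) hG hm hm1
      (fun Q => (hdata Q).2.1) (default : Sylow 13 G) (hdata _).2.2 (by norm_num)
  match l, hlen, hl, heq with
  | [x], _, hl, heq =>
    obtain ⟨hs, hd, hd1, hmod⟩ := hl x (by simp)
    simp only [List.map_cons, List.map_nil, List.sum_cons, List.sum_nil, add_zero] at heq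
    exact arith x.1 ε x.2 t hs hd hd1 hmod hε ht heq
  | [], hlen, _, _ => simp at hlen
  | _ :: _ :: _, hlen, _, _ => simp at hlen

end Cfsg.Agent.Lib.Helper14.Simple1040
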