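import Mathlib
import Cfsg.Agent.Lib.Helper14.BrauerKill

set_option autoImplicit false

/-!
# There is no simple group of order 756

`756 = 2^2 * 3^3 * 7`.  `n_7 = 36`, `|N(P)| = 21`, `C(P) = P` (Burnside transfer), `e = 3`.  Brauer:
the principal 7-block has `1, χ₂, χ₃` and two exceptional characters of degree `t`; the degrees
`χᵢ(1) ∣ 108`, `χᵢ(1) ≡ ±1 (mod 7)`, `χᵢ(1) ≠ 1` lie in `{36 (+), 6 (-), 27 (-)}`, and
`ε t = 1 + s₂ χ₂(1) + s₃ χ₃(1)` is never `±` a divisor of `108`.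
-/

namespace Cfsg.Agent.Lib.Helper14.Simple756

open Cfsg Cfsg.Agent.Lib.Helper14.BrauerKill

theorem fact7 : Fact (Nat.Prime 7) := ⟨by norm_num⟩

attribute [local instance] fact7

theorem mem_divisors108 {d : ℕ} (hd : d ∣ 108) :
    d = 1 ∨ d = 2 ∨ d = 3 ∨ d = 4 ∨ d = 6 ∨ d = 9 ∨ d = 12 ∨ d = 18 ∨ d = 27 ∨ d = 36 ∨ d = 54 ∨
      d = 108 := by
  have h1 : d ∈ Nat.divisors 108 := Nat.mem_divisors.2 ⟨hd, by norm_num⟩
  have h2 : Nat.divisors 108 = {1, 2, 3, 4, 6, 9, 12, 18, 27, 36, 54, 108} := by decide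
  rw [h2] at h1
  simpa using h1

theorem sylow_count (n : ℕ) (h1 : n ∣ 108) (h2 : n % 7 = 1) (h3 : n ≠ 1) : n * 3 = 108 := by
  rcases mem_divisors108 h1 with h | h | h | h | h | h | h | h | h | h | h | h <;> subst h <;> omega

theorem cand (s : ℤ) (d : ℕ) (hs : s = 1 ∨ s = -1) (hd : d ∣ 108) (hd1 : d ≠ 1)
    (hmod : (d : ℤ) ≡ s [ZMOD ((7 : ℕ) : ℤ)]) :
    (s = 1 ∧ d = 36) ∨ (s = -1 ∧ d = 6) ∨ (s = -1 ∧ d = 27) := by
  unfold Int.ModEq at hmod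
  rcases mem_divisors108 hd with h | h | h | h | h | h | h | h | h | h | h | h <;> subst h <;>
    rcases hs with h' | h' <;> subst h' <;> omega

theorem arith (s₁ s₂ ε : ℤ) (d₁ d₂ t : ℕ)
    (h₁ : (s₁ = 1 ∧ d₁ = 36) ∨ (s₁ = -1 ∧ d₁ = 6) ∨ (s₁ = -1 ∧ d₁ = 27))
    (h₂ : (s₂ = 1 ∧ d₂ = 36) ∨ (s₂ = -1 ∧ d₂ = 6) ∨ (s₂ = -1 ∧ d₂ = 27))
    (hε : ε = 1 ∨ ε = -1) (ht : t ∣ 108)
    (heq : ε * (t : ℤ) = 1 + (s₁ * (d₁ : ℤ) + s₂ * (d₂ : ℤ))) : False := by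
  rcases h₁ with ⟨rfl, rfl⟩ | ⟨rfl, rfl⟩ | ⟨rfl, rfl⟩ <;>
  rcases h₂ with ⟨rfl, rfl⟩ | ⟨rfl, rfl⟩ | ⟨rfl, rfl⟩ <;>
  rcases hε with rfl | rfl <;>
  rcases mem_divisors108 ht with h | h | h | h | h | h | h | h | h | h | h | h <;> subst h <;> omega

/-- **There is no simple group of order 756.** -/
theorem not_simple_of_card_756 {G : Type*} [Group G] [Finite G] [IsSimpleGroup G]
    (h : Nat.card G = 756) : False := by
  have hG : Nat.card G = 7 * 108 := by rw [h]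
  have hm : ¬ 7 ∣ 108 := by norm_num
  have hm1 : (108 : ℕ) ≠ 1 := by norm_num
  have hdata := fun Q : Sylow 7 G =>
    selfcent_data (p := 7) (m := 108) (e := 3) hG hm hm1 Nat.prime_three sylow_count Q
  obtain ⟨l, ε, t, hlen, hl, hε, ht, -, heq, -⟩ :=
    exists_degree_list (p := 7) (m := 108) (e := 3) (by norm_num) hG hm hm1
      (fun Q => (hdata Q).2.1) (default : Sylow 7 G) (hdata _).2.2 (by norm_num)
  match l, hlen, hl, heq with
  | [x, y], _, hl, heq =>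
    obtain ⟨hs, hd, hd1, hmod⟩ := hl x (by simp)
    obtain ⟨hs', hd', hd1', hmod'⟩ := hl y (by simp)
    simp only [List.map_cons, List.map_nil, List.sum_cons, List.sum_nil, add_zero] at heq
    exact arith x.1 y.1 ε x.2 y.2 t (cand _ _ hs hd hd1 hmod) (cand _ _ hs' hd' hd1' hmod') hε ht heq
  | [], hlen, _, _ => simp at hlen
  | [_], hlen, _, _ => simp at hlen
  | _ :: _ :: _ :: _, hlen, _, _ => simp at hlen

end Cfsg.Agent.Lib.Helper14.Simple756
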