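/-
helper14, project S2281 (owner helper53): module [CALC-COMM]: additivity, symmetry, commutation
and conjugation of the symplectic root elements `tauE`, `sigE`.
All declarations live in `Cfsg.Agent.Lib.Helper14.SpReg`.
-/
import Mathlib
import Cfsg.Agent.Lib.Helper53.SpReg.Defs
import Cfsg.Agent.Lib.Helper53.SpReg.Act
import Cfsg.Agent.Lib.Helper13.Symp

set_option autoImplicit false

namespace Cfsg.Agent.Lib.Helper14.SpReg

open Matrix
open Cfsg.Agent.Lib.Helper53.SpReg
open Cfsg.Agent.Lib.Helper13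

variable {n : ℕ} {F : Type*} [Field F]

theorem form_swap_zero {x y : Fin n ⊕ Fin n → F} (h : Cfsg.sympForm n F x y = 0) :
    Cfsg.sympForm n F y x = 0 := by
  rw [sympForm_swap, h, neg_zero]

theorem tauE_add (x : Fin n ⊕ Fin n → F) (s t : F) :
    (tauE x (s + t) : Matrix.symplecticGroup (Fin n) F) = tauE x s * tauE x t := by
  apply sp_ext
  intro v
  rw [mul_mulVec, tauE_mulVec, tauE_mulVec, tauE_mulVec]
  simp only [sympForm_add_left, sympForm_smul_left, sympForm_self]
  module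

theorem sigE_add (x y : Fin n ⊕ Fin n → F) (s t : F) :
    (sigE x y (s + t) : Matrix.symplecticGroup (Fin n) F) = sigE x y s * sigE x y t := by
  by_cases hxy : Cfsg.sympForm n F x y = 0
  · have hyx := form_swap_zero hxy
    apply sp_ext
    intro v
    rw [mul_mulVec, sigE_mulVec hxy, sigE_mulVec hxy, sigE_mulVec hxy]
    simp only [sympForm_add_left, sympForm_smul_left, sympForm_self, hxy, hyx]
    module
  · rw [sigE_of_ne hxy, sigE_of_ne hxy, sigE_of_ne hxy, one_mul]

theorem sigE_symm (x y : Fin n ⊕ Fin n → F) (s : F) :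
    (sigE x y s : Matrix.symplecticGroup (Fin n) F) = sigE y x s := by
  by_cases hxy : Cfsg.sympForm n F x y = 0
  · have hyx := form_swap_zero hxy
    apply sp_ext
    intro v
    rw [sigE_mulVec hxy, sigE_mulVec hyx]
    module
  · have hyx : Cfsg.sympForm n F y x ≠ 0 := fun h => hxy (form_swap_zero h)
    rw [sigE_of_ne hxy, sigE_of_ne hyx]

theorem tau_tau_comm (x z : Fin n ⊕ Fin n → F) (hxz : Cfsg.sympForm n F x z = 0) (s t : F) :
    Commute (tauE x s : Matrix.symplecticGroup (Fin n) F) (tauE z t) := by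
  have hzx := form_swap_zero hxz
  show (tauE x s : Matrix.symplecticGroup (Fin n) F) * tauE z t = tauE z t * tauE x s
  apply sp_ext
  intro v
  rw [mul_mulVec, mul_mulVec, tauE_mulVec, tauE_mulVec, tauE_mulVec, tauE_mulVec]
  simp only [sympForm_add_left, sympForm_smul_left, hxz, hzx]
  module

theorem tau_sig_comm (x y z : Fin n ⊕ Fin n → F) (hxz : Cfsg.sympForm n F x z = 0)
    (hyz : Cfsg.sympForm n F y z = 0) (s t : F) :
    Commute (tauE z t : Matrix.symplecticGroup (Fin n) F) (sigE x y s) := by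
  by_cases hxy : Cfsg.sympForm n F x y = 0
  · have hzx := form_swap_zero hxz
    have hzy := form_swap_zero hyz
    show (tauE z t : Matrix.symplecticGroup (Fin n) F) * sigE x y s = sigE x y s * tauE z t
    apply sp_ext
    intro v
    rw [mul_mulVec, mul_mulVec, tauE_mulVec, tauE_mulVec, sigE_mulVec hxy, sigE_mulVec hxy]
    simp only [sympForm_add_left, sympForm_smul_left, hxz, hyz, hzx, hzy]
    module
  · rw [sigE_of_ne hxy]
    exact Commute.one_right _

theorem sig_sig_comm (x y z w : Fin n ⊕ Fin n → F) (hxz : Cfsg.sympForm n F x z = 0)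
    (hxw : Cfsg.sympForm n F x w = 0) (hyz : Cfsg.sympForm n F y z = 0)
    (hyw : Cfsg.sympForm n F y w = 0) (s t : F) :
    Commute (sigE x y s : Matrix.symplecticGroup (Fin n) F) (sigE z w t) := by
  by_cases hxy : Cfsg.sympForm n F x y = 0
  · by_cases hzw : Cfsg.sympForm n F z w = 0
    · have hzx := form_swap_zero hxz
      have hwx := form_swap_zero hxw
      have hzy := form_swap_zero hyz
      have hwy := form_swap_zero hyw
      show (sigE x y s : Matrix.symplecticGroup (Fin n) F) * sigE z w t =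
        sigE z w t * sigE x y s
      apply sp_ext
      intro v
      rw [mul_mulVec, mul_mulVec, sigE_mulVec hxy, sigE_mulVec hxy, sigE_mulVec hzw,
        sigE_mulVec hzw]
      simp only [sympForm_add_left, sympForm_smul_left, hxz, hxw, hyz, hyw, hzx, hwx, hzy, hwy]
      module
    · rw [sigE_of_ne hzw]
      exact Commute.one_right _
  · rw [sigE_of_ne hxy]
    exact Commute.one_left _

theorem form_inv_mulVec (g : Matrix.symplecticGroup (Fin n) F) (v x : Fin n ⊕ Fin n → F) :
    Cfsg.sympForm n F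
      (((g⁻¹ : Matrix.symplecticGroup (Fin n) F) :
        Matrix (Fin n ⊕ Fin n) (Fin n ⊕ Fin n) F) *ᵥ v) x =
    Cfsg.sympForm n F v ((g : Matrix (Fin n ⊕ Fin n) (Fin n ⊕ Fin n) F) *ᵥ x) := by
  have := form_mulVec g
    (((g⁻¹ : Matrix.symplecticGroup (Fin n) F) :
        Matrix (Fin n ⊕ Fin n) (Fin n ⊕ Fin n) F) *ᵥ v) x
  rw [mulVec_inv_mulVec] at this
  exact this.symm

theorem conj_tauE (g : Matrix.symplecticGroup (Fin n) F) (x : Fin n ⊕ Fin n → F) (s : F) :
    g * tauE x s * g⁻¹ =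
      tauE ((g : Matrix (Fin n ⊕ Fin n) (Fin n ⊕ Fin n) F) *ᵥ x) s := by
  apply sp_ext
  intro v
  rw [mul_mulVec, mul_mulVec, tauE_mulVec, tauE_mulVec, Matrix.mulVec_add, Matrix.mulVec_smul,
    mulVec_inv_mulVec, form_inv_mulVec]

theorem conj_sigE (g : Matrix.symplecticGroup (Fin n) F) (x y : Fin n ⊕ Fin n → F) (s : F) :
    g * sigE x y s * g⁻¹ =
      sigE ((g : Matrix (Fin n ⊕ Fin n) (Fin n ⊕ Fin n) F) *ᵥ x)
        ((g : Matrix (Fin n ⊕ Fin n) (Fin n ⊕ Fin n) F) *ᵥ y) s := by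
  by_cases hxy : Cfsg.sympForm n F x y = 0
  · have hgxy : Cfsg.sympForm n F ((g : Matrix (Fin n ⊕ Fin n) (Fin n ⊕ Fin n) F) *ᵥ x)
        ((g : Matrix (Fin n ⊕ Fin n) (Fin n ⊕ Fin n) F) *ᵥ y) = 0 := by
      rw [form_mulVec, hxy]
    apply sp_ext
    intro v
    rw [mul_mulVec, mul_mulVec, sigE_mulVec hxy, sigE_mulVec hgxy, Matrix.mulVec_add,
      Matrix.mulVec_smul, Matrix.mulVec_add, Matrix.mulVec_smul, Matrix.mulVec_smul,
      mulVec_inv_mulVec, form_inv_mulVec, form_inv_mulVec]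
  · have hgxy : Cfsg.sympForm n F ((g : Matrix (Fin n ⊕ Fin n) (Fin n ⊕ Fin n) F) *ᵥ x)
        ((g : Matrix (Fin n ⊕ Fin n) (Fin n ⊕ Fin n) F) *ᵥ y) ≠ 0 := by
      rw [form_mulVec]; exact hxy
    rw [sigE_of_ne hxy, sigE_of_ne hgxy, mul_one, mul_inv_cancel]

end Cfsg.Agent.Lib.Helper14.SpReg
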