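/-
helper14, project S2281 (owner helper53): module [CONS]: the explicit regular unipotent `uMat`
is symplectic, unipotent, and `(uMat, aVec)` is a good pair.
All declarations live in `Cfsg.Agent.Lib.Helper14.SpReg`.
-/
import Mathlib
import Cfsg.Agent.Lib.Helper53.SpReg.Defs
import Cfsg.Agent.Lib.Helper53.SpReg.Act
import Cfsg.Agent.Lib.Helper13.Symp

set_option autoImplicit false

namespace Cfsg.Agent.Lib.Helper14.SpReg

open Matrix
open Cfsg.Agent.Lib.Helper53.SpReg
open Cfsg.Agent.Lib.Helper13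

variable {n : ℕ} {F : Type*} [Field F]

theorem Amat_apply (i j : Fin n) :
    Amat n F i j = (if i = j then 1 else 0) + (if (i : ℕ) + 1 = j then 1 else 0) := by
  unfold Amat
  simp only [Matrix.of_apply]
  by_cases h : i = j
  · subst h; simp
  · simp [h]

theorem sum_Amat_row (i : Fin n) (f : Fin n → F) :
    ∑ j, Amat n F i j * f j =
      f i + (if h : (i : ℕ) + 1 < n then f ⟨(i : ℕ) + 1, h⟩ else 0) := by
  simp only [Amat_apply, add_mul, Finset.sum_add_distrib, ite_mul, one_mul, zero_mul]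
  rw [Finset.sum_ite_eq]
  simp only [Finset.mem_univ, if_true]
  congr 1
  split_ifs with h
  · rw [Finset.sum_eq_single (⟨(i : ℕ) + 1, h⟩ : Fin n)]
    · simp
    · intro b _ hb
      rw [if_neg]
      intro hb'
      apply hb
      exact Fin.ext hb'.symm
    · intro h'; exact absurd (Finset.mem_univ _) h'
  · apply Finset.sum_eq_zero
    intro b _
    rw [if_neg]
    intro hb'
    have := b.2
    omega

theorem sum_Amat_col (i : Fin n) (f : Fin n → F) :
    ∑ k, Amat n F k i * f k =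
      f i + (if h : 0 < (i : ℕ) then f ⟨(i : ℕ) - 1, by have := i.2; omega⟩ else 0) := by
  simp only [Amat_apply, add_mul, Finset.sum_add_distrib, ite_mul, one_mul, zero_mul]
  rw [Finset.sum_ite_eq']
  simp only [Finset.mem_univ, if_true]
  congr 1
  split_ifs with h
  · rw [Finset.sum_eq_single (⟨(i : ℕ) - 1, by have := i.2; omega⟩ : Fin n)]
    · rw [if_pos]
      show (i : ℕ) - 1 + 1 = i
      omega
    · intro b _ hb
      rw [if_neg]
      intro hb'
      apply hb
      apply Fin.ext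
      show (b : ℕ) = (i : ℕ) - 1
      omega
    · intro h'; exact absurd (Finset.mem_univ _) h'
  · apply Finset.sum_eq_zero
    intro b _
    rw [if_neg]
    intro hb'
    omega

theorem AmatT_mul_Dmat : (Amat n F)ᵀ * Dmat n F = 1 := by
  ext i j
  rw [Matrix.mul_apply]
  simp only [Matrix.transpose_apply]
  rw [sum_Amat_col i (fun k => Dmat n F k j)]
  simp only [Dmat, Matrix.of_apply, Matrix.one_apply]
  rcases lt_trichotomy (j : ℕ) (i : ℕ) with h | h | h
  · have h0 : 0 < (i : ℕ) := by omega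
    have hij : i ≠ j := by intro e; rw [e] at h; omega
    have h1 : (j : ℕ) ≤ (i : ℕ) - 1 := by omega
    rw [dif_pos h0, if_pos (le_of_lt h), if_pos h1, if_neg hij]
    have e : (i : ℕ) - j = ((i : ℕ) - 1 - j) + 1 := by omega
    rw [e, pow_succ]; ring
  · have hij : i = j := Fin.ext h.symm
    subst hij
    rw [if_pos le_rfl, if_pos rfl, Nat.sub_self, pow_zero]
    split_ifs with h0 h1
    · omega
    · rw [add_zero]
    · rw [add_zero]
  · have hij : i ≠ j := by intro e; rw [e] at h; omega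
    rw [if_neg (by omega), if_neg hij]
    split_ifs with h0 h1
    · omega
    · rw [add_zero]
    · rw [add_zero]

theorem AmatT_mul_Cmat_apply (i j : Fin n) :
    ((Amat n F)ᵀ * Cmat n F) i j =
      if (i : ℕ) = 0 ∧ (j : ℕ) = 0 then (-1) ^ n else 0 := by
  rw [Matrix.mul_apply]
  simp only [Matrix.transpose_apply]
  rw [sum_Amat_col i (fun k => Cmat n F k j)]
  simp only [Cmat, Matrix.of_apply]
  by_cases hj : (j : ℕ) = 0
  · simp only [hj, if_true, and_true]
    by_cases hi : (i : ℕ) = 0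
    · rw [dif_neg (by omega), if_pos hi, hi, add_zero, add_zero]
    · rw [dif_pos (by omega), if_neg hi]
      have e : n + (i : ℕ) = (n + ((i : ℕ) - 1)) + 1 := by omega
      rw [e, pow_succ]; ring
  · simp only [hj, if_false, and_false]
    split_ifs <;> simp

theorem AmatT_mul_Cmat_symm : (Cmat n F)ᵀ * Amat n F = (Amat n F)ᵀ * Cmat n F := by
  have h : ((Amat n F)ᵀ * Cmat n F)ᵀ = (Amat n F)ᵀ * Cmat n F := by
    ext i j
    rw [Matrix.transpose_apply, AmatT_mul_Cmat_apply, AmatT_mul_Cmat_apply]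
    simp only [and_comm]
  rw [Matrix.transpose_mul, Matrix.transpose_transpose] at h
  exact h

theorem uMat_mem (n : ℕ) : uMat n F ∈ Matrix.symplecticGroup (Fin n) F := by
  rw [SymplecticGroup.mem_iff']
  have h1 : (Amat n F)ᵀ * Dmat n F = 1 := AmatT_mul_Dmat
  have h2 : (Dmat n F)ᵀ * Amat n F = 1 := by
    have := congrArg Matrix.transpose h1
    rwa [Matrix.transpose_mul, Matrix.transpose_transpose, Matrix.transpose_one] at this
  have h3 := AmatT_mul_Cmat_symm (n := n) (F := F)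
  unfold uMat Matrix.J
  rw [Matrix.fromBlocks_transpose, Matrix.fromBlocks_multiply, Matrix.fromBlocks_multiply]
  simp only [Matrix.transpose_zero, Matrix.mul_zero, Matrix.zero_mul, Matrix.mul_one,
    Matrix.mul_neg, Matrix.neg_mul, add_zero, zero_add, h1, h2, h3, neg_zero]
  congr 1
  rw [add_neg_cancel]

/-! ### nilpotency -/

theorem Nmat_pow_apply (k : ℕ) (i j : Fin n) :
    ((Amat n F - 1) ^ k) i j = if (i : ℕ) + k = j then 1 else 0 := by
  induction k generalizing i j with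
  | zero =>
    rw [pow_zero, Matrix.one_apply, add_zero]
    by_cases h : i = j
    · subst h; simp
    · rw [if_neg h, if_neg]; intro h'; exact h (Fin.ext h')
  | succ k ih =>
    rw [pow_succ', Matrix.mul_apply]
    have hN : ∀ l : Fin n, (Amat n F - 1) i l = if (i : ℕ) + 1 = l then 1 else 0 := by
      intro l
      rw [Matrix.sub_apply, Amat_apply, Matrix.one_apply]
      ring
    simp only [hN, ih, ite_mul, one_mul, zero_mul]
    by_cases h : (i : ℕ) + (k + 1) = j
    · rw [if_pos h]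
      have hl : (i : ℕ) + 1 < n := by have := j.2; omega
      rw [Finset.sum_eq_single (⟨(i : ℕ) + 1, hl⟩ : Fin n)]
      · rw [if_pos rfl, if_pos]
        show (i : ℕ) + 1 + k = j
        omega
      · intro b _ hb
        rw [if_neg]
        intro hb'
        exact hb (Fin.ext hb'.symm)
      · intro h'; exact absurd (Finset.mem_univ _) h'
    · rw [if_neg h]
      apply Finset.sum_eq_zero
      intro b _
      split_ifs with h1 h2
      · omega
      · rfl
      · rfl

theorem Nmat_pow_eq_zero : (Amat n F - 1) ^ n = 0 := by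
  ext i j
  rw [Nmat_pow_apply, Matrix.zero_apply, if_neg]
  have := j.2
  omega

theorem Dmat_sub_one_pow_eq_zero : (Dmat n F - 1) ^ n = 0 := by
  have h1 : (Amat n F)ᵀ * Dmat n F = 1 := AmatT_mul_Dmat
  have h1' : Dmat n F * (Amat n F)ᵀ = 1 := mul_eq_one_comm.mp h1
  set N' : Matrix (Fin n) (Fin n) F := (Amat n F)ᵀ - 1 with hN'
  have hA : (Amat n F)ᵀ = 1 + N' := by rw [hN']; abel
  have e1 : Dmat n F - 1 = -(N' * Dmat n F) := by
    have : (1 + N') * Dmat n F = 1 := by rw [← hA]; exact h1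
    rw [add_mul, one_mul] at this
    rw [← this]; abel
  have hcomm : Commute N' (Dmat n F) := by
    have a : (1 + N') * Dmat n F = 1 := by rw [← hA]; exact h1
    have b : Dmat n F * (1 + N') = 1 := by rw [← hA]; exact h1'
    rw [add_mul, one_mul] at a
    rw [mul_add, mul_one] at b
    show N' * Dmat n F = Dmat n F * N'
    have a' : N' * Dmat n F = 1 - Dmat n F := by rw [← a]; abel
    have b' : Dmat n F * N' = 1 - Dmat n F := by rw [← b]; abel
    rw [a', b']
  have hN'n : N' ^ n = 0 := by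
    have : N' = (Amat n F - 1)ᵀ := by
      rw [hN', Matrix.transpose_sub, Matrix.transpose_one]
    rw [this, ← Matrix.transpose_pow, Nmat_pow_eq_zero, Matrix.transpose_zero]
  rw [e1, neg_pow, hcomm.mul_pow, hN'n, zero_mul, mul_zero]

theorem fromBlocks_lower_pow {X Y Z : Matrix (Fin n) (Fin n) F} (k : ℕ) :
    ∃ W : Matrix (Fin n) (Fin n) F,
      (Matrix.fromBlocks X 0 Y Z) ^ k = Matrix.fromBlocks (X ^ k) 0 W (Z ^ k) := by
  induction k with
  | zero => exact ⟨0, by rw [pow_zero, pow_zero, pow_zero, Matrix.fromBlocks_one]⟩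
  | succ k ih =>
    obtain ⟨W, hW⟩ := ih
    refine ⟨W * X + Z ^ k * Y, ?_⟩
    rw [pow_succ, hW, Matrix.fromBlocks_multiply]
    simp only [Matrix.mul_zero, Matrix.zero_mul, add_zero, zero_add, pow_succ]

theorem uMat_nilp (n : ℕ) : IsNilpotent (uMat n F - 1) := by
  refine ⟨n + n, ?_⟩
  have e : uMat n F - 1 = Matrix.fromBlocks (Amat n F - 1) 0 (Cmat n F) (Dmat n F - 1) := by
    unfold uMat
    rw [← Matrix.fromBlocks_one, sub_eq_add_neg, Matrix.fromBlocks_neg, Matrix.fromBlocks_add]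
    simp only [neg_zero, add_zero, sub_eq_add_neg]
  obtain ⟨W, hW⟩ := fromBlocks_lower_pow (X := Amat n F - 1) (Y := Cmat n F)
    (Z := Dmat n F - 1) n
  rw [e, pow_add, hW, Nmat_pow_eq_zero, Dmat_sub_one_pow_eq_zero, Matrix.fromBlocks_multiply]
  simp only [Matrix.mul_zero, Matrix.zero_mul, add_zero, Matrix.fromBlocks_zero]

/-! ### the Gram conditions -/

theorem uMat_mulVec_inl (x : Fin n ⊕ Fin n → F) (i : Fin n) :
    (uMat n F *ᵥ x) (Sum.inl i) =
      x (Sum.inl i) + (if h : (i : ℕ) + 1 < n then x (Sum.inl ⟨(i : ℕ) + 1, h⟩) else 0) := by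
  unfold uMat
  rw [Matrix.fromBlocks_mulVec]
  simp only [Sum.elim_inl, Pi.add_apply, Matrix.zero_mulVec, Pi.zero_apply, add_zero]
  exact sum_Amat_row i (fun j => x (Sum.inl j))

theorem uMat_mulVec_inr (x : Fin n ⊕ Fin n → F) (hx : ∀ j, x (Sum.inr j) = 0) (i : Fin n) :
    (uMat n F *ᵥ x) (Sum.inr i) = (-1) ^ (n + (i : ℕ)) * x (Sum.inl ⟨0, i.pos⟩) := by
  unfold uMat
  rw [Matrix.fromBlocks_mulVec]
  simp only [Sum.elim_inr, Pi.add_apply]
  have h1 : (Dmat n F *ᵥ (x ∘ Sum.inr)) i = 0 := by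
    show ∑ j, Dmat n F i j * x (Sum.inr j) = 0
    apply Finset.sum_eq_zero
    intro j _
    rw [hx j, mul_zero]
  have h2 : (Cmat n F *ᵥ (x ∘ Sum.inl)) i = (-1) ^ (n + (i : ℕ)) * x (Sum.inl ⟨0, i.pos⟩) := by
    show ∑ j, Cmat n F i j * x (Sum.inl j) = _
    rw [Finset.sum_eq_single (⟨0, i.pos⟩ : Fin n)]
    · simp [Cmat]
    · intro b _ hb
      have : (b : ℕ) ≠ 0 := fun h => hb (Fin.ext h)
      simp [Cmat, this]
    · intro h'; exact absurd (Finset.mem_univ _) h'
  rw [h1, h2, add_zero]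

theorem aVec_inl (i : Fin n) : aVec n F (Sum.inl i) = if (i : ℕ) + 1 = n then 1 else 0 := rfl

theorem aVec_inr (i : Fin n) : aVec n F (Sum.inr i) = 0 := rfl

theorem orbit_props (m : ℕ) (hm : m + 1 ≤ n) :
    (∀ i : Fin n, ((uMat n F) ^ m *ᵥ aVec n F) (Sum.inr i) = 0) ∧
    (∀ i : Fin n, (i : ℕ) + m + 1 < n → ((uMat n F) ^ m *ᵥ aVec n F) (Sum.inl i) = 0) ∧
    (∀ i : Fin n, (i : ℕ) + m + 1 = n → ((uMat n F) ^ m *ᵥ aVec n F) (Sum.inl i) = 1) := by
  induction m with
  | zero =>
    rw [pow_zero, Matrix.one_mulVec]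
    refine ⟨fun i => aVec_inr i, ?_, ?_⟩
    · intro i hi
      rw [aVec_inl, if_neg]; omega
    · intro i hi
      rw [aVec_inl, if_pos]; omega
  | succ m ih =>
    obtain ⟨h1, h2, h3⟩ := ih (by omega)
    have e : (uMat n F) ^ (m + 1) *ᵥ aVec n F = uMat n F *ᵥ ((uMat n F) ^ m *ᵥ aVec n F) := by
      rw [pow_succ', Matrix.mulVec_mulVec]
    rw [e]
    refine ⟨?_, ?_, ?_⟩
    · intro i
      rw [uMat_mulVec_inr _ h1, h2 ⟨0, i.pos⟩ (by show 0 + m + 1 < n; omega), mul_zero]
    · intro i hi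
      rw [uMat_mulVec_inl, h2 i (by omega), dif_pos (by omega : (i : ℕ) + 1 < n),
        h2 ⟨(i : ℕ) + 1, by omega⟩ (by show (i : ℕ) + 1 + m + 1 < n; omega), add_zero]
    · intro i hi
      rw [uMat_mulVec_inl, h2 i (by omega), dif_pos (by omega : (i : ℕ) + 1 < n),
        h3 ⟨(i : ℕ) + 1, by omega⟩ (by show (i : ℕ) + 1 + m + 1 = n; omega), zero_add]

theorem avec_uMat_nat (m : ℕ) :
    avec (⟨uMat n F, uMat_mem n⟩ : Matrix.symplecticGroup (Fin n) F) (aVec n F) (m : ℤ) =
      (uMat n F) ^ m *ᵥ aVec n F := by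
  unfold avec
  rw [zpow_natCast, SubmonoidClass.coe_pow]

theorem goodPair_uMat (hn : 1 ≤ n) :
    GoodPair (⟨uMat n F, uMat_mem n⟩ : Matrix.symplecticGroup (Fin n) F) (aVec n F) := by
  constructor
  · intro m hm1 hmn
    rw [avec_uMat_nat, sympForm_eq_sum]
    obtain ⟨h1, -, -⟩ := orbit_props (F := F) m (by omega : m + 1 ≤ n)
    apply Finset.sum_eq_zero
    intro i _
    rw [aVec_inr, h1 i, zero_mul, mul_zero, sub_zero]
  · rw [avec_uMat_nat, sympForm_eq_sum]
    obtain ⟨n', rfl⟩ : ∃ n', n = n' + 1 := ⟨n - 1, by omega⟩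
    obtain ⟨h1, -, h3⟩ := orbit_props (F := F) (n := n' + 1) n' le_rfl
    have e : (uMat (n' + 1) F) ^ (n' + 1) *ᵥ aVec (n' + 1) F =
        uMat (n' + 1) F *ᵥ ((uMat (n' + 1) F) ^ n' *ᵥ aVec (n' + 1) F) := by
      rw [pow_succ', Matrix.mulVec_mulVec]
    rw [e]
    rw [Finset.sum_eq_single (⟨n', by omega⟩ : Fin (n' + 1))]
    · rw [aVec_inr, zero_mul, zero_sub, aVec_inl, if_pos rfl, one_mul, uMat_mulVec_inr _ h1,
        h3 ⟨0, by omega⟩ (by show 0 + n' + 1 = n' + 1; omega), mul_one]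
      have hodd : Odd (n' + 1 + n') := ⟨n', by ring⟩
      rw [hodd.neg_one_pow, neg_neg]
    · intro b _ hb
      have hb' : (b : ℕ) + 1 ≠ n' + 1 := fun h => hb (Fin.ext (by simpa using h))
      rw [aVec_inr, zero_mul, zero_sub, aVec_inl, if_neg hb', zero_mul, neg_zero]
    · intro h'; exact absurd (Finset.mem_univ _) h'

end Cfsg.Agent.Lib.Helper14.SpReg
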