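import Mathlib
import Cfsg.Agent.Lib.Helper44.EigenBasis
import Cfsg.Agent.Lib.Helper5.SymplecticCenter

/-!
# Towards the 2-rank of `PSp_{2m}(q)` — helper14 (part A: commuting involutions, group theory)
-/

set_option autoImplicit false

namespace Cfsg.Agent.Lib.Helper14

open Matrix Cfsg.Agent.Lib.Helper5

section CommInvol

variable {l : Type} [DecidableEq l] [Fintype l] {F : Type*} [Field F]

theorem sympForm_neg_left (u v : l ⊕ l → F) : sympForm l F (-u) v = - sympForm l F u v := by
  have := sympForm_smul_left (l := l) (-1 : F) u v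
  simpa using this

theorem sympForm_neg_right (u v : l ⊕ l → F) : sympForm l F u (-v) = - sympForm l F u v := by
  have := sympForm_smul_right (l := l) (-1 : F) u v
  simpa using this

theorem sympForm_sum_right {ι : Type*} (s : Finset ι) (c : ι → F) (w : ι → l ⊕ l → F)
    (u : l ⊕ l → F) :
    sympForm l F u (∑ j ∈ s, c j • w j) = ∑ j ∈ s, c j * sympForm l F u (w j) := by
  classical
  induction s using Finset.induction_on with
  | empty => simp
  | insert a s ha ih =>
    rw [Finset.sum_insert ha, Finset.sum_insert ha, sympForm_add_right, sympForm_smul_right, ih]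

/-- a finite set of pairwise commuting symplectic involutions has at most `2 ^ |l|` elements -/
theorem card_comm_sympl_invol_le (h2 : (2 : F) ≠ 0)
    (S : Finset (Matrix (l ⊕ l) (l ⊕ l) F))
    (hS : ∀ A ∈ S, A ∈ symplecticGroup l F) (hinv : ∀ A ∈ S, A * A = 1)
    (hcomm : ∀ A ∈ S, ∀ A' ∈ S, A * A' = A' * A) :
    S.card ≤ 2 ^ Fintype.card l := by
  classical
  obtain ⟨n, hn⟩ : ∃ n, Module.finrank F (l ⊕ l → F) = n := ⟨_, rfl⟩
  have hn2 : n = 2 * Fintype.card l := by
    rw [← hn, Module.finrank_fintype_fun_eq_card, Fintype.card_sum]; ring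
  -- simultaneous eigenbasis (helper44's lemma with the zero form)
  obtain ⟨b, -, hb⟩ := Cfsg.Agent.Lib.Helper44.exists_orthogonal_eigenbasis h2 n (l ⊕ l → F)
    (0 : LinearMap.BilinForm F (l ⊕ l → F)) ⟨fun x y => by simp⟩
    {f | ∃ A ∈ S, f = Matrix.toLin' A} hn
    (by
      rintro g ⟨A, hA, rfl⟩ x
      rw [← LinearMap.comp_apply, ← Matrix.toLin'_mul, hinv A hA, Matrix.toLin'_one]
      rfl)
    (by
      rintro g ⟨A, hA, rfl⟩ h ⟨A', hA', rfl⟩ x
      rw [← LinearMap.comp_apply, ← LinearMap.comp_apply, ← Matrix.toLin'_mul, ← Matrix.toLin'_mul,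
        hcomm A hA A' hA'])
    (by
      rintro g - x y
      simp)
  have hb' : ∀ A ∈ S, ∀ i, A *ᵥ b i = b i ∨ A *ᵥ b i = - b i := by
    intro A hA i
    have := hb (Matrix.toLin' A) ⟨A, hA, rfl⟩ i
    rw [Matrix.toLin'_apply] at this
    exact this
  -- sign patterns
  let ε : Fin n → S → Bool := fun i A => decide (A.1 *ᵥ b i = b i)
  have hε : ∀ (i : Fin n) (A : S), A.1 *ᵥ b i = if ε i A then b i else - b i := by
    intro i A
    by_cases h' : A.1 *ᵥ b i = b i
    · have : ε i A = true := decide_eq_true h'
      rw [this, if_pos rfl]; exact h'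
    · have : ε i A = false := decide_eq_false h'
      rw [this]
      rcases hb' A.1 A.2 i with h | h
      · exact absurd h h'
      · simpa using h
  set Pat : Finset (S → Bool) := Finset.univ.image ε with hPat
  -- each pattern occurs at least twice
  have hfib : ∀ p ∈ Pat, 2 ≤ (Finset.univ.filter (fun i : Fin n => ε i = p)).card := by
    intro p hp
    obtain ⟨i, -, rfl⟩ := Finset.mem_image.1 hp
    have hbi : b i ≠ 0 := b.ne_zero i
    obtain ⟨u, hu⟩ := exists_sympForm_ne_zero hbi
    -- some basis vector pairs nontrivially with `b i`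
    have : ∃ j, sympForm l F (b i) (b j) ≠ 0 := by
      by_contra hcon
      push Not at hcon
      apply hu
      rw [← b.sum_repr u, sympForm_sum_right]
      apply Finset.sum_eq_zero
      intro j _
      rw [hcon j, mul_zero]
    obtain ⟨j, hj⟩ := this
    have hij : i ≠ j := by
      intro h
      rw [h, sympForm_self] at hj
      exact hj rfl
    have hpat : ε j = ε i := by
      funext A
      by_contra hne
      apply hj
      have hAmem := (mem_symplecticGroup_iff_form.1 (hS A.1 A.2)) (b i) (b j)
      rw [hε i A, hε j A] at hAmem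
      have h4 : - sympForm l F (b i) (b j) = sympForm l F (b i) (b j) := by
        rcases hi : ε i A <;> rcases hj' : ε j A
        · exact absurd (hj'.trans hi.symm) hne
        · rw [hi, hj'] at hAmem
          simp only [Bool.false_eq_true, if_false, if_true] at hAmem
          rw [sympForm_neg_left] at hAmem
          exact hAmem
        · rw [hi, hj'] at hAmem
          simp only [Bool.false_eq_true, if_false, if_true] at hAmem
          rw [sympForm_neg_right] at hAmem
          exact hAmem
        · exact absurd (hj'.trans hi.symm) hne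
      have h5 : (2 : F) * sympForm l F (b i) (b j) = 0 := by linear_combination -h4
      exact (mul_eq_zero.1 h5).resolve_left h2
    have hsub : ({i, j} : Finset (Fin n)) ⊆ Finset.univ.filter (fun k : Fin n => ε k = ε i) := by
      intro k hk
      rw [Finset.mem_insert, Finset.mem_singleton] at hk
      rw [Finset.mem_filter]
      rcases hk with rfl | rfl
      · exact ⟨Finset.mem_univ _, rfl⟩
      · exact ⟨Finset.mem_univ _, hpat⟩
    calc 2 = ({i, j} : Finset (Fin n)).card := (Finset.card_pair hij).symm
      _ ≤ _ := Finset.card_le_card hsub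
  -- hence at most `|l|` patterns
  have hPatcard : Pat.card ≤ Fintype.card l := by
    have h1 : (Finset.univ : Finset (Fin n)).card
        = ∑ p ∈ Pat, (Finset.univ.filter (fun i : Fin n => ε i = p)).card := by
      apply Finset.card_eq_sum_card_fiberwise
      intro i _
      exact Finset.mem_image_of_mem _ (Finset.mem_univ _)
    have h2' : ∑ p ∈ Pat, 2 ≤ ∑ p ∈ Pat, (Finset.univ.filter (fun i : Fin n => ε i = p)).card :=
      Finset.sum_le_sum hfib
    rw [← h1, Finset.card_univ, Fintype.card_fin, Finset.sum_const, smul_eq_mul] at h2'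
    omega
  -- `S` embeds in the functions from patterns to signs
  have hinj : Function.Injective (fun A : S => fun p : Pat => p.1 A) := by
    intro A A' hAA'
    apply Subtype.ext
    apply Matrix.toLin'.injective
    apply b.ext
    intro i
    rw [Matrix.toLin'_apply, Matrix.toLin'_apply, hε i A, hε i A']
    have : ε i A = ε i A' := by
      have := congrFun hAA' ⟨ε i, Finset.mem_image_of_mem _ (Finset.mem_univ _)⟩
      exact this
    rw [this]
  have hcard := Fintype.card_le_of_injective _ hinj
  rw [Fintype.card_coe, Fintype.card_fun, Fintype.card_bool, Fintype.card_coe] at hcard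
  exact hcard.trans (Nat.pow_le_pow_right (by norm_num) hPatcard)

end CommInvol

section GroupTheory

variable {G : Type*} [Group G]

/-- the centre of a subgroup, as a subgroup of the ambient group -/
def zsub (H : Subgroup G) : Subgroup G := H ⊓ Subgroup.centralizer (H : Set G)

theorem mem_zsub_iff (H : Subgroup G) (z : G) :
    z ∈ zsub H ↔ z ∈ H ∧ ∀ h ∈ H, h * z = z * h := by
  unfold zsub
  rw [Subgroup.mem_inf, Subgroup.mem_centralizer_iff]
  rfl

/-- In a finite group `H` whose commutators lie in `{1, ε}` (`ε` a central involution) there is an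
abelian subgroup `B` with `|H| · |Z(H)| ≤ |B|²`. -/
theorem exists_abelian_large (ε : G) (hε : ∀ g : G, ε * g = g * ε) (hε2 : ε * ε = 1) :
    ∀ (N : ℕ) (H : Subgroup G), Finite H → Nat.card H = N →
      (∀ x ∈ H, ∀ y ∈ H, x * y = y * x ∨ x * y = ε * (y * x)) →
      ∃ B : Subgroup G, B ≤ H ∧ (∀ x ∈ B, ∀ y ∈ B, x * y = y * x) ∧
        Nat.card H * Nat.card (zsub H) ≤ Nat.card B ^ 2 := by
  intro N
  induction N using Nat.strong_induction_on with
  | _ N ih =>
  intro H hfin hN hH
  by_cases hab : ∀ x ∈ H, ∀ y ∈ H, x * y = y * x
  · refine ⟨H, le_refl _, hab, ?_⟩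
    have : zsub H = H := by
      ext z
      rw [mem_zsub_iff]
      constructor
      · exact fun h => h.1
      · exact fun h => ⟨h, fun k hk => hab k hk z h⟩
    rw [this, sq]
  · push Not at hab
    obtain ⟨x, hx, y, hy, hxy⟩ := hab
    -- `y x = ε x y`
    have hyx : y * x = ε * (x * y) := by
      rcases hH y hy x hx with h | h
      · exact absurd h.symm hxy
      · exact h
    have hyinv : y⁻¹ * x = ε * (x * y⁻¹) := by
      have h1 : x = y⁻¹ * (ε * (x * y)) := by rw [← hyx]; group
      have h2 : y⁻¹ * x = y⁻¹ * (y⁻¹ * (ε * (x * y))) := by rw [← h1]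
      -- direct verification
      have h3 : y⁻¹ * x * y = ε * x := by
        calc y⁻¹ * x * y = y⁻¹ * (x * y) := by group
          _ = y⁻¹ * (ε * (ε * (x * y))) := by rw [← mul_assoc ε ε, hε2, one_mul]
          _ = y⁻¹ * (ε * (y * x)) := by rw [hyx]
          _ = ε * (y⁻¹ * (y * x)) := by rw [← mul_assoc, ← hε, mul_assoc]
          _ = ε * x := by group
      calc y⁻¹ * x = y⁻¹ * x * y * y⁻¹ := by group
        _ = ε * x * y⁻¹ := by rw [h3]
        _ = ε * (x * y⁻¹) := by group
    set H₁ : Subgroup G := H ⊓ Subgroup.centralizer ({x} : Set G) with hH₁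
    have memH₁ : ∀ h, h ∈ H₁ ↔ h ∈ H ∧ h * x = x * h := by
      intro h
      rw [hH₁, Subgroup.mem_inf, Subgroup.mem_centralizer_singleton_iff]
    have hle : H₁ ≤ H := inf_le_left
    have hfin₁ : Finite H₁ := Finite.of_injective _ (Subgroup.inclusion_injective hle)
    have hxH₁ : x ∈ H₁ := (memH₁ x).2 ⟨hx, rfl⟩
    have hyH₁ : y ∉ H₁ := fun h => hxy ((memH₁ y).1 h).2.symm
    -- `|H| ≤ 2 |H₁|`
    have hcard2 : Nat.card H ≤ Nat.card H₁ * 2 := by
      classical
      have key : ∀ h ∈ H, ¬ (h * x = x * h) → y⁻¹ * h ∈ H₁ := by
        intro h hh hne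
        rw [memH₁]
        refine ⟨H.mul_mem (H.inv_mem hy) hh, ?_⟩
        have hhx : h * x = ε * (x * h) := by
          rcases hH h hh x hx with h' | h'
          · exact absurd h' hne
          · exact h'
        calc y⁻¹ * h * x = y⁻¹ * (h * x) := by group
          _ = y⁻¹ * (ε * (x * h)) := by rw [hhx]
          _ = ε * (y⁻¹ * x) * h := by rw [← mul_assoc, ← hε, mul_assoc, mul_assoc, mul_assoc]
          _ = ε * (ε * (x * y⁻¹)) * h := by rw [hyinv]
          _ = x * (y⁻¹ * h) := by rw [← mul_assoc ε ε, hε2, one_mul]; group
      let f : H → H₁ × Bool := fun h =>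
        if hc : (h : G) * x = x * h then (⟨h, (memH₁ h).2 ⟨h.2, hc⟩⟩, true)
        else (⟨y⁻¹ * h, key h h.2 hc⟩, false)
      have hf : Function.Injective f := by
        intro h h' hff
        by_cases hc : (h : G) * x = x * h <;> by_cases hc' : (h' : G) * x = x * h'
        · simp only [f, dif_pos hc, dif_pos hc'] at hff
          have := congrArg (fun p => (p.1 : G)) hff
          exact Subtype.ext this
        · simp only [f, dif_pos hc, dif_neg hc'] at hff
          have := congrArg Prod.snd hff
          simp at this
        · simp only [f, dif_neg hc, dif_pos hc'] at hff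
          have := congrArg Prod.snd hff
          simp at this
        · simp only [f, dif_neg hc, dif_neg hc'] at hff
          have := congrArg (fun p => (p.1 : G)) hff
          simp only at this
          exact Subtype.ext (mul_left_cancel this)
      have := Nat.card_le_card_of_injective f hf
      rw [Nat.card_prod, Nat.card_eq_fintype_card (α := Bool), Fintype.card_bool] at this
      exact this
    -- `H₁` is a proper subgroup
    have hlt : Nat.card H₁ < N := by
      rw [← hN]
      by_contra hcon
      push Not at hcon
      have h1 : H₁ = H := Subgroup.eq_of_le_of_card_ge hle hcon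
      exact hyH₁ (h1 ▸ hy)
    -- `2 |Z(H)| ≤ |Z(H₁)|`
    have hfinz : Finite (zsub H₁) :=
      Finite.of_injective _ (Subgroup.inclusion_injective (inf_le_left : zsub H₁ ≤ H₁))
    have hz2 : Nat.card (zsub H) * 2 ≤ Nat.card (zsub H₁) := by
      classical
      have hzmem : ∀ z ∈ zsub H, z ∈ zsub H₁ := by
        intro z hz
        rw [mem_zsub_iff] at hz ⊢
        refine ⟨(memH₁ z).2 ⟨hz.1, (hz.2 x hx).symm⟩, ?_⟩
        intro h hh
        exact hz.2 h (hle hh)
      have hxzmem : ∀ z ∈ zsub H, x * z ∈ zsub H₁ := by
        intro z hz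
        have hz' := hzmem z hz
        rw [mem_zsub_iff] at hz' ⊢
        refine ⟨H₁.mul_mem hxH₁ hz'.1, ?_⟩
        intro h hh
        have h1 := ((memH₁ h).1 hh).2
        have h2 := hz'.2 h hh
        calc h * (x * z) = h * x * z := by group
          _ = x * h * z := by rw [h1]
          _ = x * (h * z) := by group
          _ = x * (z * h) := by rw [h2]
          _ = x * z * h := by group
      let f : zsub H × Bool → zsub H₁ := fun p =>
        if p.2 then ⟨p.1, hzmem p.1 p.1.2⟩ else ⟨x * p.1, hxzmem p.1 p.1.2⟩
      have hxz : x ∉ zsub H := by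
        intro h
        rw [mem_zsub_iff] at h
        exact hxy (h.2 y hy).symm
      have hf : Function.Injective f := by
        rintro ⟨z, b⟩ ⟨z', b'⟩ hff
        rcases b <;> rcases b'
        · simp only [f, Bool.false_eq_true, if_false] at hff
          have := congrArg (fun p : zsub H₁ => (p : G)) hff
          simp only at this
          have h1 : z = z' := Subtype.ext (mul_left_cancel this)
          rw [h1]
        · exfalso
          simp only [f, Bool.false_eq_true, if_false, if_true] at hff
          have := congrArg (fun p : zsub H₁ => (p : G)) hff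
          simp only at this
          apply hxz
          have h1 : x = z' * (z : G)⁻¹ := by rw [← this]; group
          rw [h1]
          exact (zsub H).mul_mem z'.2 ((zsub H).inv_mem z.2)
        · exfalso
          simp only [f, Bool.false_eq_true, if_false, if_true] at hff
          have := congrArg (fun p : zsub H₁ => (p : G)) hff
          simp only at this
          apply hxz
          have h1 : x = z * (z' : G)⁻¹ := by rw [this]; group
          rw [h1]
          exact (zsub H).mul_mem z.2 ((zsub H).inv_mem z'.2)
        · simp only [f, if_true] at hff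
          have := congrArg (fun p : zsub H₁ => (p : G)) hff
          simp only at this
          have h1 : z = z' := Subtype.ext this
          rw [h1]
      have := Nat.card_le_card_of_injective f hf
      rw [Nat.card_prod, Nat.card_eq_fintype_card (α := Bool), Fintype.card_bool] at this
      exact this
    obtain ⟨B, hB1, hB2, hB3⟩ := ih (Nat.card H₁) hlt H₁ hfin₁ rfl
      (fun a ha b hb => hH a (hle ha) b (hle hb))
    refine ⟨B, hB1.trans hle, hB2, ?_⟩
    calc Nat.card H * Nat.card (zsub H) ≤ (Nat.card H₁ * 2) * Nat.card (zsub H) :=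
          Nat.mul_le_mul_right _ hcard2
      _ = Nat.card H₁ * (Nat.card (zsub H) * 2) := by ring
      _ ≤ Nat.card H₁ * Nat.card (zsub H₁) := Nat.mul_le_mul_left _ hz2
      _ ≤ Nat.card B ^ 2 := hB3

end GroupTheory

end Cfsg.Agent.Lib.Helper14
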