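import Mathlib
import Cfsg.Agent.Lib.Helper14.SpTwoRankA

/-!
# Towards the 2-rank of `PSp_{2m}(q)` — helper14 (part B: Dedekind independence bound)
-/

set_option autoImplicit false

namespace Cfsg.Agent.Lib.Helper14

section Indep

variable {G : Type*} [Group G] {n : Type*} [Fintype n] [DecidableEq n] [Nonempty n]
  {F : Type*} [Field F]

/-- the centre of `↥H` has the same cardinality as `zsub H` -/
theorem card_center_eq_card_zsub (H : Subgroup G) :
    Nat.card (Subgroup.center ↥H) = Nat.card (zsub H) := by
  apply Nat.card_congr
  refine ⟨fun z => ⟨z.1.1, ?_⟩, fun z => ⟨⟨z.1, ((mem_zsub_iff H z.1).1 z.2).1⟩, ?_⟩, ?_, ?_⟩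
  · rw [mem_zsub_iff]
    refine ⟨z.1.2, ?_⟩
    intro h hh
    have := Subgroup.mem_center_iff.1 z.2 ⟨h, hh⟩
    exact congrArg Subtype.val this
  · rw [Subgroup.mem_center_iff]
    intro h
    apply Subtype.ext
    exact ((mem_zsub_iff H z.1).1 z.2).2 h.1 h.2
  · intro z; rfl
  · intro z; rfl

/-- Dedekind-independence bound: `|H : Z(H)| ≤ n²` for a finite group of matrices whose
commutators are `± 1`. -/
theorem card_le_card_zsub_mul (h2 : (2 : F) ≠ 0) (M : G →* Matrix n n F) (ε : G)
    (hε : ∀ g : G, ε * g = g * ε) (hMε : M ε = -1)
    (H : Subgroup G) [Finite H]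
    (hH : ∀ x ∈ H, ∀ y ∈ H, x * y = y * x ∨ x * y = ε * (y * x)) :
    Nat.card H ≤ Nat.card (zsub H) * (Fintype.card n * Fintype.card n) := by
  classical
  have hε1 : ε ≠ 1 := by
    intro h
    rw [h, map_one] at hMε
    have h1 := congrFun (congrFun hMε (Classical.arbitrary n)) (Classical.arbitrary n)
    rw [Matrix.neg_apply, Matrix.one_apply_eq] at h1
    apply h2
    have : (1 : F) + 1 = 0 := by linear_combination h1
    rw [← one_add_one_eq_two]; exact this
  have hneg1 : (1 : F) ≠ -1 := by
    intro h
    apply h2
    have : (1 : F) + 1 = 0 := by linear_combination h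
    rw [← one_add_one_eq_two]; exact this
  -- characters
  have hχ : ∀ g : H, ∃ φ : H →* F, ∀ h : H, φ h = if h * g = g * h then 1 else -1 := by
    intro g
    have anti : ∀ h : H, ¬ (h * g = g * h) → (h : G) * g = ε * (g * h) := by
      intro h hne
      rcases hH h h.2 g g.2 with h' | h'
      · exact absurd (Subtype.ext h') hne
      · exact h'
    refine ⟨{ toFun := fun h => if h * g = g * h then 1 else -1, map_one' := by simp,
              map_mul' := ?_ }, fun h => rfl⟩
    intro h h'
    by_cases c : h * g = g * h <;> by_cases c' : h' * g = g * h'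
    · have : h * h' * g = g * (h * h') := by
        rw [mul_assoc, c', ← mul_assoc, c, mul_assoc]
      simp [c, c', this]
    · have e1 : ((h * h' * g : H) : G) = ε * ((g * (h * h') : H) : G) := by
        have a' := anti h' c'
        have c0 : (h : G) * g = g * h := congrArg Subtype.val c
        push_cast
        calc (h : G) * h' * g = h * (h' * g) := by group
          _ = h * (ε * (g * h')) := by rw [a']
          _ = ε * (h * g * h') := by rw [← mul_assoc, ← hε, mul_assoc, mul_assoc]
          _ = ε * (g * h * h') := by rw [c0]
          _ = ε * (g * (h * h')) := by group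
      have : ¬ (h * h' * g = g * (h * h')) := by
        intro hh
        apply hε1
        have h3 : ((h * h' * g : H) : G) = ((g * (h * h') : H) : G) := congrArg Subtype.val hh
        rw [e1] at h3
        exact mul_right_cancel (h3.trans (one_mul _).symm)
      simp [c, c', this]
    · have e1 : ((h * h' * g : H) : G) = ε * ((g * (h * h') : H) : G) := by
        have a := anti h c
        have c0 : (h' : G) * g = g * h' := congrArg Subtype.val c'
        push_cast
        calc (h : G) * h' * g = h * (h' * g) := by group
          _ = h * (g * h') := by rw [c0]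
          _ = (h * g) * h' := by group
          _ = ε * (g * h) * h' := by rw [a]
          _ = ε * (g * (h * h')) := by group
      have : ¬ (h * h' * g = g * (h * h')) := by
        intro hh
        apply hε1
        have h3 : ((h * h' * g : H) : G) = ((g * (h * h') : H) : G) := congrArg Subtype.val hh
        rw [e1] at h3
        exact mul_right_cancel (h3.trans (one_mul _).symm)
      simp [c, c', this]
    · have hεε : ε * ε = 1 := by
        -- from an anticommuting pair
        have a := anti h c
        have b : (g : G) * h = ε * (h * g) := by
          rcases hH g g.2 h h.2 with h'' | h''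
          · exact absurd (Subtype.ext h''.symm) c
          · exact h''
        rw [b, ← mul_assoc] at a
        have : (1 : G) * ((h : G) * g) = ε * ε * (h * g) := by rw [one_mul]; exact a
        exact (mul_right_cancel this).symm
      have : h * h' * g = g * (h * h') := by
        apply Subtype.ext
        have a := anti h c
        have a' := anti h' c'
        push_cast
        calc (h : G) * h' * g = h * (h' * g) := by group
          _ = h * (ε * (g * h')) := by rw [a']
          _ = ε * (h * g * h') := by rw [← mul_assoc, ← hε, mul_assoc, mul_assoc]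
          _ = ε * (ε * (g * h) * h') := by rw [a]
          _ = (ε * ε) * (g * (h * h')) := by group
          _ = g * (h * h') := by rw [hεε, one_mul]
      simp [c, c', this]
  choose χ hχdef using hχ
  -- the matrix relation
  have hrel : ∀ g h : H, M h * M g = χ g h • (M g * M h) := by
    intro g h
    rw [hχdef]
    by_cases c : h * g = g * h
    · rw [if_pos c, one_smul, ← map_mul, ← map_mul]
      have : (h : G) * g = g * h := congrArg Subtype.val c
      rw [this]
    · rw [if_neg c]
      have a : (h : G) * g = ε * (g * h) := by
        rcases hH h h.2 g g.2 with h' | h'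
        · exact absurd (Subtype.ext h') c
        · exact h'
      rw [← map_mul, a, map_mul, hMε, map_mul]
      simp
  -- representatives
  set Q := H ⧸ Subgroup.center ↥H with hQ
  have : Fintype Q := Fintype.ofFinite Q
  let rep : Q → H := fun q => q.out
  have hrep : ∀ q : Q, (QuotientGroup.mk (rep q) : Q) = q := fun q => Quotient.out_eq' q
  -- injectivity of `q ↦ χ (rep q)`
  have hinj : Function.Injective (fun q : Q => χ (rep q)) := by
    intro q q' hqq
    rw [← hrep q, ← hrep q', QuotientGroup.eq, Subgroup.mem_center_iff]
    intro h
    have hh := DFunLike.congr_fun hqq h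
    simp only [hχdef] at hh
    by_cases c : h * rep q = rep q * h <;> by_cases c' : h * rep q' = rep q' * h
    · calc h * ((rep q)⁻¹ * rep q') = (rep q)⁻¹ * (rep q * h) * (rep q)⁻¹ * rep q' := by group
        _ = (rep q)⁻¹ * (h * rep q) * (rep q)⁻¹ * rep q' := by rw [c]
        _ = (rep q)⁻¹ * (h * rep q') := by group
        _ = (rep q)⁻¹ * (rep q' * h) := by rw [c']
        _ = (rep q)⁻¹ * rep q' * h := by group
    · rw [if_pos c, if_neg c'] at hh
      exact absurd hh hneg1
    · rw [if_neg c, if_pos c'] at hh
      exact absurd hh.symm hneg1
    · apply Subtype.ext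
      have a : (h : G) * rep q = ε * (rep q * h) := by
        rcases hH h h.2 (rep q) (rep q).2 with h' | h'
        · exact absurd (Subtype.ext h') c
        · exact h'
      have a' : (h : G) * rep q' = ε * (rep q' * h) := by
        rcases hH h h.2 (rep q') (rep q').2 with h' | h'
        · exact absurd (Subtype.ext h') c'
        · exact h'
      have s1 : SemiconjBy (h : G) (rep q : G) (ε * (rep q : G)) := by
        unfold SemiconjBy; rw [a, mul_assoc]
      have s2 : SemiconjBy (h : G) (rep q' : G) (ε * (rep q' : G)) := by
        unfold SemiconjBy; rw [a', mul_assoc]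
      have s3 := (s1.inv_right).mul_right s2
      have e : (ε * (rep q : G))⁻¹ * (ε * (rep q' : G)) = (rep q : G)⁻¹ * (rep q' : G) := by group
      have s4 := s3.eq
      rw [e] at s4
      push_cast
      exact s4
  have hLI : LinearIndependent F (fun q : Q => (χ (rep q) : H → F)) :=
    (linearIndependent_monoidHom H F).comp _ hinj
  have hMne : ∀ g : H, M g ≠ 0 := by
    intro g h0
    have h1 : M g * M (g⁻¹ : H) = 1 := by
      rw [← map_mul]
      have : ((g : G) * ((g⁻¹ : H) : G)) = 1 := by push_cast; group
      rw [this, map_one]
    rw [h0, zero_mul] at h1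
    have h3 := congrFun (congrFun h1 (Classical.arbitrary n)) (Classical.arbitrary n)
    rw [Matrix.zero_apply, Matrix.one_apply_eq] at h3
    exact zero_ne_one h3
  have hmain : LinearIndependent F (fun q : Q => M (rep q)) := by
    rw [Fintype.linearIndependent_iff]
    intro c hc q
    have key : ∀ h : H, ∑ q, (c q * χ (rep q) h) • M (rep q) = 0 := by
      intro h
      have h1 : M h * (∑ q, c q • M (rep q)) = 0 := by rw [hc, mul_zero]
      rw [Finset.mul_sum] at h1
      have h2' : ∑ q, M h * (c q • M (rep q)) = (∑ q, (c q * χ (rep q) h) • M (rep q)) * M h := by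
        rw [Finset.sum_mul]
        apply Finset.sum_congr rfl
        intro q _
        rw [Matrix.mul_smul, hrel, smul_smul, Matrix.smul_mul]
      rw [h2'] at h1
      have h3 : (∑ q, (c q * χ (rep q) h) • M (rep q)) * M h * M (h⁻¹ : H) = 0 := by
        rw [h1, zero_mul]
      have h4 : M h * M (h⁻¹ : H) = 1 := by
        rw [← map_mul]
        have : ((h : G) * ((h⁻¹ : H) : G)) = 1 := by push_cast; group
        rw [this, map_one]
      rw [mul_assoc, h4, mul_one] at h3
      exact h3
    obtain ⟨i, j, hij⟩ : ∃ i j, M (rep q) i j ≠ 0 := by
      by_contra hcon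
      push Not at hcon
      apply hMne (rep q)
      ext i j
      exact hcon i j
    have hfun : ∑ q, (c q * M (rep q) i j) • (χ (rep q) : H → F) = 0 := by
      funext h
      have := congrFun (congrFun (key h) i) j
      rw [Matrix.sum_apply] at this
      simp only [Matrix.smul_apply, smul_eq_mul, Matrix.zero_apply] at this
      rw [Finset.sum_apply]
      simp only [Pi.smul_apply, smul_eq_mul, Pi.zero_apply]
      rw [← this]
      apply Finset.sum_congr rfl
      intro q _
      ring
    have := Fintype.linearIndependent_iff.1 hLI _ hfun q
    rcases mul_eq_zero.1 this with h | h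
    · exact h
    · exact absurd h hij
  have hcardQ : Fintype.card Q ≤ Fintype.card n * Fintype.card n := by
    have := hmain.fintype_card_le_finrank
    rw [Module.finrank_matrix] at this
    simpa using this
  have hcard := Subgroup.card_eq_card_quotient_mul_card_subgroup (Subgroup.center ↥H)
  rw [hcard, card_center_eq_card_zsub, Nat.card_eq_fintype_card, mul_comm]
  exact Nat.mul_le_mul_left _ hcardQ

end Indep

end Cfsg.Agent.Lib.Helper14
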