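import Mathlib
import Cfsg.Agent.Lib.Helper14.SpTwoRankB

/-!
# Towards the 2-rank of `PSp_{2m}(q)` — helper14 (part C: bounds in the symplectic group)
-/

set_option autoImplicit false

namespace Cfsg.Agent.Lib.Helper14

open Matrix Cfsg.Agent.Lib.Helper5

section SpBound

variable {l : Type} [DecidableEq l] [Fintype l] {F : Type*} [Field F]

/-- `-1` as an element of the symplectic group -/
def negOne (l : Type) [DecidableEq l] [Fintype l] (F : Type*) [Field F] : symplecticGroup l F :=
  ⟨-1, neg_one_mem_symplecticGroup⟩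

theorem negOne_central (g : symplecticGroup l F) : negOne l F * g = g * negOne l F := by
  apply Subtype.ext
  show (-1 : Matrix (l ⊕ l) (l ⊕ l) F) * g.1 = g.1 * (-1)
  rw [neg_mul, mul_neg, one_mul, mul_one]

theorem negOne_sq : negOne l F * negOne l F = 1 := by
  apply Subtype.ext
  show (-1 : Matrix (l ⊕ l) (l ⊕ l) F) * (-1) = 1
  rw [neg_mul_neg, one_mul]

/-- an abelian subgroup of `Sp_{2m}` whose elements square to `± 1` has order at most `2^(m+1)` -/
theorem card_abelian_le (h2 : (2 : F) ≠ 0) (B : Subgroup (symplecticGroup l F)) [Finite B]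
    (hcomm : ∀ x ∈ B, ∀ y ∈ B, x * y = y * x)
    (hsq : ∀ x ∈ B, x * x = 1 ∨ x * x = negOne l F) :
    Nat.card B ≤ 2 ^ (Fintype.card l + 1) := by
  classical
  have : Fintype B := Fintype.ofFinite B
  -- the involutions of `B` as matrices
  set S : Finset (Matrix (l ⊕ l) (l ⊕ l) F) :=
    (Finset.univ.image
      (fun x : B => ((x : symplecticGroup l F) : Matrix (l ⊕ l) (l ⊕ l) F))).filter
      (fun A => A * A = 1) with hS
  have hSmem : ∀ A ∈ S, ∃ x : B, (x : symplecticGroup l F) * x = 1 ∧
      ((x : symplecticGroup l F) : Matrix (l ⊕ l) (l ⊕ l) F) = A := by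
    intro A hA
    obtain ⟨hA1, hA2⟩ := Finset.mem_filter.1 hA
    obtain ⟨x, -, rfl⟩ := Finset.mem_image.1 hA1
    exact ⟨x, Subtype.ext hA2, rfl⟩
  have hScard : S.card ≤ 2 ^ Fintype.card l := by
    apply card_comm_sympl_invol_le h2 S
    · intro A hA
      obtain ⟨x, -, rfl⟩ := hSmem A hA
      exact x.1.2
    · intro A hA
      obtain ⟨x, hx, rfl⟩ := hSmem A hA
      exact congrArg Subtype.val hx
    · intro A hA A' hA'
      obtain ⟨x, -, rfl⟩ := hSmem A hA
      obtain ⟨y, -, rfl⟩ := hSmem A' hA'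
      exact congrArg Subtype.val (hcomm x x.2 y y.2)
  have hmemS : ∀ x : B, (x : symplecticGroup l F) * x = 1 →
      ((x : symplecticGroup l F) : Matrix (l ⊕ l) (l ⊕ l) F) ∈ S := by
    intro x hx
    exact Finset.mem_filter.2 ⟨Finset.mem_image.2 ⟨x, Finset.mem_univ _, rfl⟩,
      congrArg Subtype.val hx⟩
  by_cases hall : ∀ x : B, (x : symplecticGroup l F) * x = 1
  · -- `B` consists of involutions
    have hinj : Function.Injective (fun x : B => (⟨_, hmemS x (hall x)⟩ : S)) := by
      intro x y hxy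
      have := congrArg Subtype.val hxy
      exact Subtype.ext (Subtype.ext this)
    have := Fintype.card_le_of_injective _ hinj
    rw [Fintype.card_coe] at this
    rw [Nat.card_eq_fintype_card]
    calc Fintype.card B ≤ S.card := this
      _ ≤ 2 ^ Fintype.card l := hScard
      _ ≤ 2 ^ (Fintype.card l + 1) := Nat.pow_le_pow_right (by norm_num) (Nat.le_succ _)
  · push Not at hall
    obtain ⟨a, ha⟩ := hall
    have ha2 : (a : symplecticGroup l F) * a = negOne l F := (hsq a a.2).resolve_left ha
    have key : ∀ x : B, ¬ ((x : symplecticGroup l F) * x = 1) →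
        ((a⁻¹ * x : B) : symplecticGroup l F) * (a⁻¹ * x : B) = 1 := by
      intro x hx
      have hx2 : (x : symplecticGroup l F) * x = negOne l F := (hsq x x.2).resolve_left hx
      have hc : (x : symplecticGroup l F) * (a : symplecticGroup l F)⁻¹
          = (a : symplecticGroup l F)⁻¹ * x := hcomm x x.2 _ (B.inv_mem a.2)
      push_cast
      calc (a : symplecticGroup l F)⁻¹ * x * ((a : symplecticGroup l F)⁻¹ * x)
          = (a : symplecticGroup l F)⁻¹ * (x * (a : symplecticGroup l F)⁻¹) * x := by group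
        _ = (a : symplecticGroup l F)⁻¹ * ((a : symplecticGroup l F)⁻¹ * x) * x := by rw [hc]
        _ = ((a : symplecticGroup l F) * a)⁻¹ * (x * x) := by group
        _ = 1 := by rw [ha2, hx2, inv_mul_cancel]
    let f : B → S × Bool := fun x =>
      if hx : (x : symplecticGroup l F) * x = 1 then (⟨_, hmemS x hx⟩, true)
      else (⟨_, hmemS (a⁻¹ * x) (key x hx)⟩, false)
    have hf : Function.Injective f := by
      intro x y hxy
      by_cases hx : (x : symplecticGroup l F) * x = 1 <;>
        by_cases hy : (y : symplecticGroup l F) * y = 1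
      · simp only [f, dif_pos hx, dif_pos hy] at hxy
        have := congrArg (fun p : S × Bool => (p.1 : Matrix (l ⊕ l) (l ⊕ l) F)) hxy
        exact Subtype.ext (Subtype.ext this)
      · simp only [f, dif_pos hx, dif_neg hy] at hxy
        have := congrArg Prod.snd hxy
        simp at this
      · simp only [f, dif_neg hx, dif_pos hy] at hxy
        have := congrArg Prod.snd hxy
        simp at this
      · simp only [f, dif_neg hx, dif_neg hy] at hxy
        have := congrArg (fun p : S × Bool => (p.1 : Matrix (l ⊕ l) (l ⊕ l) F)) hxy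
        have h3 : (a⁻¹ * x : B) = a⁻¹ * y := Subtype.ext (Subtype.ext this)
        exact mul_left_cancel h3
    have := Fintype.card_le_of_injective f hf
    rw [Fintype.card_prod, Fintype.card_coe, Fintype.card_bool] at this
    rw [Nat.card_eq_fintype_card, pow_succ]
    exact this.trans (Nat.mul_le_mul_right _ hScard)

theorem lt_two_pow_pred (k : ℕ) : k + 3 < 2 ^ (k + 2) := by
  induction k with
  | zero => norm_num
  | succ k ih => rw [pow_succ]; omega

/-- the main bound: a finite subgroup of `Sp_{2m}`, `m ≥ 3`, all of whose commutators and squares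
are `± 1`, has order less than `2^(2m+1)` -/
theorem card_pm_group_lt (h2 : (2 : F) ≠ 0) (hl : 3 ≤ Fintype.card l)
    (E : Subgroup (symplecticGroup l F)) [Finite E]
    (hE : ∀ x ∈ E, ∀ y ∈ E, x * y = y * x ∨ x * y = negOne l F * (y * x))
    (hsq : ∀ x ∈ E, x * x = 1 ∨ x * x = negOne l F) :
    Nat.card E < 2 ^ (2 * Fintype.card l + 1) := by
  have hne : Nonempty (l ⊕ l) := by
    have : 0 < Fintype.card l := by omega
    obtain ⟨i⟩ := Fintype.card_pos_iff.1 this
    exact ⟨Sum.inl i⟩
  obtain ⟨B, hBE, hBcomm, hBcard⟩ := exists_abelian_large (negOne l F) negOne_central negOne_sq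
    (Nat.card E) E inferInstance rfl hE
  have hfinB : Finite B := Finite.of_injective _ (Subgroup.inclusion_injective hBE)
  have hb := card_abelian_le h2 B hBcomm (fun x hx => hsq x (hBE hx))
  have hz := card_le_card_zsub_mul h2 (Submonoid.subtype (symplecticGroup l F)) (negOne l F)
    negOne_central rfl E hE
  rw [Fintype.card_sum] at hz
  set m := Fintype.card l with hm
  set e := Nat.card E with he
  set z := Nat.card (zsub E) with hzd
  set b := Nat.card B with hbd
  by_contra hcon
  push Not at hcon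
  -- `e * e ≤ (2^(m+1) * (m+m))^2`
  have h1 : e * e ≤ (2 ^ (m + 1) * (m + m)) * (2 ^ (m + 1) * (m + m)) := by
    calc e * e ≤ e * (z * ((m + m) * (m + m))) := Nat.mul_le_mul_left _ hz
      _ = (e * z) * ((m + m) * (m + m)) := by ring
      _ ≤ b ^ 2 * ((m + m) * (m + m)) := Nat.mul_le_mul_right _ hBcard
      _ ≤ (2 ^ (m + 1)) ^ 2 * ((m + m) * (m + m)) :=
          Nat.mul_le_mul_right _ (Nat.pow_le_pow_left hb 2)
      _ = _ := by ring
  have h3 : e ≤ 2 ^ (m + 1) * (m + m) := Nat.mul_self_le_mul_self_iff.1 h1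
  have h4 : 2 ^ (2 * m + 1) ≤ 2 ^ (m + 1) * (m + m) := hcon.trans h3
  obtain ⟨k, hk⟩ : ∃ k, m = k + 3 := ⟨m - 3, by omega⟩
  have h5 := lt_two_pow_pred k
  rw [hk] at h4
  have h6 : 2 ^ (2 * (k + 3) + 1) = 2 ^ (k + 3 + 1) * (2 * 2 ^ (k + 2)) := by
    rw [show 2 * (k + 3) + 1 = (k + 3 + 1) + ((k + 2) + 1) by ring, pow_add, pow_succ 2 (k + 2)]
    ring
  rw [h6] at h4
  have h7 : 2 * 2 ^ (k + 2) ≤ k + 3 + (k + 3) := Nat.le_of_mul_le_mul_left h4 (by positivity)
  omega

end SpBound

end Cfsg.Agent.Lib.Helper14
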