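import Mathlib
import Cfsg.Prelude.Def_Classical
import Cfsg.Prelude.Def_EvenType
import Cfsg.Agent.Lib.Helper14.SpTwoRankC

/-!
# The 2-rank of `PSp_{2m}(q)`, `q` odd, `m ≥ 3`, is less than `2m` — helper14 (part D)
-/

set_option autoImplicit false

namespace Cfsg.Agent.Lib.Helper14

open Matrix Cfsg.Agent.Lib.Helper5

section PSpRank

variable {F : Type*} [Field F]

theorem negOne_ne_one (l : Type) [DecidableEq l] [Fintype l] [Nonempty l] (h2 : (2 : F) ≠ 0) :
    negOne l F ≠ 1 := by
  intro h
  have h1 := congrArg Subtype.val h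
  have h3 := congrFun (congrFun h1 (Sum.inl (Classical.arbitrary l))) (Sum.inl (Classical.arbitrary l))
  change (-1 : Matrix (l ⊕ l) (l ⊕ l) F) _ _ = (1 : Matrix (l ⊕ l) (l ⊕ l) F) _ _ at h3
  rw [Matrix.neg_apply, Matrix.one_apply_eq] at h3
  apply h2
  have : (1 : F) + 1 = 0 := by linear_combination -h3
  rw [← one_add_one_eq_two]; exact this

/-- `PSp_{2m}(q)`, `q` odd, `m ≥ 3`, has no elementary abelian 2-subgroup of order `2^(2m)` -/
theorem not_pRankAtLeast_PSp [Finite F] (h2 : (2 : F) ≠ 0) (m : ℕ) (hm : 3 ≤ m) :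
    ¬ Cfsg.PRankAtLeast 2 (2 * m) (Cfsg.PSp m F) := by
  rintro ⟨A, hAcomm, hAexp, hAcard⟩
  have : Nonempty (Fin m) := ⟨⟨0, by omega⟩⟩
  set G₀ := symplecticGroup (Fin m) F with hG₀
  have hfinG : Finite G₀ := by
    have : Finite (Matrix (Fin m ⊕ Fin m) (Fin m ⊕ Fin m) F) := inferInstance
    exact Subtype.finite
  set Z := Subgroup.center G₀ with hZ
  set π := QuotientGroup.mk' Z with hπ
  have hsurj : Function.Surjective π := QuotientGroup.mk'_surjective _
  set E := A.comap π with hEdef
  have hfinE : Finite E := Subtype.finite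
  -- membership in the centre
  have hcen : ∀ z : G₀, z ∈ Z → z = 1 ∨ z = negOne (Fin m) F := by
    intro z hz
    rcases symplecticGroup_center_eq_one_or_neg_one z hz with h | h
    · left; exact Subtype.ext h
    · right; exact Subtype.ext h
  have hnegZ : negOne (Fin m) F ∈ Z := by
    rw [hZ, Subgroup.mem_center_iff]
    intro g
    exact (negOne_central g).symm
  -- hypotheses on `E`
  have hE : ∀ x ∈ E, ∀ y ∈ E, x * y = y * x ∨ x * y = negOne (Fin m) F * (y * x) := by
    intro x hx y hy
    have hx' : π x ∈ A := hx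
    have hy' : π y ∈ A := hy
    have hc : (⟨π x, hx'⟩ : A) * ⟨π y, hy'⟩ = ⟨π y, hy'⟩ * ⟨π x, hx'⟩ :=
      hAcomm.is_comm.comm _ _
    have hc' : π (x * y) = π (y * x) := by
      rw [map_mul, map_mul]
      exact congrArg Subtype.val hc
    have hmem : (y * x)⁻¹ * (x * y) ∈ Z := by
      rw [hπ] at hc'
      exact (QuotientGroup.eq).1 hc'.symm
    rcases hcen _ hmem with h | h
    · left
      have h5 : x * y = (y * x) * ((y * x)⁻¹ * (x * y)) := (mul_inv_cancel_left _ _).symm
      rw [h5, h, mul_one]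
    · right
      have h5 : x * y = (y * x) * ((y * x)⁻¹ * (x * y)) := (mul_inv_cancel_left _ _).symm
      rw [h5, h, negOne_central]
  have hsq : ∀ x ∈ E, x * x = 1 ∨ x * x = negOne (Fin m) F := by
    intro x hx
    have hx' : π x ∈ A := hx
    have h1 := hAexp (π x) hx'
    rw [sq, ← map_mul] at h1
    have hmem : x * x ∈ Z := by
      rw [hπ] at h1
      exact (QuotientGroup.eq_one_iff _).1 h1
    exact hcen _ hmem
  have hlt := card_pm_group_lt h2 (by rw [Fintype.card_fin]; exact hm) E hE hsq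
  rw [Fintype.card_fin] at hlt
  -- `|E| = |A| * |Z|`
  have hidx : E.index = A.index := Subgroup.index_comap_of_surjective A hsurj
  have h1 := Subgroup.card_mul_index E
  have h3 := Subgroup.card_mul_index A
  have h4 := Subgroup.card_eq_card_quotient_mul_card_subgroup Z
  have hApos : 0 < A.index := Nat.pos_of_ne_zero Subgroup.index_ne_zero_of_finite
  have hEcard : Nat.card E = Nat.card A * Nat.card Z := by
    have : Nat.card E * A.index = Nat.card A * Nat.card Z * A.index := by
      rw [← hidx, h1, h4, ← h3, hidx]; ring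
    exact Nat.eq_of_mul_eq_mul_right hApos this
  -- `|Z| ≥ 2`
  have hZ2 : 2 ≤ Nat.card Z := by
    have hfinZ : Finite Z := Subtype.finite
    have : Fintype Z := Fintype.ofFinite Z
    rw [Nat.card_eq_fintype_card]
    have hne : (⟨negOne (Fin m) F, hnegZ⟩ : Z) ≠ 1 := by
      intro h
      exact negOne_ne_one (Fin m) h2 (congrArg Subtype.val h)
    exact Fintype.one_lt_card_iff.2 ⟨_, _, hne⟩
  have : 2 ^ (2 * m) * 2 ≤ Nat.card E := by
    rw [hEcard]
    exact Nat.mul_le_mul hAcard hZ2
  rw [pow_succ] at hlt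
  exact absurd (lt_of_le_of_lt this hlt) (lt_irrefl _)

end PSpRank

end Cfsg.Agent.Lib.Helper14
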