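import Cfsg.Agent.Lib.Helper94.SPMD.Defs
import Cfsg.Agent.Lib.Helper1.SpmdCTransl
import Cfsg.Agent.Lib.Helper71.SpmdCTrans

/-!
# Project SPMD (helper94, S2333): module [C-COUNT] — the double count `orbit_double_count`

`orbit_double_count_of` takes the two dependencies ([C-TRANS] transitivity of `GL_n` on independent
pairs, [C-TRANSL] the `q^(2n-4)` translates) as hypotheses.
-/

set_option autoImplicit false

namespace Cfsg.Agent.Lib.Helper94.SPMD

open Matrix Module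

namespace CCountAux

section basic
variable {F : Type*} [Field F] {n : ℕ}

theorem inv_mulVec_mulVec (A : GL (Fin n) F) (x : Fin n → F) :
    ((A⁻¹ : GL (Fin n) F) : Matrix (Fin n) (Fin n) F) *ᵥ ((A : Matrix (Fin n) (Fin n) F) *ᵥ x) = x := by
  rw [Matrix.mulVec_mulVec, ← Units.val_mul, inv_mul_cancel, Units.val_one, Matrix.one_mulVec]

theorem mulVec_inv_mulVec (A : GL (Fin n) F) (x : Fin n → F) :
    (A : Matrix (Fin n) (Fin n) F) *ᵥ (((A⁻¹ : GL (Fin n) F) : Matrix (Fin n) (Fin n) F) *ᵥ x) = x := by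
  rw [Matrix.mulVec_mulVec, ← Units.val_mul, mul_inv_cancel, Units.val_one, Matrix.one_mulVec]

theorem polar_actQ (A : GL (Fin n) F) (Q : QuadraticForm F (Fin n → F)) (x y : Fin n → F) :
    QuadraticMap.polar (actQ A Q) x y =
      QuadraticMap.polar Q (((A⁻¹ : GL (Fin n) F) : Matrix (Fin n) (Fin n) F) *ᵥ x)
        (((A⁻¹ : GL (Fin n) F) : Matrix (Fin n) (Fin n) F) *ᵥ y) := by
  unfold QuadraticMap.polar
  rw [actQ_apply, actQ_apply, actQ_apply, Matrix.mulVec_add]

theorem actQ_actQ (A B : GL (Fin n) F) (Q : QuadraticForm F (Fin n → F)) :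
    actQ A (actQ B Q) = actQ (A * B) Q := by
  apply QuadraticMap.ext
  intro x
  rw [actQ_apply, actQ_apply, actQ_apply, _root_.mul_inv_rev, Units.val_mul, Matrix.mulVec_mulVec]

theorem actQ_one (Q : QuadraticForm F (Fin n → F)) : actQ (1 : GL (Fin n) F) Q = Q := by
  apply QuadraticMap.ext
  intro x
  rw [actQ_apply, inv_one, Units.val_one, Matrix.one_mulVec]

theorem actQ_injective (A : GL (Fin n) F) :
    Function.Injective (actQ A : QuadraticForm F (Fin n → F) → QuadraticForm F (Fin n → F)) := by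
  intro Q Q' h
  have h' := congrArg (actQ A⁻¹) h
  rwa [actQ_actQ, actQ_actQ, inv_mul_cancel, actQ_one, actQ_one] at h'

theorem actQ_mem_orbQ (A : GL (Fin n) F) {Q Q' : QuadraticForm F (Fin n → F)} (h : Q' ∈ orbQ Q) :
    actQ A Q' ∈ orbQ Q := by
  obtain ⟨B, rfl⟩ := h
  exact ⟨A * B, actQ_actQ A B Q⟩

/-- a pair with polar form `1` is linearly independent in characteristic `2` -/
theorem linearIndependent_pair_of_polar (h2 : (2 : F) = 0) (Q : QuadraticForm F (Fin n → F))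
    (x y : Fin n → F) (h1 : QuadraticMap.polar Q x y = 1) : LinearIndependent F ![x, y] := by
  have hself : ∀ z : Fin n → F, QuadraticMap.polar Q z z = 0 := by
    intro z
    rw [QuadraticMap.polar_self, two_smul, ← two_mul, h2, zero_mul]
  have h1' : QuadraticMap.polar Q y x = 1 := by rw [QuadraticMap.polar_comm]; exact h1
  rw [LinearIndependent.pair_iff]
  intro s t hst
  have e1 : QuadraticMap.polar Q (s • x + t • y) y = s := by
    rw [QuadraticMap.polar_add_left, QuadraticMap.polar_smul_left, QuadraticMap.polar_smul_left,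
      h1, hself, smul_eq_mul, smul_eq_mul, mul_one, mul_zero, add_zero]
  have e2 : QuadraticMap.polar Q (s • x + t • y) x = t := by
    rw [QuadraticMap.polar_add_left, QuadraticMap.polar_smul_left, QuadraticMap.polar_smul_left,
      h1', hself, smul_eq_mul, smul_eq_mul, mul_one, mul_zero, zero_add]
  rw [hst, QuadraticMap.polar_zero_left] at e1 e2
  exact ⟨e1.symm, e2.symm⟩

/-- `A p` is a standard pair of `actQ A Q` when `p` is one of `Q` -/
theorem mem_stdPairs_actQ (A : GL (Fin n) F) (Q : QuadraticForm F (Fin n → F)) (a b : F)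
    (x y : Fin n → F) (h : (x, y) ∈ stdPairs Q a b) :
    ((A : Matrix (Fin n) (Fin n) F) *ᵥ x, (A : Matrix (Fin n) (Fin n) F) *ᵥ y) ∈
      stdPairs (actQ A Q) a b := by
  rw [mem_stdPairs] at h ⊢
  show QuadraticMap.polar (actQ A Q) ((A : Matrix (Fin n) (Fin n) F) *ᵥ x)
      ((A : Matrix (Fin n) (Fin n) F) *ᵥ y) = 1 ∧
    actQ A Q ((A : Matrix (Fin n) (Fin n) F) *ᵥ x) = a ∧
    actQ A Q ((A : Matrix (Fin n) (Fin n) F) *ᵥ y) = b
  rw [polar_actQ, actQ_apply, actQ_apply, inv_mulVec_mulVec, inv_mulVec_mulVec]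
  exact h

/-- `A⁻¹ p` is a standard pair of `Q` when `p` is one of `actQ A Q` -/
theorem mem_stdPairs_of_actQ (A : GL (Fin n) F) (Q : QuadraticForm F (Fin n → F)) (a b : F)
    (x y : Fin n → F) (h : (x, y) ∈ stdPairs (actQ A Q) a b) :
    (((A⁻¹ : GL (Fin n) F) : Matrix (Fin n) (Fin n) F) *ᵥ x,
      ((A⁻¹ : GL (Fin n) F) : Matrix (Fin n) (Fin n) F) *ᵥ y) ∈ stdPairs Q a b := by
  rw [mem_stdPairs] at h ⊢
  have h' : QuadraticMap.polar (actQ A Q) x y = 1 ∧ actQ A Q x = a ∧ actQ A Q y = b := h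
  rw [polar_actQ, actQ_apply, actQ_apply] at h'
  exact h'

end basic

section count
variable {F : Type*} [Field F] [Fintype F] {n : ℕ}

theorem finite_quadraticForm : Finite (QuadraticForm F (Fin n → F)) :=
  Finite.of_injective (fun Q : QuadraticForm F (Fin n → F) => (Q : (Fin n → F) → F))
    DFunLike.coe_injective

/-- the number of linearly independent pairs -/
theorem card_indep_pairs {q : ℕ} (hq : Fintype.card F = q) (hn : 2 ≤ n) :
    Nat.card {s : Fin 2 → (Fin n → F) // LinearIndependent F s} = (q ^ n - 1) * (q ^ n - q) := by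
  have hfr : Module.finrank F (Fin n → F) = n := Module.finrank_fin_fun F
  have h := card_linearIndependent (K := F) (V := Fin n → F) (k := 2) (by rw [hfr]; exact hn)
  rw [h, Fin.prod_univ_two, hfr, hq]
  simp

/-- the set of flags `(Q', p)`: `Q'` in the orbit, `p` a standard pair of `Q'` -/
def flags (Q : QuadraticForm F (Fin n → F)) (a b : F) :
    Set (QuadraticForm F (Fin n → F) × ((Fin n → F) × (Fin n → F))) :=
  {t | t.1 ∈ orbQ Q ∧ t.2 ∈ stdPairs t.1 a b}

/-- upper count: the flags inject into `orbQ Q × stdPairs Q a b` -/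
theorem card_flags_le (Q : QuadraticForm F (Fin n → F)) (a b : F) :
    Nat.card (flags Q a b) ≤ Nat.card (orbQ Q) * Nat.card (stdPairs Q a b) := by
  classical
  have := finite_quadraticForm (F := F) (n := n)
  have hex : ∀ Q' : orbQ Q, ∃ A : GL (Fin n) F, (Q' : QuadraticForm F (Fin n → F)) = actQ A Q :=
    fun Q' => Q'.2
  choose Cf hCf using hex
  rw [← Nat.card_prod]
  have hmem : ∀ t : flags Q a b,
      ((((Cf ⟨t.1.1, t.2.1⟩)⁻¹ : GL (Fin n) F) : Matrix (Fin n) (Fin n) F) *ᵥ t.1.2.1,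
        (((Cf ⟨t.1.1, t.2.1⟩)⁻¹ : GL (Fin n) F) : Matrix (Fin n) (Fin n) F) *ᵥ t.1.2.2) ∈
        stdPairs Q a b := by
    intro t
    apply mem_stdPairs_of_actQ
    have h : t.1.2 ∈ stdPairs t.1.1 a b := t.2.2
    have hc : t.1.1 = actQ (Cf ⟨t.1.1, t.2.1⟩) Q := hCf ⟨t.1.1, t.2.1⟩
    rw [← hc]
    exact h
  refine Nat.card_le_card_of_injective
    (fun t : flags Q a b => ((⟨t.1.1, t.2.1⟩ : orbQ Q), (⟨_, hmem t⟩ : stdPairs Q a b))) ?_
  intro t t' htt
  have e1 : (⟨t.1.1, t.2.1⟩ : orbQ Q) = ⟨t'.1.1, t'.2.1⟩ := congrArg Prod.fst htt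
  have e2 := congrArg (fun z => (z.2 : (Fin n → F) × (Fin n → F))) htt
  simp only [] at e2
  rw [← e1] at e2
  have e3 := congrArg Prod.fst e2
  have e4 := congrArg Prod.snd e2
  simp only [] at e3 e4
  have hinj := Matrix.mulVec_injective_of_isUnit
    (A := (((Cf ⟨t.1.1, t.2.1⟩)⁻¹ : GL (Fin n) F) : Matrix (Fin n) (Fin n) F)) (Units.isUnit _)
  have e5 : t.1.2.1 = t'.1.2.1 := hinj e3
  have e6 : t.1.2.2 = t'.1.2.2 := hinj e4
  have e7 : t.1.1 = t'.1.1 := congrArg Subtype.val e1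
  apply Subtype.ext
  apply Prod.ext e7
  exact Prod.ext e5 e6

/-- lower count: independent pairs times translates inject into the flags -/
theorem le_card_flags (Q : QuadraticForm F (Fin n → F)) (a b : F) (x₀ y₀ : Fin n → F)
    (hT : ∀ x y : Fin n → F, LinearIndependent F ![x, y] →
      ∃ A : GL (Fin n) F, (A : Matrix (Fin n) (Fin n) F) *ᵥ x₀ = x ∧
        (A : Matrix (Fin n) (Fin n) F) *ᵥ y₀ = y) :
    Nat.card {s : Fin 2 → (Fin n → F) // LinearIndependent F s} *
      Nat.card {Q' : QuadraticForm F (Fin n → F) // Q' ∈ orbQ Q ∧ (x₀, y₀) ∈ stdPairs Q' a b} ≤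
    Nat.card (flags Q a b) := by
  classical
  have := finite_quadraticForm (F := F) (n := n)
  have hex : ∀ s : {s : Fin 2 → (Fin n → F) // LinearIndependent F s},
      ∃ A : GL (Fin n) F, (A : Matrix (Fin n) (Fin n) F) *ᵥ x₀ = s.1 0 ∧
        (A : Matrix (Fin n) (Fin n) F) *ᵥ y₀ = s.1 1 := by
    intro s
    apply hT
    have hs : ![s.1 0, s.1 1] = s.1 := by
      funext i
      fin_cases i <;> rfl
    rw [hs]
    exact s.2
  choose Af hAf using hex
  rw [← Nat.card_prod]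
  have hmem : ∀ z : {s : Fin 2 → (Fin n → F) // LinearIndependent F s} ×
      {Q' : QuadraticForm F (Fin n → F) // Q' ∈ orbQ Q ∧ (x₀, y₀) ∈ stdPairs Q' a b},
      (actQ (Af z.1) z.2.1, (z.1.1 0, z.1.1 1)) ∈ flags Q a b := by
    intro z
    refine ⟨actQ_mem_orbQ _ z.2.2.1, ?_⟩
    show (z.1.1 0, z.1.1 1) ∈ stdPairs (actQ (Af z.1) z.2.1) a b
    rw [← (hAf z.1).1, ← (hAf z.1).2]
    exact mem_stdPairs_actQ _ _ _ _ _ _ z.2.2.2
  refine Nat.card_le_card_of_injective (fun z => (⟨_, hmem z⟩ : flags Q a b)) ?_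
  intro z z' hzz
  have e0 := congrArg Subtype.val hzz
  simp only [] at e0
  have e1 : actQ (Af z.1) z.2.1 = actQ (Af z'.1) z'.2.1 := congrArg Prod.fst e0
  have e2 : (z.1.1 0, z.1.1 1) = (z'.1.1 0, z'.1.1 1) := congrArg Prod.snd e0
  have e3 : z.1 = z'.1 := by
    apply Subtype.ext
    funext i
    fin_cases i
    · exact congrArg Prod.fst e2
    · exact congrArg Prod.snd e2
  rw [← e3] at e1
  have e4 : z.2.1 = z'.2.1 := actQ_injective _ e1
  exact Prod.ext e3 (Subtype.ext e4)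

/-- **[C-COUNT]**, with the dependencies [C-TRANS], [C-TRANSL] as hypotheses -/
theorem orbit_double_count_of {q : ℕ} (hq : Fintype.card F = q) (h2 : (2 : F) = 0) (hn : 2 ≤ n)
    (Q : QuadraticForm F (Fin n → F)) (x₀ y₀ : Fin n → F) (h1 : QuadraticMap.polar Q x₀ y₀ = 1)
    (hT : ∀ x₀ y₀ x y : Fin n → F, LinearIndependent F ![x₀, y₀] → LinearIndependent F ![x, y] →
      ∃ A : GL (Fin n) F, (A : Matrix (Fin n) (Fin n) F) *ᵥ x₀ = x ∧
        (A : Matrix (Fin n) (Fin n) F) *ᵥ y₀ = y)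
    (hL : q ^ (2 * (n - 2)) ≤ Nat.card {Q' : QuadraticForm F (Fin n → F) //
      Q' ∈ orbQ Q ∧ (x₀, y₀) ∈ stdPairs Q' (Q x₀) (Q y₀)}) :
    (q ^ n - 1) * (q ^ n - q) * q ^ (2 * (n - 2)) ≤
      Nat.card (orbQ Q) * Nat.card (stdPairs Q (Q x₀) (Q y₀)) := by
  have h₀ : LinearIndependent F ![x₀, y₀] := linearIndependent_pair_of_polar h2 Q x₀ y₀ h1
  have hA := le_card_flags Q (Q x₀) (Q y₀) x₀ y₀ (fun x y hxy => hT x₀ y₀ x y h₀ hxy)
  have hB := card_flags_le Q (Q x₀) (Q y₀)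
  rw [card_indep_pairs hq hn] at hA
  exact le_trans (le_trans (Nat.mul_le_mul_left _ hL) hA) hB

end count

end CCountAux

section C
variable {F : Type*} [Field F] [Fintype F] {n : ℕ}

/-- **[C-COUNT]** the double count -/
theorem orbit_double_count {q : ℕ} (hq : Fintype.card F = q) (h2 : (2 : F) = 0) (hn : 2 ≤ n)
    (Q : QuadraticForm F (Fin n → F)) (x₀ y₀ : Fin n → F) (h1 : QuadraticMap.polar Q x₀ y₀ = 1) :
    (q ^ n - 1) * (q ^ n - q) * q ^ (2 * (n - 2)) ≤
      Nat.card (orbQ Q) * Nat.card (stdPairs Q (Q x₀) (Q y₀)) :=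
  CCountAux.orbit_double_count_of hq h2 hn Q x₀ y₀ h1
    (fun x₀ y₀ x y h₀ h => Cfsg.Agent.Lib.Helper71.SPMD.exists_GL_map_pair x₀ y₀ x y h₀ h)
    (card_translates_ge hq h2 hn Q x₀ y₀ h1)

end C

end Cfsg.Agent.Lib.Helper94.SPMD
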