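import Mathlib
import Cfsg.Agent.Lib.Helper85.SqfDefs
import Cfsg.Agent.Lib.Helper58.SQF.Basic

/-!
# Project SQF (helper85, S4130): module [DB] `card_commutator_dvd_of_split` (hedge by helper14)

`G` with squarefree class sizes, `P` a normal `p`-subgroup, `G = P⟨t⟩`, `t` a `p'`-element not centralising `P`
⇒ `|G'| ∣ p`.  Self-contained (the index lemma [PIDX] is taken from `Helper58.SQF.Basic`, whose `SQ` is
definitionally `SqF`).
-/

set_option autoImplicit false

namespace Cfsg.Agent.Lib.Helper14.Sqf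

open Cfsg Cfsg.Agent.Lib.Helper85.Sqf

section
variable {G : Type*} [Group G]

/-- index squeeze: `M ≤ D ≤ P`, `|P : M|` prime, `D` has an element outside `M` ⇒ `P ≤ D` -/
theorem le_of_relIndex_prime {M D P : Subgroup G} {p : ℕ} (hp : p.Prime) (hMD : M ≤ D)
    (hDP : D ≤ P) (hidx : M.relIndex P = p) {c : G} (hcD : c ∈ D) (hcM : c ∉ M) : P ≤ D := by
  have h1 := Subgroup.relIndex_mul_relIndex M D P hMD hDP
  rw [hidx] at h1
  have h2 : M.relIndex D ∣ p := Dvd.intro _ h1
  rcases (Nat.dvd_prime hp).mp h2 with h3 | h3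
  · exact absurd (Subgroup.relIndex_eq_one.mp h3 hcD) hcM
  · rw [h3] at h1
    have h4 : D.relIndex P = 1 := Nat.eq_of_mul_eq_mul_left hp.pos (h1.trans (mul_one p).symm)
    exact Subgroup.relIndex_eq_one.mp h4

/-- index squeeze: `C ≤ M ≤ P`, `|P : M| = p`, `|P : C| ∣ p` ⇒ `M ≤ C` -/
theorem le_of_relIndex_dvd {C M P : Subgroup G} {p : ℕ} (hp : 0 < p) (hCM : C ≤ M)
    (hMP : M ≤ P) (hidx : M.relIndex P = p) (hC : C.relIndex P ∣ p) : M ≤ C := by
  have h1 := Subgroup.relIndex_mul_relIndex C M P hCM hMP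
  rw [hidx] at h1
  rw [← h1] at hC
  have h2 : C.relIndex M = 1 := by
    have hx : C.relIndex M ≠ 0 := by
      intro h0
      rw [h0, zero_mul] at hC
      exact absurd (zero_dvd_iff.mp hC) hp.ne'
    have hle := Nat.le_of_dvd hp hC
    have hpos := Nat.pos_of_ne_zero hx
    nlinarith
  exact Subgroup.relIndex_eq_one.mp h2

/-- [DB] -/
theorem card_commutator_dvd_of_split [Finite G] (h : SqF G) {p : ℕ} [Fact p.Prime]
    (P : Subgroup G) [P.Normal] (hP : IsPGroup p P) (t : G) (m : ℕ) (hm : m.Coprime p)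
    (htm : t ^ m = 1) (htop : P ⊔ Subgroup.zpowers t = ⊤)
    (hnc : ¬ ∀ v ∈ P, t * v = v * t) : Nat.card (commutator G) ∣ p := by
  classical
  have hp : p.Prime := Fact.out
  have hPn : P.Normal := inferInstance
  have hPIDX : ∀ g : G, (Subgroup.centralizer ({g} : Set G)).relIndex P ∣ p :=
    fun g => Cfsg.Agent.Lib.Helper58.SQF.SQ.relIndex_dvd_prime h p P hP g
  -- elements of `P` killed by `m` are trivial
  have hpow : ∀ c ∈ P, ∃ k : ℕ, c ^ p ^ k = 1 := by
    intro c hc
    obtain ⟨k, hk⟩ := hP ⟨c, hc⟩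
    exact ⟨k, by simpa using congrArg Subtype.val hk⟩
  have hpm : ∀ c ∈ P, c ^ m = 1 → c = 1 := by
    intro c hc hcm
    obtain ⟨k, hk'⟩ := hpow c hc
    have hcop : Nat.Coprime m (p ^ k) := Nat.Coprime.pow_right k hm
    have h1 := orderOf_dvd_of_pow_eq_one hcm
    have h2 := orderOf_dvd_of_pow_eq_one hk'
    have h3 : orderOf c ∣ 1 := by
      have h4 := Nat.dvd_gcd h1 h2
      rwa [Nat.Coprime.gcd_eq_one hcop] at h4
    exact orderOf_eq_one_iff.mp (Nat.dvd_one.mp h3)
  -- `M = C_P(t)`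
  obtain ⟨M, hMdef⟩ : ∃ M : Subgroup G, M = P ⊓ Subgroup.centralizer ({t} : Set G) := ⟨_, rfl⟩
  have hmemM : ∀ v, v ∈ M ↔ v ∈ P ∧ v * t = t * v := by
    intro v
    rw [hMdef, Subgroup.mem_inf, Subgroup.mem_centralizer_singleton_iff]
  have hMP : M ≤ P := fun v hv => ((hmemM v).mp hv).1
  have hidxM : M.relIndex P = p := by
    have h1 : M.relIndex P = (Subgroup.centralizer ({t} : Set G)).relIndex P := by
      rw [hMdef, inf_comm]
      exact Subgroup.inf_relIndex_right _ _
    rw [h1]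
    rcases (Nat.dvd_prime hp).mp (hPIDX t) with h2 | h2
    · exfalso
      apply hnc
      intro v hv
      have h3 := Subgroup.relIndex_eq_one.mp h2 hv
      rw [Subgroup.mem_centralizer_singleton_iff] at h3
      exact h3.symm
    · exact h2
  -- (1) `M` is abelian
  have hMab : ∀ u ∈ M, ∀ v ∈ M, u * v = v * u := by
    intro u hu v hv
    obtain ⟨huP, hut⟩ := (hmemM u).mp hu
    have hcomm : Commute u t := hut
    have hgm : (u * t) ^ m = u ^ m := by rw [hcomm.mul_pow, htm, mul_one]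
    obtain ⟨k, hk'⟩ := hpow u huP
    have hcop : m.Coprime (orderOf u) :=
      Nat.Coprime.coprime_dvd_right (orderOf_dvd_of_pow_eq_one hk') (Nat.Coprime.pow_right k hm)
    obtain ⟨j, hj⟩ := exists_pow_eq_self_of_coprime hcop
    have hu_pow : u = (u * t) ^ (m * j) := by rw [pow_mul, hgm, hj]
    have hCg_le : ∀ w ∈ P ⊓ Subgroup.centralizer ({u * t} : Set G), w * u = u * w ∧ w ∈ M := by
      intro w hw
      obtain ⟨hwP, hwg⟩ := Subgroup.mem_inf.mp hw
      rw [Subgroup.mem_centralizer_singleton_iff] at hwg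
      have hwg' : Commute w (u * t) := hwg
      have hwu : Commute w u := by
        rw [hu_pow]
        exact hwg'.pow_right _
      have hwt : Commute w t := by
        have ht' : t = u⁻¹ * (u * t) := by rw [inv_mul_cancel_left]
        rw [ht']
        exact hwu.inv_right.mul_right hwg'
      exact ⟨hwu.eq, (hmemM w).mpr ⟨hwP, hwt.eq⟩⟩
    have hCgM : P ⊓ Subgroup.centralizer ({u * t} : Set G) ≤ M := fun w hw => (hCg_le w hw).2
    have hMCg : M ≤ P ⊓ Subgroup.centralizer ({u * t} : Set G) := by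
      apply le_of_relIndex_dvd hp.pos hCgM hMP hidxM
      have h5 : (P ⊓ Subgroup.centralizer ({u * t} : Set G)).relIndex P =
          (Subgroup.centralizer ({u * t} : Set G)).relIndex P := by
        rw [inf_comm]
        exact Subgroup.inf_relIndex_right _ _
      rw [h5]
      exact hPIDX (u * t)
    exact ((hCg_le v (hMCg hv)).1).symm
  -- `M` is normal in `P`
  have hMnorm : ∀ y ∈ P, ∀ v ∈ M, y * v * y⁻¹ ∈ M := by
    obtain ⟨n, hn⟩ := IsPGroup.iff_card.mp hP
    have hidx' : (M.subgroupOf P).index = p := hidxM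
    have hn0 : n ≠ 0 := by
      rintro rfl
      have h6 : (M.subgroupOf P).index ∣ Nat.card P := Subgroup.index_dvd_card _
      rw [hidx', hn, pow_zero] at h6
      exact hp.one_lt.ne' (Nat.dvd_one.mp h6)
    have hnormal : (M.subgroupOf P).Normal := by
      apply Subgroup.normal_of_index_eq_minFac_card
      rw [hidx', hn, Nat.pow_minFac hn0, hp.minFac_eq]
    intro y hy v hv
    have h7 := hnormal.conj_mem ⟨v, hMP hv⟩ (Subgroup.mem_subgroupOf.mpr hv) ⟨y, hy⟩
    exact Subgroup.mem_subgroupOf.mp h7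
  -- an element `y` of `P` outside `M` and `c = [y, t]`
  obtain ⟨y, hyP, hyt⟩ : ∃ y ∈ P, ¬ (t * y = y * t) := by
    by_contra hcon
    apply hnc
    intro v hv
    by_contra hv2
    exact hcon ⟨v, hv, hv2⟩
  have hyM : y ∉ M := fun hy => hyt ((hmemM y).mp hy).2.symm
  obtain ⟨c, hc⟩ : ∃ c : G, c = y * t * y⁻¹ * t⁻¹ := ⟨_, rfl⟩
  have hφP : ∀ a ∈ P, a * t * a⁻¹ * t⁻¹ ∈ P := by
    intro a ha
    have h1 : t * a⁻¹ * t⁻¹ ∈ P := hPn.conj_mem _ (P.inv_mem ha) t
    have h2 : a * t * a⁻¹ * t⁻¹ = a * (t * a⁻¹ * t⁻¹) := by group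
    rw [h2]
    exact P.mul_mem ha h1
  have hcP : c ∈ P := by rw [hc]; exact hφP y hyP
  -- (2) `c` centralises `M`
  have hcM : ∀ v ∈ M, c * v = v * c := by
    intro v hv
    have hvt : Commute v t := ((hmemM v).mp hv).2
    have hv' : y⁻¹ * v * y ∈ M := by simpa using hMnorm y⁻¹ (P.inv_mem hyP) v hv
    have hv't : (y⁻¹ * v * y) * t = t * (y⁻¹ * v * y) := ((hmemM _).mp hv').2
    have h3 : Commute v (y * t * y⁻¹) := by
      show v * (y * t * y⁻¹) = y * t * y⁻¹ * v
      calc v * (y * t * y⁻¹) = y * ((y⁻¹ * v * y) * t) * y⁻¹ := by group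
        _ = y * (t * (y⁻¹ * v * y)) * y⁻¹ := by rw [hv't]
        _ = y * t * y⁻¹ * v := by group
    have h4 : Commute v c := by
      rw [hc]
      exact h3.mul_right hvt.inv_right
    exact h4.eq.symm
  -- (3) `c ∉ M`
  have hcnotM : c ∉ M := by
    intro hcm
    have hct : Commute c t := ((hmemM c).mp hcm).2
    have hcty : c * t * y = y * t := by rw [hc]; group
    have hind : ∀ j : ℕ, c ^ j * t ^ j * y = y * t ^ j := by
      intro j
      induction j with
      | zero => simp
      | succ j ih =>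
        calc c ^ (j + 1) * t ^ (j + 1) * y = c ^ j * (c * t ^ j) * t * y := by
              rw [pow_succ, pow_succ]; group
          _ = c ^ j * (t ^ j * c) * t * y := by rw [(hct.pow_right j).eq]
          _ = c ^ j * t ^ j * (c * t * y) := by group
          _ = c ^ j * t ^ j * (y * t) := by rw [hcty]
          _ = (c ^ j * t ^ j * y) * t := by group
          _ = y * t ^ j * t := by rw [ih]
          _ = y * t ^ (j + 1) := by rw [pow_succ, mul_assoc]
    have h1 := hind m
    rw [htm, mul_one, mul_one] at h1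
    have h2 : c ^ m = 1 := mul_right_cancel (b := y) (by rw [h1, one_mul])
    have h3 : c = 1 := hpm c hcP h2
    apply hyt
    have h4 : y * t * y⁻¹ * t⁻¹ = 1 := by rw [← hc]; exact h3
    have h5 : y * t = t * y := by
      have h6 := congrArg (· * (t * y)) h4
      simpa [mul_assoc] using h6
    exact h5.symm
  -- (4) `P` is abelian
  have hPM : ∀ a ∈ P, ∀ v ∈ M, a * v = v * a := by
    have hle : P ≤ P ⊓ Subgroup.centralizer (M : Set G) := by
      apply le_of_relIndex_prime hp (M := M) ?_ inf_le_left hidxM (c := c) ?_ hcnotM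
      · intro v hv
        exact Subgroup.mem_inf.mpr ⟨hMP hv, Subgroup.mem_centralizer_iff.mpr
          (fun w hw => hMab w hw v hv)⟩
      · exact Subgroup.mem_inf.mpr ⟨hcP, Subgroup.mem_centralizer_iff.mpr
          (fun w hw => (hcM w hw).symm)⟩
    intro a ha v hv
    exact ((Subgroup.mem_centralizer_iff.mp (Subgroup.mem_inf.mp (hle ha)).2) v hv).symm
  have hPc : ∀ a ∈ P, a * c = c * a := by
    have hle : P ≤ P ⊓ Subgroup.centralizer ({c} : Set G) := by
      apply le_of_relIndex_prime hp (M := M) ?_ inf_le_left hidxM (c := c) ?_ hcnotM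
      · intro v hv
        exact Subgroup.mem_inf.mpr ⟨hMP hv, Subgroup.mem_centralizer_singleton_iff.mpr
          (hcM v hv).symm⟩
      · exact Subgroup.mem_inf.mpr ⟨hcP, Subgroup.mem_centralizer_singleton_iff.mpr rfl⟩
    intro a ha
    exact Subgroup.mem_centralizer_singleton_iff.mp (Subgroup.mem_inf.mp (hle ha)).2
  have hPab : ∀ a ∈ P, ∀ b ∈ P, a * b = b * a := by
    have hle : P ≤ P ⊓ Subgroup.centralizer (P : Set G) := by
      apply le_of_relIndex_prime hp (M := M) ?_ inf_le_left hidxM (c := c) ?_ hcnotM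
      · intro v hv
        exact Subgroup.mem_inf.mpr ⟨hMP hv, Subgroup.mem_centralizer_iff.mpr
          (fun a ha => hPM a ha v hv)⟩
      · exact Subgroup.mem_inf.mpr ⟨hcP, Subgroup.mem_centralizer_iff.mpr
          (fun a ha => hPc a ha)⟩
    intro a ha b hb
    exact ((Subgroup.mem_centralizer_iff.mp (Subgroup.mem_inf.mp (hle hb)).2) a ha)
  -- (5) the commutator map `φ : P → G`, `a ↦ [a, t]`
  let φ : ↥P →* G := MonoidHom.mk' (fun a => (a : G) * t * (a : G)⁻¹ * t⁻¹) (by
    intro a b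
    have hb : (b : G) * t * (b : G)⁻¹ * t⁻¹ ∈ P := hφP b b.2
    have ha : t * (a : G)⁻¹ * t⁻¹ ∈ P := hPn.conj_mem _ (P.inv_mem a.2) t
    have hcm := hPab _ hb _ ha
    calc ((a * b : ↥P) : G) * t * ((a * b : ↥P) : G)⁻¹ * t⁻¹
        = (a : G) * (((b : G) * t * (b : G)⁻¹ * t⁻¹) * (t * (a : G)⁻¹ * t⁻¹)) := by
          rw [Subgroup.coe_mul]; group
      _ = (a : G) * ((t * (a : G)⁻¹ * t⁻¹) * ((b : G) * t * (b : G)⁻¹ * t⁻¹)) := by rw [hcm]
      _ = ((a : G) * t * (a : G)⁻¹ * t⁻¹) * ((b : G) * t * (b : G)⁻¹ * t⁻¹) := by group)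
  have hφ : ∀ a : ↥P, φ a = (a : G) * t * (a : G)⁻¹ * t⁻¹ := fun a => rfl
  have hker : φ.ker = M.subgroupOf P := by
    ext a
    rw [MonoidHom.mem_ker, Subgroup.mem_subgroupOf, hmemM, hφ]
    constructor
    · intro h1
      refine ⟨a.2, ?_⟩
      have h6 := congrArg (· * (t * (a : G))) h1
      simpa [mul_assoc] using h6
    · rintro ⟨_, h1⟩
      rw [h1]
      group
  have hcardR : Nat.card φ.range = p := by
    rw [← Subgroup.index_ker, hker]
    exact hidxM
  have hnormR : (φ.range).Normal := by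
    rw [← Subgroup.normalizer_eq_top_iff, eq_top_iff, ← htop, sup_le_iff]
    constructor
    · intro a ha
      apply Subgroup.mem_normalizer_fintype
      rintro _ ⟨b, rfl⟩
      have hb : φ b ∈ P := hφP b b.2
      have h1 : a * φ b * a⁻¹ = φ b := by rw [hPab a ha _ hb]; group
      rw [h1]
      exact ⟨b, rfl⟩
    · rw [Subgroup.zpowers_le]
      apply Subgroup.mem_normalizer_fintype
      rintro _ ⟨b, rfl⟩
      refine ⟨⟨t * b * t⁻¹, hPn.conj_mem b b.2 t⟩, ?_⟩
      show (t * (b : G) * t⁻¹) * t * (t * (b : G) * t⁻¹)⁻¹ * t⁻¹ =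
        t * ((b : G) * t * (b : G)⁻¹ * t⁻¹) * t⁻¹
      group
  have hcommQ : IsMulCommutative (G ⧸ φ.range) := by
    have hπ : ∀ a ∈ P, (QuotientGroup.mk' φ.range) a * (QuotientGroup.mk' φ.range) t =
        (QuotientGroup.mk' φ.range) t * (QuotientGroup.mk' φ.range) a := by
      intro a ha
      have h1 : (QuotientGroup.mk' φ.range) (a * t * a⁻¹ * t⁻¹) = 1 :=
        (QuotientGroup.eq_one_iff _).mpr ⟨⟨a, ha⟩, rfl⟩
      rw [map_mul, map_mul, map_mul, map_inv, map_inv] at h1
      have h6 := congrArg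
        (· * ((QuotientGroup.mk' φ.range) t * (QuotientGroup.mk' φ.range) a)) h1
      simpa [mul_assoc] using h6
    have hPP : ∀ a ∈ P, ∀ b ∈ P, (QuotientGroup.mk' φ.range) a * (QuotientGroup.mk' φ.range) b =
        (QuotientGroup.mk' φ.range) b * (QuotientGroup.mk' φ.range) a := by
      intro a ha b hb
      rw [← map_mul, ← map_mul, hPab a ha b hb]
    have key : ∀ x : G,
        (∀ a ∈ P, (QuotientGroup.mk' φ.range) a * (QuotientGroup.mk' φ.range) x =
          (QuotientGroup.mk' φ.range) x * (QuotientGroup.mk' φ.range) a) →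
        ((QuotientGroup.mk' φ.range) t * (QuotientGroup.mk' φ.range) x =
          (QuotientGroup.mk' φ.range) x * (QuotientGroup.mk' φ.range) t) →
        ∀ g : G, (QuotientGroup.mk' φ.range) g * (QuotientGroup.mk' φ.range) x =
          (QuotientGroup.mk' φ.range) x * (QuotientGroup.mk' φ.range) g := by
      intro x h1 h2 g
      have hle : P ⊔ Subgroup.zpowers t ≤
          (Subgroup.centralizer ({(QuotientGroup.mk' φ.range) x} : Set (G ⧸ φ.range))).comap
            (QuotientGroup.mk' φ.range) := by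
        rw [sup_le_iff, Subgroup.zpowers_le]
        refine ⟨fun a ha => ?_, ?_⟩
        · rw [Subgroup.mem_comap, Subgroup.mem_centralizer_singleton_iff]
          exact h1 a ha
        · rw [Subgroup.mem_comap, Subgroup.mem_centralizer_singleton_iff]
          exact h2
      rw [htop] at hle
      have hg := hle (Subgroup.mem_top g)
      rw [Subgroup.mem_comap, Subgroup.mem_centralizer_singleton_iff] at hg
      exact hg
    have ht_c := key t (fun a ha => hπ a ha) rfl
    have hy_c : ∀ y ∈ P, ∀ g : G, (QuotientGroup.mk' φ.range) g * (QuotientGroup.mk' φ.range) y =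
        (QuotientGroup.mk' φ.range) y * (QuotientGroup.mk' φ.range) g :=
      fun y hy => key y (fun a ha => hPP a ha y hy) ((hπ y hy).symm)
    refine ⟨⟨fun a' b' => ?_⟩⟩
    obtain ⟨a, rfl⟩ := QuotientGroup.mk'_surjective _ a'
    obtain ⟨b, rfl⟩ := QuotientGroup.mk'_surjective _ b'
    exact key b (fun y hy => (hy_c y hy b).symm) ((ht_c b).symm) a
  have hle : commutator G ≤ φ.range :=
    Subgroup.Normal.quotient_commutative_iff_commutator_le.mp hcommQ
  have hdvd := Subgroup.card_dvd_of_le hle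
  rwa [hcardR] at hdvd

end

end Cfsg.Agent.Lib.Helper14.Sqf
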